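import Cfsg.Agent.H3.Tifn

/-! H3.Tifn2: Sibley's theorem `coh_odd`, the case `|K| = e + 1`, and the bridge from the frozen TIFN hypotheses. -/

set_option autoImplicit false
open Cfsg Submodule
open scoped ComplexConjugate

namespace H3

variable {L G : Type*} [Group L] [Group G] {K : Subgroup L} {j : L →* G} {χ ξ : L → ℂ}

theorem FrobMod.comm_of_even [Finite L] [K.Normal] (hf : FrobMod K ⊥) (he : Even K.index) : IsMulCommutative K := by
  have := Fact.mk Nat.prime_two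
  obtain ⟨t, ht⟩ := exists_prime_orderOf_dvd_card' 2 (he.two_dvd.trans K.index_dvd_card)
  have tK : t ∉ K := fun e => by
    have := H9.orderOf_dvd_card_of_mem e
    rw [ht, ← K.relIndex_bot_left] at this
    simpa using Nat.eq_one_of_dvd_coprimes hf.coprime he.two_dvd this
  exact H1.isMulCommutative_of_conj_eq_inv (s := t) fun k => H1.conj_eq_inv_of_fpf (le_normalizer_of_normal' ⊤ K trivial)
    (eq_bot_iff.2 fun k a => by_contra fun b => tK (hf.fp k a.1 b t (Subgroup.mem_centralizer_singleton_iff.1 a.2).symm))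
    (by rw [← sq, ← ht, pow_orderOf_eq_one]; exact one_mem _)

theorem FrobMod.elem [Finite L] [K.Normal] (hf : FrobMod K ⊥) (h0 : K ≠ ⊤) (h1 : K ≠ ⊥) (h : Nat.card K = K.index + 1) :
    ∃ p, p.Prime ∧ IsElementaryAbelian p K := by
  obtain ⟨z, z1, z2⟩ := H1.exists_prime_orderOf_mem (center_der_ne_bot (hf.nilpotent h0) le_rfl h1)
  let N : Subgroup L :=
    { carrier := {x | x ∈ K ⊓ Subgroup.centralizer (K : Set L) ∧ x ^ orderOf z = 1}
      one_mem' := ⟨one_mem _, one_pow _⟩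
      mul_mem' := fun {x y} a b => ⟨mul_mem a.1 b.1, by rw [(show Commute x y from b.1.2 x a.1.1).mul_pow, a.2, b.2, mul_one]⟩
      inv_mem' := fun a => ⟨inv_mem a.1, by rw [inv_pow, a.2, inv_one]⟩ }
  have : N.Normal := ⟨fun x a g => ⟨Subgroup.Normal.conj_mem inferInstance x a.1 g, by simp [a.2]⟩⟩
  have hN : N ≤ K := fun _ a => a.1.1
  have := (hf.fp.mono hN).le (M := ⊥) hN fun e => z2.ne_one (by rw [Subgroup.mem_bot.1 (e ⟨z1, pow_orderOf_eq_one z⟩), orderOf_one])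
  rw [Subgroup.relIndex_bot_left, ← h] at this
  have e := (Subgroup.eq_of_le_of_card_ge hN this).ge
  exact ⟨_, z2, ⟨⟨fun x y => Subtype.ext ((e y.2).1.2 x x.2)⟩⟩, fun x a => (e a).2⟩

variable [Fintype L] [Fintype G]

omit [Fintype G] in
theorem FrobMod.SI_eq [K.Normal] (hf : FrobMod K ⊥) :
    SI K K ⊥ = {χ | IsIrrCharacter L χ ∧ ∃ k ∈ K, χ k ≠ χ 1} := by
  rw [SI_eq_irr le_rfl fun _ a => irr_of_frobMod hf a.1 a.2.1]; simp only [not_kr]

omit [Fintype G] in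
theorem FrobMod.card_SI [K.Normal] (hf : FrobMod K ⊥) (h1 : K ≠ ⊥) (h : Nat.card K = K.index + 1) :
    Nat.card (SI K K ⊥) = 1 := by
  classical
  obtain ⟨χ, a⟩ := SI_nonempty (K := K) le_rfl bot_le (mt le_bot_iff.1 h1)
  refine Nat.card_eq_one_iff_exists.2 ⟨⟨χ, a⟩, fun ⟨ξ, b⟩ => Subtype.ext (by_contra fun e => ?_)⟩
  have := sum_le_sum_AI (S := {ξ, χ}) (T := SIf K K ⊥) (by simp [Finset.insert_subset_iff, a, b])
  obtain ⟨m, m0, c⟩ := AI.degree a.1
  obtain ⟨n, n0, d⟩ := AI.degree b.1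
  rw [sum_SI_sq le_rfl bot_le, Finset.sum_pair (show ξ ≠ χ from e), c, d, SIrr.nsq (Or.inl (irr_of_frobMod hf a.1 a.2.1)),
    SIrr.nsq (Or.inl (irr_of_frobMod hf b.1 b.2.1)), sup_bot_eq, Subgroup.index_bot, ← K.index_mul_card, h, div_one, div_one,
    le_sub_iff_add_le, ← Nat.cast_mul, ← Nat.cast_mul, Complex.natCast_re, Complex.natCast_re] at this
  norm_cast at this
  have e0 := Nat.pos_of_ne_zero K.index_ne_zero_of_finite
  nlinarith [Nat.pow_le_pow_left (Nat.le_mul_of_pos_right K.index m0) 2, Nat.pow_le_pow_left (Nat.le_mul_of_pos_right K.index n0) 2]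

theorem coh_comm {τ : (L → ℂ) →ₗ[ℂ] (G → ℂ)} [K.Normal] (hf : FrobMod K ⊥) (h : IsoOn (SI K K ⊥) τ) (hc : IsMulCommutative K) :
    Coh (SI K K ⊥) τ :=
  coh_der' h (fun _ a => irr_of_frobMod hf a.1 a.2.1)
    (Subgroup.commutator_eq_bot_iff_le_centralizer.2 (Subgroup.le_centralizer K)).le

/-- Sibley's theorem -/
theorem coh_odd [K.Normal] (hj : Function.Injective j) (hti : TIH j K) (hf : FrobMod K ⊥) (h0 : K ≠ ⊤)
    (ho : Odd (Nat.card K)) : Coh (SI K K ⊥) (indH j) :=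
  (Nat.even_or_odd K.index).elim (fun e => coh_comm hf ((hti.isTau hj).isoOn_SI (fun _ a b => ⟨a, b⟩) fun _ a => a.1)
    (hf.comm_of_even e)) fun e => sibley_frob hj (hf.nilpotent h0) (K.index_mul_card ▸ e.mul ho) hti hf

omit [Fintype G] in
theorem FrobMod.exists_ne_zero [K.Normal] (hf : FrobMod K ⊥) (h0 : K ≠ ⊤) (h1 : K ≠ ⊥) (h : Nat.card K ≠ K.index + 1) :
    ∃ α ∈ zspanOn (SI K K ⊥) {1}ᶜ, α ≠ 0 := by
  obtain ⟨χ, a⟩ := SI_nonempty (K := K) le_rfl bot_le (mt le_bot_iff.1 h1)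
  obtain ⟨ξ, b, c⟩ := exists_two_SI hf h0 h1 h a
  exact exists_ne_zero_of_irr b a c (irr_of_frobMod hf b.1 b.2.1) (irr_of_frobMod hf a.1 a.2.1)

omit [Fintype G] in
theorem tifn_bridge {K : Subgroup G} (hTI : ∀ g : G, g ∉ Subgroup.normalizer (K : Set G) → ∀ k ∈ K, g * k * g⁻¹ ∈ K → k = 1)
    (hlt : K < Subgroup.normalizer (K : Set G)) (hC : ∀ k ∈ K, k ≠ 1 → Subgroup.centralizer ({k} : Set G) ≤ K) :
    TIH (Subgroup.normalizer (K : Set G)).subtype (K.subgroupOf _) ∧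
      FrobMod (K.subgroupOf (Subgroup.normalizer (K : Set G))) ⊥ ∧ K.subgroupOf (Subgroup.normalizer (K : Set G)) ≠ ⊤ :=
  ⟨fun g x a b y c d => ⟨⟨g, by_contra fun e => b (Subtype.ext (hTI g e x a ((show g * x * g⁻¹ = y from d) ▸ c)))⟩, rfl⟩,
    frobMod_bot_iff.2 fun k a b x c => hC k a (by simpa using b) (Subgroup.mem_centralizer_singleton_iff.2
      (congrArg Subtype.val (Subgroup.mem_centralizer_singleton_iff.1 c))), mt Subgroup.subgroupOf_eq_top.1 hlt.not_ge⟩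

end H3
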