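import Cfsg.Agent.H3.BSW2
import Cfsg.Agent.H3.Tifn2
import Cfsg.Agent.SE.Sub

/-!
H3.Ab2: groups in which the centralizer of every involution is abelian.
-/

set_option autoImplicit false
open Cfsg Subgroup Finset
open scoped Classical

namespace H3
open SE H9

/-- involution centralizers are abelian; there are a four-group and two non-commuting involutions -/
structure AC (G : Type*) [Group G] : Prop where
  ab : ∀ t : G, SE.Inv t → ∀ a b, a * t = t * a → b * t = t * b → a * b = b * a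
  ex : ∃ s t u : G, SE.Inv s ∧ SE.Inv t ∧ SE.Inv u ∧ s ≠ t ∧ t * s = s * t ∧ u * s ≠ s * u

variable {G : Type*} [Group G] {s t u v x y e g d : G} {A : Subgroup G}

/-- centralizer of an element -/
abbrev Cz (s : G) : Subgroup G := centralizer {s}
/-- normalizer of the centralizer of an element -/
abbrev Nz (s : G) : Subgroup G := normalizer (Cz s : Set G)

theorem mem_Cz : x ∈ Cz s ↔ x * s = s * x := mem_centralizer_singleton_iff
theorem self_mem_Cz (s : G) : s ∈ Cz s := mem_Cz.2 rfl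
theorem Cz_le_Nz (s : G) : Cz s ≤ Nz s := le_normalizer
theorem cj_Cz (g s : G) : H9.cj g (Cz s) = Cz (g * s * g⁻¹) := cj_centralizer_singleton g s

theorem mem_of_sq_norm [Finite G] (ho : Odd A.index) (hg : g ∈ normalizer (A : Set G)) (h2 : g * g ∈ A) : g ∈ A := by
  have h1 : (⟨g, hg⟩ : normalizer (A : Set G)) ^ (A.subgroupOf (normalizer (A : Set G))).index ∈
      A.subgroupOf (normalizer (A : Set G)) := pow_index_mem _ _
  obtain ⟨k, hk⟩ : Odd (A.subgroupOf (normalizer (A : Set G))).index :=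
    Odd.of_dvd_nat ho (relIndex_dvd_index_of_le le_normalizer)
  rw [hk, mem_subgroupOf, pow_succ, pow_mul, sq] at h1
  exact (A.mul_mem_cancel_left (A.pow_mem h2 k)).1 (by simpa using h1)

section
variable (ab : ∀ t : G, SE.Inv t → ∀ a b, a * t = t * a → b * t = t * b → a * b = b * a)
include ab

theorem Cz_le_of_ab (hs : SE.Inv s) (hx : x ∈ Cz s) : Cz s ≤ Cz x := fun y hy => mem_Cz.2 (ab s hs _ _ (mem_Cz.1 hy) (mem_Cz.1 hx))

theorem Cz_eq_of_ab (hs : SE.Inv s) (ht : SE.Inv t) (h : t ∈ Cz s) : Cz t = Cz s :=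
  le_antisymm (Cz_le_of_ab ab ht (mem_Cz.2 (mem_Cz.1 h).symm)) (Cz_le_of_ab ab hs h)

theorem odd_index_of_ab [Finite G] (hs : SE.Inv s) : Odd (Cz s).index := by
  haveI : Fact (Nat.Prime 2) := ⟨Nat.prime_two⟩
  obtain ⟨T, hT, h1⟩ := exists_syl_ge (p := 2) (Q := zpowers s) (H := ⊤)
    (IsPGroup.of_card (n := 1) (by rw [Nat.card_zpowers, inv_iff_orderOf.1 hs]; rfl)) le_top
  have hne : T ≠ ⊥ := fun e => hs.1 (mem_bot.1 (e ▸ h1 (mem_zpowers s)))
  have h4 := inf_centralizer_ne_bot_of_nilpotent hT.isP.isNilpotent le_rfl le_normalizer hne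
  have h5 : IsPGroup 2 (T ⊓ centralizer (T : Set G) : Subgroup G) := hT.isP.to_le inf_le_left
  obtain ⟨n, e⟩ := IsPGroup.iff_card.1 h5
  obtain ⟨z, hz, h3⟩ := exists_inv_of_even (X := T ⊓ centralizer (T : Set G)) (by
    rw [e]; refine dvd_pow_self 2 fun h0 => h4 ?_
    rw [h0, pow_zero] at e; exact card_eq_one.1 e)
  have h6 : T ≤ Cz s := by
    rw [← Cz_eq_of_ab ab hs h3 (mem_Cz.2 (hz.2 s (h1 (mem_zpowers s))).symm)]
    exact fun x hx => mem_Cz.2 (hz.2 x hx)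
  rw [← Nat.not_even_iff_odd, even_iff_two_dvd]
  exact fun h => hT.not_dvd (by rw [relIndex_top_right]; exact h.trans (index_dvd_of_le h6))

theorem mem_Cz_of_ab [Finite G] (hs : SE.Inv s) (ht : t ∈ Nz s) (h2 : t * t = 1) : t ∈ Cz s :=
  mem_of_sq_norm (odd_index_of_ab ab hs) ht (h2 ▸ one_mem _)

theorem emb_of_ab [Finite G] (hs : SE.Inv s) (hu : SE.Inv u) (h : u * s ≠ s * u) : Emb (Nz s) := by
  refine ⟨⟨s, Cz_le_Nz s (self_mem_Cz s), hs⟩, fun t ht h1 g hg => mem_normalizer_iff_cj.2 ?_, fun e => h ?_⟩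
  · conv_lhs => rw [← Cz_eq_of_ab ab hs h1 (mem_Cz_of_ab ab hs ht h1.2)]
    rw [cj_Cz, Cz_eq_of_ab ab hs (h1.conj g) (mem_Cz_of_ab ab hs hg (h1.conj g).2)]
  · exact mem_Cz.1 (mem_Cz_of_ab ab hs (e ▸ mem_top u) hu.2)
end

namespace AC
variable [Finite G] (h : AC G)
include h

theorem cnj (hs : SE.Inv s) (ht : SE.Inv t) : ∃ g, g * s * g⁻¹ = t := by
  obtain ⟨s₀, -, u, a, -, b, -, -, c⟩ := h.ex
  exact (emb_of_ab h.ab a b c).conj_inv hs ht

theorem ex' (hs : SE.Inv s) : ∃ t u : G, SE.Inv t ∧ SE.Inv u ∧ s ≠ t ∧ t * s = s * t ∧ u * s ≠ s * u := by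
  obtain ⟨s₀, t, u, a, b, c, d, e, f⟩ := h.ex
  obtain ⟨g, rfl⟩ := h.cnj a hs
  refine ⟨_, _, b.conj g, c.conj g, by simpa using d, by
    rw [show g * t * g⁻¹ * (g * s₀ * g⁻¹) = g * (t * s₀) * g⁻¹ by group, e]; group, fun i => f (by
      rw [show u * s₀ = g⁻¹ * (g * u * g⁻¹ * (g * s₀ * g⁻¹)) * g by group, i]; group)⟩

theorem emb (hs : SE.Inv s) : Emb (Nz s) := by
  obtain ⟨-, u, -, b, -, -, c⟩ := h.ex' hs
  exact emb_of_ab h.ab hs b c

theorem memC (hs : SE.Inv s) (ht : t ∈ Nz s) (h2 : t * t = 1) : t ∈ Cz s := mem_Cz_of_ab h.ab hs ht h2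
theorem Ceq (hs : SE.Inv s) (ht : SE.Inv t) (e : t ∈ Cz s) : Cz t = Cz s := Cz_eq_of_ab h.ab hs ht e
theorem comm (hs : SE.Inv s) (hx : x ∈ Cz s) (hy : y ∈ Cz s) : x * y = y * x := h.ab s hs _ _ (mem_Cz.1 hx) (mem_Cz.1 hy)

theorem three_le (hs : SE.Inv s) : 3 ≤ Nat.card {t // t ∈ Nz s ∧ SE.Inv t} := by
  obtain ⟨t, -, a, -, b, c, -⟩ := h.ex' hs
  have d : SE.Inv (t * s) := ⟨fun e => b (by rw [← a.inv, eq_inv_of_mul_eq_one_right e]), by
    rw [show t * s * (t * s) = t * (s * t) * s by group, ← c]; simp [mul_assoc, a.cancel, hs.2]⟩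
  have m := Cz_le_Nz s (mem_Cz.2 c)
  have m' := Cz_le_Nz s (self_mem_Cz s)
  have : Fintype {t // t ∈ Nz s ∧ SE.Inv t} := Fintype.ofFinite _
  rw [Nat.card_eq_fintype_card]
  exact Fintype.two_lt_card_iff.2 ⟨⟨s, m', hs⟩, ⟨t, m, a⟩, ⟨t * s, mul_mem m m', d⟩, by simpa using b,
    by simpa using a.1, by simpa using hs.1⟩

theorem no_inv (hu : u * u = 1) (h1 : u * x * u = x⁻¹) (h2 : x * x ≠ 1) (ht : SE.Inv t) (h3 : x * t = t * x) : False := by
  have a := h.memC ht ((h.emb ht).inv_cent hu h1 h2 (Cz_le_Nz t (self_mem_Cz t)) ht h3) hu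
  rw [h.comm ht a (mem_Cz.2 h3), mul_assoc, hu, mul_one] at h1
  exact h2 (mul_eq_one_iff_eq_inv.2 h1)

theorem odd_C (hu : u * u = 1) (h1 : u * x * u = x⁻¹) (h2 : x * x ≠ 1) : Odd (Nat.card (Cz x)) :=
  odd_of_no_inv fun t a b => h.no_inv hu h1 h2 b (mem_Cz.1 a).symm

end AC

/-- the centralizer of a non-identity element centralizing an involution `s` normalizes `C(s)` -/
def St (G : Type*) [Group G] : Prop := ∀ s : G, SE.Inv s → ∀ e ∈ Cz s, e ≠ 1 → Cz e ≤ Nz s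

theorem conj_Cz_of_inv (hu : u * u = 1) (h1 : u * x * u = x⁻¹) (hy : y ∈ Cz x) : u * y * u ∈ Cz x := by
  have : x = u * x⁻¹ * u := by rw [← h1]; simp [mul_assoc, tt_cancel hu, hu]
  rw [mem_Cz] at hy ⊢
  have e : y * x⁻¹ = x⁻¹ * y := by rw [mul_inv_eq_iff_eq_mul, mul_assoc, hy]; simp
  calc u * y * u * x = u * (y * x⁻¹) * u := by conv_lhs => rw [this]; simp [mul_assoc, tt_cancel hu]
                                               simp [mul_assoc]
    _ = x * (u * y * u) := by rw [e]; conv_rhs => rw [this]; simp [mul_assoc, tt_cancel hu]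
                              simp [mul_assoc]

namespace AC
variable [Finite G] (h : AC G) (k : St G)
include h k

theorem cent_inv (hu : SE.Inv u) (h1 : u * x * u = x⁻¹) (h2 : x * x ≠ 1) (hy : y ∈ Cz x) : u * y * u = y⁻¹ := by
  obtain ⟨v, a, w, -, b, c, rfl⟩ := exists_dec (h.odd_C hu.2 h1 h2) hu.2 (fun _ => conj_Cz_of_inv hu.2 h1) hy
  suffices v = 1 by rwa [this, one_mul]
  by_contra d
  have e : v ∈ Cz u := mem_Cz.2 (by conv_rhs => rw [← b]
                                    simp [mul_assoc, hu.cancel])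
  have f := k u hu v e d (mem_Cz.2 (mem_Cz.1 a).symm)
  have i : x * u * x⁻¹ * u ∈ Cz u := mul_mem (H1.conj_mem_of_mem_normalizer f (self_mem_Cz u)) (self_mem_Cz u)
  have j : x * u * x⁻¹ * u = x * x := by rw [← h1]; simp [mul_assoc, hu.cancel, hu.2]
  rw [j, mem_Cz] at i
  refine h.no_inv hu.2 h1 h2 (t := x * x) ⟨h2, ?_⟩ (by group)
  have l : u * (x * x) * u = x⁻¹ * x⁻¹ := by rw [← h1]; simp [mul_assoc, hu.cancel]
  rw [← i, mul_assoc, hu.2, mul_one] at l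
  conv_lhs => lhs; rw [l]
  group

theorem cc (hs : SE.Inv s) : CC (Cz s) := fun e a b => by
  refine le_antisymm (fun g c => ?_) (Cz_le_of_ab h.ab hs a)
  obtain ⟨u, d, hu⟩ := (h.emb hs).exists_out
  have m := Cz_le_Nz s (self_mem_Cz s)
  have hg := k s hs e a b c
  obtain ⟨w, f, i⟩ := (h.emb hs).K_trans hu.2 d m hs (mul_mem (mul_mem hg m) (inv_mem hg)) (hs.conj g)
  have j : w⁻¹ * g ∈ Cz s := mem_Cz.2 (by
    rw [show w⁻¹ * g * s = w⁻¹ * (g * s * g⁻¹) * g by group, ← i]; group)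
  suffices w = 1 by simpa [this] using j
  by_contra l
  have n : w * w ≠ 1 := fun n => l (eq_one_of_sq (odd_orderOf ((h.emb hs).odd_DD hu.2 d) (KK.mem hu.2 f)) n)
  have o : e ∈ Cz w := mem_Cz.2 (mem_Cz.1 (show w ∈ Cz e from by
    have := mul_mem c (inv_mem (Cz_le_of_ab h.ab hs a j)); simpa using this)).symm
  exact h.no_inv hu.2 f.2 n (t := e) ⟨b, by_contra fun p =>
    h.no_inv hu.2 (h.cent_inv k hu f.2 n o) p hs (mem_Cz.1 a)⟩ (mem_Cz.1 o).symm

theorem cc_inv (hu : SE.Inv u) (h1 : u * x * u = x⁻¹) (h2 : x * x ≠ 1) : CC (Cz x) := fun y a b => by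
  have c : ∀ {x}, u * x * u = x⁻¹ → x * x ≠ 1 → ∀ a ∈ Cz x, ∀ b ∈ Cz x, a * b = b * a := fun {x} h1 h2 a p b q => by
    have := h.cent_inv k hu h1 h2 (mul_mem p q)
    rw [show u * (a * b) * u = u * a * u * (u * b * u) by simp [mul_assoc, hu.cancel], h.cent_inv k hu h1 h2 p,
      h.cent_inv k hu h1 h2 q, ← mul_inv_rev] at this
    exact (inv_injective this).symm
  have d : y * y ≠ 1 := fun n => b (eq_one_of_sq (odd_orderOf (h.odd_C hu.2 h1 h2) a) n)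
  exact le_antisymm (fun w p => mem_Cz.2 (c (h.cent_inv k hu h1 h2 a) d _ p _ (mem_Cz.2 (mem_Cz.1 a).symm)))
    fun w p => mem_Cz.2 (c h1 h2 _ p _ a)

theorem DC (hs : SE.Inv s) (hu : SE.Inv u) (d : u ∉ Nz s) (hx : x ∈ DD (Nz s) u) (hc : x ∈ Cz s) : x = 1 := by
  by_contra a
  have b := ((mem_DD hu.2).1 hx).2
  have c : x * (u * x * u * x⁻¹ * (u * x * u)⁻¹) ∈ Cz s := mul_mem hc (H1.conj_mem_of_mem_normalizer b (inv_mem hc))
  set w := x * (u * x * u * x⁻¹ * (u * x * u)⁻¹) with hw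
  have e : u * w * u = w⁻¹ := by simp [hw, mul_assoc, hu.cancel, hu.inv, hu.2]
  have f : w = 1 := by
    by_contra f
    have i : w * w = 1 := by_contra fun i => h.no_inv hu.2 e i hs (mem_Cz.1 c)
    refine d (Cz_le_Nz s ((h.cc k hs).mem c f ?_))
    rw [inv_eq_self i] at e
    conv_rhs => rw [← e]
    simp [mul_assoc, hu.2]
  refine d ((h.cc k hs).ti hc a ?_)
  rw [hu.inv]
  refine (h.cc k hs).mem hc a ?_
  rw [← mul_inv_eq_one, ← inv_eq_one, ← f, hw]; group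

theorem D_inv (hs : SE.Inv s) (hu : SE.Inv u) (d : u ∉ Nz s) (hx : x ∈ DD (Nz s) u) : u * x * u = x⁻¹ := by
  have m := Cz_le_Nz s (self_mem_Cz s)
  obtain ⟨w, f, i⟩ := (h.emb hs).K_trans hu.2 d m hs (mul_mem (mul_mem hx.1 m) (inv_mem hx.1)) (hs.conj x)
  have := h.DC k hs hu d (mul_mem (inv_mem (KK.mem hu.2 f)) hx) (mem_Cz.2 (by
    rw [show w⁻¹ * x * s = w⁻¹ * (x * s * x⁻¹) * x by group, ← i]; group))
  rw [← inv_mul_eq_one.1 this]; exact f.2

theorem card_D (hs : SE.Inv s) (hu : SE.Inv u) (d : u ∉ Nz s) :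
    Nat.card (DD (Nz s) u) = Nat.card {t // t ∈ Nz s ∧ SE.Inv t} := by
  rw [← (h.emb hs).card_K hu.2 d]
  exact Nat.card_congr (Equiv.subtypeEquivRight fun x => ⟨fun a => ⟨a.1, h.D_inv k hs hu d a⟩, KK.mem hu.2⟩)

omit k in
theorem exists_dec' (hs : SE.Inv s) (hu : SE.Inv u) (d : u ∉ Nz s) (hg : g ∈ Nz s) :
    ∃ w ∈ KK (Nz s) u, w⁻¹ * g ∈ Cz s := by
  have m := Cz_le_Nz s (self_mem_Cz s)
  obtain ⟨w, f, i⟩ := (h.emb hs).K_trans hu.2 d m hs (mul_mem (mul_mem hg m) (inv_mem hg)) (hs.conj g)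
  exact ⟨w, f, mem_Cz.2 (by rw [show w⁻¹ * g * s = w⁻¹ * (g * s * g⁻¹) * g by group, ← i]; group)⟩

theorem compl (hs : SE.Inv s) (hu : SE.Inv u) (d : u ∉ Nz s) :
    IsComplement' ((DD (Nz s) u).subgroupOf (Nz s)) ((Cz s).subgroupOf (Nz s)) := by
  refine isComplement'_of_disjoint_and_mul_eq_univ (disjoint_iff.2 (eq_bot_iff.2 fun x a =>
    Subtype.ext (h.DC k hs hu d a.1 a.2))) (Set.eq_univ_iff_forall.2 fun g => ?_)
  obtain ⟨w, a, b⟩ := h.exists_dec' hs hu d g.2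
  exact ⟨⟨w, a.1⟩, KK.mem hu.2 a, ⟨w⁻¹ * g, Cz_le_Nz s b⟩, b, Subtype.ext (by simp)⟩

theorem relIndex (hs : SE.Inv s) : (Cz s).relIndex (Nz s) = Nat.card {t // t ∈ Nz s ∧ SE.Inv t} := by
  obtain ⟨u, d, hu⟩ := (h.emb hs).exists_out
  rw [← h.card_D k hs hu d, ← Nat.card_congr (subgroupOfEquivOfLe (DD_le (H := Nz s) (t := u))).toEquiv]
  exact (h.compl k hs hu d).index_eq_card

theorem le_index (hs : SE.Inv s) : Nat.card (Cz s) ≤ (Nz s).index := by
  obtain ⟨u, d, hu⟩ := (h.emb hs).exists_out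
  refine Nat.card_le_card_of_injective (fun c : Cz s => ((c * u : G) : G ⧸ Nz s)) fun a b e => ?_
  have := QuotientGroup.eq.1 e
  have c := mul_mem (inv_mem a.2) b.2
  exact Subtype.ext (inv_mul_eq_one.1 (h.DC k hs hu d ((mem_DD hu.2).2 ⟨Cz_le_Nz s c, by
    simpa [hu.inv, mul_assoc] using this⟩) c))

end AC
end H3
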