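import Cfsg.Agent.H3.InvDade

/-!
H3.Feit: coherence for sets of irreducible characters without parity assumptions: `IsoOn.uniform`, `IsoOn.bound`,
`descent`, Feit's theorem `feit_frob`.  `FP Q P`: the elements outside `Q` act without fixed points on `P`.
-/

set_option autoImplicit false
open Cfsg Submodule
open scoped ComplexConjugate

namespace H3

variable {L G : Type*} [Group L] [Group G] {K H M N A D P Q R Z : Subgroup L}

/-- the elements outside `Q` act without fixed points on `P` -/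
def FP (Q P : Subgroup L) : Prop := ∀ k ∈ P, k ≠ 1 → ∀ x, x * k = k * x → x ∈ Q

theorem FrobMod.fp (h : FrobMod K ⊥) : FP K K := fun k a b x c => h k a (by simpa) x (by simp [c])

theorem FP.mono (h : FP Q P) (hN : N ≤ P) : FP Q N := fun k a => h k (hN a)

theorem FP.dvd [Finite L] [M.Normal] [N.Normal] (h : FP Q N) (hN : N ≤ Q) : Q.index ∣ M.relIndex N - 1 := by
  rw [← Subgroup.inf_relIndex_right]
  refine dvd_relIndex_sub_one fun k hk hn x hx => by_contra fun hx' => ?_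
  have hf : ∀ y ∈ N, x * y = y * x → y = 1 := fun y hy e => by_contra fun h1 => hx' (h y hy h1 x e)
  obtain ⟨y, hy, e⟩ := frob_conj (M ⊓ N) (fun y hy => Subgroup.Normal.conj_mem inferInstance y hy x)
    (fun y hy => hf y hy.2) (inv_mem hx)
  have := hf (y * k) (mul_mem hy.2 hk) (by
    rw [show x * (y * k) = y * (y⁻¹ * x * y) * k by group, ← e]; group)
  exact hn (by simpa [eq_inv_of_mul_eq_one_right this] using hy)

theorem FP.le [Finite L] [M.Normal] [N.Normal] (h : FP Q N) (hN : N ≤ Q) (h1 : ¬ N ≤ M) :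
    Q.index + 1 ≤ M.relIndex N := by
  have h2 := mt Subgroup.relIndex_eq_one.mp h1
  have h3 : M.relIndex N ≠ 0 := Subgroup.index_ne_zero_of_finite
  have := Nat.le_of_dvd (by omega) (h.dvd (M := M) hN)
  omega

theorem FP.le2 [Finite L] [M.Normal] [N.Normal] (h : FP Q N) (hN : N ≤ Q) (he : Odd Q.index)
    (ho : Odd (Nat.card N)) (h1 : ¬ N ≤ M) : 2 * Q.index + 1 ≤ M.relIndex N :=
  two_mul_add_one_le he (ho.of_dvd_nat (Subgroup.relIndex_dvd_card M N)) (mt Subgroup.relIndex_eq_one.mp h1)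
    (h.dvd hN)

theorem relIndex_le_of_le [Finite L] (h : M ≤ N) (K : Subgroup L) : N.relIndex K ≤ M.relIndex K :=
  Subgroup.relIndex_le_of_le_left h Subgroup.index_ne_zero_of_finite

variable [Fintype L] [Fintype G] {τ : (L → ℂ) →ₗ[ℂ] (G → ℂ)} {S S₁ : Set (L → ℂ)}

theorem coh_empty : Coh (∅ : Set (L → ℂ)) τ := ⟨τ, by simp, by simp, fun _ _ _ => rfl⟩

theorem IsoOn.uniform' (h : IsoOn S τ) (hi : ∀ χ ∈ S, IsIrrCharacter L χ) {χ₀ : L → ℂ} (h0 : χ₀ ∈ S)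
    (hd : ∀ φ ∈ S, φ 1 = χ₀ 1) : ∃ ε : ℂ, (ε = 1 ∨ ε = -1) ∧ ∃ μ : S → G → ℂ, (∀ i, IsIrrCharacter G (μ i)) ∧
      Function.Injective μ ∧ ∀ i : S, τ (i - χ₀) = ε • (μ i - μ ⟨χ₀, h0⟩) := by
  have m : ∀ i : S, i.1 - χ₀ ∈ span ℤ S := fun i => sub_mem (subset_span i.2) (subset_span h0)
  have z : ∀ i : S, (i.1 - χ₀) 1 = 0 := fun i => by simp [hd _ i.2]
  have n : ∀ i : S, i ≠ ⟨χ₀, h0⟩ → i.1 ≠ χ₀ := fun i a b => a (Subtype.ext b)
  refine isometry_lemma ⟨χ₀, h0⟩ (fun i : S => τ (i - χ₀)) (by simp) (fun i => h.gen _ (m i) (z i))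
    (fun i => h.one _ (span_of_zspan (m i)) (z i)) (fun i a => ?_) fun i j a b c => ?_ <;>
  rw [h.iso _ (span_of_zspan (m _)) _ (span_of_zspan (m _)) (z _) (z _)] <;>
  simp only [inner_sub_left, inner_sub_right, irr_inner_self (hi _ h0), irr_inner_ne (hi _ i.2) (hi _ h0) (n i a)]
  · rw [irr_inner_self (hi _ i.2), irr_inner_ne (hi _ h0) (hi _ i.2) (n i a).symm]; ring
  · rw [irr_inner_ne (hi _ i.2) (hi _ j.2) (Subtype.coe_ne_coe.2 c), irr_inner_ne (hi _ h0) (hi _ j.2) (n j b).symm]; ring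

theorem IsoOn.uniform (h : IsoOn S τ) (hi : ∀ χ ∈ S, IsIrrCharacter L χ) (hd : ∀ φ ∈ S, ∀ ψ ∈ S, φ 1 = ψ 1) :
    Coh S τ := by
  classical
  rcases S.eq_empty_or_nonempty with rfl | ⟨χ₀, h0⟩
  · exact coh_empty
  obtain ⟨ε, a, μ, b, c, d⟩ := h.uniform' hi h0 fun φ e => hd φ e _ h0
  have n0 := irr_one_ne_zero (hi _ h0)
  obtain ⟨ν, e, -⟩ := cohW_of_fun (S := S) (τ := τ) (fun χ => if e : χ ∈ S then ε • μ ⟨χ, e⟩ else 0)
    (fun x hx y hy => by
      rw [dif_pos hx, dif_pos hy, inner_smul_left, inner_smul_right, irr_inner (b _) (b _), irr_inner (hi _ hx) (hi _ hy)]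
      rcases a with rfl | rfl <;> simp [c.eq_iff])
    (fun x hx => by rw [dif_pos hx]; rcases a with rfl | rfl <;> simp [irr_gen (b _), gen_neg]) h0 n0
    fun x hx => by simp [hx, h0, hd x hx _ h0, n0, d ⟨x, hx⟩, smul_sub]
  exact ⟨ν, e⟩

/-- a maximal coherent subset -/
theorem IsoOn.bound (h : IsoOn S τ) (hi : ∀ χ ∈ S, IsIrrCharacter L χ) (hS : S.Finite) (hs : S₁ ⊆ S)
    (h₁ : Coh S₁ τ) (hn : ¬ Coh S τ) : ∃ T : Finset (L → ℂ), S₁ ⊆ T ∧ ↑T ⊆ S ∧ (∃ χ ∈ S, χ ∉ T) ∧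
      ∀ χ ∈ S, χ ∉ T → ∀ χ₁ ∈ T, ∀ a : ℕ, χ 1 = a * χ₁ 1 →
        ∑ φ ∈ T, (φ 1).re ^ 2 ≤ 2 * (χ 1).re * (χ₁ 1).re := by
  obtain ⟨T, ⟨a, b, d⟩, hm⟩ := Set.Finite.exists_maximal
    (hS.finite_subsets.subset (t := {T | S₁ ⊆ T ∧ T ⊆ S ∧ Coh T τ}) fun _ h => h.2.1) ⟨S₁, le_rfl, hs, h₁⟩
  lift T to Finset (L → ℂ) using hS.subset b
  refine ⟨T, a, b, by_contra fun h => hn (d.mono fun χ hχ => by_contra fun e => h ⟨χ, hχ, e⟩),
    fun χ c e χ₁ f n g => not_lt.mp fun k => e (hm (y := insert χ (T : Set _)) ⟨a.trans (Set.subset_insert _ _),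
      Set.insert_subset c b, feit_extend (h.mono (Set.insert_subset c b)) (fun φ u => hi φ (b u)) (hi χ c) d e f g k⟩
      (Set.subset_insert _ _) (Set.mem_insert _ _))⟩

theorem sum_SI_irr [K.Normal] [H.Normal] [M.Normal] (hH : H ≤ K) (hM : M ≤ K) {T : Finset (L → ℂ)}
    (h : SI K H M ⊆ T) (hi : ∀ χ ∈ SI K H M, IsIrrCharacter L χ) :
    ((M.relIndex K * K.index : ℕ) : ℝ) ≤ ((H ⊔ M).relIndex K * K.index : ℕ) + ∑ φ ∈ T, (φ 1).re ^ 2 := by
  rw [Subgroup.relIndex_mul_index hM, Subgroup.relIndex_mul_index (sup_le hH hM), ← sub_le_iff_le_add',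
    ← sum_SI_sq hH hM, Finset.sum_congr rfl fun φ a => by rw [SIrr.nsq (Or.inl (hi φ (mem_SIf.mp a))), div_one]]
  exact Finset.sum_le_sum_of_subset_of_nonneg (by simpa [← Finset.coe_subset]) fun _ _ _ => sq_nonneg _

theorem bound_SI [K.Normal] [H.Normal] [A.Normal] (h : IsoOn S τ) (hi : ∀ χ ∈ S, IsIrrCharacter L χ)
    (hS : S ⊆ AI K) (hH : H ≤ K) (hA : A ≤ K) (hs : S₁ ⊆ S) (h0 : SI K H A ⊆ S₁) (h₁ : Coh S₁ τ) (hn : ¬ Coh S τ) :
    ∃ ψ ∈ S, ψ ∉ S₁ ∧ ∃ n : ℕ, ψ 1 = K.index * n ∧ ∀ χ₁ ∈ S₁, ∀ m a : ℕ, χ₁ 1 = K.index * m → n = a * m →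
      A.relIndex K ≤ (H ⊔ A).relIndex K + 2 * K.index * n * m := by
  obtain ⟨T, a, b, ⟨ψ, c, d⟩, f⟩ := h.bound hi ((AI_finite K).subset hS) hs h₁ hn
  obtain ⟨n, -, e⟩ := AI.degree (hS c)
  refine ⟨ψ, c, fun g => d (a g), n, e, fun χ₁ g m r k l => ?_⟩
  have := (sum_SI_irr hH hA (h0.trans a) fun χ u => hi χ (hs (h0 u))).trans
    (add_le_add_right (f ψ c d χ₁ (a g) r (by rw [e, k, l]; push_cast; ring)) _)
  rw [e, k, ← Nat.cast_mul, ← Nat.cast_mul, Complex.natCast_re, Complex.natCast_re] at this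
  refine Nat.le_of_mul_le_mul_right (c := K.index) ?_ (Nat.pos_of_ne_zero K.index_ne_zero_of_finite)
  have : A.relIndex K * K.index ≤ (H ⊔ A).relIndex K * K.index + 2 * (K.index * n) * (K.index * m) := by
    exact_mod_cast this
  linarith

/-- descent along the lower central series of `K` -/
theorem descent [K.Normal] [H.Normal] [M.Normal] [N.Normal] (h : IsoOn (SI K H ⊥) τ)
    (hi : ∀ χ ∈ SI K H ⊥, IsIrrCharacter L χ) (hH : H ≤ K) (hN : N ≤ K) (hM : M ≤ N) (hn : NilMod K M)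
    (h1 : Coh (SI K H N) τ) (h2 : ¬ Coh (SI K H M) τ) :
    ∃ A : Subgroup L, A.Normal ∧ M < A ∧ A ≤ N ∧ ∃ ψ ∈ SI K H M, ∃ n : ℕ, ψ 1 = K.index * n ∧
      (∀ D ≤ K, ⁅D, K⁆ ≤ M → n ^ 2 ≤ (A ⊔ D).relIndex K) ∧
      ∀ χ₁ ∈ SI K H A, ∀ m a : ℕ, χ₁ 1 = K.index * m → n = a * m →
        A.relIndex K ≤ (H ⊔ A).relIndex K + 2 * K.index * n * m := by
  induction hk : Nat.card N using Nat.strong_induction_on generalizing N with | _ k ih
  have hlt : M < N := hM.lt_of_ne fun e => h2 (e ▸ h1)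
  have hle : ⁅N, K⁆ ⊔ M ≤ N := sup_le (Subgroup.commutator_le_left _ _) hM
  by_cases hc : Coh (SI K H (⁅N, K⁆ ⊔ M)) τ
  · obtain ⟨A, a, b, c, d⟩ := ih _ (hk ▸ H9.card_lt_of_lt (hle.lt_of_not_ge fun e => hlt.not_ge (hn.le hN e)))
      (hle.trans hN) le_sup_right hc rfl
    exact ⟨A, a, b, c.trans hle, d⟩
  obtain ⟨ψ, a, -, n, b, c⟩ := bound_SI (h.mono (SI_anti bot_le)) (fun χ e => hi χ (SI_anti bot_le e))
    (fun _ e => e.1) hH hN (SI_anti hle) le_rfl h1 hc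
  refine ⟨N, inferInstance, hlt, le_rfl, ψ, SI_anti le_sup_right a, n, b, fun D d e => ?_, c⟩
  have := AI.degree_sq_le a.1 (hle.trans hN) (sup_le hN d) le_rfl (fun x hx y hy =>
    H9.commutator_sup_le (le_normalizer_of_normal' _ _) (le_normalizer_of_normal' _ _) le_sup_left
      (e.trans le_sup_right) (Subgroup.commutator_mem_commutator hx hy)) a.2.2 (d := K.index * n) (by simp [b])
  rw [mul_pow] at this
  exact Nat.le_of_mul_le_mul_left this (pow_pos (Nat.pos_of_ne_zero K.index_ne_zero_of_finite) 2)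

theorem exists_SI_lin [K.Normal] [H.Normal] [M.Normal] (hH : H ≤ K) (hM : M ≤ K) (h : ¬ H ≤ M ⊔ ⁅K, K⁆) :
    ∃ χ ∈ SI K H M, χ 1 = K.index :=
  let ⟨χ, a⟩ := SI_nonempty hH (sup_le hM (Subgroup.commutator_le_self K)) h
  ⟨χ, SI_anti le_sup_left a, SI.degree_der a.1 (a.2.2.mono le_sup_right)⟩

theorem coh_der' [K.Normal] (h : IsoOn (SI K H ⊥) τ) (hi : ∀ χ ∈ SI K H ⊥, IsIrrCharacter L χ) (h1 : ⁅K, K⁆ ≤ N) :
    Coh (SI K H N) τ :=
  (h.mono (SI_anti bot_le)).uniform (fun χ e => hi χ (SI_anti bot_le e)) fun _ a _ b =>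
    (SI.degree_der a.1 (a.2.2.mono h1)).trans (SI.degree_der b.1 (b.2.2.mono h1)).symm

/-- `descent` when `N H` is not contained in `K'` -/
theorem descent' [K.Normal] [H.Normal] [M.Normal] [N.Normal] (h : IsoOn (SI K H ⊥) τ)
    (hi : ∀ χ ∈ SI K H ⊥, IsIrrCharacter L χ) (hH : H ≤ K) (hN : N ≤ ⁅K, K⁆) (hM : M ≤ N) (hn : NilMod K M)
    (h0 : ¬ H ≤ ⁅K, K⁆) (h1 : Coh (SI K H N) τ) (h2 : ¬ Coh (SI K H M) τ) :
    ∃ A : Subgroup L, A.Normal ∧ M < A ∧ A ≤ N ∧ ∃ n : ℕ, (∀ D ≤ K, ⁅D, K⁆ ≤ M → n ^ 2 ≤ (A ⊔ D).relIndex K) ∧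
        A.relIndex K ≤ (H ⊔ A).relIndex K + 2 * K.index * n := by
  have k := Subgroup.commutator_le_self K
  obtain ⟨A, a, b, c, ψ, -, n, -, d, e⟩ := descent h hi hH (hN.trans k) hM hn h1 h2
  obtain ⟨χ, f, g⟩ := exists_SI_lin hH ((c.trans hN).trans k) (by rwa [sup_eq_right.2 (c.trans hN)])
  exact ⟨A, a, b, c, n, d, by simpa using e χ f 1 n (by simp [g]) (by simp)⟩

/-- Feit's coherence theorem for Frobenius groups -/
theorem feit_frob [K.Normal] (hf : FrobMod K ⊥) (h1 : K ≠ ⊤) (h : IsoOn (SI K K ⊥) τ) (hc : ¬ Coh (SI K K ⊥) τ) :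
    ⁅K, K⁆ ≠ ⊥ ∧ ⁅K, K⁆.relIndex K ≤ 4 * K.index ^ 2 + 1 ∧ ∃ p : ℕ, p.Prime ∧ IsPGroup p K := by
  have hn := hf.nilpotent h1
  have hi : ∀ χ ∈ SI K K ⊥, IsIrrCharacter L χ := fun _ a => irr_of_frobMod hf a.1 a.2.1
  have k := Subgroup.commutator_le_self K
  have h0 : K ≠ ⊥ := fun e => hc (by
    convert coh_empty (τ := τ); exact Set.eq_empty_of_forall_notMem fun χ a => a.2.1 (e ▸ kr_bot χ))
  have hd := (H9.commutator_lt_of_solvable (N := K) inferInstance h0).not_ge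
  have ds := fun (M N : Subgroup L) [M.Normal] [N.Normal] a b =>
    descent' (M := M) (N := N) h hi le_rfl a b (nilMod_of_nilpotent hn M) hd
  have e0 := Nat.pos_of_ne_zero K.index_ne_zero_of_finite
  obtain ⟨A, _, a, b, n, c, d⟩ := ds ⊥ _ le_rfl bot_le (coh_der' h hi le_rfl) hc
  refine ⟨(a.trans_le b).ne', (relIndex_le_of_le b K).trans ?_, ?_⟩
  · have c := c ⊥ bot_le (by simp)
    rw [sup_eq_left.2 (b.trans k), Subgroup.relIndex_self] at d
    rw [sup_bot_eq] at c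
    by_contra! e
    have : 2 * K.index < n := by nlinarith
    nlinarith
  obtain ⟨p, hp, hd'⟩ := Nat.exists_prime_and_dvd (mt Subgroup.card_eq_one.mp h0)
  have := Fact.mk hp
  refine ⟨p, hp, by_contra fun e => ?_⟩
  have nm : ∀ π, (FT.Opi π K).Normal := fun π => Subgroup.normalizer_eq_top_iff.mp
    (top_le_iff.mp (FT.normalizer_Opi (le_normalizer_of_normal' _ _)))
  set P := FT.Opi {p} K
  set R := FT.Opi {p}ᶜ K
  have := nm {p}
  have := nm {p}ᶜ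
  have s : P ⊔ R = K := FT.Opi_sup_Opi_of_nilpotent hn _
  have i : P ⊓ R = ⊥ := Subgroup.inf_eq_bot_of_coprime ((FT.Opi_pi _ _).coprime (FT.Opi_pi _ _))
  have hP : P ≤ K := FT.Opi_le _ _
  have hR : R ≤ K := FT.Opi_le _ _
  have nP : ¬ K ≤ P := fun u => e (FT.piG_singleton_iff.mp ((FT.Opi_pi _ _).le u))
  have nR : ¬ K ≤ R := fun u => ((FT.Opi_pi _ _).le u).not_dvd hp (by simp) hd'
  have mP := not_le_of_solvable (K := K) inferInstance nP
  have mR := not_le_of_solvable (K := K) inferInstance nR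
  have cm : ⁅P, R⁆ = ⊥ := le_bot_iff.1 ((Subgroup.commutator_le_inf P R).trans i.le)
  have key : ∀ (M N D : Subgroup L) [M.Normal] [N.Normal] [D.Normal], N ≤ ⁅K, K⁆ → M ≤ N → D ≤ K → ⁅D, K⁆ ≤ M →
      ¬ D ≤ N → Coh (SI K K N) τ → Coh (SI K K M) τ := fun M N D _ _ _ a b c d f g => by_contra fun u => by
    obtain ⟨A, _, -, a', n, c', d'⟩ := ds M N a b g u
    have hA := (a'.trans a).trans k
    have e1 := c' D c d
    have e2 := (hf.fp.mono (sup_le hA c)).le (M := A) (sup_le hA c) fun v => f ((le_sup_right.trans v).trans a')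
    have e3 := Subgroup.relIndex_mul_relIndex _ _ _ (le_sup_left (a := A)) (sup_le hA c)
    have e4 := hf.fp.le (M := P ⊔ ⁅K, K⁆) le_rfl mP
    have e5 := (hf.fp.mono (sup_le hP k)).le (M := ⁅K, K⁆) (sup_le hP k) fun v =>
      mR (s.ge.trans (sup_le ((le_sup_left.trans v).trans le_sup_right) le_sup_left))
    have e6 := Subgroup.relIndex_mul_relIndex _ _ _ (le_sup_right (a := P)) (sup_le hP k)
    have e7 := relIndex_le_of_le (a'.trans a) K
    rw [sup_eq_left.2 hA, Subgroup.relIndex_self] at d'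
    have e8 : (K.index + 1) ^ 2 ≤ A.relIndex K := by rw [sq]; exact (Nat.mul_le_mul e5 e4).trans (e6.le.trans e7)
    have e9 : (K.index + 1) * n ^ 2 ≤ A.relIndex K := (Nat.mul_le_mul e2 e1).trans e3.le
    have : K.index + 2 ≤ 2 * n := by nlinarith
    nlinarith
  have hZ := center_der_ne_bot hn hP fun u => nR (s.ge.trans (by simp [u]))
  refine hc (key ⊥ ⁅R, R⁆ (P ⊓ Subgroup.centralizer K) (Subgroup.commutator_mono hR hR) bot_le (inf_le_left.trans hP)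
    (Subgroup.commutator_eq_bot_iff_le_centralizer.2 inf_le_right).le (fun u => hZ (le_bot_iff.1 ((le_inf inf_le_left
      (u.trans (Subgroup.commutator_le_self R))).trans i.le)))
    (key _ ⁅K, K⁆ R le_rfl (Subgroup.commutator_mono hR hR) hR ?_ (fun u => mP (s.ge.trans (sup_le_sup_left u _)))
      (coh_der' h hi le_rfl)))
  rw [Subgroup.commutator_comm, ← s]
  exact H9.commutator_sup_le (le_normalizer_of_normal' _ _) (le_normalizer_of_normal' _ _) (cm.le.trans bot_le) le_rfl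

end H3
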