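import Cfsg.Agent.H3.Ab2
import Cfsg.Agent.H3.Feit
import Cfsg.Agent.H3.Chr

/-!
H3.Ab3: groups in which the centralizer of every involution is abelian: the character-theoretic bound and the count.
-/

set_option autoImplicit false
open Cfsg Subgroup Finset
open scoped Classical

namespace H3
open SE H9

theorem ab_ti_bound {L G : Type*} [Group L] [Group G] [Fintype L] [Fintype G] {K : Subgroup L} [K.Normal] {j : L →* G}
    (hj : Function.Injective j) (hti : TIH j K) (hf : FrobMod K ⊥) (hc : ∀ a ∈ K, ∀ b ∈ K, a * b = b * a) {t : L} (ht : t ∈ K)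
    (h1 : t ≠ 1) (h2 : t ^ 2 = 1) {a : ℕ} (ha : 0 < a) (hN : ∀ x ∈ K, x ≠ 1 → NI (j t) (j x) = if IsConj t x then a else 0)
    (hC : Nat.card (centralizer {j t}) = Nat.card K) :
    ∃ n, Nat.card K = n * K.index + 1 ∧ (n = 1 ∨ n * (centralizer {j t}).index ≤ a ^ 2 * Nat.card K) := by
  have hi : ∀ χ ∈ SI K K ⊥, IsIrrCharacter L χ := fun _ a => irr_of_frobMod hf a.1 a.2.1
  have hd : ∀ χ ∈ SI K K ⊥, χ 1 = K.index := fun χ ⟨⟨θ, a, b⟩, _⟩ => by
    rw [b, indFun_one, irr_degree_one_of_comm a fun x y => Subtype.ext (hc _ x.2 _ y.2), mul_one]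
  have r0 : (K.index : ℂ) ≠ 0 := Nat.cast_ne_zero.2 K.index_ne_zero_of_finite
  have hs : ∀ x, K.index * ∑ φ ∈ SIf K K ⊥, φ x = indFun ⊥ (fun _ => 1) x - indFun K (fun _ => 1) x := fun x => by
    have := congrFun (sum_SI (K := K) (H := K) (M := ⊥) le_rfl bot_le) x
    rw [sup_bot_eq, Pi.sub_apply] at this
    rw [← this, Finset.sum_apply, mul_sum]
    exact sum_congr rfl fun φ e => by
      rw [hd φ (mem_SIf.1 e), SIrr.nsq (Or.inl (hi φ (mem_SIf.1 e)))]; simp
  have s1 := hs 1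
  rw [sum_congr rfl fun φ e => hd φ (mem_SIf.1 e), sum_const, indFun_one, indFun_one, index_bot, ← K.index_mul_card] at s1
  have s2 := hs t
  rw [ind_one_apply K ht, indFun_eq_zero_of_not_conj _ _ _ fun x e => (h1 (by simpa using e)).elim] at s2
  replace s2 : ∑ φ ∈ SIf K K ⊥, φ t = -1 := mul_left_cancel₀ r0 (by rw [s2]; ring)
  refine ⟨#(SIf K K ⊥), ?_, ?_⟩
  · have : (Nat.card K : ℂ) = #(SIf K K ⊥) * K.index + 1 := mul_left_cancel₀ r0 (by
      simp only [nsmul_eq_mul, Nat.cast_mul] at s1; linear_combination -s1)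
    exact_mod_cast this
  by_cases e : ∀ φ ∈ SI K K ⊥, ∀ ψ ∈ SI K K ⊥, φ t = ψ t
  · obtain ⟨ψ, b⟩ := SI_nonempty (K := K) (H := K) (M := ⊥) le_rfl bot_le fun e => h1 (mem_bot.1 (e ht))
    obtain ⟨z, c⟩ := H4.char_int_of_sq (char_gen (irr_char (hi ψ b))) h2
    rw [sum_congr rfl fun φ d => e φ (mem_SIf.1 d) ψ b, sum_const, c, nsmul_eq_mul] at s2
    have : (#(SIf K K ⊥) : ℤ) * -z = 1 := by
      have : ((#(SIf K K ⊥) : ℤ) * -z : ℤ) = (1 : ℂ) := by push_cast; linear_combination -s2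
      exact_mod_cast this
    exact Or.inl (by exact_mod_cast Int.eq_one_of_mul_eq_one_right (Nat.cast_nonneg _) this)
  push Not at e
  obtain ⟨φ, p, ψ, q, e⟩ := e
  have iso : IsoOn (SI K K ⊥) (indH j) := (hti.isTau hj).isoOn_SI (fun _ a b => ⟨a, b⟩) fun _ a => a.1
  obtain ⟨ε, hε, μ, m1, m2, m3⟩ := iso.uniform' hi q fun χ b => (hd χ b).trans (hd ψ q).symm
  have ε0 : ε ≠ 0 := by rcases hε with e | e <;> simp [e]
  obtain ⟨d, d0, hd0⟩ := irr_one_nat (m1 ⟨ψ, q⟩)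
  have md : ∀ i, μ i 1 = d := fun i => by
    have := iso.one (i - ψ) (sub_mem (Submodule.subset_span i.2) (Submodule.subset_span q)) (by
      rw [Pi.sub_apply, hd _ i.2, hd _ q, sub_self])
    rw [m3, Pi.smul_apply, Pi.sub_apply, hd0, smul_eq_mul, mul_eq_zero, sub_eq_zero] at this
    exact this.resolve_left ε0
  have cl : IsClassFunction L (φ - ψ) := class_sub (AI.cls p.1) (AI.cls q.1)
  have sp : Supp (φ - ψ) K := (AI.supp p.1).sub (AI.supp q.1)
  have v := hti.apply hj cl sp ht h1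
  have w := inner_indH_left j (φ - ψ) (class_NI (j t))
  have ct : centralizer {t} = K := le_antisymm (fun x b => hf t ht (by simpa using h1) x (by
    rw [mem_centralizer_singleton_iff.1 b]; simp)) fun x b => mem_centralizer_singleton_iff.2 (hc _ b _ ht)
  have w2 : ∑ x, (φ - ψ) x * (starRingEnd ℂ) (NI (j t) (j x) : ℂ) = a * (K.index * (φ - ψ) t) := by
    rw [← ct, ← sum_classInd_mul t cl, mul_sum]
    refine sum_congr rfl fun x _ => ?_
    by_cases b : x ∈ K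
    · by_cases c : x = 1
      · simp [c, hd _ p, hd _ q]
      · rw [hN x b c, classInd]; split_ifs <;> simp [mul_comm]
    · simp [sp x b]
  have u1 := sum_NI_sirr (j t) (Or.inl (m1 ⟨φ, p⟩))
  have u2 := sum_NI_sirr (j t) (Or.inl (m1 ⟨ψ, q⟩))
  have t2 : j t ^ 2 = 1 := by rw [← map_pow, h2, map_one]
  obtain ⟨y, hy⟩ := H4.char_int_of_sq (char_gen (irr_char (m1 ⟨φ, p⟩))) t2
  obtain ⟨z, hz⟩ := H4.char_int_of_sq (char_gen (irr_char (m1 ⟨ψ, q⟩))) t2
  have m4 := m3 ⟨φ, p⟩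
  simp only at m4
  rw [classInner, classInner, w2, m4, ← K.index_mul_card, ← (centralizer {j t}).index_mul_card, hC] at w
  rw [m4, Pi.smul_apply, Pi.sub_apply, hy, hz, smul_eq_mul] at v
  simp only [Pi.smul_apply, Pi.sub_apply, smul_eq_mul, map_natCast] at w v
  rw [md, hy] at u1
  rw [md, hz] at u2
  set m := (centralizer {j t}).index
  have m0 : (m : ℂ) ≠ 0 := Nat.cast_ne_zero.2 index_ne_zero_of_finite
  have c0 : (Nat.card K : ℂ) ≠ 0 := Nat.cast_ne_zero.2 Nat.card_pos.ne'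
  have d0' : (d : ℂ) ≠ 0 := Nat.cast_ne_zero.2 d0.ne'
  have w3 : ∑ x, ε * (μ ⟨φ, p⟩ x - μ ⟨ψ, q⟩ x) * (NI (j t) x : ℂ) = ε * (m ^ 2 * (y ^ 2 / d) - m ^ 2 * (z ^ 2 / d)) := by
    rw [← u1, ← u2, ← sum_sub_distrib, mul_sum]
    exact sum_congr rfl fun x _ => by ring
  rw [w3, ← v] at w
  have yz : (y : ℂ) - z ≠ 0 := fun b => e (by rw [← sub_eq_zero, ← v, b, mul_zero])
  have k1 : (m : ℂ) * (y + z) = a * d := by
    push_cast at w
    field_simp at w
    apply mul_left_cancel₀ yz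
    linear_combination w
  have k2 : (m : ℤ) * (y + z) = a * d := by exact_mod_cast k1
  have k3 : 0 < y + z := pos_of_mul_pos_left (by rw [mul_comm, k2]; positivity) (Nat.cast_nonneg m)
  have k4 : m ≤ a * d := by
    have : (m : ℤ) ≤ a * d := by nlinarith [Nat.cast_nonneg (α := ℤ) m]
    exact_mod_cast this
  have k5 : #(SIf K K ⊥) * d ^ 2 ≤ m * Nat.card K := by
    have b := sum_sq_degree (G := G)
    rw [← (centralizer {j t}).index_mul_card, hC] at b
    have c : ∑ χ : IrrCharacter G, charDegree (χ : G → ℂ) ^ 2 = m * Nat.card K := by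
      have : ((∑ χ : IrrCharacter G, charDegree (χ : G → ℂ) ^ 2 : ℕ) : ℂ) = (m * Nat.card K : ℕ) := by
        rw [← b]; push_cast
        exact sum_congr rfl fun χ _ => by rw [ideg]
      exact_mod_cast this
    rw [← c, ← smul_eq_mul, ← sum_const, ← sum_attach]
    refine (le_of_eq ?_).trans (sum_le_sum_of_subset (subset_univ (image (fun i : SIf K K ⊥ =>
      (⟨μ ⟨i, mem_SIf.1 i.2⟩, m1 _⟩ : IrrCharacter G)) univ)))
    rw [sum_image]
    · exact sum_congr rfl fun i _ => congrArg (· ^ 2) (deg_of_eq (md _)).symm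
    · exact fun x _ y _ e => Subtype.ext (congrArg Subtype.val (m2 (congrArg Subtype.val e)) :)
  refine Or.inr (Nat.le_of_mul_le_mul_right (c := m) ?_ (Nat.pos_of_ne_zero index_ne_zero_of_finite))
  calc #(SIf K K ⊥) * m * m ≤ #(SIf K K ⊥) * (a * d) * (a * d) := by gcongr
    _ = a ^ 2 * (#(SIf K K ⊥) * d ^ 2) := by ring
    _ ≤ a ^ 2 * (m * Nat.card K) := by gcongr
    _ = _ := by ring

variable {G : Type*} [Group G] {s t u v x y e g d : G} {A : Subgroup G}

namespace AC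
variable [Fintype G] (h : AC G)
include h

theorem isConj (hs : SE.Inv s) : IsConj s u ↔ SE.Inv u :=
  ⟨fun a => by obtain ⟨c, rfl⟩ := isConj_iff.1 a; exact hs.conj c, fun a => isConj_iff.2 (h.cnj hs a)⟩

theorem NI_eq (hs : SE.Inv s) (y : G) : NI s y = #{u | SE.Inv u ∧ u ≠ y ∧ u * y * u = y⁻¹} := by
  refine congrArg _ (filter_congr fun u _ => ?_)
  rw [h.isConj hs, h.isConj hs]
  refine and_congr_right fun a => ?_
  rw [a.inv, SE.Inv, ← mul_assoc, mul_eq_one_iff_eq_inv, ne_eq, mul_eq_one_iff_inv_eq, a.inv]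

theorem NI_one (hs : SE.Inv s) : NI s 1 = (Cz s).index := by
  rw [← card_class_eq_index, Nat.card_eq_fintype_card, Fintype.card_subtype, h.NI_eq hs]
  refine congrArg _ (filter_congr fun u _ => ?_)
  rw [h.isConj hs]
  exact ⟨fun a => a.1, fun a => ⟨a, a.1, by simpa using a.2⟩⟩

theorem NI_of_inv (hs : SE.Inv s) (hy : SE.Inv y) : NI s y + 1 = Nat.card {t // t ∈ Nz s ∧ SE.Inv t} := by
  obtain ⟨g, rfl⟩ := h.cnj hs hy
  have : NI s (g * s * g⁻¹) = NI s s := Nat.cast_injective (R := ℂ) (class_NI s s g)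
  rw [this, h.NI_eq hs, Nat.card_eq_fintype_card, Fintype.card_subtype, ← card_erase_add_one (a := s)
    (s := {t | t ∈ Nz s ∧ SE.Inv t}) (by simpa using ⟨Cz_le_Nz s (self_mem_Cz s), hs⟩)]
  refine congrArg (· + 1) (congrArg _ (Finset.ext fun u => ?_))
  simp only [mem_filter_univ, mem_erase, hs.inv]
  refine ⟨fun ⟨a, b, c⟩ => ⟨b, Cz_le_Nz s (mem_Cz.2 ?_), a⟩, fun ⟨a, b, c⟩ => ⟨c, a, ?_⟩⟩
  · conv_rhs => rw [← c]
    simp [mul_assoc, a.2]
  · rw [mem_Cz.1 (h.memC hs b c.2), mul_assoc, c.2, mul_one]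

theorem NI_S (k : St G) (hs : SE.Inv s) (hu : SE.Inv u) (h1 : u * y * u = y⁻¹) (h2 : y * y ≠ 1) : NI s y = Nat.card (Cz y) := by
  rw [h.NI_eq hs, ← card_mem]
  refine card_bij' (fun v _ => v * u) (fun v _ => v * u) (fun v a => ?_) (fun v a => ?_) (by simp [mul_assoc, hu.2])
    (by simp [mul_assoc, hu.2])
  · simp only [mem_filter_univ] at a ⊢
    rw [mem_Cz, show v * u * y = v * (u * y * u) * u by simp [mul_assoc, hu.2], h1, ← a.2.2]
    simp [mul_assoc, a.1.cancel]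
  · simp only [mem_filter_univ] at a ⊢
    have b := h.cent_inv k hu h1 h2 a
    have c : v * u * (v * u) = 1 := by rw [show v * u * (v * u) = v * (u * v * u) by group, b, mul_inv_cancel]
    have d : v * u * y * (v * u) = y⁻¹ := by
      rw [show v * u * y * (v * u) = v * (u * y * u) * (u * v * u) by simp [mul_assoc, hu.cancel], h1, b,
        mul_inv_eq_iff_eq_mul, mul_inv_eq_iff_eq_mul, mul_assoc, mem_Cz.1 a, inv_mul_cancel_left]
    refine ⟨⟨fun e => h2 ?_, c⟩, fun e => h2 (e ▸ c), d⟩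
    rw [e, one_mul, mul_one] at d
    exact mul_eq_one_iff_eq_inv.2 d

theorem elem (k : St G) (hs : SE.Inv s) (hx : x ∈ Cz s) : x * x = 1 := by
  have r := h.relIndex k hs
  have r3 := h.three_le hs
  have cc := h.cc k hs
  obtain ⟨a, b, -⟩ := tifn_bridge (K := Cz s) (fun g a x b c => by_contra fun d => a (cc.ti b d c))
    (lt_of_le_of_ne le_normalizer fun e => by
      have : (Cz s).relIndex (Nz s) = 1 := relIndex_eq_one.2 e.ge
      omega)
    fun x a b => (cc x a b).le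
  have m := Cz_le_Nz s (self_mem_Cz s)
  have c := Nat.card_congr (subgroupOfEquivOfLe (Cz_le_Nz s)).toEquiv
  obtain ⟨n, h1, h2⟩ := ab_ti_bound (t := (⟨s, m⟩ : Nz s)) (a := NI s s) (subtype_injective _) a b
    (fun x a y b => Subtype.ext (h.comm hs a b)) (self_mem_Cz s) (fun e => hs.1 (congrArg Subtype.val e))
    (Subtype.ext ((sq s).trans hs.2)) (by have := h.NI_of_inv hs hs; omega) (fun x a b => by
      split_ifs with e
      · have := h.NI_of_inv hs ((h.isConj hs).1 ((Nz s).subtype.map_isConj e))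
        have := h.NI_of_inv hs hs
        simp only [coe_subtype] at *
        omega
      · refine (h.NI_eq hs _).trans (card_eq_zero.2 (filter_eq_empty_iff.2 fun u _ ⟨p, _, q⟩ => e ?_))
        have i : SE.Inv (x : G) := ⟨fun e => b (Subtype.ext e), by_contra fun e => h.no_inv p.2 q e hs (mem_Cz.1 a)⟩
        obtain ⟨g, l⟩ := h.cnj hs i
        exact isConj_iff.2 ⟨⟨g, (h.emb hs).ti s m hs g (l ▸ x.2)⟩, Subtype.ext l⟩) c.symm
  let O : Subgroup G :=
    { carrier := {x | x ∈ Cz s ∧ x * x = 1}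
      one_mem' := ⟨one_mem _, mul_one _⟩
      mul_mem' := fun {x y} a b => ⟨mul_mem a.1 b.1, by
        rw [show x * y * (x * y) = x * (y * x) * y by group, h.comm hs b.1 a.1]; simp [mul_assoc, tt_cancel a.2, b.2]⟩
      inv_mem' := fun a => ⟨inv_mem a.1, by rw [← mul_inv_rev, a.2, inv_one]⟩ }
  have o1 : O ≤ Cz s := fun _ a => a.1
  have o2 : Nat.card O = Nat.card {t // t ∈ Nz s ∧ SE.Inv t} + 1 := by
    rw [← card_mem, Nat.card_eq_fintype_card, Fintype.card_subtype, ← card_erase_add_one (a := 1) (by simp)]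
    refine congrArg (· + 1) (congrArg _ (Finset.ext fun u => ?_))
    simp only [mem_filter_univ, mem_erase]
    exact ⟨fun ⟨a, b, c⟩ => ⟨Cz_le_Nz s b, a, c⟩, fun ⟨a, b⟩ => ⟨b.1, h.memC hs a b.2, b.2⟩⟩
  have i : (Cz s).index = (Cz s).relIndex (Nz s) * (Nz s).index := (relIndex_mul_index (Cz_le_Nz s)).symm
  have l := h.le_index k hs
  have w := h.NI_of_inv hs hs
  change _ = n * (Cz s).relIndex (Nz s) + 1 at h1
  change _ ∨ n * (Cz s).index ≤ _ at h2
  rw [c] at h1 h2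
  rw [r] at h1 i
  clear r
  generalize Nat.card {t // t ∈ Nz s ∧ SE.Inv t} = r at *
  suffices n = 1 from ((eq_of_le_of_card_ge o1 (by rw [o2, h1, this, one_mul])).ge hx).2
  refine h2.elim id fun h2 => by_contra fun n1 => ?_
  have d : r + 1 ∣ n - 1 := by
    have c0 : 0 < Nat.card (Cz s) := Nat.card_pos
    obtain ⟨n, rfl⟩ : ∃ n', n = n' + 1 := ⟨n - 1, by
      rcases n with _ | n
      · have := Nat.le_of_dvd c0 (o2 ▸ card_dvd_of_le o1); omega
      · simp⟩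
    have := o2 ▸ h1 ▸ card_dvd_of_le o1
    rw [show (n + 1) * r + 1 = n * r + (r + 1) by ring, Nat.dvd_add_left dvd_rfl] at this
    exact (Nat.Coprime.dvd_of_dvd_mul_right (by simp) this)
  have n0 : n ≠ 0 := by
    rintro rfl
    have := Nat.le_of_dvd Nat.card_pos (o2 ▸ card_dvd_of_le o1); omega
  have := Nat.le_of_dvd (by omega) d
  have f : n * r * Nat.card (Cz s) ≤ NI s s ^ 2 * Nat.card (Cz s) := by
    refine le_trans ?_ h2
    rw [i, mul_assoc]; gcongr
  have := Nat.le_of_mul_le_mul_right f Nat.card_pos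
  nlinarith [Nat.mul_le_mul_right r (show r + 2 ≤ n by omega)]

theorem card_C (k : St G) (hs : SE.Inv s) : Nat.card (Cz s) = Nat.card {t // t ∈ Nz s ∧ SE.Inv t} + 1 := by
  rw [← card_mem, Nat.card_eq_fintype_card, Fintype.card_subtype, ← card_erase_add_one (a := 1) (by simp)]
  refine congrArg (· + 1) (congrArg _ (Finset.ext fun u => ?_))
  simp only [mem_filter_univ, mem_erase]
  exact ⟨fun ⟨a, b⟩ => ⟨Cz_le_Nz s b, a, h.elem k hs b⟩, fun ⟨a, b⟩ => ⟨b.1, h.memC hs a b.2⟩⟩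

theorem norm_inv (k : St G) (hu : SE.Inv u) (h1 : u * x * u = x⁻¹) (h2 : x * x ≠ 1) (ht : SE.Inv t) (hn : t ∈ Nz x)
    (hy : y ∈ Cz x) : t * y * t = y⁻¹ := by
  obtain ⟨v, a, w, -, b, c, rfl⟩ := exists_dec (h.odd_C hu.2 h1 h2) ht.2 (fun y a => by
    simpa only [ht.inv] using H1.conj_mem_of_mem_normalizer hn a) hy
  suffices v = 1 by rwa [this, one_mul]
  by_contra d
  refine h.no_inv hu.2 (h.cent_inv k hu h1 h2 a) (fun n => d (eq_one_of_sq (odd_orderOf (h.odd_C hu.2 h1 h2) a) n)) ht ?_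
  conv_rhs => rw [← b]
  simp [mul_assoc, ht.cancel]

theorem relIndex_two (k : St G) (hu : SE.Inv u) (h1 : u * x * u = x⁻¹) (h2 : x * x ≠ 1) : (Cz x).relIndex (Nz x) = 2 := by
  have un : u ∈ Nz x := mem_normalizer_of_cj_le fun y a => by
    have := conj_Cz_of_inv hu.2 h1 (mem_cj.1 a)
    simpa [hu.inv, mul_assoc, hu.cancel, hu.2] using this
  have ni : ∀ t ∈ Cz x, ¬ SE.Inv t := fun t a b => h.no_inv hu.2 h1 h2 b (mem_Cz.1 a).symm
  have c : ∀ t ∈ Nz x, SE.Inv t → t * u ∈ Cz x := fun t a b => mem_Cz.2 (by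
    have := h.norm_inv k hu h1 h2 b a (self_mem_Cz x)
    rw [show t * u * x = t * (u * x * u) * u by simp [mul_assoc, hu.2], h1, ← this]; simp [mul_assoc, b.cancel])
  refine index_eq_two_iff.2 ⟨⟨u, un⟩, fun ⟨g, hg⟩ => ?_⟩
  simp only [mem_subgroupOf, Subgroup.coe_mul]
  by_cases a : g ∈ Cz x
  · exact Or.inr ⟨a, fun b => ni u ((Cz x).mul_mem_cancel_left a |>.1 b) hu⟩
  refine Or.inl ⟨?_, a⟩
  have d := c _ (mul_mem (mul_mem hg un) (inv_mem hg)) (hu.conj g)
  obtain ⟨n, e⟩ := exists_sqrt (odd_orderOf (h.odd_C hu.2 h1 h2) d)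
  have f := pow_mem d n
  generalize (g * u * g⁻¹ * u) ^ n = b at e f
  have i := h.cent_inv k hu h1 h2 f
  have j : b⁻¹ * g ∈ Cz u := mem_Cz.2 (by
    rw [show b⁻¹ * g * u = b⁻¹ * (g * u * g⁻¹ * u) * u * g by simp [mul_assoc, hu.cancel], ← e, inv_mul_cancel_left, ← i]
    simp [mul_assoc, hu.cancel])
  have l := c _ (mul_mem (inv_mem (Cz_le_Nz x f)) hg) ⟨fun e => a (inv_mul_eq_one.1 e ▸ f), h.elem k hu j⟩
  simpa [mul_assoc] using mul_mem f l

end AC

/-- strongly real, not of order at most two -/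
def SR (x : G) : Prop := x * x ≠ 1 ∧ ∃ u, SE.Inv u ∧ u * x * u = x⁻¹

theorem SR.conj (a : SR x) (g : G) : SR (g * x * g⁻¹) := by
  obtain ⟨a, u, b, c⟩ := a
  exact ⟨by rw [conj_mul]; simpa using a, _, b.conj g, by
    rw [show g * u * g⁻¹ * (g * x * g⁻¹) * (g * u * g⁻¹) = g * (u * x * u) * g⁻¹ by group, c]; group⟩

theorem ac_num {r m n a b A B : ℕ} (r3 : 3 ≤ r) (hm : m = r * n) (ha : r ∣ a) (a0 : 0 < a) (b3 : 3 ≤ b) (hA : A * 2 * a = m * (r + 1))
    (hB : B * 2 * b = m * (r + 1)) (m0 : 0 < m) (e : m ^ 2 = m * r + A * (a - 1) * a + B * (b - 1) * b)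
    (l : 1 + m + A * (a - 1) + B * (b - 1) ≤ m * (r + 1)) : n = r + 2 := by
  obtain ⟨a, rfl⟩ : ∃ a', a = a' + 1 := ⟨a - 1, by omega⟩
  obtain ⟨b, rfl⟩ : ∃ a', b = a' + 2 := ⟨b - 2, by omega⟩
  simp only [Nat.add_sub_cancel, show b + 2 - 1 = b + 1 from rfl] at e l
  have e1 : 2 * m = 2 * r + (r + 1) * (a + 1 + b) := Nat.eq_of_mul_eq_mul_left m0 (by nlinarith)
  obtain ⟨i, hi⟩ := ha
  have : r ∣ b := by
    have : r ∣ 2 * r + (r + 1) * (a + 1 + b) := by rw [← e1, hm]; exact Dvd.intro (2 * n) (by ring)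
    rw [show 2 * r + (r + 1) * (a + 1 + b) = r * (2 + (a + 1 + b) + i) + b by rw [mul_add r _ i, ← hi]; ring] at this
    exact (Nat.dvd_add_right (Dvd.intro _ rfl)).1 this
  obtain ⟨j, rfl⟩ := this
  have l1 : m < A + B := by nlinarith
  have l2 : 2 * ((a + 1) * (r * j + 2)) < (r + 1) * (a + 1 + (r * j + 2)) := by
    refine lt_of_mul_lt_mul_left (a := m) ?_ (Nat.zero_le _)
    calc m * (2 * ((a + 1) * (r * j + 2))) < (A + B) * (2 * ((a + 1) * (r * j + 2))) := by gcongr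
      _ = A * 2 * (a + 1) * (r * j + 2) + B * 2 * (r * j + 2) * (a + 1) := by ring
      _ = _ := by rw [hA, hB]; ring
  rw [hi] at l2 e1
  have i0 : 1 ≤ i := Nat.pos_of_ne_zero (by rintro rfl; omega)
  have j0 : 1 ≤ j := Nat.pos_of_ne_zero (by rintro rfl; omega)
  obtain ⟨i, rfl⟩ : ∃ a', i = a' + 1 := ⟨i - 1, by omega⟩
  obtain ⟨j, rfl⟩ : ∃ a', j = a' + 1 := ⟨j - 1, by omega⟩
  obtain ⟨r, rfl⟩ : ∃ a', r = a' + 3 := ⟨r - 3, by omega⟩
  obtain rfl : i = 0 := by
    by_contra c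
    obtain ⟨i, rfl⟩ : ∃ a', i = a' + 1 := ⟨i - 1, by omega⟩
    ring_nf at l2; nlinarith [Nat.zero_le (r * i), Nat.zero_le (r * j), Nat.zero_le (r ^ 2 * i), Nat.zero_le (r ^ 2 * j),
      Nat.zero_le (r ^ 2 * i * j), Nat.zero_le (r * i * j), Nat.zero_le (i * j)]
  obtain rfl : j = 0 := by
    by_contra c
    obtain ⟨j, rfl⟩ : ∃ a', j = a' + 1 := ⟨j - 1, by omega⟩
    ring_nf at l2; nlinarith [Nat.zero_le (r * j), Nat.zero_le (r ^ 2 * j)]
  exact Nat.eq_of_mul_eq_mul_left (show 0 < 2 * (r + 3) by omega) (by rw [mul_assoc, ← hm, e1]; ring)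

namespace AC
variable [Fintype G] (h : AC G) (k : St G)
include h k

theorem SR_mem (a : SR x) (hy : y ∈ Cz x) (h1 : y ≠ 1) : SR y := by
  obtain ⟨a, u, b, c⟩ := a
  exact ⟨fun n => h1 (eq_one_of_sq (odd_orderOf (h.odd_C b.2 c a) hy) n), u, b, h.cent_inv k b c a hy⟩

theorem SR_cc (a : SR x) : CC (Cz x) := let ⟨a, _, b, c⟩ := a; h.cc_inv k b c a

theorem SR_cs (a : SR x) (hy : y ∈ cs (Cz x)) : SR y ∧ Nat.card (Cz y) = Nat.card (Cz x) := by
  obtain ⟨b, g, c⟩ := mem_cs.1 hy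
  have d : g * y * g⁻¹ ≠ 1 := by simpa using b
  exact ⟨by simpa [mul_assoc] using (h.SR_mem k a c d).conj g⁻¹, by rw [← h.SR_cc k a _ c d, ← card_cj g, cj_Cz]⟩

theorem SR_card (a : SR x) : 3 ≤ Nat.card (Cz x) ∧ #(cs (Cz x)) = (Nz x).index * (Nat.card (Cz x) - 1) ∧
    (Nz x).index * 2 * Nat.card (Cz x) = Nat.card G := by
  refine ⟨?_, card_cs (fun _ a _ => H1.conj_mem_of_mem_normalizer a) fun _ _ => (h.SR_cc k a).ti, ?_⟩
  · obtain ⟨a, u, b, c⟩ := a
    have := h.odd_C b.2 c a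
    have d : Nat.card (Cz x) ≠ 1 := fun e => a (by rw [mem_bot.1 ((card_eq_one.1 e).le (self_mem_Cz x)), mul_one])
    obtain ⟨n, e⟩ := this
    omega
  · obtain ⟨a, u, b, c⟩ := a
    rw [← h.relIndex_two k b c a, mul_comm (Nz x).index, relIndex_mul_index (Cz_le_Nz x), index_mul_card]

theorem SR_disj (a : SR x) (b : SR y) (c : y ∉ cs (Cz x)) : Disjoint (cs (Cz x)) (cs (Cz y)) := by
  refine Finset.disjoint_left.2 fun z d e => c ?_
  obtain ⟨d, g, f⟩ := mem_cs.1 d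
  obtain ⟨-, w, i⟩ := mem_cs.1 e
  refine mem_cs.2 ⟨fun e => b.1 (by simp [e]), g * w⁻¹, (h.SR_cc k a).mem f (by simpa using d) ?_⟩
  rw [show g * w⁻¹ * y * (g * w⁻¹)⁻¹ * (g * z * g⁻¹) = g * w⁻¹ * (y * (w * z * w⁻¹)) * w * g⁻¹ by group, ← mem_Cz.1 i]; group

theorem index_N (hs : SE.Inv s) : (Nz s).index = Nat.card {t // t ∈ Nz s ∧ SE.Inv t} + 2 := by
  obtain ⟨u, d, hu⟩ := (h.emb hs).exists_out
  have r3 := h.three_le hs
  have cD := h.card_D k hs hu d
  obtain ⟨x, x1, x2⟩ : ∃ x ∈ DD (Nz s) u, x ≠ 1 := by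
    by_contra! c
    rw [eq_bot_iff_forall _ |>.2 c, card_bot] at cD; omega
  have sx : SR x := ⟨fun n => x2 (eq_one_of_sq (odd_orderOf ((h.emb hs).odd_DD hu.2 d) x1) n), u, hu, h.D_inv k hs hu d x1⟩
  have dv : Nat.card {t // t ∈ Nz s ∧ SE.Inv t} ∣ Nat.card (Cz x) := cD ▸ card_dvd_of_le fun y a => mem_Cz.2 (by
    have := h.D_inv k hs hu d (mul_mem x1 a)
    rw [show u * (x * y) * u = u * x * u * (u * y * u) by simp [mul_assoc, hu.cancel],       h.D_inv k hs hu d x1, h.D_inv k hs hu d a, ← mul_inv_rev] at this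
    exact inv_injective this)
  have i : (Cz s).index = (Cz s).relIndex (Nz s) * (Nz s).index := (relIndex_mul_index (Cz_le_Nz s)).symm
  have c := (Cz s).index_mul_card
  rw [h.relIndex k hs] at i
  rw [h.card_C k hs] at c
  let I : Finset G := {t | SE.Inv t}
  let S : Finset G := {t | SR t}
  have cI : #I = (Cz s).index := by
    rw [← card_class_eq_index, Nat.card_eq_fintype_card, Fintype.card_subtype]
    exact congrArg _ (filter_congr fun u _ => (h.isConj hs).symm)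
  have w := h.NI_of_inv hs hs
  have e : (Cz s).index ^ 2 = (Cz s).index * Nat.card {t // t ∈ Nz s ∧ SE.Inv t} + ∑ y ∈ S, Nat.card (Cz y) := by
    have : ∀ y, NI s y = (if SE.Inv y then NI s s else 0) + (if y = 1 then (Cz s).index else 0) +
        if SR y then Nat.card (Cz y) else 0 := fun y => by
      by_cases a : y = 1
      · rw [if_neg fun b : SE.Inv y => b.1 a, if_pos a, if_neg fun b : SR y => b.1 (by simp [a]), a, h.NI_one hs]; simp
      by_cases b : y * y = 1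
      · have := h.NI_of_inv hs ⟨a, b⟩
        rw [if_pos ⟨a, b⟩, if_neg a, if_neg fun c : SR y => c.1 b]; omega
      rw [if_neg fun c : SE.Inv y => b c.2, if_neg a]
      split_ifs with c
      · obtain ⟨-, v, c, f⟩ := c
        simpa using h.NI_S k hs c f b
      · exact (h.NI_eq hs _).trans (card_eq_zero.2 (filter_eq_empty_iff.2 fun u _ ⟨p, _, q⟩ => c ⟨b, u, p, q⟩))
    rw [← sum_NI, sum_congr rfl fun y _ => this y, sum_add_distrib, sum_add_distrib, ← sum_filter, ← sum_filter (p := SR),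
      sum_const, cI, sum_ite_eq', ← w]
    simp [S, mul_add]
  have sc : ∀ {x}, SR x → cs (Cz x) ⊆ S ∧ ∑ y ∈ cs (Cz x), Nat.card (Cz y) = (Nz x).index * (Nat.card (Cz x) - 1) * Nat.card (Cz x) :=
    fun a => ⟨fun y b => (mem_filter_univ _).2 (h.SR_cs k a b).1, by
      rw [sum_congr rfl fun y b => (h.SR_cs k a b).2, sum_const, (h.SR_card k a).2.1, smul_eq_mul]⟩
  have cS : 1 + (Cz s).index + #S ≤ Nat.card G := by
    rw [← cI, Nat.card_eq_fintype_card, add_comm 1, ← card_insert_of_notMem (a := 1) (fun a => ((mem_filter_univ _).1 a).1 rfl),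
      ← card_union_of_disjoint (Finset.disjoint_left.2 fun y a b => ((mem_filter_univ _).1 b).1 (by
        rcases mem_insert.1 a with a | a
        · simp [a]
        · exact ((mem_filter_univ _).1 a).2))]
    exact card_le_univ _
  have m0 : 0 < (Cz s).index := Nat.pos_of_ne_zero index_ne_zero_of_finite
  obtain ⟨a1, a2, a3⟩ := h.SR_card k sx
  by_cases h1 : S ⊆ cs (Cz x)
  · rw [subset_antisymm h1 (sc sx).1, (sc sx).2] at e
    rw [← c] at a3
    generalize Nat.card {t // t ∈ Nz s ∧ SE.Inv t} = r at *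
    obtain ⟨a, ha⟩ : ∃ a', Nat.card (Cz x) = a' + 1 := ⟨_, (Nat.sub_add_cancel (by omega)).symm⟩
    rw [ha] at e a3 dv
    simp only [Nat.add_sub_cancel] at e
    have e1 : 2 * (Cz s).index = 2 * r + (r + 1) * a := Nat.eq_of_mul_eq_mul_left m0 (by nlinarith)
    obtain ⟨j, hj⟩ := dv
    have : r ∣ 1 := (Nat.dvd_add_right (Dvd.intro (2 * (Nz s).index) rfl)).1 (Dvd.intro (2 + a + j) (by nlinarith))
    have := Nat.le_of_dvd one_pos this
    omega
  obtain ⟨y, sy, y1⟩ := not_subset.1 h1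
  replace sy : SR y := (mem_filter_univ _).1 sy
  obtain ⟨b1, b2, b3⟩ := h.SR_card k sy
  have dj := h.SR_disj k sx sy y1
  by_cases h2 : S ⊆ cs (Cz x) ∪ cs (Cz y)
  · rw [subset_antisymm h2 (union_subset (sc sx).1 (sc sy).1)] at e cS
    rw [sum_union dj, (sc sx).2, (sc sy).2, ← add_assoc] at e
    rw [card_union_of_disjoint dj, a2, b2, ← add_assoc, ← c] at cS
    exact ac_num r3 i dv (by omega) b1 (a3.trans c.symm) (b3.trans c.symm) m0 e cS
  obtain ⟨z, sz, z1⟩ := not_subset.1 h2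
  replace sz : SR z := (mem_filter_univ _).1 sz
  obtain ⟨c1, c2, c3⟩ := h.SR_card k sz
  rw [mem_union, not_or] at z1
  have := card_le_card (union_subset (union_subset (sc sx).1 (sc sy).1) (sc sz).1)
  rw [card_union_of_disjoint (disjoint_union_left.2 ⟨h.SR_disj k sx sz z1.1, h.SR_disj k sy sz z1.2⟩),
    card_union_of_disjoint dj, a2, b2, c2] at this
  have t : ∀ {n a : ℕ}, 3 ≤ a → n * 2 * a = Nat.card G → Nat.card G ≤ 3 * (n * (a - 1)) := fun {n a} p q => by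
    obtain ⟨a, rfl⟩ := Nat.exists_eq_add_of_le p
    rw [← q, show 3 + a - 1 = a + 2 by omega]; nlinarith [Nat.zero_le (n * a)]
  have := t a1 a3
  have := t b1 b3
  have := t c1 c3
  omega

end AC
end H3
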