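import Cfsg.Agent.H3.Zass3

/-!
H3.Zass4: sharply triply transitive groups `Sh3`.
-/

set_option autoImplicit false
open Cfsg MulAction Subgroup H5

namespace H3

variable {G Ω : Type*} [Group G] [MulAction G Ω] {a b c d : Ω} {H Q D : Subgroup G} {g s u w x y z : G}

structure Sh3 (G Ω : Type*) [Group G] [MulAction G Ω] : Prop where
  tr : ∀ {a b c a' b' c' : Ω}, a ≠ b → a ≠ c → b ≠ c → a' ≠ b' → a' ≠ c' → b' ≠ c' → ∃ g : G, g • a = a' ∧ g • b = b' ∧ g • c = c'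
  three : ∀ (g : G) (c d f : Ω), c ≠ d → d ≠ f → c ≠ f → g • c = c → g • d = d → g • f = f → g = 1

theorem sh3_iff : Sh3 G Ω ↔ IsMultiplyPretransitive G Ω 3 ∧ ∀ t : Fin 3 ↪ Ω, stabilizer G t = ⊥ := by
  have k : ∀ {a b c : Ω}, a ≠ b → a ≠ c → b ≠ c → ∃ t : Fin 3 ↪ Ω, t 0 = a ∧ t 1 = b ∧ t 2 = c := fun {a b c} p q r =>
    ⟨⟨![a, b, c], fun i j => by fin_cases i <;> fin_cases j <;> simp [p, q, r, p.symm, q.symm, r.symm]⟩, rfl, rfl, rfl⟩
  have n : ∀ (t : Fin 3 ↪ Ω) i j, i ≠ j → t i ≠ t j := fun t i j => t.injective.ne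
  refine ⟨fun h => ⟨⟨fun s t => ?_⟩, fun t => eq_bot_iff.2 fun g e => h.three g _ _ _ (n t 0 1 (by simp)) (n t 1 2 (by simp)) (n t 0 2 (by simp))
    (DFunLike.congr_fun e 0) (DFunLike.congr_fun e 1) (DFunLike.congr_fun e 2)⟩, fun ⟨h1, h2⟩ => ⟨fun p q r p' q' r' => ?_,
      fun g c d f p q r e1 e2 e3 => ?_⟩⟩
  · obtain ⟨g, e⟩ := h.tr (n s 0 1 (by simp)) (n s 0 2 (by simp)) (n s 1 2 (by simp)) (n t 0 1 (by simp)) (n t 0 2 (by simp)) (n t 1 2 (by simp))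
    exact ⟨g, DFunLike.ext _ _ fun i => by fin_cases i; exacts [e.1, e.2.1, e.2.2]⟩
  · obtain ⟨s, rfl, rfl, rfl⟩ := k p q r
    obtain ⟨t, rfl, rfl, rfl⟩ := k p' q' r'
    obtain ⟨g, rfl⟩ := h1.exists_smul_eq s t
    exact ⟨g, rfl, rfl, rfl⟩
  · obtain ⟨t, rfl, rfl, rfl⟩ := k p r q
    exact mem_bot.1 ((h2 t).le (DFunLike.ext _ _ fun i => by fin_cases i; exacts [e1, e2, e3]))

theorem exists_notMem3 [Finite Ω] (h : 4 ≤ Nat.card Ω) (a b c : Ω) : ∃ d, d ≠ a ∧ d ≠ b ∧ d ≠ c := by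
  classical
  have := Fintype.ofFinite Ω
  obtain ⟨d, e⟩ := Finset.exists_mem_notMem_of_card_lt_card (s := {a, b, c}) (t := Finset.univ)
    (Finset.card_le_three.trans_lt (by rwa [Finset.card_univ, ← Nat.card_eq_fintype_card]))
  exact ⟨d, by simpa [not_or] using e.2⟩

theorem Sh3.eq (h : Sh3 G Ω) (p : a ≠ b) (q : a ≠ c) (r : b ≠ c) (e1 : x • a = y • a) (e2 : x • b = y • b) (e3 : x • c = y • c) : x = y :=
  (inv_mul_eq_one.1 (h.three _ a b c p r q (by simp [mul_smul, e1]) (by simp [mul_smul, e2]) (by simp [mul_smul, e3]))).symm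

variable [Finite G] [Finite Ω]

theorem Sh3.zg (h : Sh3 G Ω) (h4 : 4 ≤ Nat.card Ω) (hab : a ≠ b) : ∃ H : Subgroup G, ZG a b H ∧ Nat.card H = Nat.card (St2 G a b) + 1 := by
  obtain ⟨c, c1, c2, -⟩ := exists_notMem3 h4 a b b
  obtain ⟨d, d1, d2, d3⟩ := exists_notMem3 h4 a b c
  obtain ⟨H, k⟩ := exists_ZG' (G := G) ((@isMultiplyPretransitive_of_le _ _ _ _ _ _ (sh3_iff.1 h).1 (by simp) (by omega) _) :
    IsMultiplyPretransitive G Ω 2) h.three hab c1.symm c2.symm fun e => by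
      obtain ⟨g, p, q, r⟩ := h.tr hab c1.symm c2.symm hab d1.symm d2.symm
      exact d3 (by rw [← r, mem_bot.1 (e.le (⟨p, q⟩ : g ∈ St2 G a b)), one_smul])
  refine ⟨H, k, le_antisymm ?_ k.lt⟩
  have := Nat.card_le_card_of_surjective (fun x : St2 G a b => (⟨(x : G) • c, fun f => f.elim
    (fun f => c1 (smul_left_cancel _ (f.trans x.2.1.symm))) fun f => c2 (smul_left_cancel _ (f.trans x.2.2.symm))⟩ : ({a, b}ᶜ : Set Ω)))
    fun d => let ⟨g, p, q, r⟩ := h.tr hab c1.symm c2.symm hab (fun e => d.2 (Or.inl e.symm)) fun e => d.2 (Or.inr e.symm)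
      ⟨⟨g, p, q⟩, Subtype.ext r⟩
  rw [Nat.card_coe_set_eq, Set.ncard_compl, Set.ncard_pair hab, ← k.card] at this
  omega

theorem ZG.sh3 (h : ZG a b H) (e : Nat.card H = Nat.card (St2 G a b) + 1) : Sh3 G Ω := ⟨fun {x y z x' y' z'} p q r p' q' r' => by
  obtain ⟨g, rfl, rfl⟩ := h.two h.ne p
  obtain ⟨k, rfl, rfl⟩ := h.two h.ne p'
  have n : ∀ {g : G} {a c : Ω}, g • a ≠ c → g⁻¹ • c ≠ a := fun e f => e (inv_smul_eq_iff.1 f).symm
  obtain ⟨x, s, t⟩ := h.reg2 e (n q) (n r) (n q') (n r')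
  exact ⟨k * x * g⁻¹, by simp [mul_smul, show x • a = a from s.1], by simp [mul_smul, show x • b = b from s.2], by simp [mul_smul, t]⟩, h.three⟩

theorem Sh3.zass (h : Sh3 G Ω) (h4 : 4 ≤ Nat.card Ω) (ho : Odd (Nat.card Ω)) : IsZassenhausGroup G Ω := by
  have : Nonempty Ω := (Nat.card_pos_iff.1 (by omega)).1
  obtain ⟨a⟩ := this
  obtain ⟨b, p, -⟩ := exists_notMem3 h4 a a a
  obtain ⟨H, k, -⟩ := h.zg h4 p.symm
  obtain ⟨⟨y, y1⟩, y2⟩ := ne_bot_iff_exists_ne_one.1 k.nt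
  refine ⟨⟨fun {x y} e => ?_⟩, is_two_pretransitive_iff.2 k.two, h.three, ⟨y, by simpa using y2, a, b, p.symm, y1⟩, fun N n t => ?_⟩
  · obtain ⟨c, q, r, -⟩ := exists_notMem3 h4 a b b
    exact h.eq p.symm q.symm r.symm (e a) (e b) (e c)
  by_contra! f
  have f' : ∀ {x y : G}, x ∈ N → y ∈ N → x • a = y • a → x = y := fun {x y} p q e => (inv_mul_eq_one.1 (congrArg Subtype.val
    (mem_bot.1 ((f a).le (show (⟨y⁻¹ * x, mul_mem (inv_mem q) p⟩ : N) • a = a by simp [Subgroup.smul_def, mul_smul, e]))))).symm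
  obtain ⟨⟨u, u1⟩, u2⟩ := t.exists_smul_eq a b
  replace u2 : u • a = b := u2
  have u3 : a ≠ u⁻¹ • a := fun e => p (u2.symm.trans (eq_inv_smul_iff.1 e))
  by_cases e : b = u⁻¹ • a
  · have := Fact.mk Nat.prime_two
    have := H9.orderOf_dvd_card_of_mem u1
    rw [H4.orderOf_two_of (mul_eq_one_iff_eq_inv.2 (f' u1 (inv_mem u1) (u2.trans e))) fun e => p (by simpa [e] using u2.symm),
      ← (stabilizer N a).index_mul_card, index_stabilizer_of_transitive, f a, card_bot, mul_one] at this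
    exact ho.not_two_dvd_nat this
  obtain ⟨d, d1, d2, d3⟩ := exists_notMem3 h4 a b (u⁻¹ • a)
  obtain ⟨g, g1, g2, g3⟩ := h.tr p.symm u3 e p.symm d1.symm d2.symm
  have := f' (n.conj_mem u u1 g) u1 (by rw [mul_smul, mul_smul, inv_smul_eq_iff.2 g1.symm, u2, g2])
  exact d3 (by rw [← g3]; nth_rw 2 [← this, ← g1]; simp [mul_smul])

omit [Finite G] [Finite Ω] in
/-- elements of order three of the two-point stabilizer -/
theorem Sh3.three_eq (h : Sh3 G Ω) (hab : a ≠ b) (c1 : c ≠ a) (c2 : c ≠ b) (s1 : s • a = b) (s2 : s • b = a) (s3 : s • c = c)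
    (hx : x ∈ St2 G a b) (hy : y ∈ St2 G a b) (ox : orderOf x = 3) (oy : orderOf y = 3) : x = y ∨ s * x * s⁻¹ = y := by
  have k : ∀ x ∈ St2 G a b, orderOf x = 3 → x ≠ 1 ∧ x • x • x • c = c ∧ c ≠ x • c ∧ c ≠ x • x • c ∧ x • c ≠ x • x • c := fun x p q => by
    have e : x • x • x • c = c := by rw [← mul_smul, ← mul_smul, ← pow_three', ← q, pow_orderOf_eq_one, one_smul]
    have n : x ≠ 1 := fun e => by simp [e] at q
    have f : c ≠ x • c := fun f => n (h.three x a b c hab c2.symm c1.symm p.1 p.2 f.symm)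
    exact ⟨n, e, f, fun l => f (by rwa [← l, eq_comm] at e), fun l => f (smul_left_cancel x l)⟩
  obtain ⟨-, x0, x1, x2, x3⟩ := k x hx ox
  obtain ⟨y4, y0, y1, y2, y3⟩ := k y hy oy
  obtain ⟨g, g1, g2, g3⟩ := h.tr x1 x2 x3 y1 y2 y3
  have e : g * x * g⁻¹ = y := h.eq y1 y2 y3 (by nth_rw 1 [← g1]; simp [mul_smul, g2]) (by nth_rw 1 [← g2]; simp [mul_smul, g3])
    (by nth_rw 1 [← g3]; simp [mul_smul, x0, g1, y0])
  have m : ∀ d, x • d = d → g • d = a ∨ g • d = b := fun d l => by_contra fun n => y4 (h.three y a b (g • d) hab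
    (fun l => n (Or.inr l.symm)) (fun l => n (Or.inl l.symm)) hy.1 hy.2 (by simp [← e, mul_smul, l]))
  rcases m a hx.1 with p | p <;> rcases m b hx.2 with q | q
  · exact absurd (smul_left_cancel g (p.trans q.symm)) hab
  · exact Or.inl (by simpa [h.three g a b c hab c2.symm c1.symm p q g1] using e)
  · exact Or.inr (h.eq hab c1.symm c2.symm (p.trans s1.symm) (q.trans s2.symm) (g1.trans s3.symm) ▸ e)
  · exact absurd (smul_left_cancel g (p.trans q.symm)) hab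

end H3
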