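import Cfsg.Agent.H3.Ab3
import Cfsg.Agent.FT.Rank
import Cfsg.Agent.S4702
import Cfsg.Agent.S0102
import Cfsg.Agent.H5.SL2Tor

/-!
H3.Ab4: groups in which the centralizer of every involution is abelian: the sharply triply transitive action.
-/

set_option autoImplicit false
open Cfsg Subgroup Finset
open scoped Classical

namespace H3
open SE H9

variable {G : Type*} [Group G] {s t u v x y e g d c : G} {A : Subgroup G}

theorem ac_of_sylow [Finite G] (ab : ∀ t : G, SE.Inv t → ∀ a b, a * t = t * a → b * t = t * b → a * b = b * a) (T : Sylow 2 G)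
    (hnc : ¬ IsCyclic (T : Subgroup G)) (hnn : ¬ (T : Subgroup G).Normal) : AC G ∧ ∃ s, SE.Inv s ∧ (T : Subgroup G) ≤ Cz s := by
  haveI : Fact (Nat.Prime 2) := ⟨Nat.prime_two⟩
  have hT := syl_top_of_sylow T
  have hne : (T : Subgroup G) ≠ ⊥ := fun e => hnc (e ▸ inferInstance)
  have h4 := inf_centralizer_ne_bot_of_nilpotent T.isPGroup'.isNilpotent le_rfl le_normalizer hne
  have h5 : IsPGroup 2 ((T : Subgroup G) ⊓ centralizer ((T : Subgroup G) : Set G) : Subgroup G) := hT.isP.to_le inf_le_left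
  obtain ⟨n, e⟩ := IsPGroup.iff_card.1 h5
  obtain ⟨z, hz, h3⟩ := exists_inv_of_even (X := (T : Subgroup G) ⊓ centralizer ((T : Subgroup G) : Set G)) (by
    rw [e]; refine dvd_pow_self 2 fun h0 => h4 ?_
    rw [h0, pow_zero] at e; exact card_eq_one.1 e)
  have h6 : (T : Subgroup G) ≤ Cz z := fun x hx => mem_Cz.2 (hz.2 x hx)
  have c : ∀ a ∈ Cz z, ∀ b ∈ Cz z, a * b = b * a := fun a p b q => ab z h3 _ _ (mem_Cz.1 p) (mem_Cz.1 q)
  refine ⟨⟨ab, z, ?_⟩, z, h3, h6⟩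
  obtain ⟨A, hA⟩ := FT.le_rk_iff.1 (FT.two_le_rk_of_not_cyclic hT.isP (Or.inr ⟨⟨fun a b => Subtype.ext (c _ (h6 a.2) _ (h6 b.2))⟩⟩) hnc)
  obtain ⟨t, t1, t2⟩ : ∃ t ∈ A, t ∉ zpowers z := by
    by_contra! a
    have := card_le_of_le (show A ≤ zpowers z from a)
    rw [hA.card, Nat.card_zpowers, inv_iff_orderOf.1 h3] at this; omega
  obtain ⟨g, hg⟩ : ∃ g, g * z * g⁻¹ * z ≠ z * (g * z * g⁻¹) := by
    by_contra! a
    refine hnn (normal_iff_cj.2 fun g => ?_)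
    have b : H9.cj g (Cz z) = Cz z := by rw [cj_Cz, Cz_eq_of_ab ab h3 (h3.conj g) (mem_Cz.2 (a g))]
    obtain ⟨w, p, q⟩ := (hT.mono h6 le_top).conj (b ▸ (hT.mono h6 le_top).cj g)
    rw [← q]
    exact mem_normalizer_iff_cj.1 (centralizer_le_normalizer _ fun y a => c _ (h6 a) _ p)
  exact ⟨t, _, h3, ⟨fun e => t2 (e ▸ one_mem _), (sq t).symm.trans (hA.elem.2 t t1)⟩, h3.conj g,
    fun e => t2 (e ▸ mem_zpowers z), mem_Cz.1 (h6 (hA.le t1)), hg⟩

namespace AC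
variable [Finite G] (h : AC G) (k : St G) (hs : SE.Inv s) (hu : SE.Inv u) (n : u ∉ Nz s)
include h k hs

theorem eq_sylow {T : Subgroup G} (hT : Syl 2 T ⊤) (l : T ≤ Cz s) : Cz s = T :=
  haveI := Fintype.ofFinite G
  haveI : Fact (Nat.Prime 2) := ⟨Nat.prime_two⟩
  hT.maximal (fun x => ⟨1, Subtype.ext ((sq (x : G)).trans (h.elem k hs x.2))⟩) le_top l

include hu n

theorem cu_inj (a : c ∈ Cz s) (b : d ∈ Cz s) (e : ((c * u : G) : G ⧸ Nz s) = (d * u : G)) : c = d := by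
  have := QuotientGroup.eq.1 e
  have c := mul_mem (inv_mem a) b
  exact inv_mul_eq_one.1 (h.DC k hs hu n ((mem_DD hu.2).2 ⟨Cz_le_Nz s c, by simpa [hu.inv, mul_assoc] using this⟩) c)

omit h k hs hu [Finite G] in
theorem cu_ne (a : c ∈ Nz s) : ((c * u : G) : G ⧸ Nz s) ≠ (1 : G) := fun e =>
  n (((Nz s).mul_mem_cancel_left a).1 (by simpa using QuotientGroup.eq.1 e.symm))

theorem exists_cu {x : G ⧸ Nz s} (a : x ≠ (1 : G)) : ∃ c ∈ Cz s, x = (c * u : G) := by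
  haveI := Fintype.ofFinite G
  let f : Option (Cz s) → G ⧸ Nz s := fun o => o.elim (1 : G) fun c => (c * u : G)
  have : Function.Injective f := by
    rintro (_ | a) (_ | b) e
    · rfl
    · exact (cu_ne n (Cz_le_Nz s b.2) e.symm).elim
    · exact (cu_ne n (Cz_le_Nz s a.2) e).elim
    · exact congrArg _ (Subtype.ext (h.cu_inj k hs hu n a.2 b.2 e))
  obtain ⟨_ | c, e⟩ := ((Nat.bijective_iff_injective_and_card f).2 ⟨this, by
    rw [Finite.card_option, h.card_C k hs, ← index_eq_card, h.index_N k hs]⟩).2 x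
  · exact (a e.symm).elim
  · exact ⟨c, c.2, e.symm⟩

omit h k hs n [Finite G] in
theorem D_smul (a : d ∈ DD (Nz s) u) : d • ((c * u : G) : G ⧸ Nz s) = (d * c * d⁻¹ * u : G) :=
  QuotientGroup.eq.2 (by simpa [hu.inv, mul_assoc] using ((mem_DD hu.2).1 (inv_mem a)).2)

omit h k hs hu n [Finite G] in
theorem smul_one_iff : g • ((1 : G) : G ⧸ Nz s) = (1 : G) ↔ g ∈ Nz s := by
  rw [MulAction.Quotient.smul_coe, QuotientGroup.eq]; simp

omit h k hs n [Finite G] in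
theorem smul_u_iff : g • (u : G ⧸ Nz s) = u ↔ u * g * u ∈ Nz s := by
  rw [MulAction.Quotient.smul_coe, eq_comm, QuotientGroup.eq]; simp [hu.inv, mul_assoc]

theorem D_fix (a : d ∈ DD (Nz s) u) (b : d ≠ 1) {x : G ⧸ Nz s} (e : d • x = x) : x = (1 : G) ∨ x = u := by
  refine or_iff_not_imp_left.2 fun p => ?_
  obtain ⟨c, q, rfl⟩ := h.exists_cu k hs hu n p
  rw [D_smul hu a] at e
  have := h.cu_inj k hs hu n (H1.conj_mem_of_mem_normalizer a.1 q) q e
  rw [show c = 1 from by_contra fun r => b (h.DC k hs hu n a ((h.cc k hs).mem q r (mul_inv_eq_iff_eq_mul.1 this))), one_mul]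

theorem norm3 {x y z : G ⧸ Nz s} (a : x ≠ y) (b : x ≠ z) (c : y ≠ z) :
    ∃ g : G, g • x = (1 : G) ∧ g • y = u ∧ g • z = (s * u : G) := by
  haveI := Fintype.ofFinite G
  obtain ⟨g, hg⟩ := MulAction.exists_smul_eq G x ((1 : G) : G ⧸ Nz s)
  obtain ⟨c1, p1, q1⟩ := h.exists_cu k hs hu n (x := g • y) fun e => a (smul_left_cancel g (hg.trans e.symm))
  obtain ⟨c2, p2, q2⟩ := h.exists_cu k hs hu n (x := g • z) fun e => b (smul_left_cancel g (hg.trans e.symm))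
  have p := mul_mem (inv_mem p1) p2
  obtain ⟨w, f, i⟩ := (h.emb hs).K_trans hu.2 n (Cz_le_Nz s p) ⟨fun e => c (smul_left_cancel g (by
    rw [q1, q2, inv_mul_eq_one.1 e])), h.elem k hs p⟩ (Cz_le_Nz s (self_mem_Cz s)) hs
  refine ⟨w * c1⁻¹ * g, ?_, ?_, ?_⟩
  · rw [mul_smul, hg, smul_one_iff]; exact mul_mem f.1 (inv_mem (Cz_le_Nz s p1))
  · rw [mul_smul, mul_smul, q1, MulAction.Quotient.smul_coe, smul_eq_mul, inv_mul_cancel_left, smul_u_iff hu]
    exact ((mem_DD hu.2).1 (KK.mem hu.2 f)).2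
  · rw [mul_smul, mul_smul, q2, MulAction.Quotient.smul_coe, smul_eq_mul, ← mul_assoc, D_smul hu (KK.mem hu.2 f), i]

omit hu n in
theorem sh3 : Sh3 G (G ⧸ Nz s) := by
  obtain ⟨u, n, hu⟩ := (h.emb hs).exists_out
  refine ⟨fun p q r p' q' r' => ?_, fun g x y z p q r e1 e2 e3 => ?_⟩
  · obtain ⟨g, a, b, c⟩ := h.norm3 k hs hu n p q r
    obtain ⟨g', a', b', c'⟩ := h.norm3 k hs hu n p' q' r'
    exact ⟨g'⁻¹ * g, by simp only [mul_smul, inv_smul_eq_iff, *, and_self]⟩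
  · obtain ⟨w, a, b, c⟩ := h.norm3 k hs hu n p r q
    have f : ∀ x : G ⧸ Nz s, g • x = x → (w * g * w⁻¹) • w • x = w • x := fun x e => by simp [mul_smul, e]
    by_contra i
    have j := f z e3
    rw [c] at j
    rcases h.D_fix k hs hu n ((mem_DD hu.2).2 ⟨smul_one_iff.1 (a ▸ f x e1), (smul_u_iff hu).1 (b ▸ f y e2)⟩)
      (by simpa using i) j with l | l
    · exact cu_ne n (Cz_le_Nz s (self_mem_Cz s)) l
    · exact hs.1 (h.cu_inj k hs hu n (self_mem_Cz s) (one_mem _) (by simpa using l))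

theorem D_ne : ∃ d ∈ DD (Nz s) u, d ≠ 1 := by
  have r3 := h.three_le hs
  by_contra! c
  rw [← h.card_D k hs hu n, eq_bot_iff_forall _ |>.2 c, card_bot] at r3; omega

theorem fix_D (x : G ⧸ Nz s) : (∀ d ∈ DD (Nz s) u, d • x = x) ↔ x = (1 : G) ∨ x = u := by
  obtain ⟨d, a, b⟩ := h.D_ne k hs hu n
  refine ⟨fun e => h.D_fix k hs hu n a b (e d a), ?_⟩
  rintro (rfl | rfl) d a
  exacts [smul_one_iff.2 a.1, (smul_u_iff hu).2 ((mem_DD hu.2).1 a).2]

theorem norm_D : normalizer (DD (Nz s) u : Set G) = DD (Nz s) u ⊔ zpowers u := by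
  have un : u ∈ normalizer (DD (Nz s) u : Set G) := mem_normalizer_of_cj_le fun y a => by
    have := DD_conj hu.2 (mem_cj.1 a)
    simpa [hu.inv, mul_assoc, hu.cancel, hu.2] using this
  refine le_antisymm (fun g a => ?_) (sup_le le_normalizer (zpowers_le.2 un))
  have f : ∀ g ∈ normalizer (DD (Nz s) u : Set G), ∀ x : G ⧸ Nz s, x = (1 : G) ∨ x = u → g • x = (1 : G) ∨ g • x = u :=
    fun g a x e => (h.fix_D k hs hu n _).1 fun d b => by
      have := (h.fix_D k hs hu n x).2 e _ (H1.conj_mem_of_mem_normalizer (inv_mem a) b)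
      rwa [inv_inv, mul_smul, mul_smul, inv_smul_eq_iff] at this
  have l : ∀ g ∈ normalizer (DD (Nz s) u : Set G), g ∈ Nz s → g ∈ DD (Nz s) u := fun g a b =>
    (mem_DD hu.2).2 ⟨b, (smul_u_iff hu).1 ((f g a _ (Or.inr rfl)).resolve_left (cu_ne n b))⟩
  rcases f g a _ (Or.inl rfl) with e | e
  · exact mem_sup_left (l g a (smul_one_iff.1 e))
  · have := l _ (mul_mem un a) (smul_one_iff.1 (by
      rw [mul_smul, e, MulAction.Quotient.smul_coe, smul_eq_mul, hu.2]))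
    simpa [hu.cancel] using mul_mem (mem_sup_right (mem_zpowers u)) (mem_sup_left this : _ ∈ DD (Nz s) u ⊔ zpowers u)

omit hu n in
theorem sl : ∃ (a : ℕ) (F : Type) (_ : Field F) (_ : Fintype F), 2 ≤ a ∧ Fintype.card F = 2 ^ a ∧ Nat.card (Cz s) = 2 ^ a ∧
    Nonempty (G ≃* Matrix.SpecialLinearGroup (Fin 2) F) := by
  haveI := Fintype.ofFinite G
  have r3 := h.three_le hs
  have c1 := h.card_C k hs
  have c2 := h.index_N k hs
  have S := h.sh3 k hs
  rw [index_eq_card, Nat.card_eq_fintype_card] at c2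
  have S' : Sh3 (MulAction.toPermHom G (G ⧸ Nz s)).range (G ⧸ Nz s) := ⟨fun p q r p' q' r' =>
    let ⟨g, e⟩ := S.tr p q r p' q' r'; ⟨⟨_, g, rfl⟩, e⟩, fun ⟨_, g, rfl⟩ x y z p q r e1 e2 e3 =>
      Subtype.ext (by rw [S.three g x y z p q r e1 e2 e3]; exact map_one _)⟩
  have three : ∀ X : Set (G ⧸ Nz s), 3 ≤ Nat.card X → ∃ x ∈ X, ∃ y ∈ X, ∃ z ∈ X, x ≠ y ∧ y ≠ z ∧ x ≠ z := fun X e => by
    rw [Nat.card_eq_fintype_card] at e
    obtain ⟨x, y, z, p, q, r⟩ := Fintype.two_lt_card_iff.1 e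
    exact ⟨x, x.2, y, y.2, z, z.2, Subtype.coe_ne_coe.2 p, Subtype.coe_ne_coe.2 r, Subtype.coe_ne_coe.2 q⟩
  obtain ⟨a, -, b, F, _, _, c, ⟨e⟩⟩ := Cfsg.Agent.S4702.result (by omega) (by
    have := even_of_inv (self_mem_Cz s) hs
    rw [Nat.odd_iff]; omega) _ (sh3_iff.1 S').1 fun g e =>
      let ⟨x, a, y, b, z, c, p, q, r⟩ := three _ e; S'.three g x y z p q r a b c
  refine ⟨a, F, _, _, ?_, c, by omega, ⟨(MonoidHom.ofInjective ((injective_iff_map_eq_one _).2 fun g i => ?_)).trans e⟩⟩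
  · by_contra i
    have := Nat.pow_le_pow_right two_pos (show a ≤ 1 by omega)
    omega
  · obtain ⟨x, -, y, -, z, -, p, q, r⟩ := three Set.univ (by rw [Nat.card_univ, Nat.card_eq_fintype_card]; omega)
    exact S.three g x y z p q r (Equiv.congr_fun i x) (Equiv.congr_fun i y) (Equiv.congr_fun i z)

end AC

theorem st_of_elem (h : ∀ t : G, orderOf t = 2 → IsMulCommutative (centralizer ({t} : Set G)) ∧ ∀ c ∈ centralizer ({t} : Set G), c ^ 2 = 1) :
    (∀ t : G, SE.Inv t → ∀ a b, a * t = t * a → b * t = t * b → a * b = b * a) ∧ St G := by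
  have ab : ∀ t : G, SE.Inv t → ∀ a b, a * t = t * a → b * t = t * b → a * b = b * a := fun t i a b p q =>
    H1.comm_of_mem (h t (inv_iff_orderOf.1 i)).1 (mem_Cz.2 p) (mem_Cz.2 q)
  exact ⟨ab, fun s i e a b => (Cz_eq_of_ab ab i ⟨b, (sq e).symm.trans ((h s (inv_iff_orderOf.1 i)).2 e a)⟩ a).le.trans (Cz_le_Nz s)⟩

theorem ac_elem [Finite G] (T : Sylow 2 G) (hnc : ¬ IsCyclic (T : Subgroup G)) (hnn : ¬ (T : Subgroup G).Normal)
    (h : ∀ t : G, orderOf t = 2 → IsMulCommutative (centralizer ({t} : Set G)) ∧ ∀ c ∈ centralizer ({t} : Set G), c ^ 2 = 1) :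
    AC G ∧ St G ∧ ∃ s, SE.Inv s ∧ (T : Subgroup G) = Cz s :=
  haveI : Fact (Nat.Prime 2) := ⟨Nat.prime_two⟩
  let ⟨a, b⟩ := st_of_elem h
  let ⟨c, s, d, e⟩ := ac_of_sylow a T hnc hnn
  ⟨c, b, s, d, (c.eq_sylow b d (syl_top_of_sylow T) e).symm⟩

/-- in characteristic two `SL₂ = PSL₂` -/
noncomputable def slPsl (F : Type*) [Field F] (h : (2 : F) = 0) :
    Matrix.SpecialLinearGroup (Fin 2) F ≃* Matrix.ProjectiveSpecialLinearGroup (Fin 2) F :=
  MulEquiv.ofBijective (QuotientGroup.mk' _) ⟨(injective_iff_map_eq_one _).2 fun g e =>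
    (H5.mem_center_SL2.1 ((QuotientGroup.eq_one_iff g).1 e)).elim id fun e => e.trans (H5.neg_one_eq_one_iff.2 h),
    QuotientGroup.mk'_surjective _⟩

theorem two_eq_zero {F : Type*} [Field F] [Fintype F] {a : ℕ} (ha : a ≠ 0) (h : Fintype.card F = 2 ^ a) : (2 : F) = 0 :=
  H5.even_iff_two_eq_zero.1 (h ▸ (Nat.even_pow.2 ⟨even_two, ha⟩))

end H3
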