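import Cfsg.Agent.H3.Ab4

/-!
H3.Ab5: groups in which the centralizer of every involution is abelian are `SL₂(2^a) × A`.
-/

set_option autoImplicit false
open Cfsg Subgroup Finset
open scoped Classical commutatorElement

namespace H3
open SE H9

universe w
variable {G : Type*} [Group G] {s t u v x y e g d c : G} {A : Subgroup G}

namespace AC
variable [Finite G] (h : AC G)
include h

theorem no_odd_trans (k : St G) {M : Subgroup G} (ho : Odd (Nat.card M))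
    (ht : ∀ s t : G, SE.Inv s → SE.Inv t → ∃ m ∈ M, m * s * m⁻¹ = t) : False := by
  haveI := Fintype.ofFinite G
  obtain ⟨s, t, -, hs, a, -, b, c, -⟩ := h.ex
  obtain ⟨u, n, hu⟩ := (h.emb hs).exists_out
  have m := Cz_le_Nz s (self_mem_Cz s)
  have mc : ∀ x ∈ M, x ∈ Cz s → x = 1 := fun x p q => eq_one_of_sq (odd_orderOf ho p) (h.elem k hs q)
  obtain ⟨x, x1, x2⟩ := ht s t hs a
  have x3 : x ∈ Nz s := (h.emb hs).ti s m hs x (x2 ▸ Cz_le_Nz s (mem_Cz.2 c))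
  have x4 : x ∉ Cz s := fun e => b (by rw [← x2, mem_Cz.1 e]; simp)
  have x5 : x ≠ 1 := fun e => x4 (e ▸ one_mem _)
  obtain ⟨β, b1, b2⟩ : ∃ β : G ⧸ Nz s, β ≠ (1 : G) ∧ x • β = β := by
    obtain ⟨w, p, q⟩ := h.exists_dec' hs hu n (inv_mem x3)
    obtain ⟨c, e⟩ := (Finite.injective_iff_surjective (f := fun c : Cz s => (⟨c⁻¹ * (x * c * x⁻¹), mul_mem (inv_mem c.2)
      (H1.conj_mem_of_mem_normalizer x3 c.2)⟩ : Cz s))).1 (fun c d e => by
        replace e := congrArg Subtype.val e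
        simp only [Subgroup.coe_inv] at e
        by_contra f
        refine x4 ((h.cc k hs).mem (mul_mem d.2 (inv_mem c.2)) (fun e => f (Subtype.ext (mul_inv_eq_one.1 e).symm)) ?_)
        rw [show x * (d * (c : G)⁻¹) = d * ((d : G)⁻¹ * (x * d * x⁻¹)) * x * (c : G)⁻¹ by group, ← e]; group) ⟨_, q⟩
    replace e : (c : G)⁻¹ * (x * c * x⁻¹) = w⁻¹ * x⁻¹ := congrArg Subtype.val e
    refine ⟨(c * u : G), cu_ne n (Cz_le_Nz s c.2), QuotientGroup.eq.2 ?_⟩
    have := ((mem_DD hu.2).1 (KK.mem hu.2 p)).2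
    rw [show w = (w⁻¹ * x⁻¹ * x)⁻¹ by group, ← e] at this
    simpa [hu.inv, mul_assoc] using this
  have S := h.sh3 k hs
  have fx : ∀ γ : G ⧸ Nz s, γ ≠ β → x • γ = γ → γ = (1 : G) := fun γ p q => by_contra fun r =>
    x5 (S.three x _ _ _ p b1 r q b2 (smul_one_iff.2 x3))
  have fy : ∀ y ∈ M, y ∈ Nz s → y • β = β := fun y p q => by_contra fun r => b1 (by
    obtain ⟨w, a1, a2⟩ := h.exists_dec' hs hu n x3
    obtain ⟨v, a3, a4⟩ := h.exists_dec' hs hu n q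
    have wv : w * v = v * w := by
      have := h.D_inv k hs hu n (mul_mem (KK.mem hu.2 a3) (KK.mem hu.2 a1))
      rw [show u * (v * w) * u = u * v * u * (u * w * u) by simp [mul_assoc, hu.cancel], a3.2, a1.2, ← mul_inv_rev] at this
      exact inv_injective this
    have := mc (y⁻¹ * x⁻¹ * y * x) (mul_mem (mul_mem (mul_mem (inv_mem p) (inv_mem x1)) p) x1) (by
      rw [show y⁻¹ * x⁻¹ * y * x = (v⁻¹ * y)⁻¹ * (v⁻¹ * (w⁻¹ * x)⁻¹ * v⁻¹⁻¹) * ((w * v)⁻¹ * (v * w)) *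
        (w⁻¹ * (v⁻¹ * y) * w⁻¹⁻¹) * (w⁻¹ * x) by group, wv, inv_mul_cancel, mul_one]
      exact mul_mem (mul_mem (mul_mem (inv_mem a4) (H1.conj_mem_of_mem_normalizer (inv_mem a3.1) (inv_mem a2)))
        (H1.conj_mem_of_mem_normalizer (inv_mem a1.1) a4)) a2)
    have e := fx _ r (by rw [← mul_smul, show x * y = x * y * (y⁻¹ * x⁻¹ * y * x) by rw [this, mul_one],
      show x * y * (y⁻¹ * x⁻¹ * y * x) = y * x by group, mul_smul, b2])
    rw [← inv_smul_smul y β, e, smul_one_iff.2 (inv_mem q)])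
  obtain ⟨g, rfl⟩ := QuotientGroup.mk_surjective β
  obtain ⟨z, z1, z2⟩ := ht s _ hs (hs.conj g)
  have z3 : z • ((1 : G) : G ⧸ Nz s) = g := QuotientGroup.eq.2 (Cz_le_Nz s (mem_Cz.2 (by
    simp only [smul_eq_mul, mul_one]
    rw [show z⁻¹ * g * s = z⁻¹ * (g * s * g⁻¹) * g by group, ← z2]; group)))
  have z4 := fy (z⁻¹ * x * z) (mul_mem (mul_mem (inv_mem z1) x1) z1) (smul_one_iff.1 (by
    rw [mul_smul, mul_smul, z3, b2, ← z3, inv_smul_smul]))
  rw [mul_smul, mul_smul, inv_smul_eq_iff] at z4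
  have := fx _ (fun e => b1 (smul_left_cancel z (e.trans z3.symm))) z4
  exact b1 (by rw [← z3, smul_one_iff.2 (mem_of_sq (odd_orderOf ho z1) (smul_one_iff.1 (by rw [mul_smul, z3, this])))])

theorem odd_center : Odd (Nat.card (center G)) := odd_of_no_inv fun t a b => by
  obtain ⟨-, u, -, -, -, -, c⟩ := h.ex' b
  exact c (mem_center_iff.1 a u)

theorem comm_of_quot (ht : t * t = 1) (e : (x : G ⧸ center G) * t = t * x) : x * t = t * x := by
  have a : (t * x)⁻¹ * (x * t) ∈ center G := QuotientGroup.eq.1 e.symm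
  refine (inv_mul_eq_one.1 (eq_one_of_sq (odd_orderOf h.odd_center a) ?_)).symm
  have b := mem_center_iff.1 a
  generalize hz : (t * x)⁻¹ * (x * t) = z at a b
  have c : x * t * x⁻¹ = t * z := by rw [mul_inv_eq_iff_eq_mul, mul_assoc, ← b, ← hz]; group
  have d : t * z * (t * z) = 1 := by rw [← c, conj_mul, ht]; simp
  rwa [mul_assoc, ← mul_assoc z, ← b, mul_assoc, tt_cancel ht] at d

theorem inv_quot (ht : SE.Inv t) : SE.Inv (t : G ⧸ center G) :=
  ⟨fun e => ht.1 (eq_one_of_sq (odd_orderOf h.odd_center ((QuotientGroup.eq_one_iff t).1 e)) ht.2), by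
    rw [← QuotientGroup.mk_mul, ht.2, QuotientGroup.mk_one]⟩

theorem lift_inv {a : G ⧸ center G} (ha : SE.Inv a) : ∃ t : G, SE.Inv t ∧ (t : G ⧸ center G) = a := by
  obtain ⟨x, rfl⟩ := QuotientGroup.mk_surjective a
  have b : x * x ∈ center G := (QuotientGroup.eq_one_iff _).1 ha.2
  obtain ⟨n, c⟩ := exists_sqrt (odd_orderOf h.odd_center b)
  have d := pow_mem b n
  have e : ((x * ((x * x) ^ n)⁻¹ : G) : G ⧸ center G) = x := QuotientGroup.eq.2 (by simpa using d)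
  refine ⟨_, ⟨fun f => ha.1 (by rw [← e, f, QuotientGroup.mk_one]), ?_⟩, e⟩
  generalize (x * x) ^ n = z at c d
  rw [mul_assoc, ← mul_assoc z⁻¹, ← mem_center_iff.1 (inv_mem d), mul_assoc, ← mul_assoc, ← c]; group

theorem quot : AC (G ⧸ center G) := by
  refine ⟨fun a p x y q r => ?_, ?_⟩
  · obtain ⟨t, i, rfl⟩ := h.lift_inv p
    obtain ⟨x, rfl⟩ := QuotientGroup.mk_surjective x
    obtain ⟨y, rfl⟩ := QuotientGroup.mk_surjective y
    rw [← QuotientGroup.mk_mul, h.ab t i x y (h.comm_of_quot i.2 q) (h.comm_of_quot i.2 r), QuotientGroup.mk_mul]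
  · obtain ⟨s, t, u, a, b, c, d, e, f⟩ := h.ex
    refine ⟨s, t, u, h.inv_quot a, h.inv_quot b, h.inv_quot c, fun i => d ?_, by simp only [← QuotientGroup.mk_mul, e],
      fun i => f (h.comm_of_quot a.2 i)⟩
    refine inv_mul_eq_one.1 (eq_one_of_sq (odd_orderOf h.odd_center (QuotientGroup.eq.1 i)) ?_)
    rw [a.inv, mul_assoc, ← mul_assoc t, e, mul_assoc, a.cancel, b.2]

theorem st_quot (q : ∀ t : G, SE.Inv t → ∀ c ∈ Cz t, c * c ∈ center G) : St (G ⧸ center G) := fun a p x i j => by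
  obtain ⟨t, l, rfl⟩ := h.lift_inv p
  obtain ⟨x, rfl⟩ := QuotientGroup.mk_surjective x
  exact (h.quot.Ceq p ⟨j, (QuotientGroup.eq_one_iff _).2 (q t l x (mem_Cz.2 (h.comm_of_quot l.2 (mem_Cz.1 i))))⟩ i).le.trans
    (Cz_le_Nz _)

theorem eq_top (hs : SE.Inv s) (h1 : Cz s ≤ A) (h2 : ∀ t, SE.Inv t → t ∈ A) : A = ⊤ := by
  refine eq_top_iff.2 fun g _ => ?_
  obtain ⟨u, n, hu⟩ := (h.emb hs).exists_out
  by_cases a : g ∈ Nz s
  · obtain ⟨w, p, q⟩ := h.exists_dec' hs hu n a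
    have := h2 (w * u) ⟨fun e => n (by rw [eq_inv_of_mul_eq_one_right e]; exact inv_mem p.1), KK.sq hu.2 p⟩
    simpa [mul_assoc, hu.cancel] using mul_mem (mul_mem this (h2 u hu)) (h1 q)
  · obtain ⟨t, p, q⟩ := (h.emb hs).exists_inv_coset a
    obtain ⟨w, p', q'⟩ := h.exists_dec' hs hu n q
    have := h2 (w * u) ⟨fun e => n (by rw [eq_inv_of_mul_eq_one_right e]; exact inv_mem p'.1), KK.sq hu.2 p'⟩
    simpa [mul_assoc, hu.cancel] using mul_mem (h2 t p) (mul_mem (mul_mem this (h2 u hu)) (h1 q'))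

theorem sub (hs : SE.Inv s) (h1 : Cz s ≤ A) (h2 : ¬ A ≤ Nz s) : AC A := by
  have i : ∀ {t : A}, SE.Inv t ↔ SE.Inv (t : G) := by
    intro t; simp only [SE.Inv, ne_eq, Subtype.ext_iff, Subgroup.coe_mul, Subgroup.coe_one]
  refine ⟨fun t p a b q r => Subtype.ext (h.ab t (i.1 p) a b (congrArg Subtype.val q) (congrArg Subtype.val r)), ?_⟩
  obtain ⟨t, -, a, -, b, c, -⟩ := h.ex' hs
  obtain ⟨g, d, e⟩ := SetLike.not_le_iff_exists.1 h2
  have m := h1 (self_mem_Cz s)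
  exact ⟨⟨s, m⟩, ⟨t, h1 (mem_Cz.2 c)⟩, ⟨_, mul_mem (mul_mem d m) (inv_mem d)⟩, i.2 hs, i.2 a, i.2 (hs.conj g),
    by simpa using b, Subtype.ext c, fun f => e ((h.emb hs).ti s (Cz_le_Nz s (self_mem_Cz s)) hs g
      (Cz_le_Nz s (mem_Cz.2 (congrArg Subtype.val f))))⟩

end AC

theorem AC.sq_center : ∀ (n : ℕ) (G : Type w) [Group G] [Finite G], Nat.card G = n → AC G →
    ∀ t : G, SE.Inv t → ∀ c ∈ Cz t, c * c ∈ center G := by
  intro n
  induction n using Nat.strong_induction_on with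
  | _ n ih =>
  intro G _ _ hn h
  haveI := Fintype.ofFinite G
  by_cases hZ : center G = ⊥
  swap
  · intro t ht c hc
    have := ih _ (hn ▸ H1.card_quotient_lt hZ) _ rfl h.quot t (h.inv_quot ht) c (mem_Cz.2 (by
      simp only [← QuotientGroup.mk_mul, mem_Cz.1 hc]))
    have e := h.eq_top ht (Cz_le_of_ab h.ab ht (mul_mem hc hc)) fun v i => mem_Cz.2 (h.comm_of_quot i.2
      (mem_center_iff.1 this v).symm).symm
    exact mem_center_iff.2 fun g => mem_Cz.1 (e.ge (mem_top g))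
  by_cases k : St G
  · exact fun t ht c hc => h.elem k ht hc ▸ one_mem _
  exfalso
  simp only [St, not_forall] at k
  obtain ⟨s, hs, e, e1, e2, e3⟩ := k
  have l := Cz_le_of_ab h.ab hs e1
  have hL := h.sub hs l e3
  have ne : Cz e ≠ ⊤ := fun f => e2 (mem_bot.1 (hZ ▸ mem_center_iff.2 fun g => mem_Cz.1 (f.ge (mem_top g))))
  have i : ∀ {t : Cz e}, SE.Inv t ↔ SE.Inv (t : G) := by
    intro t; simp only [SE.Inv, ne_eq, Subtype.ext_iff, Subgroup.coe_mul, Subgroup.coe_one]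
  have m := l (self_mem_Cz s)
  have E : Emb (Cz e) := ⟨⟨s, m, hs⟩, fun t p q g r => by
    obtain ⟨a, b⟩ := hL.cnj (s := ⟨s, m⟩) (t := ⟨t, p⟩) (i.2 hs) (i.2 q)
    obtain ⟨c, d⟩ := hL.cnj (s := ⟨s, m⟩) (t := ⟨_, r⟩) (i.2 hs) (i.2 (q.conj g))
    replace b : a * s * (a : G)⁻¹ = t := congrArg Subtype.val b
    replace d : c * s * (c : G)⁻¹ = g * t * g⁻¹ := congrArg Subtype.val d
    have := l (x := (c : G)⁻¹ * g * a) (mem_Cz.2 (by
      rw [show (c : G)⁻¹ * g * a * s = (c : G)⁻¹ * (g * (a * s * (a : G)⁻¹) * g⁻¹) * g * a by group, b, ← d]; group))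
    simpa [mul_assoc] using mul_mem (mul_mem c.2 this) (inv_mem a.2), ne⟩
  obtain ⟨u, f, hu⟩ := E.exists_out
  refine hL.quot.no_odd_trans (hL.st_quot (ih _ (hn ▸ card_lt_of_ne_top ne) _ rfl hL))
    (M := ((DD (Cz e) u).subgroupOf (Cz e)).map (QuotientGroup.mk' _)) (Odd.of_dvd_nat (E.odd_DD hu.2 f)
      ((card_map_dvd _ _).trans (Nat.card_congr (subgroupOfEquivOfLe DD_le).toEquiv).dvd)) fun a b p q => ?_
  obtain ⟨a, p', rfl⟩ := hL.lift_inv p
  obtain ⟨b, q', rfl⟩ := hL.lift_inv q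
  obtain ⟨w, r, j⟩ := E.K_trans hu.2 f a.2 (i.1 p') b.2 (i.1 q')
  exact ⟨_, ⟨⟨w, r.1⟩, KK.mem hu.2 r, rfl⟩, congrArg QuotientGroup.mk (Subtype.ext j : (⟨w, r.1⟩ * a * ⟨w, r.1⟩⁻¹ : Cz e) = b)⟩

theorem sl_sylow_cyclic {F : Type*} [Field F] [Fintype F] (h : (2 : F) = 0) {p : ℕ} [hp : Fact p.Prime] (h2 : p ≠ 2)
    {P : Subgroup (H5.SL2 F)} (hP : IsPGroup p P) : IsCyclic P := by
  haveI : Fact (Nat.Prime 2) := ⟨Nat.prime_two⟩
  haveI : CharP F 2 := CharTwo.of_one_ne_zero_of_two_eq_zero one_ne_zero h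
  have a := H5.not_dvd_card_of_isPGroup (hP.map H5.mkS) Nat.prime_two h2.symm
  obtain ⟨n, T, D, b, c⟩ := H5.le_tor_of_odd 2 a a
  have := b.isCyclic_SL
  exact isCyclic_of_le (map_le_iff_le_comap.1 c)

theorem AC.main [Finite G] (h : AC G) : ∃ (a : ℕ) (F : Type) (_ : Field F) (_ : Fintype F), 2 ≤ a ∧ Fintype.card F = 2 ^ a ∧
    Nonempty (G ≃* Matrix.SpecialLinearGroup (Fin 2) F × center G) := by
  obtain ⟨s, -, -, hs, -⟩ := h.quot.ex
  obtain ⟨a, F, _, _, a2, c, -, ⟨e⟩⟩ := h.quot.sl (h.st_quot (AC.sq_center _ G rfl h)) hs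
  refine ⟨a, F, inferInstance, inferInstance, a2, c, ?_⟩
  have f2 := two_eq_zero (by omega) c
  have pf : commutator (H5.SL2 F) = ⊤ := by
    obtain ⟨x, x1, x2⟩ : ∃ x : F, x ≠ 0 ∧ x ≠ 1 := by
      have := Nat.pow_le_pow_right two_pos a2
      obtain ⟨x, p⟩ := exists_mem_notMem_of_card_lt_card (s := ({0, 1} : Finset F)) (t := univ)
        (card_le_two.trans_lt (by rw [card_univ]; omega))
      exact ⟨x, by simpa using p.2⟩
    exact Matrix.SL2.commutator_eq_top x1 fun i => x2 (pow_eq_zero_iff two_ne_zero |>.1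
      (show (x - 1) ^ 2 = 0 by linear_combination i + (1 - x) * f2) |> sub_eq_zero.1)
  let π : G →* H5.SL2 F := e.toMonoidHom.comp (QuotientGroup.mk' _)
  have π1 : Function.Surjective π := e.surjective.comp (QuotientGroup.mk'_surjective _)
  have π2 : ∀ g, π g = 1 ↔ g ∈ center G := fun g => by simp [π]
  have π3 : (commutator G).map π = ⊤ := by rw [map_commutator_eq, MonoidHom.range_eq_top.2 π1]; exact pf
  have dec : ∀ g, ∃ x ∈ commutator G, x⁻¹ * g ∈ center G := fun g => by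
    obtain ⟨x, p, q⟩ := π3.ge (mem_top (π g))
    exact ⟨x, p, (π2 _).1 (by simp [show π x = π g from q])⟩
  have pp : ⁅commutator G, commutator G⁆ = commutator G := le_antisymm (commutator_mono le_top le_top)
    (commutator_le.2 fun a _ b _ => by
      obtain ⟨x, p, q⟩ := dec a
      obtain ⟨y, p', q'⟩ := dec b
      have : ⁅a, b⁆ = ⁅x, y⁆ := by
        obtain ⟨z, rfl⟩ : ∃ z, a = x * z := ⟨x⁻¹ * a, by simp⟩
        obtain ⟨w, rfl⟩ : ∃ z, b = y * z := ⟨y⁻¹ * b, by simp⟩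
        rw [inv_mul_cancel_left] at q q'
        rw [commutatorElement_def, commutatorElement_def, show x * z * (y * w) * (x * z)⁻¹ * (y * w)⁻¹ =
          x * (z * (y * w)) * z⁻¹ * (x⁻¹ * w⁻¹) * y⁻¹ by group, ← mem_center_iff.1 q, mem_center_iff.1 (inv_mem q')]; group
      exact this ▸ commutator_mem_commutator p p')
  let σ := π.comp (commutator G).subtype
  have σ1 : Function.Surjective σ := fun y => let ⟨x, p, q⟩ := π3.ge (mem_top y); ⟨⟨x, p⟩, q⟩
  have σ2 : σ.ker = ⊥ := by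
    refine card_eq_one.1 (by_contra fun i => ?_)
    obtain ⟨p, p1, p2⟩ := Nat.exists_prime_and_dvd i
    haveI := Fact.mk p1
    refine Cfsg.Agent.S0102.result pf (fun P => sl_sylow_cyclic f2 ?_ P.2) σ σ1 (fun x a => mem_center_iff.2 fun y =>
      Subtype.ext (mem_center_iff.1 ((π2 _).1 a) y)) ?_ p2
    · rintro rfl
      obtain ⟨x, q, r⟩ := exists_inv_of_even p2
      exact r.1 (Subtype.ext (eq_one_of_sq (odd_orderOf h.odd_center ((π2 _).1 q)) (congrArg Subtype.val r.2)))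
    · exact map_injective (subtype_injective _) (by rw [map_subtype_commutator, pp, ← MonoidHom.range_eq_map, range_subtype])
  let ι := (MulEquiv.ofBijective σ ⟨(MonoidHom.ker_eq_bot_iff σ).1 σ2, σ1⟩).symm
  let φ : H5.SL2 F × center G →* G := MonoidHom.noncommCoprod ((commutator G).subtype.comp ι.toMonoidHom) (center G).subtype
    fun a b => mem_center_iff.1 b.2 _
  refine ⟨(MulEquiv.ofBijective φ ⟨(injective_iff_map_eq_one _).2 ?_, fun g => ?_⟩).symm⟩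
  · rintro ⟨x, z⟩ i
    have i : (ι x : G) * z = 1 := i
    have j : ι x = 1 := mem_bot.1 (σ2.le ((π2 (ι x)).2 (eq_inv_of_mul_eq_one_left i ▸ inv_mem z.2)))
    rw [j] at i
    exact Prod.ext ((map_eq_one_iff _ ι.injective).1 j) (Subtype.ext (by simpa using i))
  · obtain ⟨x, p, q⟩ := dec g
    exact ⟨(ι.symm ⟨x, p⟩, ⟨_, q⟩), by simp [φ]⟩

end H3
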