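import Cfsg.Agent.H1.Simp
import Cfsg.Agent.H1.Misc2
import Cfsg.Agent.H1.Misc3
import Cfsg.Agent.H1.Frob

/-!
H3.SelfC: groups with a self-centralizing element of prime order.
-/

set_option autoImplicit false
open Cfsg Subgroup
open scoped Pointwise commutatorElement

namespace H3

universe u
variable {G : Type u} [Group G] [Finite G] {p : ℕ} [hp : Fact p.Prime]

theorem card_sub_eq_sylow (P : Sylow p G) (hP : Nat.card P = p) :
    Nat.card {H : Subgroup G // Nat.card H = p} = Nat.card (Sylow p G) := by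
  refine (Nat.card_eq_of_bijective (fun Q : Sylow p G => (⟨Q, (Q.card_eq_multiplicity.trans
    P.card_eq_multiplicity.symm).trans hP⟩ : {H : Subgroup G // Nat.card H = p}))
    ⟨fun a b e => Sylow.ext (congrArg Subtype.val e), fun ⟨H, hH⟩ => ?_⟩).symm
  obtain ⟨Q, hQ⟩ := ((H1.isSylowIn_top P).of_card_le (U := H)
    (IsPGroup.of_card (n := 1) (by simpa using hH)) le_top (by rw [hP, hH])).exists_sylow_top
  exact ⟨Q, Subtype.ext hQ⟩

structure SC (p : ℕ) (x : G) : Prop where
  ord : orderOf x = p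
  cen : centralizer {x} = zpowers x

namespace SC
variable {x : G} (h : SC p x)
include h

omit [Finite G] hp in
theorem card : Nat.card (zpowers x) = p := (Nat.card_zpowers x).trans h.ord

theorem syl : H1.IsSylowIn p (zpowers x) ⊤ := by
  obtain ⟨P, hP, -⟩ := H1.card_formula h.ord h.cen
  exact hP ▸ H1.isSylowIn_top P

omit [Finite G] hp in
theorem cenP : centralizer (zpowers x : Set G) = zpowers x :=
  le_antisymm ((centralizer_le (by simp)).trans h.cen.le)
    (fun _ ha _ hb => H1.comm_of_mem inferInstance hb ha)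

theorem count : ∃ e, Nat.card (normalizer (zpowers x : Set G)) = p * e ∧
    (zpowers x).relIndex (normalizer (zpowers x : Set G)) = e ∧
    e * Nat.card {C : ConjClasses G // ∃ g ∈ C.carrier, orderOf g = p} = p - 1 := by
  obtain ⟨P, hP, e⟩ := H1.card_formula h.ord h.cen
  have e1 := H1.card_mul_relIndex (le_normalizer (H := zpowers x))
  rw [h.card] at e1
  refine ⟨_, e1.symm, rfl, ?_⟩
  rw [← H1.card_sylow_mul P, hP, ← e1] at e
  simp only [ConjClasses.mem_carrier_iff_mk_eq]
  exact Nat.eq_of_mul_eq_mul_right (Nat.mul_pos hp.out.pos (Nat.card_pos (α := Sylow p G)))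
    (by linarith)

theorem card_sub : Nat.card {H : Subgroup G // Nat.card H = p} =
    (normalizer (zpowers x : Set G)).index := by
  obtain ⟨P, hP⟩ := h.syl.exists_sylow_top
  rw [card_sub_eq_sylow P (hP ▸ h.card), h.syl.card_sylow]

theorem le_of_ne {S : Subgroup G} {y : G} (hy : y ∈ zpowers x) (h1 : y ≠ 1) (hS : y ∈ S) :
    zpowers x ≤ S := by
  have := Fact.mk (h.card ▸ hp.out)
  rcases (S.subgroupOf (zpowers x)).eq_bot_or_eq_top_of_prime_card with e | e
  · exact absurd (congrArg Subtype.val ((eq_bot_iff_forall _).1 e ⟨y, hy⟩ hS)) h1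
  · exact subgroupOf_eq_top.1 e

theorem le_normal {S : Subgroup G} [S.Normal] (hS : p ∣ Nat.card S) : zpowers x ≤ S := by
  obtain ⟨y, hy, h1⟩ := H1.exists_mem_ne_one
    (mt (h.syl.inf_normal le_top le_normalizer_of_normal).eq_bot_iff.1 (not_not.2 hS))
  exact h.le_of_ne hy.1 h1 hy.2

theorem sup_top {S : Subgroup G} [S.Normal] (hS : p ∣ Nat.card S) :
    S ⊔ normalizer (zpowers x : Set G) = ⊤ :=
  (h.syl.of_le (h.le_normal hS) le_top).frattini_top

theorem comm_N {a b : G} (ha : a ∈ normalizer (zpowers x : Set G))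
    (hb : b ∈ normalizer (zpowers x : Set G)) : ⁅a, b⁆ ∈ zpowers x := by
  rw [← h.cenP]
  have : (⟨⁅a, b⁆, mul_mem (mul_mem (mul_mem ha hb) (inv_mem ha)) (inv_mem hb)⟩ :
      normalizer (zpowers x : Set G)) ∈ (zpowers x).normalizerMonoidHom.ker := by
    rw [MonoidHom.mem_ker, show (⟨⁅a, b⁆, _⟩ : normalizer (zpowers x : Set G)) =
      ⁅(⟨a, ha⟩ : normalizer (zpowers x : Set G)), ⟨b, hb⟩⁆ from rfl, map_commutatorElement,
      commutatorElement_eq_one_iff_mul_comm]
    exact (IsCyclic.mulAutMulEquiv (zpowers x)).injective (by simp only [map_mul, mul_comm])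
  rwa [normalizerMonoidHom_ker] at this

theorem commutator_le {S : Subgroup G} [S.Normal] (hS : p ∣ Nat.card S) : commutator G ≤ S := by
  refine Subgroup.commutator_le.2 fun a _ b _ => ?_
  obtain ⟨s, hs, n, hn, rfl⟩ := mem_sup_of_normal_left.1 (h.sup_top hS ▸ mem_top a)
  obtain ⟨s', hs', n', hn', rfl⟩ := mem_sup_of_normal_left.1 (h.sup_top hS ▸ mem_top b)
  rw [← QuotientGroup.eq_one_iff, ← QuotientGroup.mk'_apply, map_commutatorElement, map_mul,
    map_mul, QuotientGroup.mk'_apply S s, QuotientGroup.mk'_apply S s',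
    (QuotientGroup.eq_one_iff s).2 hs, (QuotientGroup.eq_one_iff s').2 hs', one_mul, one_mul,
    ← map_commutatorElement, QuotientGroup.mk'_apply, QuotientGroup.eq_one_iff]
  exact h.le_normal hS (h.comm_N hn hn')

theorem index_dvd {S : Subgroup G} [S.Normal] (hS : p ∣ Nat.card S) :
    S.index ∣ (zpowers x).relIndex (normalizer (zpowers x : Set G)) := by
  rw [← relIndex_top_right, ← h.sup_top hS, relIndex_sup_left]
  exact relIndex_dvd_of_le_left _ (h.le_normal hS)

theorem inf_bot {S : Subgroup G} (hS : ¬ p ∣ Nat.card S) : S ⊓ zpowers x = ⊥ :=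
  H1.inf_eq_bot_of_coprime (h.card.symm ▸ ((Nat.Prime.coprime_iff_not_dvd hp.out).2 hS).symm)

theorem inf_N {S : Subgroup G} [S.Normal] (hS : ¬ p ∣ Nat.card S) :
    normalizer (zpowers x : Set G) ⊓ S = ⊥ := by
  refine (eq_bot_iff_forall _).2 fun s hs => (eq_bot_iff_forall _).1 (h.inf_bot hS) s ⟨hs.2, ?_⟩
  exact h.cenP.le (H1.mem_centralizer_of_mem_normalizer le_normalizer_of_normal
    (inf_comm S _ ▸ h.inf_bot hS) hs.2 hs.1)

theorem le_commutator {S : Subgroup G} [S.Normal] (hS : ¬ p ∣ Nat.card S) : S ≤ commutator G :=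
  fun k hk => by
    obtain ⟨y, -, rfl⟩ := H1.exists_eq_commutator_of_fpf (s := x)
      (le_normalizer_of_normal (mem_top x)) (h.cen ▸ h.inf_bot hS) hk
    exact commutator_mem_commutator (mem_top y) (mem_top x)

theorem dich {L : Subgroup G} (hx : x ∈ L) :
    zpowers x ≤ ⁅L, L⁆ ∨ normalizer (zpowers x : Set G) ⊓ L = zpowers x := by
  refine or_iff_not_imp_right.2 fun hc => ?_
  obtain ⟨n, hn, h1⟩ := SetLike.not_le_iff_exists.1 fun e =>
    hc (le_antisymm e (le_inf le_normalizer (zpowers_le.2 hx)))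
  refine h.le_of_ne (y := ⁅n, x⁆) (mul_mem (H1.conj_mem_of_mem_normalizer hn.1 (mem_zpowers x))
    (inv_mem (mem_zpowers x))) (fun e => h1 ?_) (commutator_mem_commutator hn.2 hx)
  rw [← h.cen, mem_centralizer_singleton_iff]
  exact commutatorElement_eq_one_iff_mul_comm.1 e

theorem dvd_of_le {S : Subgroup G} (hS : zpowers x ≤ S) : p ∣ Nat.card S :=
  h.card ▸ card_dvd_of_le hS

theorem dvd_comm {t : ℕ}
    (ht : Nat.card {C : ConjClasses G // ∃ g ∈ C.carrier, orderOf g = p} = t) (h1 : t ≠ p - 1) :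
    p ∣ Nat.card (commutator G) := by
  obtain ⟨e, -, e2, e3⟩ := h.count
  rcases h.dich (mem_top x) with a | a
  · exact h.dvd_of_le a
  · rw [inf_top_eq] at a
    rw [a, relIndex_self] at e2
    rw [← e2, one_mul, ht] at e3
    exact absurd e3 h1

theorem index_comm {t : ℕ}
    (ht : Nat.card {C : ConjClasses G // ∃ g ∈ C.carrier, orderOf g = p} = t) (h1 : t = p - 1) :
    (commutator G).index = p ∧ ¬ p ∣ Nat.card (commutator G) ∧
      normalizer (zpowers x : Set G) = zpowers x := by
  obtain ⟨e, -, e2, e3⟩ := h.count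
  have := hp.out.two_le
  have e4 : e = 1 := Nat.eq_of_mul_eq_mul_right (show 0 < t by omega) (by rw [← ht, e3]; omega)
  have e5 := relIndex_eq_one.1 (e2.trans e4)
  obtain ⟨P, hP⟩ := h.syl.exists_sylow_top
  have e6 : normalizer ((P : Subgroup G) : Set G) ≤ centralizer ((P : Subgroup G) : Set G) := by
    rw [hP, h.cenP]; exact e5
  have e7 := (MonoidHom.ker_transferSylow_isComplement' P e6).symm.index_eq_card
  have e8 := MonoidHom.not_dvd_card_ker_transferSylow P e6
  have e9 : commutator G = (MonoidHom.transferSylow P e6).ker := by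
    refine le_antisymm ?_ (h.le_commutator e8)
    have := Fact.mk (show (Nat.card (G ⧸ (MonoidHom.transferSylow P e6).ker)).Prime by
      rw [← index, e7, hP, h.card]; exact hp.out)
    have := isCyclic_of_prime_card (α := G ⧸ (MonoidHom.transferSylow P e6).ker) rfl
    exact Normal.quotient_commutative_iff_commutator_le.1 inferInstance
  rw [e9, e7]
  exact ⟨hP ▸ h.card, e8, le_antisymm e5 le_normalizer⟩

theorem comm_le {M : Subgroup G} (hd : p ∣ Nat.card (commutator G))
    (hn : commutator G ≤ normalizer (M : Set G)) (hM : zpowers x ≤ M) : commutator G ≤ M := by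
  refine (h.commutator_le (S := normalClosure (zpowers x : Set G))
    (h.dvd_of_le le_normalClosure)).trans ((closure_le _).2 fun y hy => ?_)
  obtain ⟨z, hz, hy⟩ := Group.mem_conjugatesOfSet_iff.1 hy
  obtain ⟨g, rfl⟩ := isConj_iff.1 hy
  obtain ⟨s, hs, n, hn', rfl⟩ := mem_sup_of_normal_left.1 (h.sup_top hd ▸ mem_top g)
  simpa [mul_assoc] using H1.conj_mem_of_mem_normalizer (hn hs)
    (hM (H1.conj_mem_of_mem_normalizer hn' hz))

end SC

end H3
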