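import Cfsg.Agent.H3.Df
import Cfsg.Agent.H3.Chr
import Cfsg.Agent.H3.SelfC

/-!
H3.BR: the principal block of a group with a Sylow subgroup of prime order, in a form for degree arguments (`BD`).
-/

set_option autoImplicit false
open Cfsg Subgroup Finset
open scoped Classical

namespace H3
open H4

variable {G : Type*} [Group G] [Fintype G] {p : ℕ} {P : Subgroup G} {χ : G → ℂ}

/-- the non-identity elements of a subgroup -/
noncomputable def nz (P : Subgroup G) : Finset G := {y | y ∈ P ∧ y ≠ 1}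

theorem mem_nz {y : G} : y ∈ nz P ↔ y ∈ P ∧ y ≠ 1 := mem_filter_univ _

theorem sum_nz {R : Type*} [AddCommMonoid R] (P : Subgroup G) [Fintype P] (f : G → R) : ∑ y ∈ nz P, f y + f 1 = ∑ y : P, f y := by
  rw [← sum_subtype (insert 1 (nz P)) (p := (· ∈ P)) (fun x => by
    rw [mem_insert, mem_nz]; exact ⟨fun a => a.elim (· ▸ one_mem _) And.left, fun a => (em _).imp_right fun b => ⟨a, b⟩⟩),
    sum_insert fun a => (mem_nz.1 a).2 rfl, add_comm]

theorem card_nz (P : Subgroup G) : #(nz P) + 1 = Nat.card P := by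
  have := sum_nz P fun _ => 1
  simpa [Nat.card_eq_fintype_card] using this

theorem sum_nz_const (P : Subgroup G) {f : G → ℂ} {c : ℂ} (h : ∀ y ∈ P, y ≠ 1 → f y = c) :
    ∑ y ∈ nz P, f y = c * (Nat.card P - 1) := by
  rw [sum_congr rfl fun y a => h y (mem_nz.1 a).1 (mem_nz.1 a).2, sum_const, ← card_nz]; simp [mul_comm]

theorem sum_nz_inner (P : Subgroup G) (χ : G → ℂ) :
    ∑ y ∈ nz P, χ y + χ 1 = Nat.card P * classInner (fun y : P => χ y) (fun _ => 1) := by
  rw [sum_nz, classInner, mul_inv_cancel_left₀ (card_ne_zero' _)]; simp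

theorem sum_nz_nat (P : Subgroup G) (h : IsCharacter G χ) : ∃ m : ℕ, ∑ y ∈ nz P, χ y + χ 1 = Nat.card P * m :=
  let ⟨m, e⟩ := inner_char_nat (char_restrict h P) char_one; ⟨m, e ▸ sum_nz_inner P χ⟩

theorem deg_le_sum_sq (hc : ∀ a b : G, a * b = b * a) (h : IsCharacter G χ) {d : ℕ} (hd : χ 1 = d) :
    (Nat.card G : ℝ) * d ≤ ∑ g, ‖χ g‖ ^ 2 := by
  obtain ⟨c, h1, h2⟩ := char_eq_sum_nat h
  have a := parseval_norm (char_class h)
  rw [inner_self_eq, Complex.ofReal_re] at a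
  have b : (d : ℂ) = ∑ φ, (c φ : ℂ) := by
    rw [← hd, h2, Finset.sum_apply]
    exact sum_congr rfl fun φ _ => by simp [irr_degree_one_of_comm φ.2 hc]
  replace b : (d : ℝ) = ∑ φ, (c φ : ℝ) := by exact_mod_cast b
  rw [← le_inv_mul_iff₀ (Nat.cast_pos.2 Nat.card_pos), a, b]
  exact sum_le_sum fun φ _ => by rw [h1, Complex.norm_natCast]; exact_mod_cast Nat.le_self_pow two_ne_zero _

theorem sum_mul_eq_zero (h : IsCharacter G χ) (h0 : ∑ y ∈ nz P, χ y + χ 1 = 0) (g : G) : ∑ y ∈ nz P, χ (g * y) + χ g = 0 := by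
  obtain ⟨n, ρ, rfl⟩ := h
  let Φ := (Nat.card P : ℂ)⁻¹ • ∑ y : P, ρ y
  have k : ∀ z : P, ρ z * ∑ y : P, ρ y = ∑ y : P, ρ y := fun z => by
    rw [mul_sum]; exact Fintype.sum_equiv (Equiv.mulLeft z) _ _ fun y => by simp
  have i : IsIdempotentElem Φ := by
    simp only [IsIdempotentElem, Φ, smul_mul_assoc, mul_smul_comm, sum_mul, k, sum_const, card_univ, ← Nat.card_eq_fintype_card]
    rw [← Nat.cast_smul_eq_nsmul ℂ, inv_smul_smul₀ (card_ne_zero' _)]
  have z : ∑ y : P, ρ y = 0 := (smul_eq_zero.1 (LinearMap.IsIdempotentElem.eq_zero_of_trace_eq_zero i (by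
    rw [sum_nz] at h0; simp only [Φ, map_smul, map_sum]; exact smul_eq_zero.2 (Or.inr h0)))).resolve_left
      (inv_ne_zero (card_ne_zero' _))
  have := sum_nz P fun y => ρ.character (g * y)
  rw [mul_one] at this
  rw [this]
  simp only [Representation.character, map_mul]
  rw [← map_sum, ← mul_sum, z, mul_zero, map_zero]

variable (p P) in
/-- `B` is the principal block, `V` the vertices of the tree (one exceptional character), `r` the representative, `σ` the sign,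
`T` the multiplicity -/
structure BD (e t : ℕ) (B V : Finset (IrrCharacter G)) (r : IrrCharacter G → IrrCharacter G) (σ : IrrCharacter G → ℤ)
    (T : IrrCharacter G → ℕ) : Prop where
  card : Nat.card P = p
  syl : H9.Syl p P ⊤
  he : (CS P).relIndex (NS P) = e
  et : e * t + 1 = p
  cV : #V = e + 1
  one : triv G ∈ V
  sub : V ⊆ B
  rV : ∀ φ ∈ B, r φ ∈ V
  rr : ∀ v ∈ V, r v = v
  fib : ∀ v ∈ V, #{φ ∈ B | r φ = v} = T v
  hT : ∀ v ∈ V, T v = 1 ∨ T v = t
  uT : ∀ v ∈ V, ∀ w ∈ V, T v ≠ 1 → T w ≠ 1 → v = w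
  sg : ∀ v ∈ V, σ v = 1 ∨ σ v = -1
  reg : ∀ φ ∈ B, ∀ g, ¬ p ∣ orderOf g → φ.1 g = (r φ).1 g
  sum : ∀ φ ∈ B, T (r φ) * ∑ y ∈ nz P, φ.1 y = σ (r φ) * (p - 1)
  val : ∀ φ ∈ B, T (r φ) = 1 → ∀ y ∈ P, y ≠ 1 → φ.1 y = σ (r φ)
  dvd : ∀ v ∈ V, charDegree v.1 ∣ (CS P).index
  rel : ∀ g, ¬ p ∣ orderOf g → ∑ v ∈ V, σ v * v.1 g = 0
  sec : ∀ φ ∈ B, ∀ y ∈ P, y ≠ 1 → ∀ c, ¬ p ∣ orderOf c → Commute y c → φ.1 (y * c) = φ.1 y
  norm : (p : ℝ) * (p - 1) ≤ ∑ φ ∈ B, ∑ y ∈ nz P, ‖φ.1 y‖ ^ 2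

theorem exists_bd [hp : Fact p.Prime] (P : Sylow p G) (hP : Nat.card P = p) : ∃ e t B V r σ T, BD p (P : Subgroup G) e t B V r σ T := by
  obtain ⟨M, hM⟩ := exists_isPModular hp.out
  letI : Fintype P := (inferInstance : Fintype (P : Subgroup G))
  obtain ⟨x, ζ, a, δ, h1, h2, h3, h4, h5⟩ := principal_dade hM P hP
  haveI : Nontrivial P := Finite.one_lt_card_iff_nontrivial.1 (hp.out.one_lt.trans_eq hP.symm)
  set Γ := ga (P : Subgroup G) (NS P)
  set X := H4.fs (principalBlock M G \ ζ '' OS Γ)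
  obtain ⟨o, ho, ho'⟩ : ∃ o ∈ OS Γ, triv G ∈ insert (ζ o) X := by
    by_cases e : triv G ∈ ζ '' OS Γ
    · obtain ⟨o, b, c⟩ := e
      exact ⟨o, b, mem_insert.2 (Or.inl c.symm)⟩
    · obtain ⟨o, b⟩ := h1.nonempty
      exact ⟨o, b, mem_insert_of_mem (mem_fs.2 ⟨triv_mem_principal hM, e⟩)⟩
  have nX : ∀ o ∈ OS Γ, ζ o ∉ X := fun o a b => (mem_fs.1 b).2 ⟨o, a, rfl⟩
  have cB : ∀ φ ∈ H4.fs (principalBlock M G), φ ∉ X → ∃ o ∈ OS Γ, ζ o = φ := fun φ a b =>
    by_contra fun c => b (mem_fs.2 ⟨mem_fs.1 a, fun ⟨o, d, f⟩ => c ⟨o, d, f⟩⟩)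
  have pe : ∀ y ∈ (P : Subgroup G), IsPElt p y := fun y => isPElt_of_mem hp.out P.2
  have v0 : ∀ χ ∈ principalBlock M G, ∀ y (a : y ∈ (P : Subgroup G)), y ≠ 1 → χ.1 y = x χ ⟨y, a⟩ := fun χ a y b c =>
    h2 χ a ⟨y, b⟩ (fun e => c (congrArg Subtype.val e)) y (pp_of_isPElt hp.out (pe y b))
  have vX : ∀ χ ∈ X, ∀ y ∈ (P : Subgroup G), y ≠ 1 → χ.1 y = a χ := fun χ b y c d =>
    (v0 χ (mem_fs.1 b).1 y c d).trans ((h3.val' χ (mem_fs.1 b)).2 _ fun e => d (congrArg Subtype.val e))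
  have vY : ∀ o ∈ OS Γ, ∀ y (c : y ∈ (P : Subgroup G)), y ≠ 1 → (ζ o).1 y = δ * o ⟨y, c⟩ := fun o b y c d =>
    (v0 _ (h3.mem o b) y c d).trans ((h3.val o b _ fun e => d (congrArg Subtype.val e)).trans (by simp))
  have et := h1.card_OS.trans hP
  have cX : #X = Nat.card Γ := (card_fs _).trans h4
  have sO : ∀ {R : Type} [AddCommMonoid R] (f : ↥(P : Subgroup G) → R) (F : G → R), (∀ y (c : y ∈ (P : Subgroup G)), y ≠ 1 → F y = f ⟨y, c⟩) →
      ∑ y ∈ nz (P : Subgroup G), F y + f 1 = ∑ y, f y := fun f F e => by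
    have := sum_nz (P : Subgroup G) fun y => if c : y ∈ (P : Subgroup G) then f ⟨y, c⟩ else 0
    rw [sum_congr rfl fun y c => (dif_pos (mem_nz.1 c).1).trans (e y (mem_nz.1 c).1 (mem_nz.1 c).2).symm,
      dif_pos (one_mem _)] at this
    exact this.trans (sum_congr rfl fun y _ => dif_pos y.2)
  have δ2 : (δ : ℂ) = 1 ∨ (δ : ℂ) = -1 := h3.sign.imp (fun e => by simp [e]) fun e => by simp [e]
  refine ⟨Nat.card Γ, #(OS Γ), H4.fs (principalBlock M G), insert (ζ o) X, fun φ => if φ ∈ X then φ else ζ o,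
    fun φ => if φ ∈ X then a φ else -δ, fun φ => if φ ∈ X then 1 else #(OS Γ), hP, H9.syl_top_of_sylow P, (card_ga le_rfl).symm, et,
    by rw [card_insert_of_notMem (nX o ho), cX], ho', insert_subset (mem_fs.2 (h3.mem o ho)) fun φ b => mem_fs.2 (mem_fs.1 b).1,
    fun φ _ => by split_ifs <;> simp [*], fun v b => by rcases mem_insert.1 b with rfl | b <;> simp [*], fun v b => ?_,
    fun v _ => by split_ifs <;> simp, fun v b w c d f => ?_, fun v b => ?_, fun φ b g c => ?_, fun φ b => ?_, fun φ b c y d f => ?_,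
    fun v b => ?_, fun g c => ?_, fun φ b y c d z f i => ?_, ?_⟩
  · rcases mem_insert.1 b with rfl | b
    · rw [if_neg (nX o ho), ← card_image_of_injOn h3.inj]
      refine congrArg _ (Finset.ext fun φ => ?_)
      rw [mem_filter, mem_image]
      refine ⟨fun ⟨c, d⟩ => cB φ c fun f => nX o ho (by rw [if_pos f] at d; exact d ▸ f), ?_⟩
      rintro ⟨o', c, rfl⟩
      exact ⟨mem_fs.2 (h3.mem o' c), if_neg (nX o' c)⟩
    · rw [if_pos b]
      refine card_eq_one.2 ⟨v, Finset.ext fun φ => ?_⟩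
      rw [mem_filter, mem_singleton]
      refine ⟨fun ⟨_, d⟩ => ?_, by rintro rfl; exact ⟨mem_fs.2 (mem_fs.1 b).1, if_pos b⟩⟩
      split_ifs at d
      exacts [d, (nX o ho (d ▸ b)).elim]
  · rw [(mem_insert.1 b).resolve_right fun e => d (if_pos e), (mem_insert.1 c).resolve_right fun e => f (if_pos e)]
  · split_ifs with c
    exacts [h5 v (mem_fs.1 c), by rcases h3.sign with e | e <;> simp [e]]
  · split_ifs with d
    · rfl
    · obtain ⟨o', f, rfl⟩ := cB φ b d
      exact h3.reg _ f _ ho g c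
  · by_cases d : φ ∈ X
    · simp only [if_pos d, sum_nz_const _ (vX φ d), Nat.cast_one, one_mul]
      rw [show Nat.card (P : Subgroup G) = p from hP]
    · obtain ⟨o', f, rfl⟩ := cB φ b d
      simp only [if_neg d, if_neg (nX o ho)]
      have := sO (fun y => δ * o' y) _ (vY o' f)
      obtain ⟨l, l1, rfl⟩ := mem_OS.1 f
      have z : ∑ y : (P : Subgroup G), os Γ l y = 0 := by
        have := (show AI Γ (fun _ => 1) from fun _ _ _ => rfl).inner_os l
        rw [show (fun _ => 1 : ↥(P : Subgroup G) → ℂ) = hf 1 from rfl, inner_hf, if_neg l1.symm, mul_zero, ← inner_conj_symm, map_eq_zero,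
          classInner, mul_eq_zero] at this
        simpa using this.resolve_left (inv_ne_zero (card_ne_zero' _))
      rw [← mul_sum, z, os_one] at this
      rw [eq_sub_of_add_eq this, show (p : ℂ) = Nat.card Γ * #(OS Γ) + 1 by exact_mod_cast et.symm]; push_cast; ring
  · by_cases i : φ ∈ X
    · simp only [if_pos i]; exact vX φ i y d f
    · obtain ⟨o', j, rfl⟩ := cB φ b i
      simp only [if_neg i, if_neg (nX o ho)] at c ⊢
      have := h1.sum_OS_apply (t := ⟨y, d⟩) fun e => f (congrArg Subtype.val e)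
      obtain ⟨w, hw⟩ := card_eq_one.1 c
      rw [hw, mem_singleton] at j
      rw [hw, sum_singleton, ← j] at this
      rw [vY o' (by rw [hw, j]; simp) y d f, this]; simp
  · obtain ⟨y, y1⟩ := exists_ne (1 : P)
    have y2 : (y : G) ≠ 1 := by simpa using y1
    have cy : centralizer {(y : G)} = CS (P : Subgroup G) := C1_eq_prime hP y.2 y2
    have d0 := (deg_pos v.2).ne'
    have k : ∀ s : ℂ, s = 1 ∨ s = -1 → IsIntegral ℤ (((CS (P : Subgroup G)).index : ℂ) * s / v.1 1) →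
        charDegree v.1 ∣ (CS (P : Subgroup G)).index := fun s a b => by
      refine dvd_of_isIntegral_div d0 ?_
      rw [← ideg]
      rcases a with rfl | rfl
      · simpa using b
      · simpa [neg_div] using b.neg
    rcases mem_insert.1 b with rfl | b
    · refine k (-δ) (δ2.symm.imp (fun e => by simp [e]) fun e => by simp [e]) ?_
      have := IsIntegral.sum (s := OS Γ) (fun o' => ((CS (P : Subgroup G)).index : ℂ) * (δ * o' y) / (ζ o).1 1) fun o' c => by
        have := central_integral (ζ o').2 (y : G)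
        rwa [cy, vY o' c y y.2 y2, h3.reg _ c _ ho 1 (not_dvd_orderOf_one hp.out)] at this
      rwa [← sum_div, ← mul_sum, ← mul_sum, h1.sum_OS_apply y1, mul_neg_one] at this
    · have := central_integral v.2 (y : G)
      rw [cy, vX v b y y.2 y2] at this
      exact k _ ((h5 v (mem_fs.1 b)).imp (fun e => by simp [e]) fun e => by simp [e]) this
  · have := h3.rel o ho g c
    rw [sum_insert (nX o ho), if_neg (nX o ho), sum_congr rfl fun v b => by rw [if_pos b]]
    simpa using this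
  · rw [v0 φ (mem_fs.1 b) y c d]
    exact h2 φ (mem_fs.1 b) ⟨y, c⟩ (fun e => d (congrArg Subtype.val e)) _ (pp_mul_of_commute hp.out i (pe y c) f)
  · rw [sum_split h3.mem h3.inj]
    have k1 : ∀ o ∈ OS Γ, (p : ℝ) * Nat.card Γ - Nat.card Γ ^ 2 ≤ ∑ y ∈ nz (P : Subgroup G), ‖(ζ o).1 y‖ ^ 2 := fun o b => by
      have := sO (fun y => ‖o y‖ ^ 2) (fun y => ‖(ζ o).1 y‖ ^ 2) fun y c d => by
        rw [vY o b y c d, norm_mul]; rcases δ2 with e | e <;> simp [e]
      obtain ⟨l, -, rfl⟩ := mem_OS.1 b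
      have k := deg_le_sum_sq h1.comm (χ := os Γ l) (char_sum _ _ fun _ _ => char_hom _) (os_one l)
      rw [os_one, Complex.norm_natCast] at this
      rw [show Nat.card (P : Subgroup G) = p from hP] at k
      linarith
    have k2 : ∀ χ ∈ X, ∑ y ∈ nz (P : Subgroup G), ‖χ.1 y‖ ^ 2 = p - 1 := fun χ b => by
      rw [sum_congr rfl (g := fun _ => 1) fun y c => by
        rw [vX χ b y (mem_nz.1 c).1 (mem_nz.1 c).2]; rcases h5 χ (mem_fs.1 b) with e | e <;> simp [e],
        show (p : ℝ) = #(nz (P : Subgroup G)) + 1 by exact_mod_cast ((card_nz _).trans hP).symm]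
      simp
    have := card_nsmul_le_sum _ _ _ k1
    rw [sum_congr rfl k2, sum_const, cX]
    simp only [nsmul_eq_mul] at this ⊢
    refine le_trans (le_of_eq ?_) (add_le_add_left this _)
    rw [show (p : ℝ) = Nat.card Γ * #(OS Γ) + 1 by exact_mod_cast et.symm]; ring

end H3
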