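import Cfsg.Agent.H3.BR

/-!
H3.BR2: degrees in the principal block when the number of Sylow subgroups has no exceptional factorization (`BE`).
-/

set_option autoImplicit false
open Cfsg Subgroup Finset
open scoped Classical ComplexConjugate

namespace H3
open H4

/-- `(p - 1) m` has a non-trivial factorization -/
def Fac (p m : ℕ) : Prop := ∃ a b, (p - 1) * m = a * b ∧ a % p = 1 ∧ a ≠ 1 ∧ p ≤ b

theorem exists_eq_one_add {a p : ℕ} (h : a % p = 1) : ∃ u, a = 1 + u * p := ⟨a / p, by rw [← h, Nat.mod_add_div']⟩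

theorem Fac.of_dvd {p m m' : ℕ} (hp : 1 < p) (h : Fac p m) (h1 : m % p = 1) (h2 : m' % p = 1) (h3 : m ∣ m') : Fac p m' := by
  obtain ⟨a, b, c1, c2, c3, c4⟩ := h
  obtain ⟨k, rfl⟩ := h3
  rw [Nat.mul_mod, h1, one_mul, Nat.mod_mod] at h2
  refine ⟨a * k, b, by rw [← mul_assoc, c1]; ring, by rw [Nat.mul_mod, c2, h2, Nat.mod_eq_of_lt hp], fun e => c3 (Nat.eq_one_of_mul_eq_one_right e), c4⟩

theorem Fac.exists {p n : ℕ} (hp : 1 < p) (h : Fac p (1 + n * p)) :
    ∃ h u : ℕ, 0 < h ∧ 0 < u ∧ n * (u + 1) = h * u * p + u ^ 2 + u + h := by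
  obtain ⟨a, b, c1, c2, c3, c4⟩ := h
  obtain ⟨q, rfl⟩ : ∃ q, p = q + 1 := ⟨p - 1, by omega⟩
  obtain ⟨u, rfl⟩ := exists_eq_one_add c2
  rw [add_tsub_cancel_right] at c1
  have u0 : 0 < u := Nat.pos_of_ne_zero fun e => c3 (by simp [e])
  obtain ⟨w, hw⟩ : q + 1 ∣ b + 1 := (Nat.dvd_add_right (Dvd.intro (u * b) rfl)).1 ⟨q * n + 1, by nlinarith⟩
  obtain ⟨w, rfl⟩ : ∃ v, w = v + 2 := ⟨w - 2, by rcases w with _ | _ | w <;> omega⟩
  obtain rfl : b = (q + 1) * (w + 1) + q := by nlinarith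
  have k : q * n = q * (u * (w + 2)) + (u + 1) * (w + 1) := Nat.eq_of_mul_eq_mul_left (show 0 < q + 1 by omega) (by nlinarith)
  obtain ⟨h, rfl⟩ : ∃ h, n = u * (w + 2) + h := Nat.exists_eq_add_of_le (Nat.le_of_mul_le_mul_left (k ▸ Nat.le_add_right _ _) (by omega))
  have k' : q * h = (u + 1) * (w + 1) := by nlinarith
  exact ⟨h, u, Nat.pos_of_ne_zero fun e => by simp [e] at k', u0, by nlinarith⟩

theorem fac_cases {p m D : ℕ} (hp : 1 < p) (hm : m % p = 1) (h : ¬ Fac p m) (hD : D ∣ (p - 1) * m) :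
    (D % p = 1 → D = 1 ∨ D = m) ∧ (p ∣ D + 1 → D + 1 = p ∨ D = (p - 1) * m) := by
  obtain ⟨E, hE⟩ := hD
  obtain ⟨q, rfl⟩ : ∃ q, p = q + 1 := ⟨p - 1, by omega⟩
  obtain ⟨n, rfl⟩ := exists_eq_one_add hm
  simp only [Fac, add_tsub_cancel_right, not_exists, not_and, not_le] at *
  refine ⟨fun a => or_iff_not_imp_left.2 fun b => ?_, fun a => or_iff_not_imp_right.2 fun b => ?_⟩
  · have c := h D E hE a b
    obtain ⟨u, rfl⟩ := exists_eq_one_add a
    obtain rfl : E = q := by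
      have := Nat.le_of_dvd E.succ_pos ((Nat.dvd_add_right (Dvd.intro (u * E) rfl)).1 ⟨q * n + 1, by nlinarith⟩ : q + 1 ∣ E + 1)
      omega
    exact Nat.eq_of_mul_eq_mul_left (show 0 < E by omega) (by rw [hE, mul_comm])
  · obtain ⟨w, c⟩ := a
    have : E % (q + 1) = 1 := by
      have : E + (q + 1) * (q * n + 1) = 1 + (q + 1) * (w * E) := by nlinarith
      rw [← Nat.add_mul_mod_self_left E, this, Nat.add_mul_mod_self_left, Nat.mod_eq_of_lt hp]
    have d := h E D (by rw [hE, mul_comm]) this fun e => b (by rw [hE, e, mul_one])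
    have := Nat.le_of_dvd D.succ_pos ⟨w, c⟩
    omega

variable {G : Type*} [Group G] [Fintype G] {p : ℕ} {P : Subgroup G} {χ : G → ℂ}

theorem char_decomp (h : IsCharacter G χ) : ∃ c : IrrCharacter G → ℕ, (∀ φ : IrrCharacter G, classInner χ φ = c φ) ∧
    ∀ g, χ g = ∑ φ, c φ * φ.1 g :=
  let ⟨c, a, b⟩ := char_eq_sum_nat h
  ⟨c, a, fun g => by rw [b, Finset.sum_apply]; simp⟩

/-- real part of the sum over the non-identity elements -/
noncomputable def sr (P : Subgroup G) (χ : G → ℂ) : ℝ := (∑ y ∈ nz P, χ y).re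

theorem sr_decomp {c : IrrCharacter G → ℕ} (h : ∀ g, χ g = ∑ φ, c φ * φ.1 g) : sr P χ = ∑ φ, c φ * sr P φ.1 := by
  simp only [sr, h]
  rw [sum_comm, Complex.re_sum]
  exact sum_congr rfl fun φ _ => by rw [← mul_sum]; simp

theorem deg_decomp {c : IrrCharacter G → ℕ} (h : ∀ g, χ g = ∑ φ, c φ * φ.1 g) {d : ℕ} (hd : χ 1 = d) :
    d = ∑ φ, c φ * charDegree φ.1 := by
  have := h 1
  simp only [hd, ideg] at this
  exact_mod_cast this

theorem sr_const {c : ℝ} (h : ∀ y ∈ P, y ≠ 1 → χ y = c) : sr P χ = c * (Nat.card P - 1) := by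
  rw [sr, sum_nz_const P h]; simp

theorem eq_triv_of_perfect (h : commutator G = ⊤) {φ : IrrCharacter G} (h1 : charDegree φ.1 = 1) : φ = triv G :=
  Subtype.ext (irr_eq_one_of_const φ.2 fun g => (mem_charKer (irr_char φ.2) g).1
    ((degree_one_iff_commutator_le φ.2).1 (by rw [ideg, h1, Nat.cast_one]) (h ▸ mem_top g)))

theorem deg_triv : charDegree (triv G).1 = 1 := deg_of_eq (by simp)

theorem int_eq_of_pq {r : ℕ} (hr : r.Prime) (h : IsCharacter G χ) {g : G} {a b : ℤ} (ha : χ g = a) (hb : χ (pq r g) = b) :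
    (r : ℤ) ∣ a - b := by
  obtain ⟨M, hM⟩ := exists_isPModular hr
  have := red_char_eq_pq hM h g
  rw [ha, hb, red_intCast, red_intCast] at this
  exact (intCast_eq_zero_iff hM _).1 (by rw [Int.cast_sub, this, sub_self])

variable {e t n : ℕ} {B V : Finset (IrrCharacter G)} {r : IrrCharacter G → IrrCharacter G} {σ : IrrCharacter G → ℤ}
  {T : IrrCharacter G → ℕ} {v w φ : IrrCharacter G}

namespace BD
variable [hp : Fact p.Prime] (h : BD p P e t B V r σ T)
include h

theorem et_pos : 0 < e ∧ 0 < t := by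
  have := h.et; have := hp.out.two_le
  exact ⟨Nat.pos_of_ne_zero fun a => by simp [a] at *; omega, Nat.pos_of_ne_zero fun a => by simp [a] at *; omega⟩

theorem T_pos (hv : v ∈ V) : 0 < T v ∧ T v ≤ t ∧ T v ∣ t := by
  have := h.et_pos
  rcases h.hT v hv with a | a <;> simp [a, this.2, Nat.succ_le_iff]

theorem p_sub_ne : (p : ℂ) - 1 ≠ 0 := sub_ne_zero.2 (by exact_mod_cast hp.out.ne_one)

theorem triv_sign : σ (triv G) = 1 ∧ T (triv G) = 1 := by
  have := h.sum _ (h.sub h.one)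
  rw [h.rr _ h.one, sum_nz_const P (f := (triv G).1) (c := 1) (fun _ _ _ => rfl), h.card, one_mul, mul_left_inj' h.p_sub_ne] at this
  have : (T (triv G) : ℤ) = σ (triv G) := by exact_mod_cast this
  have := h.sg _ h.one
  omega

theorem eq_triv (hφ : φ ∈ B) (e : r φ = triv G) : φ = triv G := by
  obtain ⟨w, hw⟩ := card_eq_one.1 ((h.fib _ h.one).trans h.triv_sign.2)
  have k : ∀ ψ ∈ B, r ψ = triv G → ψ = w := fun ψ a b => mem_singleton.1 (hw ▸ mem_filter.2 ⟨a, b⟩)
  rw [k φ hφ e, k _ (h.sub h.one) (h.rr _ h.one)]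

theorem deg (hφ : φ ∈ B) : charDegree φ.1 = charDegree (r φ).1 := by
  have := h.reg φ hφ 1 (not_dvd_orderOf_one hp.out)
  rw [ideg, ideg] at this
  exact_mod_cast this

theorem cong (hφ : φ ∈ B) {k : ℕ} (hk : ∑ y ∈ nz P, φ.1 y + φ.1 1 = Nat.card P * k) :
    σ (r φ) * (p - 1) + T (r φ) * charDegree (r φ).1 = p * (T (r φ) * k) := by
  have := congrArg ((T (r φ) : ℂ) * ·) hk
  simp only [mul_add, h.sum φ hφ, h.card, ideg, h.deg hφ] at this
  have : ((σ (r φ) * (p - 1) + T (r φ) * charDegree (r φ).1 : ℤ) : ℂ) = (p * (T (r φ) * k) : ℤ) := by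
    push_cast; rw [this]; ring
  exact_mod_cast this

theorem mod (hv : v ∈ V) : (σ v = 1 → T v * charDegree v.1 % p = 1) ∧ (σ v = -1 → p ∣ T v * charDegree v.1 + 1) := by
  obtain ⟨k, hk⟩ := sum_nz_nat P (irr_char v.2)
  have := h.cong (h.sub hv) hk
  rw [h.rr v hv] at this
  refine ⟨fun a => ?_, fun a => ⟨T v * k + 1, ?_⟩⟩
  · have : T v * charDegree v.1 + p = 1 + p * (T v * k) := by rw [a] at this; zify; linarith
    rw [← Nat.add_mod_right, this, Nat.add_mul_mod_self_left, Nat.mod_eq_of_lt hp.out.one_lt]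
  · rw [a] at this; zify; linarith

theorem dvd' (hv : v ∈ V) : T v * charDegree v.1 ∣ (p - 1) * (NS P).index := by
  have := h.dvd v hv
  rw [← relIndex_mul_index (CS_le_NS P), h.he] at this
  rw [← h.et, add_tsub_cancel_right, mul_comm e, mul_assoc]
  exact mul_dvd_mul (h.T_pos hv).2.2 this

theorem rel_one : ∑ v ∈ V, σ v * charDegree v.1 = 0 := by
  have := h.rel 1 (not_dvd_orderOf_one hp.out)
  simp only [ideg] at this
  exact_mod_cast this

theorem exists_minus : ∃ w ∈ V, σ w = -1 := by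
  by_contra! a
  refine (sum_pos (fun v b => ?_) ⟨_, h.one⟩).ne' h.rel_one
  rw [(h.sg v b).resolve_right (a v b), one_mul]
  exact_mod_cast deg_pos v.2

theorem ne_triv (hs : σ w = -1) : w ≠ triv G := fun a => by have := h.triv_sign.1; rw [← a] at this; omega

theorem deg_le (hw : w ∈ V) (hs : σ w = -1) {c : ℕ} (hc : ∀ v ∈ V, σ v = 1 → v ≠ triv G → charDegree v.1 ≤ c) :
    charDegree w.1 + c ≤ 1 + e * c := by
  have a := h.rel_one
  have b : w ∈ V.erase (triv G) := mem_erase.2 ⟨h.ne_triv hs, hw⟩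
  rw [← add_sum_erase _ _ h.one, ← add_sum_erase _ _ b, h.triv_sign.1, hs, deg_triv] at a
  have d := sum_le_card_nsmul ((V.erase (triv G)).erase w) (fun v => σ v * charDegree v.1) c fun v f => by
    have f' := mem_erase.1 (mem_erase.1 f).2
    rcases h.sg v f'.2 with s | s
    · simpa [s] using hc v f'.2 s f'.1
    · simp [s]
  rw [card_erase_of_mem b, card_erase_of_mem h.one, h.cV, add_tsub_cancel_right, nsmul_eq_mul, Nat.cast_pred h.et_pos.1] at d
  zify; push_cast at a; linarith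

theorem sr_eq (hφ : φ ∈ B) : T (r φ) * sr P φ.1 = σ (r φ) * (p - 1) := by
  simpa [sr] using congrArg Complex.re (h.sum φ hφ)

theorem vanish (hC : CS P = P) (hφ : φ ∉ B) {y : G} (hy : y ∈ P) (h1 : y ≠ 1) : φ.1 y = 0 := by
  have a : ∑ φ : IrrCharacter G, ∑ y ∈ nz P, ‖φ.1 y‖ ^ 2 = p * (p - 1) := by
    rw [sum_comm, sum_congr rfl (g := fun _ => (p : ℝ)) fun y b => by
      rw [sum_norm_sq_char, show centralizer {y} = P from (C1_eq_prime h.card (mem_nz.1 b).1 (mem_nz.1 b).2).trans hC, h.card],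
      sum_const, ← h.card, ← card_nz]
    simp [mul_comm, mul_add]
  have b := h.norm
  rw [← a, ← sum_add_sum_compl B, add_le_iff_nonpos_right] at b
  have c : ∀ φ : IrrCharacter G, 0 ≤ ∑ y ∈ nz P, ‖φ.1 y‖ ^ 2 := fun _ => sum_nonneg fun _ _ => by positivity
  simpa using (sum_eq_zero_iff_of_nonneg fun _ _ => by positivity).1 ((sum_eq_zero_iff_of_nonneg fun φ _ => c φ).1
    (b.antisymm (sum_nonneg fun φ _ => c φ)) φ (mem_compl.2 hφ)) y (mem_nz.2 ⟨hy, h1⟩)

theorem sr_out (hC : CS P = P) (hφ : φ ∉ B) : sr P φ.1 = 0 := by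
  rw [sr_const (c := 0) fun y a b => (h.vanish hC hφ a b).trans Complex.ofReal_zero.symm, zero_mul]

theorem sum_zero (hφ : φ ∈ B) (hs : σ (r φ) = -1) (hd : T (r φ) * charDegree (r φ).1 + 1 = p) : ∑ y ∈ nz P, φ.1 y + φ.1 1 = 0 := by
  obtain ⟨k, hk⟩ := sum_nz_nat P (irr_char φ.2)
  have a := h.cong hφ hk
  have b := (h.T_pos (h.rV φ hφ)).1
  rw [hs] at a
  zify at hd
  have : (p : ℤ) * (T (r φ) * k) = 0 := by linarith
  simpa [b.ne', hp.out.ne_zero, hk] using this

theorem le_normal {N : Subgroup G} [N.Normal] (hN : p ∣ Nat.card N) : P ≤ N := by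
  have := (h.syl.inf_normal (N := N) le_top (le_normalizer_of_normal.trans' le_rfl)).eq_bot_iff
  obtain ⟨⟨y, a⟩, b⟩ := ne_bot_iff_exists_ne_one.1 (mt this.1 fun c => hp.out.ne_one (c.symm.eq_one_of_dvd hN))
  exact (eq_zpowers_prime h.card a.1 fun e => b (Subtype.ext e)).ge.trans (zpowers_le.2 a.2)

theorem mem_of_pelt {g : G} (hg : g ∈ NS P) (h1 : IsPElt p g) : g ∈ P :=
  zpowers_le.1 (h.syl.le_of_le_normalizer (isPGroup_zpowers hp.out h1) le_top (Or.inl (zpowers_le.2 hg)))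

theorem pelt {y : G} (hy : y ∈ P) : IsPElt p y := isPElt_of_mem hp.out h.syl.isP hy

theorem mem_NS_iff {x y : G} (hy : y ∈ P) (h1 : y ≠ 1) : (x⁻¹ * y * x ∈ NS P ↔ x ∈ NS P) ∧ (x⁻¹ * y * x ∈ P ↔ x ∈ NS P) := by
  have k : x⁻¹ * y * x ∈ P → x ∈ NS P := fun a => inv_mem_iff.1 (mem_normalizer_fintype fun z b => by
    obtain ⟨i, rfl⟩ := (eq_zpowers_prime h.card hy h1).ge b
    rw [← conj_zpow, inv_inv]; exact zpow_mem a i)
  exact ⟨⟨fun a => k (h.mem_of_pelt a (by simpa using (h.pelt hy).conj x⁻¹)), fun a => mul_mem (mul_mem (inv_mem a) (le_normalizer hy)) a⟩,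
    k, fun a => (mem_normalizer_iff''.1 a y).1 hy⟩

theorem ker_cop (h0 : ∑ y ∈ nz P, φ.1 y + φ.1 1 = 0) : ¬ p ∣ Nat.card (charKer φ.1) := fun a => by
  have := charKer_normal (irr_class φ.2)
  rw [sum_nz_const P fun y b _ => (mem_charKer (irr_char φ.2) y).1 (h.le_normal a b)] at h0
  exact mul_ne_zero (irr_one_ne_zero φ.2) (card_ne_zero' P) (by linear_combination h0)

theorem mem_ker (hφ : φ ∈ B) (h0 : ∑ y ∈ nz P, φ.1 y + φ.1 1 = 0) {c : G} (hc : c ∈ CS P) (h1 : ¬ p ∣ orderOf c) :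
    c ∈ charKer φ.1 := by
  have := sum_mul_eq_zero (irr_char φ.2) h0 c
  rw [sum_congr rfl fun y a => (congrArg φ.1 (hc y (mem_nz.1 a).1).symm).trans
    (h.sec φ hφ y (mem_nz.1 a).1 (mem_nz.1 a).2 c h1 (hc y (mem_nz.1 a).1)), ← h0, add_right_inj] at this
  exact (mem_charKer (irr_char φ.2) c).2 this

theorem cen_eq (hφ : φ ∈ B) (h0 : ∑ y ∈ nz P, φ.1 y + φ.1 1 = 0) (hk : charKer φ.1 = ⊥) : CS P = P :=
  le_antisymm (fun c a => by
    have := hk.le (h.mem_ker hφ h0 (pq_mem a) (not_dvd_orderOf_pq hp.out c))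
    exact h.mem_of_pelt (CS_le_NS P a) ((pq_eq_one_iff hp.out).1 this)) (le_CS_prime h.card)

theorem card_N (hC : CS P = P) : Nat.card (NS P) = p * e := by
  rw [← H1.card_mul_relIndex (CS_le_NS P), h.he, hC, h.card]

theorem not_dvd (hC : CS P = P) {g : G} (hg : g ∈ NS P) (h1 : g ∉ P) : ¬ p ∣ orderOf g := fun a =>
  h1 (hC.le ((C1_eq_prime h.card (h.mem_of_pelt (pp_mem hg) (isPElt_pp hp.out g)) fun e =>
    (pp_eq_one_iff hp.out).1 e a).le (mem_centralizer_singleton.2 (commute_pp g))))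

theorem fpf (hC : CS P = P) {g : G} (h1 : g ∉ P) (y : G) (hy : y ∈ P) (e : g * y = y * g) : y = 1 :=
  by_contra fun a => h1 (hC.le ((C1_eq_prime h.card hy a).le (mem_centralizer_singleton_iff.2 e)))

theorem zero_N (hC : CS P = P) (hχ : IsCharacter G χ) (h0 : ∑ y ∈ nz P, χ y + χ 1 = 0) {g : G} (hg : g ∈ NS P) (h1 : g ∉ P) :
    χ g = 0 := by
  have := sum_mul_eq_zero hχ h0 g
  rw [sum_nz_const P (c := χ g) fun y a _ => by
    obtain ⟨x, -, b⟩ := frob_conj P (fun k => H1.conj_mem_of_mem_normalizer hg) (h.fpf hC h1) a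
    rw [class_mul_comm (char_class hχ), b, class_conj' (char_class hχ)]] at this
  exact (mul_eq_zero.1 (show χ g * Nat.card P = 0 by linear_combination this)).resolve_right (card_ne_zero' P)

theorem sum_fib {R : Type*} [Semiring R] (f : IrrCharacter G → R) : ∑ φ ∈ B, f (r φ) = ∑ v ∈ V, T v * f v := by
  rw [← sum_fiberwise_of_maps_to h.rV]
  exact sum_congr rfl fun v a => by
    rw [sum_congr rfl fun φ b => congrArg f (mem_filter.1 b).2, sum_const, h.fib v a, nsmul_eq_mul]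

end BD

variable (p P) in
/-- the case of a perfect group without exceptional factorization -/
structure BE (e t n : ℕ) (B V : Finset (IrrCharacter G)) (r : IrrCharacter G → IrrCharacter G) (σ : IrrCharacter G → ℤ)
    (T : IrrCharacter G → ℕ) : Prop extends BD p P e t B V r σ T where
  perf : commutator G = ⊤
  core : ∀ N : Subgroup G, N.Normal → ¬ p ∣ Nat.card N → N = ⊥
  hn : (NS P).index = 1 + n * p
  fac : ¬ Fac p (1 + n * p)

namespace BE
variable [hp : Fact p.Prime] (h : BE p P e t n B V r σ T)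
include h

theorem cases (hv : v ∈ V) : (σ v = 1 → v ≠ triv G → T v * charDegree v.1 = 1 + n * p) ∧
    (σ v = -1 → T v * charDegree v.1 + 1 = p ∨ T v * charDegree v.1 = (p - 1) * (1 + n * p)) :=
  have := fac_cases hp.out.one_lt (by rw [Nat.add_mul_mod_self_right, Nat.mod_eq_of_lt hp.out.one_lt]) h.fac (h.hn ▸ h.dvd' hv)
  ⟨fun a b => (this.1 ((h.mod hv).1 a)).resolve_left fun c => b (eq_triv_of_perfect h.perf (Nat.eq_one_of_mul_eq_one_left c)),
    fun a => this.2 ((h.mod hv).2 a)⟩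

theorem two_le_deg (hv : v ≠ triv G) : 2 ≤ charDegree v.1 :=
  lt_of_le_of_ne (deg_pos v.2) fun a => hv (eq_triv_of_perfect h.perf a.symm)

theorem bound (hw : w ∈ V) (hs : σ w = -1) : charDegree w.1 + (1 + n * p) ≤ 1 + e * (1 + n * p) :=
  h.deg_le hw hs fun v a b c => ((h.cases a).1 b c).le.trans' (Nat.le_mul_of_pos_left _ (h.T_pos a).1)

theorem n_pos : 0 < n := Nat.pos_of_ne_zero fun a => by
  obtain ⟨w, b, c⟩ := h.exists_minus
  have := h.deg_le b c (c := 0) fun v d f i => (i (eq_triv_of_perfect h.perf (Nat.eq_one_of_mul_eq_one_left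
    (((h.cases d).1 f i).trans (by simp [a]))))).elim
  have := h.two_le_deg (h.ne_triv c)
  omega

theorem two_le_e : 2 ≤ e := lt_of_le_of_ne h.et_pos.1 fun a : 1 = e => by
  obtain ⟨w, b, c⟩ := h.exists_minus
  have := h.bound b c
  have := h.two_le_deg (h.ne_triv c)
  subst a
  omega

theorem minus (hw : w ∈ V) (hs : σ w = -1) : T w * charDegree w.1 + 1 = p := ((h.cases hw).2 hs).resolve_right fun a => by
  have b := Nat.mul_le_mul_left t (h.bound hw hs)
  have c := Nat.mul_le_mul_right (charDegree w.1) (h.T_pos hw).2.1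
  rw [a, ← h.et, add_tsub_cancel_right, h.et] at c
  have := Nat.mul_pos h.et_pos.2 (Nat.mul_pos h.n_pos hp.out.pos)
  nlinarith

theorem zero (hφ : φ ∈ B) (hs : σ (r φ) = -1) : ∑ y ∈ nz P, φ.1 y + φ.1 1 = 0 := h.sum_zero hφ hs (h.minus (h.rV φ hφ) hs)

theorem cen : CS P = P := by
  obtain ⟨w, b, c⟩ := h.exists_minus
  have := h.zero (h.sub b) (by rwa [h.rr w b])
  exact h.cen_eq (h.sub b) this (h.core _ (charKer_normal (irr_class w.2)) (h.ker_cop this))

theorem sr_plus (hφ : φ ∈ B) (hs : σ (r φ) = 1) (h1 : φ ≠ triv G) : (1 + n * p) * sr P φ.1 = (p - 1) * charDegree φ.1 := by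
  have a := h.sr_eq hφ
  have b := (h.cases (h.rV φ hφ)).1 hs fun e => h1 (h.eq_triv hφ e)
  rw [← h.deg hφ] at b
  replace b : (T (r φ) : ℝ) * charDegree φ.1 = 1 + n * p := by exact_mod_cast b
  rw [hs] at a
  linear_combination (charDegree φ.1 : ℝ) * a - sr P φ.1 * b

theorem sr_minus (hφ : φ ∈ B) (hs : σ (r φ) = -1) : sr P φ.1 = -charDegree φ.1 := by
  simpa [sr, ideg, add_eq_zero_iff_eq_neg] using congrArg Complex.re (h.zero hφ hs)

theorem sr_le (h1 : φ ≠ triv G) : (1 + n * p) * sr P φ.1 ≤ (p - 1) * charDegree φ.1 := by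
  have : (0 : ℝ) ≤ (p - 1) * charDegree φ.1 := mul_nonneg (sub_nonneg.2 (by exact_mod_cast hp.out.one_le)) (by positivity)
  by_cases a : φ ∈ B
  · rcases h.sg _ (h.rV φ a) with b | b
    · exact (h.sr_plus a b h1).le
    · exact le_trans (by rw [h.sr_minus a b, mul_neg, neg_nonpos]; positivity) this
  · rwa [h.sr_out h.cen a, mul_zero]

theorem sr_triv : sr P (triv G).1 = p - 1 := by
  rw [sr_const (χ := (triv G).1) (c := 1) fun _ _ _ => rfl, h.card, one_mul]

theorem n_eq_one (hw : w ∈ V) (hs : σ w = -1) (hT : T w ≠ 1) : n = 1 := by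
  have a := h.minus hw hs
  have et := h.et
  have tp := h.et_pos.2
  have tw := (h.hT w hw).resolve_left hT
  rw [tw] at hT a
  have d : charDegree w.1 = e := Nat.eq_of_mul_eq_mul_left tp (by rw [mul_comm t e]; omega)
  have d1 : w.1 1 = e := by rw [ideg, d]
  obtain ⟨c, c1, c2⟩ := char_decomp (char_mul (irr_char w.2) (char_conj (irr_char w.2)))
  have ct : c (triv G) = 1 := by
    have := c1 (triv G)
    rw [inner_mul_left, show ((triv G).1 * fun g => conj (conj (w.1 g))) = w.1 from funext fun g => by simp, irr_inner_self w.2] at this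
    exact_mod_cast this.symm
  have b1 := deg_decomp c2 (d := e * e) (by simp [d1])
  have b2 := sr_decomp (P := P) c2
  rw [← add_sum_erase _ _ (mem_univ (triv G)), ct, deg_triv] at b1
  rw [← add_sum_erase _ _ (mem_univ (triv G)), ct, h.sr_triv] at b2
  replace b1 : (e * e : ℝ) = 1 + ∑ φ ∈ univ.erase (triv G), (c φ : ℝ) * charDegree φ.1 := by exact_mod_cast b1
  have b3 : (1 + n * p) * ∑ φ ∈ univ.erase (triv G), c φ * sr P φ.1 ≤
      (p - 1) * ∑ φ ∈ univ.erase (triv G), (c φ : ℝ) * charDegree φ.1 := by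
    rw [mul_sum, mul_sum]
    exact sum_le_sum fun φ f => by
      rw [mul_left_comm, mul_left_comm _ (c φ : ℝ)]; exact mul_le_mul_of_nonneg_left (h.sr_le (mem_erase.1 f).1) (by positivity)
  have b4 := deg_le_sum_sq (fun a b : P => Subtype.ext (le_CS_prime h.card b.2 a a.2)) (char_restrict (irr_char w.2) P) d1
  rw [← sum_nz P fun y => ‖w.1 y‖ ^ 2, d1, h.card, Complex.norm_natCast, show ∑ y ∈ nz P, ‖w.1 y‖ ^ 2 =
    sr P (w.1 * fun g => conj (w.1 g)) by simp [sr, Complex.mul_conj, Complex.normSq_eq_norm_sq, ← Complex.ofReal_pow], b2] at b4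
  have b5 : (1 + n * p) * (p * e) + (p - 1) ≤ (1 + n * p) * (p - 1 + e * e) + (p - 1 : ℝ) * (e * e) := by
    have : (0 : ℝ) ≤ 1 + n * p := by positivity
    rw [← sub_eq_iff_eq_add'.2 b1] at b3
    push_cast at b4
    nlinarith [mul_le_mul_of_nonneg_left b4 this]
  rw [show (p : ℝ) = e * t + 1 by exact_mod_cast et.symm, add_sub_cancel_right] at b5
  replace b5 : (1 + n * (e * t + 1)) * ((e * t + 1) * e) + e * t ≤ (1 + n * (e * t + 1)) * (e * t + e * e) + e * t * (e * e) := by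
    exact_mod_cast b5
  obtain ⟨e, rfl⟩ := Nat.exists_eq_add_of_le' h.two_le_e
  obtain ⟨t, rfl⟩ := Nat.exists_eq_add_of_le' (show 2 ≤ t by omega)
  refine le_antisymm (not_lt.1 fun f => ?_) h.n_pos
  obtain ⟨n, rfl⟩ := Nat.exists_eq_add_of_le' f
  have b6 : (e + 2) * (e + 1) * ((t + 1) * (1 + (n + 2) * ((e + 2) * (t + 2) + 1))) ≤ (e + 2) * (e + 1) * ((t + 2) * (e + 3)) := by
    simp only [Nat.succ_eq_add_one] at b5; nlinarith
  replace b6 := Nat.le_of_mul_le_mul_left b6 (by positivity)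
  nlinarith [Nat.zero_le (t * n * e * t), Nat.zero_le (t * e * t), Nat.zero_le (t * n * e), Nat.zero_le (t * n * t), Nat.zero_le (n * e * t)]

theorem perm {g : G} (hg : ¬ p ∣ orderOf g) (h1 : g ≠ 1) :
    indFun (NS P) (fun _ => 1) g = (n + 1) * (1 - ∑ w ∈ V with σ w = -1, w.1 g) := by
  have p0 : (p : ℂ) ≠ 0 := Nat.cast_ne_zero.2 hp.out.ne_zero
  have p1 : (0 : ℝ) < p - 1 := sub_pos.2 (by exact_mod_cast hp.out.one_lt)
  have e1 := h.et_pos.1
  have cθ := char_indFun (NS P) char_one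
  have cD : IsCharacter G (indFun P (fun _ => 1) - indFun (NS P) fun _ => 1) := by
    rw [← indFun_trans P (NS P) le_normalizer, ← indFun_sub]
    refine char_indFun _ (char_sub_of_inner_ne_zero (char_indFun _ char_one) isIrr_one ?_)
    rw [inner_indFun_left _ _ (class_const 1), irr_inner_self isIrr_one]; exact one_ne_zero
  obtain ⟨b, b1, b2⟩ := char_decomp cθ
  obtain ⟨c, c1, c2⟩ := char_decomp cD
  have k : ∀ φ : IrrCharacter G, ∑ y ∈ nz P, φ.1 y + φ.1 1 = Nat.card P * (b φ + c φ : ℕ) := fun φ => by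
    rw [sum_nz_inner, ← inner_indFun_right _ _ (irr_class φ.2), inner_char_symm (irr_char φ.2) (char_indFun _ char_one), Nat.cast_add,
      ← b1, ← c1, ← inner_add_left, add_sub_cancel]
  have bt : b (triv G) = 1 := by
    have := b1 (triv G)
    rw [inner_indFun_left _ _ (irr_class (triv G).2)] at this
    exact_mod_cast this.symm.trans (irr_inner_self isIrr_one)
  have ct : c (triv G) = 0 := by
    have := h.cong (h.sub h.one) (k _)
    rw [h.rr _ h.one, h.triv_sign.1, h.triv_sign.2, deg_triv, bt] at this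
    simpa [mul_add, hp.out.ne_zero] using this
  have km : ∀ φ ∈ B, σ (r φ) = -1 → b φ = 0 ∧ c φ = 0 := fun φ a s => by
    simpa [h.zero a s, ← Nat.cast_add] using k φ
  have kp : ∀ φ ∈ B, σ (r φ) = 1 → φ ≠ triv G → T (r φ) * (b φ + c φ) = n + 1 := fun φ a s f => by
    have := h.cong a (k φ)
    have d := (h.cases (h.rV φ a)).1 s fun e => f (h.eq_triv a e)
    refine Nat.eq_of_mul_eq_mul_left hp.out.pos ?_
    rw [s] at this; zify at d ⊢; push_cast at this; linarith
  have v1 : ∀ y ∈ P, y ≠ 1 → indFun (NS P) (fun _ => 1) y = 1 := fun y a f => by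
    rw [indFun_const_one_apply, Nat.card_congr (Equiv.subtypeEquivRight fun x => (h.mem_NS_iff a f).1)]
    exact inv_mul_cancel₀ (card_ne_zero' _)
  have v2 : ∀ y ∈ P, y ≠ 1 → indFun P (fun _ => 1) y = e := fun y a f => by
    rw [indFun_const_one_apply, Nat.card_congr (Equiv.subtypeEquivRight fun x => (h.mem_NS_iff a f).2), h.card,
      show Nat.card {x // x ∈ NS P} = p * e from h.card_N h.cen, Nat.cast_mul, inv_mul_cancel_left₀ p0]
  have s1 := (sr_const (c := 1) v1).symm.trans (sr_decomp b2)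
  have s2 := (sr_const (c := e - 1) fun y a f => by simp [v1 y a f, v2 y a f]).symm.trans (sr_decomp (P := P) c2)
  have s3 := deg_decomp c2 (d := (e - 1) * (1 + n * p)) (by
    rw [Pi.sub_apply, indFun_one, indFun_one, ← relIndex_mul_index (le_normalizer : P ≤ NS P), h.hn,
      (congrArg (relIndex · (NS P)) h.cen).symm.trans h.he]
    push_cast [e1]; ring)
  replace s3 : (e - 1 : ℝ) * (1 + n * p) = ∑ φ, (c φ : ℝ) * charDegree φ.1 := by
    rw [← Nat.cast_pred e1]; exact_mod_cast s3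
  rw [h.card, ← add_sum_erase _ _ (mem_univ (triv G)), bt, h.sr_triv, Nat.cast_one, left_eq_add] at s1
  have sp : ∀ φ ∈ B, σ (r φ) = 1 → 0 < sr P φ.1 := fun φ a s => by
    have := h.sr_eq a
    rw [s, Int.cast_one, one_mul] at this
    exact pos_of_mul_pos_right (this ▸ p1) (Nat.cast_nonneg (T (r φ)))
  have b0 : ∀ φ ∈ B, σ (r φ) = 1 → φ ≠ triv G → b φ = 0 := fun φ a s f => by
    simpa [(sp φ a s).ne'] using (sum_eq_zero_iff_of_nonneg fun φ _ => by
      by_cases a : φ ∈ B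
      · rcases h.sg _ (h.rV φ a) with s | s
        exacts [mul_nonneg (by positivity) (sp φ a s).le, by simp [km φ a s]]
      · simp [h.sr_out h.cen a]).1 s1 φ (mem_erase.2 ⟨f, mem_univ _⟩)
  have c0 : ∀ φ ∉ B, c φ = 0 := fun φ a => by
    have : ∑ φ, c φ * ((p - 1) * charDegree φ.1 - (1 + n * p) * sr P φ.1) = 0 := by
      simp only [mul_sub, mul_left_comm (c _ : ℝ), sum_sub_distrib, ← mul_sum, ← s2, ← s3, h.card]; ring
    simpa [h.sr_out h.cen a, p1.ne', (deg_pos φ.2).ne'] using (sum_eq_zero_iff_of_nonneg fun φ _ => by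
      by_cases a : φ = triv G
      exacts [by simp [a, ct], mul_nonneg (by positivity) (sub_nonneg.2 (h.sr_le a))]).1 this φ (mem_univ _)
  have := c2 g
  rw [Pi.sub_apply, indFun_eq_zero_of_not_conj _ _ _ fun x a => (h1 (conj_eq_one_iff.1 ((h.pelt a).eq_one hp.out
    (by rwa [orderOf_conj])))).elim, ← sum_subset (subset_univ B) fun φ _ a => by simp [c0 φ a],
    (sum_congr rfl fun φ a => ?_).trans (h.sum_fib fun v => (if σ v = 1 ∧ v ≠ triv G then (n + 1 : ℂ) / T v else 0) * v.1 g),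
    sum_congr rfl (g := fun v => (n + 1) * (σ v * v.1 g + (if σ v = -1 then v.1 g else 0) - if v = triv G then 1 else 0))
      fun v a => ?_, ← mul_sum, sum_sub_distrib, sum_add_distrib, h.rel g hg, ← sum_filter, sum_ite_eq', if_pos h.one] at this
  · linear_combination -this
  · have t0 : (T v : ℂ) ≠ 0 := Nat.cast_ne_zero.2 (h.T_pos a).1.ne'
    by_cases f : v = triv G
    · simp [f, h.triv_sign]
    · rcases h.sg v a with s | s <;> simp [s, f]
      field_simp
  · rw [h.reg φ a g hg]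
    congr 1
    split_ifs with f
    · have f' : φ ≠ triv G := fun e => f.2 (e ▸ h.rr (triv G) h.one)
      rw [eq_div_iff (Nat.cast_ne_zero.2 (h.T_pos (h.rV φ a)).1.ne'), mul_comm]
      exact_mod_cast by simpa [b0 φ a f.1 f'] using kp φ a f.1 f'
    · rcases h.sg _ (h.rV φ a) with s | s
      · rw [h.eq_triv a (by simpa [s] using f), ct, Nat.cast_zero]
      · simp [km φ a s]

end BE

end H3
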