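import Cfsg.Agent.H3.Zass5

/-!
H3.Zass6: normal subgroups of Zassenhaus groups; regular normal subgroups.
-/

set_option autoImplicit false
open Cfsg MulAction Subgroup H5

namespace H3

variable {G Ω : Type*} [Group G] [MulAction G Ω] {a b c d : Ω} {H Q D N R : Subgroup G} {g s u w x y z : G}

theorem zass_finite [Finite Ω] (hZ : IsZassenhausGroup G Ω) : Finite G :=
  have := hZ.1; Finite.of_injective _ (toPerm_injective (α := G) (β := Ω))

theorem eq_of_reg (h : ∀ a : Ω, stabilizer N a = ⊥) (hx : x ∈ N) (hy : y ∈ N) (e : x • a = y • a) : x = y :=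
  (inv_mul_eq_one.1 (congrArg Subtype.val (mem_bot.1 ((h a).le (show (⟨y⁻¹ * x, mul_mem (inv_mem hy) hx⟩ : N) • a = a by
    simp [Subgroup.smul_def, mul_smul, e]))))).symm

theorem card_of_reg (t : IsPretransitive N Ω) (h : ∀ a : Ω, stabilizer N a = ⊥) (a : Ω) : Nat.card N = Nat.card Ω := by
  rw [← (stabilizer N a).index_mul_card, index_stabilizer_of_transitive, h a, card_bot, mul_one]

theorem Fld.congr {F K : Type*} [Field F] [Field K] {f : F → G} {ψ : G → F} (h : Fld Q D f ψ) (E : K ≃+* F) :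
    Fld Q D (fun x => f (E x)) fun g => E.symm (ψ g) :=
  ⟨fun x y => by simp only [map_add, h.add], h.inj.comp E.injective, fun u => (h.mem u).trans E.surjective.exists,
    fun g p x => by simp only [h.act g p, map_mul, E.apply_symm_apply], h.irr⟩

namespace ZG
variable [Finite G] [Finite Ω] (h : ZG a b H)
include h

omit [Finite Ω] in
theorem trans_normal [n : N.Normal] (n0 : N ≠ ⊥) : IsPretransitive N Ω := ⟨fun c d => by
  by_cases e : c = d
  · exact ⟨1, by simp [e]⟩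
  obtain ⟨⟨g, p⟩, q⟩ := ne_bot_iff_exists_ne_one.1 n0
  have := Finite.of_surjective _ (h.trans.exists_smul_eq a)
  obtain ⟨f, r⟩ := h.exists_moved (x := g) (by simpa using q)
  obtain ⟨t, rfl, rfl⟩ := h.two r.symm e
  exact ⟨⟨_, n.conj_mem g p t⟩, by simp [Subgroup.smul_def, mul_smul]⟩⟩

theorem inf_ne_bot (hZ : IsZassenhausGroup G Ω) [n : N.Normal] (n0 : N ≠ ⊥) : N ⊓ St2 G a b ≠ ⊥ := fun e => by
  have tr := h.trans_normal n0
  obtain ⟨c, hc⟩ := hZ.2.2.2.2 N n tr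
  have := nontrivial_of_ne _ _ h.ne
  obtain ⟨d, hd⟩ := exists_ne c
  obtain ⟨t, t2⟩ := tr.exists_smul_eq c d
  obtain ⟨K, _, k1, k2, -, k3, -⟩ := H1.IsFrob.exists_kernel (H1.isFrob_iff.2 ⟨hc, fun f => hd (by
    rw [← t2, show t • c = c from f.ge (mem_top t)]), fun g x x1 x2 x3 => by_contra fun f => x2 (by
      obtain ⟨s, s1, s2⟩ := h.two (c := c) (d := (g : G)⁻¹ • c) (fun k => f (eq_inv_smul_iff.1 k)) h.ne
      have x1 : (x : G) • c = c := x1
      have x3 : (x : G) • (g : G)⁻¹ • c = (g : G)⁻¹ • c := conj_smul_iff.1 x3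
      simpa using mem_bot.1 (e.le ⟨n.conj_mem _ x.2 s, by simp [mul_smul, ← s1, x1], by simp [mul_smul, ← s2, x3]⟩))⟩ :
        IsFrobeniusComplement (stabilizer N c))
  have mem : ∀ x : N, x ∈ K ↔ x = 1 ∨ ∀ f : Ω, (x : G) • f ≠ f := fun x =>
    (Set.ext_iff.1 k1 x).trans (or_congr_right ⟨fun e f k => by
      obtain ⟨s, rfl⟩ := tr.exists_smul_eq c f
      exact e s (Subgroup.mem_pointwise_smul_iff_inv_smul_mem.2 (by
        simpa [mul_smul, inv_smul_eq_iff, Subgroup.smul_def] using k)), fun e s k => e ((s : G) • c) (by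
        simpa [mul_smul, inv_smul_eq_iff, Subgroup.smul_def] using Subgroup.mem_pointwise_smul_iff_inv_smul_mem.1 k)⟩)
  have m : (K.map N.subtype).Normal := ⟨by
    rintro _ ⟨x, u, rfl⟩ s
    exact ⟨⟨_, n.conj_mem _ x.2 s⟩, (mem _).2 (((mem x).1 u).imp (by simp +contextual) fun e f k => e _ (conj_smul_iff.1 k)), rfl⟩⟩
  obtain ⟨f, p⟩ := hZ.2.2.2.2 _ m (h.trans_normal (mt (map_eq_bot_iff_of_injective _ (subtype_injective _)).1 k3))
  obtain ⟨⟨⟨_, x, u, rfl⟩, q⟩, r⟩ := ne_bot_iff_exists_ne_one.1 p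
  exact ((mem x).1 u).elim (fun e => r (by simp [e, Subtype.ext_iff])) fun e => e f q

theorem normal_zass (hZ : IsZassenhausGroup G Ω) [n : N.Normal] (n0 : N ≠ ⊥) : H ≤ N ∧ IsZassenhausGroup N Ω := by
  obtain ⟨⟨y, y1, y2⟩, y3⟩ := ne_bot_iff_exists_ne_one.1 (h.inf_ne_bot hZ n0)
  have HL : H ≤ N := H1.le_of_fpf_of_mem (h.norm y2.1) (h.fpf y y2 fun e => y3 (Subtype.ext e)) le_normalizer_of_normal y1
  have := hZ.1
  refine ⟨HL, inferInstance, is_two_pretransitive_iff.2 fun e e' => ?_, fun g c d f p q r s t u => Subtype.ext (h.three g c d f p q r s t u),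
    ⟨⟨y, y1⟩, fun e => y3 (Subtype.ext (congrArg Subtype.val e :)), a, b, h.ne, y2⟩, fun R r t => ?_⟩
  · have k : ∀ {c d : Ω}, c ≠ d → ∃ g : N, g • a = c ∧ g • b = d := fun {c d} e => by
      obtain ⟨s, rfl⟩ := (h.trans_normal n0).exists_smul_eq a c
      obtain ⟨u, p, q⟩ := h.reg (c := s⁻¹ • d) fun f => e (inv_smul_eq_iff.1 f).symm
      exact ⟨s * ⟨u, HL p⟩, by rw [mul_smul]; exact congrArg _ (h.le p), by rw [mul_smul]; exact eq_inv_smul_iff.1 q⟩
    obtain ⟨s, rfl, rfl⟩ := k e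
    obtain ⟨t, rfl, rfl⟩ := k e'
    exact ⟨t * s⁻¹, by simp [mul_smul]⟩
  by_contra! f
  obtain ⟨⟨x, x1, x2⟩, x3⟩ := ne_bot_iff_exists_ne_one.1 (h.inf_ne_bot hZ (N := normalClosure H) fun e => h.ntH (le_bot_iff.1 (e ▸ le_normalClosure)))
  have : normalClosure (H : Set G) ≤ (R ⊔ H.subgroupOf N).map N.subtype := (closure_le _).2 fun v p => by
    obtain ⟨u, p', q⟩ := Group.mem_conjugatesOfSet_iff.1 p
    obtain ⟨g, rfl⟩ := isConj_iff.1 q
    obtain ⟨⟨s, s1⟩, s2⟩ := t.exists_smul_eq a (g • a)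
    have k := h.conj_mem (g := (s : G)⁻¹ * g) (by rw [mul_smul, ← s2]; exact inv_smul_smul (s : G) a) p'
    exact ⟨s * ⟨_, HL k⟩ * s⁻¹, mul_mem (mul_mem (mem_sup_left s1) (mem_sup_right k)) (inv_mem (mem_sup_left s1)), by simp [mul_assoc]⟩
  obtain ⟨v, p, rfl⟩ := this x1
  obtain ⟨s, s1, u, u1, rfl⟩ := mem_sup_of_normal_left.1 p
  obtain rfl := eq_of_reg f s1 (one_mem _) (a := a) (by
    have : (s : G) • (u : G) • a = a := (mul_smul _ _ _).symm.trans x2.1
    rw [show (u : G) • a = a from h.le u1] at this; exact this.trans (one_smul _ _).symm)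
  exact x3 (Subtype.ext (mem_bot.1 (h.inf.le ⟨by simpa [mem_subgroupOf] using u1, x2⟩)))

variable [n : N.Normal] (t : IsPretransitive N Ω) (r : ∀ a : Ω, stabilizer N a = ⊥)
include n t r

omit [Finite G] [Finite Ω] in
theorem cent_reg (hR : R ≤ St2 G a b) (h0 : R ≠ ⊥) : ∃ u ≠ 1, ∀ x, x ∈ N ⊓ centralizer (R : Set G) ↔ x = 1 ∨ x = u := by
  obtain ⟨⟨u, u1⟩, u2⟩ := t.exists_smul_eq a b
  replace u2 : u • a = b := u2
  obtain ⟨⟨y, y1⟩, y2⟩ := ne_bot_iff_exists_ne_one.1 h0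
  refine ⟨u, fun e => h.ne (by simpa [e] using u2), fun x => ⟨fun ⟨p, q⟩ => by_contra fun e => y2 (Subtype.ext (h.three y a b (x • a) h.ne
    (fun f => e (Or.inr (eq_of_reg r p u1 (f.symm.trans u2.symm)))) (fun f => e (Or.inl (eq_of_reg r p (one_mem _) (by simpa using f.symm))))
    (hR y1).1 (hR y1).2 (by rw [← mul_smul, q y y1, mul_smul, (hR y1).1]))), ?_⟩⟩
  rintro (rfl | rfl)
  · exact one_mem _
  exact ⟨u1, fun y p => mul_inv_eq_iff_eq_mul.1 (eq_of_reg r (n.conj_mem _ u1 y) u1 (a := a) (by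
    rw [mul_smul, mul_smul, show y⁻¹ • a = a from (inv_mem (hR p)).1, u2, (hR p).2]))⟩

theorem sq_reg (hx : x ∈ N) : x * x = 1 := by
  obtain ⟨u, u1, u2⟩ := h.cent_reg t r le_rfl h.nt
  have u3 := (u2 u).2 (Or.inr rfl)
  have n1 : ∀ x ∈ N, x ≠ 1 → x • a ≠ a := fun x p q e => q (eq_of_reg r p (one_mem _) (by simpa using e))
  by_cases e : x = 1
  · simp [e]
  obtain ⟨v, p, q⟩ := h.reg' (n1 u u3.1 u1) (n1 x hx e)
  rw [← eq_of_reg r (n.conj_mem u u3.1 v) hx (a := a) (by rw [mul_smul, mul_smul, show v⁻¹ • a = a from inv_mem (h.le p), q])]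
  exact H4.conj_mul_self (((u2 _).1 (mul_mem u3 u3)).resolve_right (by simpa using u1)) v

theorem card_reg (hR : R ≤ St2 G a b) (h0 : R ≠ ⊥) (h1 : Odd (Nat.card R) ∨ Nat.card R = 2) : Nat.card Ω = 2 ^ Nat.card R := by
  obtain ⟨u, u1, u2⟩ := h.cent_reg t r hR h0
  have c : Nat.card (N ⊓ centralizer (R : Set G) : Subgroup G) = 2 := by
    rw [← Set.ncard_pair u1.symm, ← Nat.card_coe_set_eq]; exact congrArg (fun s : Set G => Nat.card s) (Set.ext u2)
  have m : IsMulCommutative N := H1.isMulCommutative_of_conj_eq_inv (s := 1) fun k p => by simpa using eq_inv_of_mul_eq_one_left (h.sq_reg t r p)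
  have p2 : IsPGroup 2 N := fun x => ⟨1, Subtype.ext (by simpa [sq] using h.sq_reg t r x.2)⟩
  have cN := card_of_reg t r a
  rcases h1 with o | o
  · obtain ⟨k, e⟩ := IsPGroup.iff_card.1 p2
    obtain ⟨⟨v, v1⟩, v2⟩ := ne_bot_iff_exists_ne_one.1 h.ntH
    rw [← cN, FT.t3_10b (isSolvable_of_comm m.is_comm.comm) (hR.trans (inf_le_left.trans h.norm)) (h.fpf.mono hR le_rfl) h0 le_normalizer_of_normal
      le_normalizer_of_normal (by simp [cN, ← h.card]) (e ▸ (Nat.coprime_two_right.2 o).pow_right _) (eq_bot_iff.2 fun x p =>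
        eq_of_reg r p.1 (one_mem _) (a := a) (by simpa using h.le (h.cent v1 (by simpa using v2) (p.2 v v1).symm))), c]
  obtain ⟨z, z1, z2⟩ := H9.exists_orderOf_eq_of_dvd o.symm.dvd
  obtain rfl : zpowers z = R := H1.eq_of_le_of_card_eq (zpowers_le_of_mem z1) (by rw [Nat.card_zpowers, z2, o])
  have l := L.relIndex_centralizer_le (L := N) (N := N ⊓ centralizer (zpowers z : Set G)) (x := z) fun g p => ⟨by
    simpa [commutatorElement_def, mul_assoc] using mul_mem (n.conj_mem g p z) (inv_mem p), by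
      have q := n.conj_mem g p z
      rw [H9.centralizer_zpowers]
      refine mem_centralizer_singleton_iff.2 (mul_inv_eq_iff_eq_mul.1 ?_).symm
      rw [commutatorElement_def, show z * (z * g * z⁻¹ * g⁻¹) * z⁻¹ = z * z * g * (z * z)⁻¹ * (z * g * z⁻¹)⁻¹ by group, H4.mul_self_of_two z2,
        ← eq_inv_of_mul_eq_one_left (h.sq_reg t r q), ← eq_inv_of_mul_eq_one_left (h.sq_reg t r p), H1.comm_of_mem m q p]; simp⟩
  have k := H1.card_inf_mul_relIndex (centralizer {z}) N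
  rw [inf_comm, ← H9.centralizer_zpowers, c, H9.centralizer_zpowers] at k
  obtain ⟨j, e⟩ := u1 |> fun _ => p2.card_eq_or_dvd.resolve_left (by have := h.card; have := h.lt; omega)
  have := h.card; have := h.lt; have := h.one_lt
  rw [c] at l; rw [o]; omega

end ZG

end H3
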