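import Cfsg.Agent.H3.BR2
import Cfsg.Agent.H3.Ab4
import Cfsg.Agent.S0732

/-!
H3.BR3: the theorem of Brauer and Reynolds (`brauer_reynolds`).
-/

set_option autoImplicit false
open Cfsg Subgroup Finset
open scoped Classical ComplexConjugate

namespace H3
open H4 SE

variable {G : Type*} [Group G]

theorem ti_inv [Finite G] {H : Subgroup G} (hc : IsCyclic H) {k : ℕ} (hk : 3 ≤ k)
    (h1 : ∀ z ∈ H, z ≠ 1 → Nat.card {w // w⁻¹ * z * w ∈ H} = Nat.card H * k)
    (h2 : ∀ g : G, 2 ∣ orderOf g → ∃ w, w⁻¹ * g * w ∈ H) {j : G} (hj : j ∈ H) (i : SE.Inv j) :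
    Nat.card H = 2 ∧ ∀ s : G, SE.Inv s → Nat.card (Cz s) = 2 * k ∧ ∀ c ∈ Cz s, c * c = 1 := by
  obtain ⟨z, z0, hz⟩ := H1.exists_eq_zpowers_of_isCyclic hc
  have z1 : z ≠ 1 := fun e => i.1 (by simpa [← hz, e] using hj)
  have m : ∀ w ∈ NS H, ∀ y ∈ H, w⁻¹ * y * w ∈ H := fun w a y => (mem_normalizer_iff''.1 a y).1
  have cM : Nat.card (NS H) = Nat.card H * k := by
    rw [← h1 z z0 z1]
    refine Nat.card_congr (Equiv.subtypeEquivRight fun w => ⟨fun a => m w a z z0, fun a => inv_mem_iff.1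
      (mem_normalizer_fintype fun y b => ?_)⟩)
    obtain ⟨n, rfl⟩ := hz.ge b
    rw [← conj_zpow, inv_inv]; exact zpow_mem a n
  have W : ∀ y ∈ H, y ≠ 1 → ∀ w, w⁻¹ * y * w ∈ H → w ∈ NS H := fun y a b w c =>
    (Set.eq_of_subset_of_ncard_le (s := (NS H : Set G)) (t := {w | w⁻¹ * y * w ∈ H}) (fun w d => m w d y a)
      ((h1 y a b).trans cM.symm).le).ge c
  have u : ∀ s ∈ H, SE.Inv s → s = j := fun s a b => H1.two_eq_of_isCyclic hc a hj (inv_iff_orderOf.1 b) (inv_iff_orderOf.1 i)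
  have M : Cz j = NS H := le_antisymm (fun w a => W j hj i.1 w (by rwa [mul_assoc, ← mem_Cz.1 a, inv_mul_cancel_left]))
    fun w a => mem_Cz.2 (by rw [← inv_mul_eq_iff_eq_mul.1 ((mul_assoc _ _ _).symm.trans (u _ (m w a j hj) (i.conj' w)))])
  have t : ∀ a b w : G, w⁻¹ * b * w ∈ H → 2 ∣ orderOf a → b ∈ zpowers a → b ≠ 1 → w⁻¹ * a * w ∈ H := fun a b w c d f g => by
    obtain ⟨v, e⟩ := h2 a d
    obtain ⟨n, rfl⟩ := f
    have := m _ (W (v⁻¹ * a ^ n * v) (by simpa using (conj_zpow (a := v⁻¹) (b := a) (i := n)).subst (motive := (· ∈ H)) (zpow_mem (by simpa using e) n))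
      (by simpa [mul_assoc] using mt H1.conj_eq_one_iff'.1 g) (v⁻¹ * w) (by simpa [mul_assoc] using c)) _ e
    simpa [mul_assoc] using this
  have od : ∀ g ∈ Cz j, ¬ 2 ∣ orderOf g → g * j ∈ H := fun g a b => by
    have c : (g * j) ^ orderOf g = j := by
      obtain ⟨n, e⟩ := Nat.odd_iff.2 (Nat.two_dvd_ne_zero.1 b)
      rw [Commute.mul_pow (mem_Cz.1 a), pow_orderOf_eq_one, one_mul, e, pow_succ, pow_mul, sq, i.2, one_pow, one_mul]
    have d : j ∈ zpowers (g * j) := ⟨orderOf g, by simpa using c⟩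
    simpa using t (g * j) j 1 (by simpa) (inv_iff_orderOf.1 i ▸ orderOf_dvd_of_mem_zpowers d) d i.1
  have sq : ∀ g ∈ Cz j, g ∉ H → g * g = 1 := fun g a b => by_contra fun c => b (by
    have a' : g * j ∈ Cz j := mul_mem a (self_mem_Cz j)
    by_cases d : 2 ∣ orderOf g
    · by_cases f : 2 ∣ orderOf (g * j)
      · obtain ⟨w, e⟩ := h2 g d
        have := t (g * j) (g * g) w (by simpa [mul_assoc] using mul_mem e e) f ⟨2, by
          simp only [zpow_two]; rw [mul_assoc, ← mul_assoc j, ← mem_Cz.1 a, mul_assoc, i.2, mul_one]⟩ c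
        simpa [mul_assoc] using m _ (inv_mem (W j hj i.1 w (by simpa [mul_assoc] using mul_mem (inv_mem e) this))) _ e
      · simpa [mul_assoc, i.2] using od _ a' f
    · exact (mul_mem_cancel_right hj).1 (od g a d))
  have l : H ≤ Cz j := M ▸ le_normalizer
  have iv : ∀ g ∈ Cz j, g ∉ H → ∀ y ∈ H, g * y * g⁻¹ = y⁻¹ := fun g a b y c => by
    rw [← eq_inv_of_mul_eq_one_left (sq g a b), eq_inv_iff_mul_eq_one, mul_assoc]
    exact sq _ (mul_mem a (l c)) (mt (mul_mem_cancel_right c).1 b)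
  have n2 : ¬ H.relIndex (Cz j) ∣ 2 := fun e => by
    have := H1.card_mul_relIndex l
    rw [M, cM, Nat.mul_right_inj Nat.card_pos.ne', ← M] at this
    exact absurd (Nat.le_of_dvd two_pos e) (by omega)
  obtain ⟨g, g1, g2⟩ : ∃ g ∈ Cz j, g ∉ H := by
    by_contra! a
    exact n2 (relIndex_eq_one.2 a ▸ one_dvd _)
  obtain ⟨f, f1, f2⟩ : ∃ f ∈ Cz j, f * g ∉ H ∧ f ∉ H := by simpa [not_or] using fun a => mt relIndex_dvd_two_iff.2 n2 ⟨g, g1, a⟩
  have zz : z * z = 1 := by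
    have a := iv _ (mul_mem f1 g1) f2.1 z z0
    rw [mul_inv_rev, show f * g * z * (g⁻¹ * f⁻¹) = f * (g * z * g⁻¹) * f⁻¹ by group, iv g g1 g2 z z0,
      iv f f1 f2.2 _ (inv_mem z0), inv_inv] at a
    exact mul_eq_one_iff_eq_inv.2 a
  have c2 : Nat.card H = 2 := by rw [← hz, Nat.card_zpowers]; exact inv_iff_orderOf.1 ⟨z1, zz⟩
  refine ⟨c2, fun s a => ?_⟩
  obtain ⟨w, e⟩ := h2 s (inv_iff_orderOf.1 a).symm.dvd
  obtain rfl : s = w * j * w⁻¹ := by rw [← u _ e (a.conj' w)]; group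
  rw [← cj_Cz, H9.card_cj, M, cM, c2]
  refine ⟨rfl, fun c b => ?_⟩
  obtain ⟨c, b, rfl⟩ := b
  refine conj_mul_self ((em _).elim (fun d => ?_) (sq c (M ▸ b))) w
  have := pow_card_eq_one' (x := (⟨c, d⟩ : H))
  rw [c2, pow_two] at this
  exact congrArg Subtype.val this

theorem eq_top_of_perfect (h : commutator G = ⊤) {A : Subgroup G} (hA : ∀ a b : G, a * b * a⁻¹ * b⁻¹ ∈ A) (g : G) : g ∈ A :=
  (h.ge.trans (commutator_le.2 fun a _ b _ => hA a b)) (mem_top g)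

theorem ringEquiv_comm {F : Type*} [Field F] [Finite F] (φ ψ : F ≃+* F) (x : F) : φ (ψ x) = ψ (φ x) := by
  have k : ∀ φ : F ≃+* F, ∃ m : ℤ, ∀ x ≠ 0, φ x = x ^ m := fun φ =>
    let ⟨m, a⟩ := MonoidHom.map_cyclic (Units.map (φ : F →* F))
    ⟨m, fun x b => by simpa using congrArg Units.val (a (Units.mk0 x b))⟩
  obtain ⟨m, a⟩ := k φ
  obtain ⟨n, b⟩ := k ψ
  by_cases c : x = 0
  · simp [c]
  · rw [b x c, a x c, map_zpow₀, map_zpow₀, b x c, a x c, ← zpow_mul, ← zpow_mul, mul_comm]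

theorem semiaffine_perfect {F : Type*} [Field F] [Finite F] (h : commutator G = ⊤) (ι : G →* Equiv.Perm F)
    (hι : ∀ g, ι g ∈ semiaffineGroup F) (g : G) : ι g = 1 := by
  let A : Subgroup Fˣ → Subgroup G := fun U =>
    { carrier := {g | ∃ a ∈ U, ∃ b : F, ∀ x, ι g x = a * x + b}
      one_mem' := ⟨1, one_mem _, 0, by simp⟩
      mul_mem' := fun ⟨a, a1, b, a2⟩ ⟨c, c1, d, c2⟩ => ⟨a * c, mul_mem a1 c1, a * d + b, fun x => by simp [a2, c2]; ring⟩
      inv_mem' := fun ⟨a, a1, b, a2⟩ => ⟨a⁻¹, inv_mem a1, -(a⁻¹ * b), fun x => by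
        rw [map_inv, Equiv.Perm.inv_eq_iff_eq, a2]; simp [mul_add]⟩ }
  have k : ∀ (a b : G) (u : Fˣ) (v : F), (∀ x, ι a (ι b x) = u * ι b (ι a x) + v) → ∀ x, ι (a * b * a⁻¹ * b⁻¹) x = u * x + v :=
    fun a b u v e x => by simpa using e ((ι a)⁻¹ ((ι b)⁻¹ x))
  have k1 := eq_top_of_perfect h (A := A ⊤) fun a b => by
    obtain ⟨u, v, φ, e⟩ := hι a
    obtain ⟨w, z, ψ, f⟩ := hι b
    refine ⟨u * Units.map (φ : F →* F) w * (w * Units.map (ψ : F →* F) u)⁻¹, trivial,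
      u * φ z + v - u * φ w * (w * ψ u)⁻¹ * (w * ψ v + z), k a b _ _ fun x => ?_⟩
    have := w.ne_zero
    have := (map_ne_zero ψ).2 u.ne_zero
    simp [e, f, ringEquiv_comm φ ψ]; field_simp; ring
  have k2 := eq_top_of_perfect h (A := A ⊥) fun a b => by
    obtain ⟨u, -, v, e⟩ := k1 a
    obtain ⟨w, -, z, f⟩ := k1 b
    exact ⟨1, one_mem _, u * z + v - (w * v + z), k a b _ _ fun x => by simp [e, f]; ring⟩
  exact eq_top_of_perfect h (A := ι.ker) (fun a b => Equiv.ext fun x => by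
    obtain ⟨u, rfl : u = 1, v, e⟩ := k2 a
    obtain ⟨w, rfl : w = 1, z, f⟩ := k2 b
    simpa using k a b 1 0 (fun x => by simp [e, f]; ring) x) g

variable [Fintype G] {p : ℕ} {P : Subgroup G} {e t n : ℕ} {B V : Finset (IrrCharacter G)} {r : IrrCharacter G → IrrCharacter G}
  {σ : IrrCharacter G → ℤ} {T : IrrCharacter G → ℕ} [hp : Fact p.Prime]

theorem BD.exists_compl (h : BD p P e t B V r σ T) (hC : CS P = P) : ∃ H ≤ NS P, IsCyclic H ∧ Nat.card H = e ∧ P ⊓ H = ⊥ ∧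
    (∀ g ∈ NS P, g ∉ P → ∃ y ∈ P, y * g * y⁻¹ ∈ H) ∧
    ∀ z ∈ H, z ≠ 1 → Nat.card {x // x⁻¹ * z * x ∈ NS P} = Nat.card {w // w⁻¹ * z * w ∈ H} * p := by
  obtain ⟨Q, hQ⟩ := h.syl.exists_sylow_top
  obtain ⟨H, h1, h2, h3, h4⟩ := H3.exists_compl Q
  rw [hQ] at h1 h2 h4
  have n : ∀ z ∈ H, z ≠ 1 → z ∉ P := fun z a b c => b (h2.le ⟨c, a⟩)
  have c : ∀ g ∈ NS P, g ∉ P → ∃ y ∈ P, y * g * y⁻¹ ∈ H := fun g a b => by
    obtain ⟨z, z1, y, y1, rfl⟩ := h4 g a
    obtain ⟨x, x1, x2⟩ := frob_conj _ (fun k => H1.conj_mem_of_mem_normalizer (h1 z1)) (h.fpf hC (mt (mul_mem · y1) b))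
      (H1.conj_mem_of_mem_normalizer (h1 z1) y1)
    exact ⟨x, x1, by rw [inv_mul_cancel_right] at x2; simpa [x2, mul_assoc]⟩
  refine ⟨H, h1, ?_, ?_, h2, c, fun z a b => ?_⟩
  · have := isCyclic_of_prime_card h.card
    have := ZMod.isCyclic_units_prime (h.card ▸ hp.out)
    have := isCyclic_of_injective (IsCyclic.mulAutMulEquiv P).toMonoidHom (MulEquiv.injective _)
    refine isCyclic_of_injective (P.normalizerMonoidHom.comp (inclusion h1)) ((injective_iff_map_eq_one _).2 fun x a => ?_)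
    have : inclusion h1 x ∈ P.normalizerMonoidHom.ker := a
    rw [normalizerMonoidHom_ker] at this
    exact Subtype.ext (h2.le ⟨hC.le this, x.2⟩)
  · have := H1.card_sup_mul_card_inf h1
    rw [inf_comm, h2, card_bot, mul_one, le_antisymm (sup_le h1 le_normalizer) fun g a => let ⟨z, z1, y, y1, f⟩ := h4 g a;
      f ▸ mul_mem_sup z1 y1, h.card_N hC, h.card, mul_comm] at this
    exact (Nat.eq_of_mul_eq_mul_right hp.out.pos this).symm
  · rw [← h.card, ← Nat.card_prod]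
    refine (Nat.card_congr (Equiv.ofBijective (fun w : {w // w⁻¹ * z * w ∈ H} × P => ⟨w.1 * w.2, by
      simpa [mul_assoc] using mul_mem (mul_mem (inv_mem (le_normalizer w.2.2)) (h1 w.1.2)) (le_normalizer w.2.2)⟩) ⟨?_, ?_⟩)).symm
    · rintro ⟨⟨w, w1⟩, y, y1⟩ ⟨⟨w', w2⟩, y', y2⟩ f
      obtain rfl : w' = w * (y * y'⁻¹) := by rw [← mul_assoc, eq_mul_inv_iff_mul_eq]; exact (congrArg Subtype.val f).symm
      have u := mul_mem y1 (inv_mem y2)
      have := h.fpf hC (n _ w1 (mt H1.conj_eq_one_iff'.1 b)) _ u (by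
        have := h2.le ⟨mul_mem (H1.conj_mem_of_mem_normalizer' (h1 w1) (inv_mem u)) u,
          by simpa [mul_assoc] using mul_mem (inv_mem w1) w2⟩
        rw [mem_bot, mul_eq_one_iff_eq_inv, mul_assoc, inv_mul_eq_iff_eq_mul, inv_mul_eq_iff_eq_mul, ← mul_assoc,
          eq_mul_inv_iff_mul_eq] at this
        exact this)
      simp [mul_inv_eq_one.1 this]
    · rintro ⟨x, x1⟩
      obtain ⟨y, y1, y2⟩ := c _ x1 fun f => b (H1.conj_eq_one_iff'.1 ((h.pelt f).eq_one hp.out (by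
        rw [← orderOf_conj _ x]; simpa [mul_assoc] using not_dvd_orderOf_of_mem h3 a)))
      exact ⟨⟨⟨x * y⁻¹, by simpa [mul_assoc] using y2⟩, y, y1⟩, by simp⟩

theorem BD.exists_ne (h : BD p P e t B V r σ T) : ∃ y ∈ P, y ≠ 1 := by
  simpa using ne_bot_iff_exists_ne_one.1 fun a : P = ⊥ => hp.out.ne_one (by simpa [a] using h.card.symm)

theorem BD.conj_mem (h : BD p P e t B V r σ T) (hC : CS P = P) {g : G} (hg : p ∣ orderOf g) : ∃ x, x⁻¹ * g * x ∈ P := by
  obtain ⟨x, -, a⟩ := h.syl.exists_le_cj (isPGroup_zpowers hp.out (isPElt_pp hp.out g)) le_top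
  refine ⟨x, by_contra fun b => (pp_eq_one_iff hp.out).1 (H1.conj_eq_one_iff'.1 (h.fpf hC b _ (H9.mem_cj.1 (a (mem_zpowers _))) ?_)) hg⟩
  simp [mul_assoc, ← (commute_pp (p := p) g).left_comm]

namespace BE
variable (h : BE p P e t n B V r σ T)
include h

theorem card_G : Nat.card G = p * e * (1 + n * p) := by rw [← h.card_N h.cen, ← h.hn, card_mul_index]

theorem three_le : 3 ≤ p := by have := h.et; have := Nat.mul_le_mul h.two_le_e h.et_pos.2; omega

theorem core_bot : (NS P).normalCore = ⊥ := h.core _ inferInstance fun a => by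
  obtain ⟨y, b, c⟩ := h.exists_ne
  have := h.hn
  rw [(eq_top_iff' (NS P)).2 fun x => (h.mem_NS_iff b c).1.1 (normalCore_le _ ((normalCore_normal _).conj_mem' y (h.le_normal a b) x)),
    index_top] at this
  have := Nat.mul_pos h.n_pos hp.out.pos
  omega

theorem psl (hn : n = 1) : 3 < p ∧ Nonempty (G ≃* Matrix.ProjectiveSpecialLinearGroup (Fin 2) (ZMod p)) := by
  have i : Function.Injective (MulAction.toPermHom G (G ⧸ NS P)) := (MonoidHom.ker_eq_bot_iff _).1 (normalCore_eq_ker (NS P) ▸ h.core_bot)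
  let E := MonoidHom.ofInjective i
  have : MulAction.IsPretransitive (MulAction.toPermHom G (G ⧸ NS P)).range (G ⧸ NS P) :=
    ⟨fun x y => let ⟨g, a⟩ := MulAction.exists_smul_eq G x y; ⟨E g, a⟩⟩
  have p3 := h.three_le
  have e2 := h.two_le_e
  rcases Cfsg.Agent.S0732.result (d := e) hp.out (by rw [← Nat.card_eq_fintype_card, ← index, h.hn, hn, one_mul, add_comm])
    (MulAction.toPermHom G (G ⧸ NS P)).range (by rw [← Nat.card_congr E.toEquiv, h.card_G, hn]; ring)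
      (by have := h.et; have := Nat.le_mul_of_pos_right e h.et_pos.2; omega) with ⟨-, ⟨f⟩⟩ | ⟨a, ⟨f⟩⟩ | ⟨q, -, -, -, f, a⟩
  · have a : ((H5.PS (ZMod p)).comap (E.trans f).toMonoidHom).index = 2 := by
      rw [index_comap_of_surjective _ (E.trans f).surjective, H5.index_PS, ZMod.card]
      exact Nat.gcd_eq_left (hp.out.even_sub_one (by omega)).two_dvd
    rw [(eq_top_iff' (comap _ _)).2 (eq_top_of_perfect h.perf fun x y => by
      simp only [mul_mem_iff_of_index_two a, inv_mem_iff]; tauto), index_top] at a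
    omega
  · exact ⟨by omega, ⟨E.trans f⟩⟩
  · obtain ⟨y, -, c⟩ := h.exists_ne
    exact (c (i ((map_eq_one_iff _ f.permCongrHom.injective).1 (semiaffine_perfect h.perf
      (f.permCongrHom.toMonoidHom.comp (MulAction.toPermHom G (G ⧸ NS P))) (fun g => a (E g)) y) ▸ (map_one _).symm))).elim

theorem sl (hn : n ≠ 1) : ∃ (m : ℕ) (F : Type) (_ : Field F) (_ : Fintype F), Fintype.card F = 2 ^ m ∧ p = 2 ^ m + 1 ∧ 3 < p ∧
    Nonempty (G ≃* Matrix.SpecialLinearGroup (Fin 2) F) := by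
  have p3 := h.three_le
  have n2 := h.n_pos
  obtain ⟨q, hq⟩ := hp.out.odd_of_ne_two (by omega)
  have d : ∀ w ∈ V, σ w = -1 → charDegree w.1 = 2 * q := fun w a b => by
    have := h.minus a b
    rw [of_not_not (mt (h.n_eq_one a b) hn), one_mul] at this
    omega
  obtain ⟨Ψ, hΨ⟩ : ∃ Ψ : G → ℂ, Ψ = ∑ w ∈ V with σ w = -1, w.1 := ⟨_, rfl⟩
  have cΨ : IsCharacter G Ψ := hΨ ▸ char_sum _ _ fun w _ => irr_char w.2
  have pm : ∀ g, ¬ p ∣ orderOf g → g ≠ 1 → indFun (NS P) (fun _ => 1) g = (n + 1) * (1 - Ψ g) := fun g a b => by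
    rw [h.perm a b, hΨ, Finset.sum_apply]
  have z0 := fun g => h.zero_N h.cen cΨ (g := g) (by
    simp only [hΨ, Finset.sum_apply]
    rw [sum_comm, ← sum_add_distrib]
    exact sum_eq_zero fun w a => h.zero (h.sub (mem_filter.1 a).1) (by rw [h.rr w (mem_filter.1 a).1, (mem_filter.1 a).2]))
  have o : ∀ g, 2 ∣ orderOf g → g ∉ P := fun g a b => by have := a.trans (h.card ▸ P.orderOf_dvd_natCard b); omega
  have oc : ∀ g x : G, orderOf (x⁻¹ * g * x) = orderOf g := fun g x => by simpa using orderOf_conj g x⁻¹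
  have v : ∀ g, 2 ∣ orderOf g → (∃ x, x⁻¹ * g * x ∈ NS P) ∧ Ψ g = (0 : ℤ) ∨ Ψ g = (1 : ℤ) := fun g a => by
    by_cases b : ∃ x, x⁻¹ * g * x ∈ NS P
    · obtain ⟨x, b⟩ := b
      exact Or.inl ⟨⟨x, b⟩, by simpa [class_conj' (char_class cΨ)] using z0 _ b (o _ (by rwa [oc]))⟩
    · have := pm g (fun c => let ⟨x, f⟩ := h.conj_mem h.cen c; b ⟨x, le_normalizer f⟩) fun c => by simp [c] at a
      rw [indFun_eq_zero_of_not_conj _ _ _ fun x c => (b ⟨x⁻¹, by simpa using c⟩).elim, eq_comm, mul_eq_zero, sub_eq_zero] at this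
      exact Or.inr (by simpa using (this.resolve_left (Nat.cast_add_one_ne_zero n)).symm)
  have v0 : ∀ m g, orderOf g = m → 2 ∣ orderOf g → Ψ g = (0 : ℤ) := fun m => Nat.strong_induction_on m fun m ih g a b =>
    (v g b).elim And.right fun c => by
      by_cases f : ∃ r, r.Prime ∧ r ∣ orderOf g ∧ r ≠ 2
      · obtain ⟨r, r1, r2, r3⟩ := f
        have := int_eq_of_pq r1 cΨ c (ih _ (a ▸ lt_of_le_of_ne (Nat.le_of_dvd (orderOf_pos g) (orderOf_dvd_of_mem_zpowers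
          (pq_mem (mem_zpowers g)))) fun e => not_dvd_orderOf_pq r1 g (e ▸ r2)) (pq r g) rfl (by
            obtain ⟨i, e⟩ := isPElt_pp r1 g
            have := (commute_pp_pq (p := r) g).orderOf_mul_dvd_mul_orderOf
            rw [pp_mul_pq, e] at this
            exact ((Nat.Prime.dvd_mul Nat.prime_two).1 (b.trans this)).resolve_left fun e =>
              r3 ((Nat.prime_dvd_prime_iff_eq Nat.prime_two r1).1 (Nat.prime_two.dvd_of_dvd_pow e)).symm))
        exact absurd (Int.natCast_dvd_natCast.1 this) r1.not_dvd_one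
      · have := int_eq_of_pq (b := #{w ∈ V | σ w = -1} * (2 * q)) Nat.prime_two cΨ c (by
          rw [pq_of_isPElt Nat.prime_two ⟨_, Nat.eq_prime_pow_of_unique_prime_dvd (orderOf_pos g).ne' fun {r} r1 r2 =>
            of_not_not fun r3 => f ⟨r, r1, r2, r3⟩⟩, hΨ, Finset.sum_apply,
              sum_congr rfl fun w a => (ideg w).trans (congrArg _ (d w (mem_filter.1 a).1 (mem_filter.1 a).2))]
          simp)
        rw [mul_left_comm] at this
        omega
  obtain ⟨H, h1, h2, h3, h4, h5, h6⟩ := h.exists_compl h.cen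
  have c : ∀ g, 2 ∣ orderOf g → ∃ w, w⁻¹ * g * w ∈ H := fun g a => by
    obtain ⟨x, b⟩ := ((v g a).resolve_right fun c => by simpa using c.symm.trans (v0 _ g rfl a)).1
    obtain ⟨y, -, f⟩ := h5 _ b (o _ (by rwa [oc]))
    exact ⟨x * y⁻¹, by simpa [mul_assoc] using f⟩
  obtain ⟨w, w1, w2⟩ := h.exists_minus
  obtain ⟨s, -, hs⟩ := exists_inv_of_even (X := (⊤ : Subgroup G)) (card_top (G := G) ▸ (Dvd.intro _ (d w w1 w2).symm).trans (deg_dvd w.2))
  obtain ⟨x, hj⟩ := c s (inv_iff_orderOf.1 hs).symm.dvd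
  replace hs := hs.conj' x
  generalize x⁻¹ * s * x = j at hj hs
  obtain ⟨e2, k⟩ := ti_inv h2 (k := n + 1) (by omega) (fun z a b => by
    have f : z ∉ P := fun f => b (h4.le ⟨f, a⟩)
    have := pm z (h.not_dvd h.cen (h1 a) f) b
    rw [indFun_const_one_apply, h6 z a b, h.card_N h.cen, inv_mul_eq_iff_eq_mul₀ (Nat.cast_ne_zero.2
      (Nat.mul_pos hp.out.pos h.et_pos.1).ne'), z0 _ (h1 a) f, sub_zero, mul_one] at this
    exact Nat.eq_of_mul_eq_mul_right hp.out.pos (by rw [h3, mul_comm (e * _) p, ← mul_assoc]; exact_mod_cast this)) c hj hs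
  obtain ⟨ab, st⟩ := st_of_elem fun s a => ⟨H1.isMulCommutative_of_conj_eq_inv (s := 1) fun c b => by
    simpa using eq_inv_of_mul_eq_one_left ((k s (inv_iff_orderOf.2 a)).2 c b), fun c b => (sq c).trans ((k s (inv_iff_orderOf.2 a)).2 c b)⟩
  obtain ⟨s, s1, s2⟩ : ∃ s ∈ Cz j, s ∉ zpowers j := by
    by_contra! a
    have := card_le_of_le (show Cz j ≤ zpowers j from a)
    rw [(k j hs).1, Nat.card_zpowers, inv_iff_orderOf.1 hs] at this
    omega
  obtain ⟨y, y1, y2⟩ := h.exists_ne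
  have jP := o j (inv_iff_orderOf.1 hs).symm.dvd
  obtain ⟨m, F, _, _, m2, cF, cz, ⟨E⟩⟩ := AC.sl ⟨ab, j, s, y * j * y⁻¹, hs, ⟨fun a => s2 (a ▸ one_mem _), (k j hs).2 s s1⟩, hs.conj y,
    fun a => s2 (a ▸ mem_zpowers j), mem_Cz.1 s1, fun a => by
      have b : y * j * y⁻¹ * j ∈ P := by
        simpa [mul_assoc, inv_eq_of_mul_eq_one_left hs.2] using mul_mem y1 (H1.conj_mem_of_mem_normalizer (h1 hj) (inv_mem y1))
      refine y2 (h.fpf h.cen jP y y1 ?_)
      have := of_not_not (mt (fun f => o _ (inv_iff_orderOf.1 ⟨f, (k j hs).2 _ (mul_mem (mem_Cz.2 a) (self_mem_Cz j))⟩).symm.dvd) (· b))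
      rw [mul_eq_one_iff_eq_inv, inv_eq_of_mul_eq_one_left hs.2, mul_inv_eq_iff_eq_mul] at this
      exact this.symm⟩ st hs
  have cG := h.card_G
  rw [Nat.card_congr E.toEquiv, H5.card_SL2, cF, ← cz, (k j hs).1, ← h3, e2, show 2 * (n + 1) - 1 = 2 * n + 1 by omega] at cG
  rw [(k j hs).1] at cz
  have : p = 2 * n + 3 := by
    rcases lt_trichotomy p (2 * n + 3) with a | a | a
    · nlinarith [Nat.mul_le_mul a a, Nat.mul_le_mul_left n (Nat.mul_le_mul a a)]
    · exact a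
    · nlinarith [Nat.mul_le_mul a a, Nat.mul_le_mul_left n (Nat.mul_le_mul a a)]
  exact ⟨m, F, inferInstance, inferInstance, cF, by omega, by omega, ⟨E⟩⟩

end BE

theorem BD.two_le_e (h : BD p P e t B V r σ T) (hG : commutator G = ⊤) : 2 ≤ e := lt_of_le_of_ne h.et_pos.1 fun a : 1 = e => by
  obtain ⟨w, b, c⟩ := h.exists_minus
  have := h.deg_le b c fun v _ _ _ => Nat.le_of_dvd Nat.card_pos (deg_dvd v.2)
  have := deg_pos w.2
  exact h.ne_triv c (eq_triv_of_perfect hG (by subst a; omega))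

theorem Fac.le {p n : ℕ} (hp : 1 < p) (h : Fac p (1 + n * p)) : p + 3 ≤ 2 * n := by
  obtain ⟨h, u, a, b, c⟩ := h.exists hp
  obtain ⟨h, rfl⟩ := Nat.exists_eq_add_of_le' a
  obtain ⟨u, rfl⟩ := Nat.exists_eq_add_of_le' b
  exact Nat.le_of_mul_le_mul_right (c := u + 1 + 1) (by nlinarith [Nat.zero_le (h * u * p), Nat.zero_le (h * p)]) (by omega)

theorem card_sylow_eq {G : Type*} [Group G] [Finite G] (P : Sylow p G) : Nat.card (Sylow p G) = (NS (P : Subgroup G)).index :=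
  P.card_eq_index_normalizer

theorem card_sylow_mod (G : Type*) [Group G] [Finite G] : Nat.card (Sylow p G) % p = 1 :=
  Eq.trans (card_sylow_modEq_one p G) (Nat.mod_eq_of_lt hp.out.one_lt)

theorem brauer_reynolds {G : Type*} [Group G] [Finite G] (hG : commutator G = ⊤) (P : Sylow p G) (hP : Nat.card P = p)
    (hF : ¬ Fac p (Nat.card (Sylow p G))) : p + 1 ≤ (NS (P : Subgroup G) ⊔ pPrimeCore p G).index ∧ 3 < p ∧
    (Nonempty (G ⧸ pPrimeCore p G ≃* Matrix.ProjectiveSpecialLinearGroup (Fin 2) (ZMod p)) ∨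
      ∃ (m : ℕ) (F : Type) (_ : Field F) (_ : Fintype F), Fintype.card F = 2 ^ m ∧ p = 2 ^ m + 1 ∧
        Nonempty (G ⧸ pPrimeCore p G ≃* Matrix.SpecialLinearGroup (Fin 2) F)) := by
  let f := QuotientGroup.mk' (pPrimeCore p G)
  have hf : Function.Surjective f := QuotientGroup.mk'_surjective _
  have := Fintype.ofFinite (G ⧸ pPrimeCore p G)
  obtain ⟨e, t, B, V, r, σ, T, h⟩ := exists_bd (P.mapSurjective hf) (by
    have := H1.card_inf_mul_relIndex (pPrimeCore p G) P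
    rw [H1.inf_eq_bot_of_coprime ((show Nat.card (P : Subgroup G) = p from hP).symm ▸ H9.pPrimeCore_cop p), card_bot, one_mul] at this
    exact (H1.card_map_mk' _ _).trans (this.trans hP))
  obtain ⟨n, hn⟩ := exists_eq_one_add (card_sylow_mod (p := p) (G ⧸ pPrimeCore p G))
  have d : 1 + n * p ∣ (NS (P : Subgroup G) ⊔ pPrimeCore p G).index := by
    have := index_map (H := NS (P : Subgroup G)) f
    rw [f.range_eq_top_of_surjective hf, index_top, mul_one, QuotientGroup.ker_mk'] at this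
    rw [← hn, card_sylow_eq (P.mapSurjective hf), ← this]
    exact index_dvd_of_le (le_normalizer_map f)
  have h' : BE p (P.mapSurjective hf : Subgroup (G ⧸ pPrimeCore p G)) e t n B V r σ T := ⟨h, by
    rw [_root_.commutator_def, ← map_top_of_surjective f hf, ← map_commutator, ← _root_.commutator_def, hG], fun N _ a =>
      le_bot_iff.1 ((H9.le_pPrimeCore ((hp.out.coprime_iff_not_dvd.2 a).symm)).trans (H9.pPrimeCore_quotient p).le),
    (card_sylow_eq _).symm.trans hn, fun a => hF (a.of_dvd hp.out.one_lt (hn ▸ card_sylow_mod _) (card_sylow_mod G)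
      (card_sylow_eq P ▸ d.trans (index_dvd_of_le le_sup_left)))⟩
  refine ⟨le_trans (by nlinarith [h'.n_pos]) (Nat.le_of_dvd (Nat.pos_of_ne_zero index_ne_zero_of_finite) d), ?_⟩
  by_cases a : n = 1
  · exact (h'.psl a).imp_right Or.inl
  · obtain ⟨m, F, _, _, a, b, c, d⟩ := h'.sl a
    exact ⟨c, Or.inr ⟨m, F, inferInstance, inferInstance, a, b, d⟩⟩

end H3
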