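import Cfsg.Agent.H3.Coh
import Cfsg.Agent.H4.BS
import Cfsg.Agent.H4.Inv2

/-!
H3.BSW: the Brauer–Suzuki–Wall theorem, character-theoretic part.
-/

set_option autoImplicit false
open Cfsg Subgroup Finset
open scoped Classical ComplexConjugate

namespace H3

variable {G : Type*} [Group G] {t s g x y : G} {K : Subgroup G}

section
variable [Fintype G]

/-- number of ways to write `y` as a product of two conjugates of `t` -/
noncomputable def NI (t y : G) : ℕ := #{u | IsConj t u ∧ IsConj t (u⁻¹ * y)}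

theorem class_NI (t : G) : IsClassFunction G fun y => (NI t y : ℂ) := fun g x => by
  refine congrArg _ (card_bij' (fun u _ => x⁻¹ * u * x) (fun u _ => x * u * x⁻¹) ?_ ?_ (by intros; group) (by intros; group))
  · simp only [mem_filter_univ]
    exact fun u h => ⟨h.1.trans (isConj_iff.2 ⟨x⁻¹, by group⟩), h.2.trans (isConj_iff.2 ⟨x⁻¹, by group⟩)⟩
  · simp only [mem_filter_univ]
    exact fun u h => ⟨h.1.trans (isConj_iff.2 ⟨x, rfl⟩), h.2.trans (isConj_iff.2 ⟨x, by group⟩)⟩

theorem sum_NI_mul (t : G) (ψ : G → ℂ) : ∑ y, NI t y * ψ y = ∑ v, classInd t v * ∑ u, classInd t u * ψ (u * v) := by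
  simp only [NI, card_filter, Nat.cast_sum, sum_mul, mul_sum]
  rw [sum_comm, sum_comm (s := univ) (t := univ) (f := fun v u => classInd t v * (classInd t u * ψ (u * v)))]
  refine sum_congr rfl fun u _ => (Fintype.sum_equiv (Equiv.mulLeft u) _ _ fun v => ?_).symm
  simp only [classInd, Equiv.coe_mulLeft, inv_mul_cancel_left]
  by_cases a : IsConj t u <;> by_cases b : IsConj t v <;> simp [a, b, -isConj_iff]

theorem sum_NI_sirr (t : G) {χ : G → ℂ} (h : SIrr G χ) :
    ∑ y, NI t y * χ y = (centralizer {t}).index ^ 2 * (χ t ^ 2 / χ 1) := by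
  have k : ∀ {χ}, IsIrrCharacter G χ → ∑ y, NI t y * χ y = (centralizer {t}).index ^ 2 * (χ t ^ 2 / χ 1) := fun {χ} h => by
    have := fun v => eq_div_of_mul_eq (irr_one_ne_zero h) (sum_class_mul_char h (class_classInd t) v)
    simp only [sum_NI_mul, this, sum_classInd_mul t (irr_class h), ← mul_div_assoc, mul_left_comm (classInd t _), ← sum_div, ← mul_sum]
    ring
  rcases h with h | h
  · exact k h
  · have := k h
    simp only [Pi.neg_apply, mul_neg, sum_neg_distrib, neg_sq, div_neg, neg_inj] at this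
    exact this

theorem sum_NI (t : G) : ∑ y, NI t y = (centralizer {t}).index ^ 2 := by
  have := sum_NI_sirr t (Or.inl isIrr_one)
  simp only [mul_one, one_pow, div_one] at this
  exact_mod_cast this

theorem peel {f : G → ℂ} (hf : IsGeneralizedCharacter G f) {n : ℕ} (h : classInner f f = n + 1) (h3 : n < 3) :
    ∃ x, SIrr G x ∧ classInner f x = 1 ∧ classInner (f - x) (f - x) = n := by
  obtain ⟨c, c1, -, c2⟩ := gen_eq_sum_int hf
  have c2 : ∑ χ, c χ ^ 2 = n + 1 := by exact_mod_cast c2.symm.trans h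
  obtain ⟨χ, -, e⟩ : ∃ χ ∈ univ, c χ ^ 2 ≠ 0 := exists_ne_zero_of_sum_ne_zero (by omega)
  have := single_le_sum (f := fun χ => c χ ^ 2) (fun _ _ => sq_nonneg _) (mem_univ χ)
  have k : ∀ x, SIrr G x → classInner f x = 1 → classInner (f - x) (f - x) = n := fun x a b => by
    simp only [inner_sub_left, inner_sub_right, h, b, a.inner_self, inner_gen_symm a.gen hf]; ring
  obtain e | e : c χ = 1 ∨ c χ = -1 := by
    have : c χ ≠ 0 := by simpa using e
    have : c χ < 2 := by nlinarith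
    have : -2 < c χ := by nlinarith
    omega
  · exact ⟨χ, Or.inl χ.2, by simp [c1, e], k _ (Or.inl χ.2) (by simp [c1, e])⟩
  · exact ⟨-χ, SIrr.neg (Or.inl χ.2), by simp [inner_neg_right, c1, e], k _ (SIrr.neg (Or.inl χ.2)) (by simp [inner_neg_right, c1, e])⟩

theorem peel2 {f : G → ℂ} (hf : IsGeneralizedCharacter G f) (h : classInner f f = 2) :
    ∃ x y, SIrr G x ∧ SIrr G y ∧ classInner x y = 0 ∧ f = x + y := by
  obtain ⟨x, a, b, c⟩ := peel hf (n := 1) (by rw [h]; norm_num) (by norm_num)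
  exact ⟨x, f - x, a, gen_norm_one (gen_sub hf a.gen) (by simpa using c),
    by rw [inner_sub_right, a.inner_self, inner_gen_symm a.gen hf, b, sub_self], by simp⟩

theorem peel3 {f : G → ℂ} (hf : IsGeneralizedCharacter G f) (h : classInner f f = 3) :
    ∃ x y z, SIrr G x ∧ SIrr G y ∧ SIrr G z ∧ classInner x y = 0 ∧ classInner x z = 0 ∧ classInner y z = 0 ∧ f = x + y + z := by
  obtain ⟨x, a, b, c⟩ := peel hf (n := 2) (by rw [h]; norm_num) (by norm_num)
  obtain ⟨y, z, d, e, k, l⟩ := peel2 (gen_sub hf a.gen) (by simpa using c)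
  have m : classInner x y + classInner x z = 0 := by
    rw [← inner_add_right, ← l, inner_sub_right, a.inner_self, inner_gen_symm a.gen hf, b, sub_self]
  have : classInner x y = 0 := by
    rcases a.cases d with u | rfl | rfl
    · exact u
    · rw [k, a.inner_self] at m; simp at m
    · rw [inner_neg_left, inner_neg_left, k, d.inner_self] at m; simp at m
  exact ⟨x, y, z, a, d, e, this, by simpa [this] using m, k, by rw [add_assoc, ← l]; simp⟩

theorem SIrr.inner_cases {x y : G → ℂ} (hx : SIrr G x) (hy : SIrr G y) :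
    classInner x y = 0 ∨ classInner x y = 1 ∨ classInner x y = -1 := by
  rcases hx.cases hy with u | rfl | rfl
  exacts [Or.inl u, Or.inr (Or.inl hx.inner_self), Or.inr (Or.inr (by rw [inner_neg_left, hy.inner_self]))]

end

/-- a function on an abelian group with all Fourier coefficients equal -/
theorem vanish_of_inner {A : Type*} [Group A] [Fintype A] (hA : ∀ a b : A, a * b = b * a) {f : A → ℂ} {c : ℂ}
    (h : ∀ l : A →* ℂˣ, classInner f (hf l) = c) : f = c • regChar A :=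
  class_ext (fun a b => by rw [hA b, mul_inv_cancel_right]) (class_smul c (char_class char_regChar)) fun χ i => by
    obtain ⟨l, rfl⟩ := irr_exists_hom_of_comm i hA
    rw [inner_smul_left, inner_regChar_left]; simpa using h l

theorem SIrr.inner_three [Fintype G] {x f : G → ℂ} (hx : SIrr G x) (hf : IsGeneralizedCharacter G f) (h : classInner f f = 3) :
    classInner x f = 0 ∨ classInner x f = 1 ∨ classInner x f = -1 := by
  obtain ⟨m, hm⟩ := inner_gen_int hx.gen hf
  have := inner_self_re_nonneg (f - (m : ℂ) • x)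
  simp only [inner_sub_left, inner_sub_right, inner_smul_left, inner_smul_right, h, hm, ← inner_gen_symm hx.gen hf, hx.inner_self,
    map_intCast] at this
  norm_cast at this
  have : m < 2 := by nlinarith
  have : -2 < m := by nlinarith
  rw [hm]; norm_cast; omega

theorem bsw_num {X y y' b z l l' e : ℤ} {φ : ℚ} (h0 : 0 < φ) (X0 : X ≠ 0) (X1 : -1 - X ≠ 0) (hl : l = 1 ∨ l = -1) (hl' : l' = 1 ∨ l' = -1)
    (he : e = 1 ∨ e = -1) (h1 : 1 + (y ^ 2 / X + b ^ 2 / (-1 - X)) = φ) (h2 : 1 + (y' ^ 2 / X + b ^ 2 / (-1 - X)) = φ)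
    (h3 : 1 + (y ^ 2 / X + y' ^ 2 / X + z ^ 2 / (-1 - 2 * X)) = φ) (v1 : y + b = 1 - 2 * l) (v2 : y' + b = 1 - 2 * l')
    (v3 : y + y' + z = 1 - 2 * e) : l = l' ∧ l ≠ e := by
  have X2 : (-1 - 2 * X : ℚ) ≠ 0 := by norm_cast; omega
  have X0 : (X : ℚ) ≠ 0 := by exact_mod_cast X0
  have X1 : (-1 - X : ℚ) ≠ 0 := by exact_mod_cast X1
  have k1 : y ^ 2 = y' ^ 2 := by
    exact_mod_cast (div_left_inj' X0).1 (add_right_cancel (add_left_cancel (h1.trans h2.symm)))
  have k2 : b ^ 2 * X * (-1 - 2 * X) = y' ^ 2 * (-1 - X) * (-1 - 2 * X) + z ^ 2 * X * (-1 - X) := by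
    have : (b ^ 2 / (-1 - X) : ℚ) = y' ^ 2 / X + z ^ 2 / (-1 - 2 * X) := by linear_combination h1 - h3
    rw [div_add_div _ _ X0 X2, div_eq_div_iff X1 (mul_ne_zero X0 X2)] at this
    exact_mod_cast (by linear_combination this : (b : ℚ) ^ 2 * X * (-1 - 2 * X) = y' ^ 2 * (-1 - X) * (-1 - 2 * X) + z ^ 2 * X * (-1 - X))
  obtain rfl : l = l' := by_contra fun n => by
    obtain rfl : y = -y' := (sq_eq_sq_iff_eq_or_eq_neg.1 k1).resolve_left (by omega)
    obtain rfl : b = 1 := by omega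
    have k3 : y' ^ 2 = 4 := by obtain rfl | rfl : y' = 2 ∨ y' = -2 := by omega
                               all_goals rfl
    rw [k3] at k2
    obtain rfl | rfl : z = -1 ∨ z = 3 := by omega
    · have : 3 * X + 2 = 0 := pow_eq_zero_iff two_ne_zero |>.1 (by linear_combination -k2)
      omega
    · obtain rfl : X = -2 := by have : X + 2 = 0 := pow_eq_zero_iff two_ne_zero |>.1 (by linear_combination -k2)
                                omega
      rw [← h2, show (y' : ℚ) ^ 2 = 4 by exact_mod_cast k3] at h0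
      norm_num at h0
  refine ⟨rfl, ?_⟩
  rintro rfl
  obtain rfl : y = y' := by omega
  obtain rfl : b = 1 - 2 * l - y := by omega
  obtain rfl : z = 1 - 2 * l - 2 * y := by omega
  obtain rfl : y = -(1 - 2 * l) * X := by
    have : y + (1 - 2 * l) * X = 0 := pow_eq_zero_iff two_ne_zero |>.1 (by linear_combination -k2)
    linear_combination this
  have : φ = 1 - (1 - 2 * l) ^ 2 := by rw [← h1]; push_cast; field_simp; ring
  rcases hl with rfl | rfl <;> norm_num [this] at h0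

theorem bsw_num2 {X Y Z : ℤ} {n : ℕ} (hX : Odd X) (hY : Odd Y) (hZ : Odd Z) (h : X + Y + Z = -1) (bX : X ^ 2 ≤ 4 * n) (bY : Y ^ 2 ≤ 4 * n)
    (bZ : Z ^ 2 ≤ 4 * n) (e : (n : ℚ) * (1 + (1 / X + 1 / Y + 1 / Z)) = 8) : X = Y ∨ X = Z ∨ Y = Z := by
  have z : ∀ {X : ℤ}, Odd X → (X : ℚ) ≠ 0 := fun h e => by simp [Int.cast_eq_zero.1 e] at h
  have e1 : (n : ℚ) * ((1 + 1 / X) * (1 + 1 / Y) * (1 + 1 / Z)) = 8 := by
    have : (Z : ℚ) = -1 - X - Y := by exact_mod_cast (by omega : Z = -1 - X - Y)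
    rw [← e]; have := z hX; have := z hY; have := z hZ; field_simp; rw [‹(Z : ℚ) = _›]; ring
  have b : ∀ {X : ℤ}, Odd X → (1 + 1 / X : ℚ) ≠ 0 → 2 / 3 ≤ (1 + 1 / X : ℚ) := fun {X} h n => by
    have : X ≠ -1 := by rintro rfl; norm_num at n
    obtain u | u : 0 ≤ X ∨ X ≤ -3 := by obtain ⟨k, rfl⟩ := h; omega
    · have : (0 : ℚ) ≤ 1 / X := by positivity
      linarith
    · have : (X : ℚ) ≤ -3 := by exact_mod_cast u
      have : -1 / 3 ≤ (1 / X : ℚ) := by rw [le_div_iff_of_neg (by linarith)]; linarith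
      linarith
  have b1 := b hX fun u => by simp [u, -one_div] at e1
  have b2 := b hY fun u => by simp [u, -one_div] at e1
  have b3 := b hZ fun u => by simp [u, -one_div] at e1
  have : (n : ℚ) * (2 / 3 * (2 / 3) * (2 / 3)) ≤ 8 := e1 ▸ by gcongr
  have : n ≤ 27 := by exact_mod_cast (by linarith : (n : ℚ) ≤ 27)
  have e2 : n * ((X + 1) * (Y + 1) * (Z + 1)) = 8 * (X * Y * Z) := by
    have := z hX; have := z hY; have := z hZ
    field_simp at e1
    exact_mod_cast (by linear_combination e1 : (n : ℚ) * ((X + 1) * (Y + 1) * (Z + 1)) = 8 * (X * Y * Z))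
  obtain ⟨x, rfl⟩ := hX
  obtain ⟨y, rfl⟩ := hY
  obtain ⟨w, rfl⟩ := hZ
  have : x < 5 ∧ -6 < x ∧ y < 5 ∧ -6 < y ∧ w < 5 ∧ -6 < w := by refine ⟨?_, ?_, ?_, ?_, ?_, ?_⟩ <;> nlinarith
  obtain rfl : w = -2 - x - y := by omega
  obtain ⟨_, _, _, _, _, _⟩ := this
  interval_cases x <;> interval_cases y <;> omega

theorem sqrt_eq {Γ : Type*} [CommGroup Γ] {l m e : Γ} (ee : e * e = 1) (e3 : ∀ l : Γ, l⁻¹ = l → l = 1 ∨ l = e) (z1 : l * l = e)
    (z2 : m * m = e) : l = m ∨ l⁻¹ = m :=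
  (e3 (l⁻¹ * m) (by rw [← mul_eq_one_iff_inv_eq, mul_mul_mul_comm, ← mul_inv, z1, z2, inv_mul_cancel])).imp inv_mul_eq_one.1
    fun r => by rw [inv_mul_eq_iff_eq_mul.1 r, inv_eq_iff_mul_eq_one, ← mul_assoc, z1, ee]

/-- `(1 - l)^G - 1` -/
noncomputable def TT [Fintype G] (K : Subgroup G) (l : K →* ℂˣ) : G → ℂ := indFun K (hf 1 - hf l) - fun _ => 1

theorem gen_TT [Fintype G] (l : K →* ℂˣ) : IsGeneralizedCharacter G (TT K l) :=
  gen_sub (gen_indFun K (gen_sub (char_gen (char_hom _)) (char_gen (char_hom _)))) gen_one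

theorem TT_one [Fintype G] (l : K →* ℂˣ) : TT K l 1 = -1 := by simp [TT, indFun_one]

theorem inner_TT [Fintype G] {ψ : G → ℂ} (hψ : IsClassFunction G ψ) (l : K →* ℂˣ) : classInner ψ (TT K l) =
    classInner (fun x : K => ψ x) (hf 1) - classInner (fun x : K => ψ x) (hf l) - classInner ψ fun _ => 1 := by
  rw [TT, inner_sub_right, inner_indFun_right K _ hψ, inner_sub_right]

/-- hypotheses of the Brauer–Suzuki–Wall theorem -/
structure BSW (t s : G) (K : Subgroup G) : Prop where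
  ot : orderOf t = 2
  comm : ∀ x ∈ K, ∀ y ∈ K, x * y = y * x
  tK : t ∈ K
  ss : s * s = 1
  sK : s ∉ K
  cent : ∀ {g}, g * t = t * g ↔ g ∈ K ∨ g * s ∈ K
  inv : ∀ x ∈ K, s * x * s⁻¹ = x⁻¹
  uniq : ∀ x ∈ K, x * x = 1 → x = 1 ∨ x = t
  ti : ∀ g, ∀ x ∈ K, x ≠ 1 → g * x * g⁻¹ ∈ K → g * t = t * g
  cj : ∀ u, orderOf u = 2 → IsConj t u

namespace BSW
variable (h : BSW t s K)
include h

theorem si : s⁻¹ = s := inv_eq_of_mul_eq_one_left h.ss

theorem fix (hg : g ∈ K) (hx : x ∈ K) : g * x * g⁻¹ = x := by rw [h.comm _ hg _ hx, mul_inv_cancel_right]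

theorem inv' (hg : g * s ∈ K) (hx : x ∈ K) : g * x * g⁻¹ = x⁻¹ := by
  rw [← h.fix hg (inv_mem hx), ← h.inv _ hx, h.si, mul_inv_rev, h.si]
  rw [show g * s * (s * x * s) * (s * g⁻¹) = g * (s * s) * x * (s * s) * g⁻¹ by group, h.ss]; group

theorem not_mem (hg : g * s ∈ K) : g ∉ K := fun e => h.sK ((K.mul_mem_cancel_left e).1 hg)

theorem ord (hg : g * s ∈ K) : orderOf g = 2 := by
  refine H4.orderOf_two_of ?_ fun e => h.not_mem hg (e ▸ one_mem _)
  have := h.inv _ hg
  rw [mul_inv_rev, h.si, mul_assoc, mul_assoc, h.ss, mul_one, mul_right_inj] at this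
  exact mul_eq_one_iff_eq_inv.2 this

theorem t1 : t ≠ 1 := H4.ne_one_of_two h.ot

theorem index : K.index = 2 * (centralizer {t}).index := by
  rw [← relIndex_mul_index (show K ≤ centralizer {t} from fun x hx => mem_centralizer_singleton_iff.2 (h.cent.2 (Or.inl hx)))]
  congr 1
  refine index_eq_two_iff.2 ⟨⟨s, mem_centralizer_singleton_iff.2 (h.cent.2 (Or.inr (h.ss ▸ one_mem _)))⟩, fun b => ?_⟩
  exact (h.cent.1 (mem_centralizer_singleton_iff.1 b.2)).elim (fun e => Or.inr ⟨e, fun k => h.not_mem k e⟩)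
    fun e => Or.inl ⟨e, h.not_mem e⟩

theorem card_coset [Fintype G] : #{g | g * s ∈ K} = Nat.card K := by
  rw [Nat.card_eq_fintype_card, Fintype.card_subtype]
  exact card_bij' (fun u _ => u * s) (fun u _ => u * s⁻¹) (by simp) (by simp) (by simp) (by simp)

theorem exists_eps [Finite G] : ∃ e : K →* ℂˣ, e ≠ 1 ∧ e⁻¹ = e ∧ ∀ l : K →* ℂˣ, l⁻¹ = l → l = 1 ∨ l = e := by
  have c : ∀ a b : K, a * b = b * a := fun a b => Subtype.ext (h.comm _ a.2 _ b.2)
  let sq : K →* K := MonoidHom.mk' (fun a => a * a) fun a b => by rw [mul_assoc, mul_assoc, ← mul_assoc b, c b, mul_assoc]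
  have : sq.range.Normal := ⟨fun a b g => by rwa [c g, mul_inv_cancel_right]⟩
  have k := card_hom_trivial_on sq.range (commutator_le.2 fun a _ b _ => by
    rw [commutatorElement_eq_one_iff_mul_comm.2 (c a b)]; exact one_mem _)
  have : sq.range.index = 2 := by
    have a := sq.range.index_mul_card
    rw [← sq.ker.index_mul_card, index_ker, mul_comm] at a
    rw [Nat.eq_of_mul_eq_mul_left Nat.card_pos a, show sq.ker = zpowers ⟨t, h.tK⟩ from ?_, Nat.card_zpowers, ← orderOf_coe, h.ot]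
    ext x
    rw [H4.mem_zpowers_two (by rw [← orderOf_coe, h.ot]), Subtype.ext_iff, Subtype.ext_iff]
    exact ⟨fun e => h.uniq _ x.2 (congrArg Subtype.val e), fun e => Subtype.ext (show (x : G) * x = 1 from
      e.elim (fun e => by simp [e]) fun e => by simpa [e] using H4.mul_self_of_two h.ot)⟩
  have i : ∀ l : K →* ℂˣ, (∀ n ∈ sq.range, l n = 1) ↔ l⁻¹ = l := fun l => by
    simp only [MonoidHom.mem_range, forall_exists_index, forall_apply_eq_imp_iff, MonoidHom.ext_iff, MonoidHom.inv_apply,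
      inv_eq_iff_mul_eq_one, ← map_mul]; rfl
  obtain ⟨⟨e, a⟩, b, d⟩ := (Nat.card_eq_two_iff' ⟨1, fun _ _ => rfl⟩).1 (k.trans this)
  exact ⟨e, by simpa using b, (i e).1 a, fun l u => or_iff_not_imp_left.2 fun v =>
    congrArg Subtype.val (d ⟨l, (i l).2 u⟩ (by simpa using v))⟩

variable [Fintype G]

theorem ind_apply {f : K → ℂ} (h1 : f 1 = 0) (x : K) : indFun K f x = f x + f x⁻¹ := by
  by_cases e : x = 1
  · subst e; simpa [h1] using indFun_one K f
  have : ∀ g : G, extendByZero K f (g * x * g⁻¹) = (if g ∈ K then f x else 0) + if g * s ∈ K then f x⁻¹ else 0 := fun g => by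
    by_cases a : g ∈ K
    · rw [h.fix a x.2, extendByZero_coe, if_pos a, if_neg fun b => h.not_mem b a, add_zero]
    by_cases b : g * s ∈ K
    · rw [h.inv' b x.2, if_neg a, if_pos b, zero_add]; exact extendByZero_coe K f x⁻¹
    · rw [if_neg a, if_neg b, add_zero, extendByZero_of_not_mem]
      exact fun k => (h.cent.1 (h.ti g x x.2 (by simpa using e) k)).elim a b
  simp only [indFun_apply', this, sum_add_distrib, ← sum_filter, sum_const, h.card_coset, nsmul_eq_mul]
  rw [← Fintype.card_subtype, ← Nat.card_eq_fintype_card, ← mul_add, inv_mul_cancel_left₀ (card_ne_zero' K)]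

theorem NI_K (hx : x ∈ K) (h1 : x ≠ 1) : NI t x = Nat.card K := by
  rw [← h.card_coset, NI]
  refine congrArg _ (filter_congr fun u _ => ⟨fun ⟨a, b⟩ => ?_, fun a => ⟨h.cj _ (h.ord a), h.cj _ (h.ord ?_)⟩⟩)
  · have o : ∀ {u}, IsConj t u → u * u = 1 ∧ u ≠ 1 := fun k => by
      obtain ⟨c, rfl⟩ := isConj_iff.1 k
      exact ⟨H4.conj_mul_self (H4.mul_self_of_two h.ot) c, by simpa using h.t1⟩
    have e : u * x * u⁻¹ = x⁻¹ := by
      have := (o b).1
      rw [inv_eq_of_mul_eq_one_left (o a).1] at this ⊢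
      exact eq_inv_of_mul_eq_one_left (by rw [← this]; group)
    refine (h.cent.1 (h.ti u x hx h1 (e ▸ inv_mem hx))).resolve_left fun k => h1 ?_
    obtain rfl := (h.uniq _ k (o a).1).resolve_left (o a).2
    have := (h.uniq _ (mul_mem (inv_mem k) hx) (o b).1).resolve_left (o b).2
    rw [inv_mul_eq_iff_eq_mul.1 this, (o a).1]
  · rw [H4.inv_of_two (h.ord a), show u * x * s = u * s * (s * x * s⁻¹) by rw [h.si, mul_assoc u s, ← mul_assoc s, ← mul_assoc s, h.ss]; group]
    exact mul_mem a (h.inv x hx ▸ inv_mem hx)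

theorem res_TT (l : K →* ℂˣ) : (fun x : K => TT K l x) = hf 1 - hf l - hf l⁻¹ := by
  ext x; simp [TT, h.ind_apply (f := hf 1 - hf l) (by simp)]; ring

variable {l m e : K →* ℂˣ} {a b c d a' b' ψ : G → ℂ}

omit h in
theorem TT_orth (h1 : l ≠ 1) : classInner (TT K l) (fun _ => 1) = 0 := by
  rw [TT, inner_sub_left, inner_indFun_left K _ (class_const 1), irr_inner_self isIrr_one, inner_sub_left]
  exact (congrArg₂ (· - · - 1) (inner_hf (1 : K →* ℂˣ) 1) (inner_hf l 1)).trans (by simp [h1])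

theorem TT_TT (h1 : l ≠ 1) (h2 : m ≠ 1) :
    classInner (TT K l) (TT K m) = 1 + (if l = m then 1 else 0) + if l⁻¹ = m then 1 else 0 := by
  rw [inner_TT (gen_class (gen_TT l)), TT_orth h1, h.res_TT]
  simp [inner_sub_left, inner_hf, h1, h2.symm]; ring

theorem sum_TT (h1 : l ≠ 1) :
    ∑ y, NI t y * TT K l y = 2 * (centralizer {t}).index * Nat.card K ^ 2 - (centralizer {t}).index ^ 2 := by
  have e : ∀ x : K, (hf 1 - hf l :) x * NI t x = Nat.card K * ((hf 1 - hf l :) x * conj (hf 1 x)) := fun x => by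
    by_cases u : x = 1
    · simp [u]
    · rw [h.NI_K x.2 (by simpa using u)]; simp [mul_comm]
  have k : classInner (hf 1 - hf l) (hf 1) = 1 := by simp [inner_sub_left, inner_hf, h1]
  rw [classInner, inv_mul_eq_iff_eq_mul₀ (card_ne_zero' K)] at k
  simp only [TT, Pi.sub_apply (indFun K (hf 1 - hf l)), mul_comm (NI t _ : ℂ), sub_mul (indFun K (hf 1 - hf l) _), one_mul]
  rw [Finset.sum_sub_distrib, sum_indFun_mul K _ (class_NI t), ← Nat.cast_sum, sum_NI]
  simp only [e, ← mul_sum, k, h.index]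
  push_cast; ring

theorem sum_of (h1 : l ≠ 1) {r : ℂ} (hr : ∑ y, NI t y * TT K l y = (centralizer {t}).index ^ 2 * r) :
    1 + r = (2 * Nat.card K ^ 2 / (centralizer {t}).index : ℚ) := by
  have : ((centralizer {t}).index : ℂ) ≠ 0 := Nat.cast_ne_zero.2 index_ne_zero_of_finite
  rw [h.sum_TT h1] at hr
  push_cast; field_simp
  exact mul_left_cancel₀ this (by linear_combination -hr)

theorem sum2 (h1 : l ≠ 1) (ha : SIrr G a) (hb : SIrr G b) (k : TT K l = a + b) :
    1 + (a t ^ 2 / a 1 + b t ^ 2 / b 1) = (2 * Nat.card K ^ 2 / (centralizer {t}).index : ℚ) :=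
  h.sum_of h1 (by simp only [k, Pi.add_apply, mul_add, sum_add_distrib, sum_NI_sirr t ha, sum_NI_sirr t hb])

theorem sum3 (h1 : l ≠ 1) (ha : SIrr G a) (hb : SIrr G b) (hc : SIrr G c) (k : TT K l = a + b + c) :
    1 + (a t ^ 2 / a 1 + b t ^ 2 / b 1 + c t ^ 2 / c 1) = (2 * Nat.card K ^ 2 / (centralizer {t}).index : ℚ) :=
  h.sum_of h1 (by simp only [k, Pi.add_apply, mul_add, sum_add_distrib, sum_NI_sirr t ha, sum_NI_sirr t hb, sum_NI_sirr t hc])

theorem res (hψ : IsGeneralizedCharacter G ψ) (h0 : classInner ψ (fun _ => 1) = 0)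
    (h1 : ∀ l, l ≠ 1 → classInner ψ (TT K l) = (if m = 1 then 1 else 0) - if m = l then 1 else 0) :
    (∃ z : ℤ, ψ 1 = 1 + Nat.card K * z) ∧ ∀ x : K, x ≠ 1 → ψ x = m x := by
  obtain ⟨z, hz⟩ := inner_gen_int (gen_sub (gen_restrict hψ K) (char_gen (char_hom m))) (char_gen (char_hom 1))
  have := vanish_of_inner (fun a b : K => Subtype.ext (h.comm _ a.2 _ b.2)) (f := (fun x : K => ψ x) - hf m) (c := z) fun l => by
    by_cases u : l = 1
    · exact u ▸ hz
    have := h1 l u
    rw [inner_TT (gen_class hψ), h0] at this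
    replace hz : classInner ((fun x : K => ψ x) - hf m) (hf 1) = z := hz
    rw [← hz, inner_sub_left, inner_sub_left, inner_hf, inner_hf]
    linear_combination -this
  refine ⟨⟨z, ?_⟩, fun x u => by simpa [regChar_ne u, sub_eq_zero] using congrFun this x⟩
  have := congrFun this 1
  simp only [Pi.sub_apply, Pi.smul_apply, regChar_one, hf_apply, map_one, Units.val_one, OneMemClass.coe_one, smul_eq_mul] at this
  linear_combination this

theorem val_t (l : K →* ℂˣ) : ∃ z : ℤ, (z = 1 ∨ z = -1) ∧ (l ⟨t, h.tK⟩ : ℂ) = z ∧ TT K l t = 1 - 2 * z := by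
  have k : l ⟨t, h.tK⟩ * l ⟨t, h.tK⟩ = 1 := by
    rw [← map_mul, ← map_one l]; exact congrArg l (Subtype.ext (H4.mul_self_of_two h.ot))
  have u := congrFun (h.res_TT l) ⟨t, h.tK⟩
  simp only [Pi.sub_apply, hf_apply, MonoidHom.inv_apply, inv_eq_of_mul_eq_one_left k, MonoidHom.one_apply, Units.val_one] at u
  rcases mul_self_eq_one_iff.1 (congrArg Units.val k) with k | k
  · exact ⟨1, Or.inl rfl, by simpa using k, by rw [u, k]; norm_num⟩
  · exact ⟨-1, Or.inr rfl, by simpa using k, by rw [u, k]; norm_num⟩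

section
variable (e1 : e ≠ 1) (e2 : e⁻¹ = e) (e3 : ∀ l : K →* ℂˣ, l⁻¹ = l → l = 1 ∨ l = e)
include e1 e2

theorem TT_e : classInner (TT K e) (TT K e) = 3 := by rw [h.TT_TT e1 e1]; norm_num [e2]

theorem dec (hl : l⁻¹ ≠ l) : ∃ a b, SIrr G a ∧ SIrr G b ∧ classInner a b = 0 ∧ TT K l = a + b ∧ classInner a (TT K e) = 1 ∧
    classInner b (TT K e) = 0 := by
  have l1 : l ≠ 1 := fun u => hl (by simp [u])
  obtain ⟨a, b, ha, hb, o, k⟩ := peel2 (gen_TT l) (by rw [h.TT_TT l1 l1]; norm_num [hl])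
  have := h.TT_TT l1 e1
  rw [if_neg fun u : l = e => hl (u ▸ e2), if_neg fun u : l⁻¹ = e => hl (by rw [u, ← inv_inv l, u, e2]), k, inner_add_left] at this
  rcases ha.inner_three (gen_TT e) (h.TT_e e1 e2) with u | u | u <;> rcases hb.inner_three (gen_TT e) (h.TT_e e1 e2) with v | v | v <;>
    rw [u, v] at this <;> norm_num at this
  · exact ⟨b, a, hb, ha, inner_eq_zero_symm.1 o, k.trans (add_comm _ _), v, u⟩
  · exact ⟨a, b, ha, hb, o, k, u, v⟩

theorem exc (hl : l⁻¹ ≠ l) (hm : m⁻¹ ≠ m) (ha : SIrr G a) (hb : SIrr G b) (k : TT K l = a + b) (u : classInner a (TT K e) = 1)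
    (v : classInner b (TT K e) = 0) (ha' : SIrr G a') (hb' : SIrr G b') (k' : TT K m = a' + b') (u' : classInner a' (TT K e) = 1)
    (v' : classInner b' (TT K e) = 0) (n : a ≠ a') : l ⟨t, h.tK⟩ = m ⟨t, h.tK⟩ ∧ l ⟨t, h.tK⟩ ≠ e ⟨t, h.tK⟩ := by
  have l1 : l ≠ 1 := fun u => hl (by simp [u])
  have m1 : m ≠ 1 := fun u => hm (by simp [u])
  have o : classInner a a' = 0 := (ha.cases ha').resolve_right fun w => w.elim n fun w => by
    rw [w, inner_neg_left, u'] at u; norm_num at u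
  have q : ∀ {a b}, SIrr G a → SIrr G b → classInner a (TT K e) = 1 → classInner b (TT K e) = 0 → classInner b a = 0 :=
    fun ha hb u v => hb.orth ha (inner_eq_zero_symm.1 v) (by rw [inner_gen_symm (gen_TT e) ha.gen, u]; simp)
  obtain rfl : b = b' := hb.eq_of_inner hb' (by
    have := h.TT_TT l1 m1
    simp only [k, k', inner_add_left, inner_add_right, o, q ha' hb u' v, inner_eq_zero_symm.1 (q ha hb' u v')] at this
    rcases hb.inner_cases hb' with w | w | w <;> [skip; exact w; skip] <;> rw [w] at this <;> split_ifs at this <;> norm_num at this)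
  have hz : SIrr G (TT K e - a - a') := gen_norm_one (gen_sub (gen_sub (gen_TT e) ha.gen) ha'.gen) (by
    simp only [inner_sub_left, inner_sub_right, h.TT_e e1 e2, u, u', inner_gen_symm (gen_TT e) ha.gen, inner_gen_symm (gen_TT e) ha'.gen,
      ha.inner_self, ha'.inner_self, o, inner_eq_zero_symm.1 o]; norm_num)
  have s1 := h.sum2 l1 ha hb k
  have s2 := h.sum2 m1 ha' hb k'
  have s3 := h.sum3 e1 ha ha' hz (by simp)
  have t2 : t ^ 2 = 1 := h.ot ▸ pow_orderOf_eq_one t
  obtain ⟨X, hX⟩ := gen_one_int ha.gen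
  obtain ⟨y, hy⟩ := H4.char_int_of_sq ha.gen t2
  obtain ⟨y', hy'⟩ := H4.char_int_of_sq ha'.gen t2
  obtain ⟨w, hw⟩ := H4.char_int_of_sq hb.gen t2
  obtain ⟨z, hz'⟩ := H4.char_int_of_sq hz.gen t2
  obtain ⟨i, i1, i2, i3⟩ := h.val_t l
  obtain ⟨j, j1, j2, j3⟩ := h.val_t m
  obtain ⟨f, f1, f2, f3⟩ := h.val_t e
  have d1 : b 1 = -1 - X := by rw [← hX, ← TT_one l, k]; simp
  have d2 : a' 1 = X := by have := TT_one m; rw [k', Pi.add_apply, d1] at this; linear_combination this
  have d3 : (TT K e - a - a') 1 = -1 - 2 * X := by simp only [Pi.sub_apply, TT_one, hX, d2]; ring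
  rw [hX, hy, hw, d1] at s1
  rw [d2, hy', hw, d1] at s2
  rw [hX, hy, d2, hy', hz', d3] at s3
  simp only [k, k', Pi.add_apply, Pi.sub_apply, hy, hy', hw, f3] at i3 j3 hz'
  have : 0 < (centralizer {t}).index := Nat.pos_of_ne_zero index_ne_zero_of_finite
  have := Nat.card_pos (α := K)
  have := bsw_num (φ := 2 * Nat.card K ^ 2 / (centralizer {t}).index) (by positivity) (X := X) (y := y) (y' := y') (b := w) (z := z)
    (fun e => ha.one_ne_zero (by simp [hX, e])) (fun e => hb.one_ne_zero (by rw [d1]; exact_mod_cast e)) i1 j1 f1 (by exact_mod_cast s1)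
    (by exact_mod_cast s2) (by exact_mod_cast s3) (by exact_mod_cast i3) (by exact_mod_cast j3)
    (by exact_mod_cast (by linear_combination -hz' : (y + y' + z : ℂ) = 1 - 2 * f))
  exact ⟨Units.ext (by rw [i2, j2, this.1]), fun w => this.2 (by exact_mod_cast i2.symm.trans ((congrArg Units.val w).trans f2))⟩

include e3 in
theorem exc' (hl : l⁻¹ ≠ l) (hm : m⁻¹ ≠ m) (ha : SIrr G a) (hb : SIrr G b) (k : TT K l = a + b) (u : classInner a (TT K e) = 1)
    (v : classInner b (TT K e) = 0) (ha' : SIrr G a') (hb' : SIrr G b') (k' : TT K m = a' + b') (u' : classInner a' (TT K e) = 1)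
    (v' : classInner b' (TT K e) = 0) : a = a' := by_contra fun n => by
  obtain ⟨p1, p2⟩ := h.exc e1 e2 hl hm ha hb k u v ha' hb' k' u' v' n
  have s : ∀ l : K →* ℂˣ, l ⟨t, h.tK⟩ = 1 ∨ l ⟨t, h.tK⟩ = -1 := fun l => by
    obtain ⟨z, rfl | rfl, w, -⟩ := h.val_t l
    exacts [Or.inl (Units.ext (by simpa using w)), Or.inr (Units.ext (by simpa using w))]
  have ee : e * e = 1 := (mul_eq_one_iff_inv_eq (a := e)).2 e2
  obtain ⟨ν, n1, n2⟩ : ∃ ν : K →* ℂˣ, ν⁻¹ ≠ ν ∧ ν ⟨t, h.tK⟩ ≠ l ⟨t, h.tK⟩ := by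
    rcases s e with w | w
    · have w' := (s l).resolve_left (w ▸ p2)
      by_contra! c
      have z : ∀ m : K →* ℂˣ, m⁻¹ ≠ m → m ⟨t, h.tK⟩ = -1 → m * m = e := fun m hm q =>
        (e3 _ (by_contra fun d => by simpa [q, w', Units.ext_iff, eq_neg_iff_add_eq_zero] using c _ d)).resolve_left
          (mt (mul_eq_one_iff_inv_eq (a := m)).1 hm)
      have z1 := z l hl w'
      have z2 := z m hm (p1 ▸ w')
      have : TT K l = TT K m := by
        rcases sqrt_eq (Γ := K →* ℂˣ) ee e3 z1 z2 with r | r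
        · rw [r]
        · have l1 : l ≠ 1 := fun u => hl (by simp [u])
          have m1 : m ≠ 1 := fun u => hm (by simp [u])
          refine sub_eq_zero.1 (inner_self_eq_zero ?_)
          simp only [inner_sub_left, inner_sub_right, h.TT_TT l1 l1, h.TT_TT l1 m1, h.TT_TT m1 l1, h.TT_TT m1 m1]
          subst r
          simp [hl, hl.symm]
      have o := congrArg (classInner a) (k.symm.trans (this.trans k'))
      have q : ∀ {a b}, SIrr G a → SIrr G b → classInner a (TT K e) = 1 → classInner b (TT K e) = 0 → classInner a b = 0 :=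
        fun ha hb u v => inner_eq_zero_symm.1 (hb.orth ha (inner_eq_zero_symm.1 v) (by rw [inner_gen_symm (gen_TT e) ha.gen, u]; simp))
      simp only [inner_add_right, ha.inner_self, q ha hb u v, q ha hb' u v', add_zero] at o
      exact n (ha.eq_of_inner ha' o.symm)
    · exact ⟨e * l, fun c => hl (mul_left_cancel (a := e) (by simpa only [e2] using (mul_inv e l).symm.trans c)), by simp [w, Units.ext_iff, neg_eq_iff_add_eq_zero]⟩
  obtain ⟨x, y, hx, hy, -, k'', u'', v''⟩ := h.dec e1 e2 n1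
  by_cases c : x = a
  · exact n2 ((h.exc e1 e2 n1 hm hx hy k'' u'' v'' ha' hb' k' u' v' (c ▸ n)).1.trans p1.symm)
  · exact n2 (h.exc e1 e2 n1 hl hx hy k'' u'' v'' ha hb k u v c).1

include e3 in
theorem exists_acd : ∃ a c d, SIrr G a ∧ SIrr G c ∧ SIrr G d ∧ classInner a c = 0 ∧ classInner a d = 0 ∧ classInner c d = 0 ∧
    TT K e = a + c + d ∧ (∀ l, l ≠ 1 → classInner a (TT K l) = 1) ∧ c 1 = d 1 ∧ c t ^ 2 = 1 ∧ d t ^ 2 = 1 ∧
      ∃ z : ℤ, -c 1 = 1 + Nat.card K * z := by
  have o : ∀ {a f : G → ℂ}, SIrr G a → classInner f (fun _ => 1) = 0 → classInner f a ≠ 0 → classInner a (fun _ => 1) = 0 :=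
    fun ha u v => inner_eq_zero_symm.1 ((show SIrr G _ from Or.inl isIrr_one).orth ha u v)
  have i3 : ∀ {a c d : G → ℂ}, SIrr G a → classInner a c = 0 → classInner a d = 0 → TT K e = a + c + d → classInner a (TT K e) = 1 :=
    fun ha u v k => by rw [k, inner_add_right, inner_add_right, ha.inner_self, u, v]; simp
  have o3 : ∀ {a : G → ℂ}, SIrr G a → classInner a (TT K e) = 1 → classInner a (fun _ => 1) = 0 := fun ha u =>
    o ha (TT_orth e1) (by rw [inner_gen_symm (gen_TT e) ha.gen, u]; simp)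
  obtain ⟨f, f1, f2, -⟩ := h.val_t e
  have f3 : (f : ℂ) ^ 2 = 1 := by rcases f1 with rfl | rfl <;> simp
  have t1 : (⟨t, h.tK⟩ : K) ≠ 1 := by simpa using h.t1
  have r : ∀ {c : G → ℂ}, SIrr G c → classInner c (TT K e) = 1 → (∀ l, l⁻¹ ≠ l → classInner c (TT K l) = 0) →
      c t ^ 2 = 1 ∧ ∃ z : ℤ, -c 1 = 1 + Nat.card K * z := fun {c} hc u v => by
    obtain ⟨r1, r2⟩ := h.res (m := e) hc.neg.gen (by rw [inner_neg_left, o3 hc u, neg_zero]) fun l l1 => by
      by_cases w : e = l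
      · simp [inner_neg_left, ← w, u, e1]
      · simp [inner_neg_left, e1, w, v l fun k => (e3 l k).elim l1 fun k => w k.symm]
    exact ⟨by rw [← neg_sq, ← Pi.neg_apply c, r2 _ t1, f2, f3], r1⟩
  by_cases g : ∃ l : K →* ℂˣ, l⁻¹ ≠ l
  · obtain ⟨l, hl⟩ := g
    obtain ⟨a, b, ha, hb, o1, k, u, v⟩ := h.dec e1 e2 hl
    obtain ⟨c, d, hc, hd, o2, k'⟩ := peel2 (gen_sub (gen_TT e) ha.gen) (by
      simp only [inner_sub_left, inner_sub_right, h.TT_e e1 e2, u, inner_gen_symm (gen_TT e) ha.gen, ha.inner_self]; norm_num)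
    have z : ∀ {b : G → ℂ}, SIrr G b → classInner b c + classInner b d = 0 → classInner b c = 0 ∧ classInner b d = 0 := fun {b} hb w => by
      have : classInner b c = 0 := by
        rcases hb.cases hc with w' | rfl | rfl
        · exact w'
        · simp [o2, hb.inner_self] at w
        · simp [o2, hc.inner_self, inner_neg_left] at w
      exact ⟨this, by simpa [this] using w⟩
    obtain ⟨o3, o4⟩ := z ha (by rw [← inner_add_right, ← k', inner_sub_right, u, ha.inner_self, sub_self])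
    replace k' : TT K e = a + c + d := by rw [add_assoc, ← k']; simp
    have w : ∀ m : K →* ℂˣ, m⁻¹ ≠ m → classInner a (TT K m) = 1 ∧ classInner c (TT K m) = 0 ∧ classInner d (TT K m) = 0 := fun m hm => by
      obtain ⟨a', b', ha', hb', o5, k2, u', v'⟩ := h.dec e1 e2 hm
      obtain rfl := h.exc' e1 e2 e3 hl hm ha hb k u v ha' hb' k2 u' v'
      obtain ⟨o6, o7⟩ := z hb' (by rwa [k', inner_add_right, inner_add_right, inner_eq_zero_symm.1 o5, zero_add] at v')
      simp [k2, inner_add_right, ha.inner_self, o5, inner_eq_zero_symm.1 o3, inner_eq_zero_symm.1 o4, inner_eq_zero_symm.1 o6,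
        inner_eq_zero_symm.1 o7]
    have wa : ∀ l, l ≠ 1 → classInner a (TT K l) = 1 := fun m m1 =>
      (em (m⁻¹ = m)).elim (fun c => ((e3 m c).resolve_left m1).symm ▸ u) fun c => (w m c).1
    obtain ⟨r1, r2⟩ := r hc (i3 hc (inner_eq_zero_symm.1 o3) o2 (k'.trans (by abel))) fun m c => (w m c).2.1
    obtain ⟨r3, -⟩ := r hd (i3 hd (inner_eq_zero_symm.1 o4) (inner_eq_zero_symm.1 o2) (k'.trans (by abel))) fun m c => (w m c).2.2
    refine ⟨a, c, d, ha, hc, hd, o3, o4, o2, k', wa, ?_, r1, r3, r2⟩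
    have l1 : l ≠ 1 := fun u => hl (by simp [u])
    have s := (h.sum2 l1 ha hb k).trans (h.sum3 e1 ha hc hd k').symm
    have at1 : a t = 1 := by
      simpa using (h.res (m := 1) ha.gen (o ha (TT_orth l1) (by rw [inner_gen_symm (gen_TT l) ha.gen, wa l l1]; simp))
        fun m m1 => by simp [wa m m1, m1.symm]).2 _ t1
    obtain ⟨i, i1, -, i2⟩ := h.val_t l
    have bt : b t ^ 2 = 4 := by
      rw [show b t = -2 * i by rw [k, Pi.add_apply, at1] at i2; linear_combination i2]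
      rcases i1 with rfl | rfl <;> norm_num
    have b1 : b 1 = c 1 + d 1 := by
      have := (TT_one l).trans (TT_one e).symm
      simp only [k, k', Pi.add_apply] at this; linear_combination this
    have := hb.one_ne_zero
    have := hc.one_ne_zero
    have := hd.one_ne_zero
    rw [bt, r1, r3, b1, add_assoc, add_right_inj, add_right_inj] at s
    rw [b1] at *
    field_simp at s
    exact sub_eq_zero.1 (pow_eq_zero_iff two_ne_zero |>.1 (by linear_combination -s))
  · push Not at g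
    have ke : ∀ l : K →* ℂˣ, l ≠ 1 → l = e := fun l u => (e3 l (g l)).resolve_left u
    have k2 : Nat.card K = 2 := by
      rw [← card_hom_of_comm fun a b : K => Subtype.ext (h.comm _ a.2 _ b.2)]
      exact (Nat.card_eq_two_iff' 1).2 ⟨e, e1, ke⟩
    have r' := fun {c} hc u => r (c := c) hc u fun l n => absurd (g l) n
    have fin : ∀ {a c d}, SIrr G a → SIrr G c → SIrr G d → classInner a c = 0 → classInner a d = 0 → classInner c d = 0 →
        TT K e = a + c + d → c 1 = d 1 → _ := fun {a c d} ha hc hd o1 o2 o3 k u =>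
      have rc := r' hc (i3 hc (inner_eq_zero_symm.1 o1) o3 (k.trans (by abel)))
      (⟨a, c, d, ha, hc, hd, o1, o2, o3, k, fun l n => (ke l n).symm ▸ i3 ha o1 o2 k, u, rc.1,
        (r' hd (i3 hd (inner_eq_zero_symm.1 o2) (inner_eq_zero_symm.1 o3) (k.trans (by abel)))).1, rc.2⟩ : ∃ a c d, SIrr G a ∧ SIrr G c ∧
          SIrr G d ∧ classInner a c = 0 ∧ classInner a d = 0 ∧ classInner c d = 0 ∧ TT K e = a + c + d ∧
            (∀ l, l ≠ 1 → classInner a (TT K l) = 1) ∧ c 1 = d 1 ∧ c t ^ 2 = 1 ∧ d t ^ 2 = 1 ∧ ∃ z : ℤ, -c 1 = 1 + Nat.card K * z)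
    obtain ⟨a, c, d, ha, hc, hd, o1, o2, o3, k⟩ := peel3 (gen_TT e) (h.TT_e e1 e2)
    have q : ∀ {a}, SIrr G a → classInner a (TT K e) = 1 → ∃ X : ℤ, a 1 = X ∧ Odd X ∧ X ^ 2 ≤ 4 * ((centralizer {t}).index : ℤ) ∧
        a t ^ 2 = 1 := fun {a} ha u => by
      obtain ⟨r1, z, hz⟩ := r' ha u
      refine ⟨-1 - 2 * z, by rw [k2] at hz; push_cast at hz ⊢; linear_combination -hz, ⟨-1 - z, by ring⟩, ?_, r1⟩
      obtain ⟨ε, χ, hε, i, rfl⟩ := ha.exists
      obtain ⟨n, -, hn⟩ := irr_one_nat i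
      have := degree_sq_le_index i hn ⊥ bot_le
      rw [index_bot, ← K.index_mul_card, h.index, k2] at this
      have : (-1 - 2 * z) ^ 2 = n ^ 2 := by
        rw [k2, Pi.smul_apply, hn, smul_eq_mul] at hz
        rcases hε with rfl | rfl
        · exact_mod_cast (by push_cast at hz ⊢; rw [show -1 - 2 * (z : ℂ) = n by linear_combination hz] : (-1 - 2 * z : ℂ) ^ 2 = n ^ 2)
        · exact_mod_cast (by push_cast at hz ⊢; rw [show -1 - 2 * (z : ℂ) = -n by linear_combination hz, neg_sq] :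
            (-1 - 2 * z : ℂ) ^ 2 = n ^ 2)
      rw [this]; exact_mod_cast by omega
    obtain ⟨X, x1, x2, x3, x4⟩ := q ha (i3 ha o1 o2 k)
    obtain ⟨Y, y1, y2, y3, y4⟩ := q hc (i3 hc (inner_eq_zero_symm.1 o1) o3 (k.trans (by abel)))
    obtain ⟨Z, z1, z2, z3, z4⟩ := q hd (i3 hd (inner_eq_zero_symm.1 o2) (inner_eq_zero_symm.1 o3) (k.trans (by abel)))
    have s := h.sum3 e1 ha hc hd k
    rw [x1, x4, y1, y4, z1, z4, k2] at s
    have s : (1 + (1 / X + 1 / Y + 1 / Z) : ℚ) = 2 * (2 : ℕ) ^ 2 / (centralizer {t}).index := by exact_mod_cast s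
    have : ((centralizer {t}).index : ℚ) ≠ 0 := Nat.cast_ne_zero.2 index_ne_zero_of_finite
    have d1 := TT_one e
    simp only [k, Pi.add_apply, x1, y1, z1] at d1
    rcases bsw_num2 x2 y2 z2 (by exact_mod_cast d1) x3 y3 z3 (by rw [s]; field_simp; norm_num) with u | u | u
    · exact fin hd ha hc (inner_eq_zero_symm.1 o2) (inner_eq_zero_symm.1 o3) o1 (k.trans (by abel)) (by rw [x1, y1, u])
    · exact fin hc ha hd (inner_eq_zero_symm.1 o1) o3 o2 (k.trans (by abel)) (by rw [x1, z1, u])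
    · exact fin ha hc hd o1 o2 o3 k (by rw [y1, z1, u])

end

theorem exists_char : ∃ (a c d : G → ℂ) (δ : ℤ), (δ = 1 ∨ δ = -1) ∧ SIrr G a ∧ SIrr G c ∧ SIrr G d ∧ classInner a (fun _ => 1) = 0 ∧
    a 1 = (1 + 2 * Nat.card K * δ : ℤ) ∧ -c 1 = (1 + Nat.card K * δ : ℤ) ∧ c 1 = d 1 ∧
    ((centralizer {t}).index : ℤ) = (1 + 2 * Nat.card K * δ) * (1 + Nat.card K * δ) ∧ (∀ x ∈ K, x ≠ 1 → a x = 1) ∧
    (∀ g, (∀ x, x * g * x⁻¹ ∉ K) → a g + c g + d g = -1) ∧ ∀ g, ∃ z : ℤ, a g = z := by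
  obtain ⟨e, e1, e2, e3⟩ := h.exists_eps
  obtain ⟨a, c, d, ha, hc, hd, o1, o2, o3, k, w, u, ct, dt, z, hz⟩ := h.exists_acd e1 e2 e3
  have o : classInner a (fun _ => 1) = 0 := inner_eq_zero_symm.1 ((show SIrr G _ from Or.inl isIrr_one).orth ha (TT_orth e1)
    (by rw [inner_gen_symm (gen_TT e) ha.gen, w e e1]; simp))
  have ra : ∀ x ∈ K, x ≠ 1 → a x = 1 := fun x hx n => by
    simpa using (h.res (m := 1) ha.gen o fun m m1 => by simp [w m m1, m1.symm]).2 ⟨x, hx⟩ (by simpa using n)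
  have a1 : a 1 = (1 + 2 * Nat.card K * z : ℤ) := by
    have := TT_one e
    simp only [k, Pi.add_apply, ← u] at this
    push_cast; linear_combination this + 2 * hz
  have s := h.sum3 e1 ha hc hd k
  have c0 := hc.one_ne_zero
  have a0 := ha.one_ne_zero
  have n0 : ((centralizer {t}).index : ℂ) ≠ 0 := Nat.cast_ne_zero.2 index_ne_zero_of_finite
  have k0 := card_ne_zero' K
  replace hz : c 1 = -(1 + Nat.card K * z) := by rw [← hz, neg_neg]
  rw [ra t h.tK h.t1, ct, dt, ← u, a1, hz] at s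
  rw [a1] at a0
  rw [hz, neg_ne_zero] at c0
  push_cast at s a0
  field_simp at s
  have s : ((centralizer {t}).index : ℤ) * z ^ 2 = (1 + 2 * Nat.card K * z) * (1 + Nat.card K * z) := by
    exact_mod_cast mul_left_cancel₀ (mul_ne_zero two_ne_zero (pow_ne_zero 2 k0)) (by linear_combination s :
      2 * (Nat.card K : ℂ) ^ 2 * ((centralizer {t}).index * z ^ 2) = 2 * (Nat.card K : ℂ) ^ 2 * ((1 + 2 * Nat.card K * z) * (1 + Nat.card K * z)))
  have z1 : z = 1 ∨ z = -1 := Int.isUnit_iff.1 (isUnit_of_dvd_one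
    ⟨(centralizer {t}).index * z - 3 * Nat.card K - 2 * Nat.card K ^ 2 * z, by linear_combination -s⟩)
  refine ⟨a, c, d, z, z1, ha, hc, hd, o, a1, by rw [hz]; simp, u, by rw [← s]; rcases z1 with rfl | rfl <;> simp, ra, fun g n => ?_,
    fun g => int_of_fixed (gen_integral ha.gen g) fun σ => ?_⟩
  · simp only [← Pi.add_apply, ← k, TT]
    rw [Pi.sub_apply, indFun_eq_zero_of_not_conj _ _ _ fun x hx => absurd hx (n x), zero_sub]
  · have ge : gal σ (TT K e) = TT K e := by
      have : gal σ (hf e) = hf e := funext fun x => by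
        rcases mul_self_eq_one_iff.1 (congrArg Units.val (mul_eq_one_iff_inv_eq.2 (DFunLike.congr_fun e2 x))) with u | u <;> simp [gal, u]
      rw [TT, gal_sub, gal_indFun, gal_sub, this]; congr 2 <;> ext <;> simp [gal]
    have i := ringHom_inner σ a (gen_TT e)
    have hs := ha.ringHom σ
    rw [w e e1, map_one, show (fun g => σ (TT K e g)) = a + c + d from ge.trans k, inner_add_right, inner_add_right] at i
    have n : ∀ {c}, SIrr G c → c 1 = -(1 + Nat.card K * z) → classInner (fun g => σ (a g)) c ≠ 1 := fun hc v i => by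
      have := congrFun (hs.eq_of_inner hc i) 1
      simp only [a1, v, map_intCast] at this
      have : (1 + 2 * Nat.card K * z : ℤ) = -(1 + Nat.card K * z) := by exact_mod_cast this
      rw [mul_assoc] at this
      omega
    refine congrFun (hs.eq_of_inner ha ?_) g
    rcases hs.inner_cases ha with i1 | i1 | i1 <;> [skip; exact i1; skip] <;> rcases hs.inner_cases hc with i2 | i2 | i2 <;>
      rcases hs.inner_cases hd with i3 | i3 | i3 <;> first | exact absurd i2 (n hc hz) | exact absurd i3 (n hd (u ▸ hz)) |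
        (rw [i1, i2, i3] at i; norm_num at i)

end BSW

end H3
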