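import Cfsg.Agent.H5.SubF
import Cfsg.Agent.H9.Rad

/-!
H3.ZId: `exists_field` (an abelian group acting irreducibly on an abelian group), and Zassenhaus' identification `zid` of doubly
transitive groups with abelian root group and large abelian torus with `PSL₂(q)`, `PGL₂(q)`.
-/

set_option autoImplicit false
open Subgroup MulAction OnePoint H5

namespace H3

universe u
variable {G : Type u} {Ω : Type*} [Group G] {Q D : Subgroup G}

theorem exists_field' [Finite G] (hQ : ∀ x ∈ Q, ∀ y ∈ Q, x * y = y * x) (hD : ∀ x ∈ D, ∀ y ∈ D, x * y = y * x)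
    (hn : D ≤ normalizer (Q : Set G)) (h1 : Q ≠ ⊥)
    (irr : ∀ W ≤ Q, (∀ d ∈ D, ∀ u ∈ W, d * u * d⁻¹ ∈ W) → W = ⊥ ∨ W = Q) :
    ∃ (F : Type u) (_ : Field F) (f : F → G) (ψ : G → F), (∀ x y, f (x + y) = f x * f y) ∧ Function.Injective f ∧
      (∀ u, u ∈ Q ↔ ∃ x, f x = u) ∧ ∀ d ∈ D, ∀ x, d * f x * d⁻¹ = f (ψ d * x) := by
  classical
  let _ : CommGroup Q := { (inferInstance : Group Q) with mul_comm := fun x y => Subtype.ext (hQ _ x.2 _ y.2) }
  let ρ : D → Module.End ℤ (Additive Q) := fun d =>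
    (MonoidHom.toAdditive (Q.normalizerMonoidHom ⟨d, hn d.2⟩).toMonoidHom).toIntLinearMap
  have hρ : ∀ d v, ((ρ d v).toMul : G) = d * v.toMul * (d : G)⁻¹ := fun _ _ => rfl
  have ext : ∀ {v w : Additive Q}, (v.toMul : G) = w.toMul → v = w := fun e => Additive.toMul.injective (Subtype.ext e)
  have comm : ∀ a ∈ Set.range ρ, ∀ b ∈ Set.range ρ, a * b = b * a := by
    rintro _ ⟨x, rfl⟩ _ ⟨y, rfl⟩
    refine LinearMap.ext fun v => ext ?_
    simp only [Module.End.mul_apply, hρ]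
    rw [show ∀ z : G, x * (y * z * (y : G)⁻¹) * (x : G)⁻¹ = (x * y) * z * ((x : G) * y)⁻¹ from fun z => by group, hD _ x.2 _ y.2]
    group
  have irr' : ∀ W : Submodule ℤ (Additive Q), (∀ d, ∀ v ∈ W, ρ d v ∈ W) → W = ⊥ ∨ W = ⊤ := fun W hW => by
    refine (irr ((AddSubgroup.toSubgroup' W.toAddSubgroup).map Q.subtype) (map_subtype_le _) ?_).imp (fun e => ?_) fun e => ?_
    · rintro d hd _ ⟨u, hu, rfl⟩
      exact ⟨_, hW ⟨d, hd⟩ (Additive.ofMul u) hu, rfl⟩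
    · exact eq_bot_iff.2 fun v hv => ext (e.le ⟨v.toMul, hv, rfl⟩)
    · refine eq_top_iff.2 fun v _ => ?_
      obtain ⟨u, hu, k⟩ := e.ge v.toMul.2
      exact (ext k : Additive.ofMul u = v) ▸ hu
  let F := Algebra.adjoin ℤ (Set.range ρ)
  let _ : CommRing F := Algebra.adjoinCommRingOfComm ℤ comm
  let r : D → F := fun u => ⟨ρ u, Algebra.subset_adjoin ⟨u, rfl⟩⟩
  have inj : ∀ a : F, ∀ v, a.1 v = 0 → a = 0 ∨ v = 0 := fun a v hv => by
    refine (irr' (LinearMap.ker a.1) fun u w hw => ?_).symm.imp (fun e => Subtype.ext (LinearMap.ker_eq_top.1 e))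
      fun e => (Submodule.eq_bot_iff _).1 e v hv
    have : a.1 * ρ u = ρ u * a.1 := congrArg Subtype.val (mul_comm a (r u))
    rw [LinearMap.mem_ker, ← Module.End.mul_apply, this, Module.End.mul_apply, LinearMap.mem_ker.1 hw, map_zero]
  obtain ⟨s, hs⟩ := ne_bot_iff_exists_ne_one.1 h1
  have hv : Additive.ofMul s ≠ 0 := hs
  let ev : F →ₗ[ℤ] Additive Q := (LinearMap.applyₗ (Additive.ofMul s)).comp F.val.toLinearMap
  have hev : ∀ a : F, ev a = a.1 (Additive.ofMul s) := fun _ => rfl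
  have bij : Function.Bijective ev := by
    refine ⟨(injective_iff_map_eq_zero ev).2 fun a ha => (inj a _ ha).resolve_right hv, LinearMap.range_eq_top.1 ?_⟩
    refine (irr' _ ?_).resolve_left fun e => hv ((Submodule.eq_bot_iff _).1 e _ ⟨1, rfl⟩)
    rintro u _ ⟨a, rfl⟩
    exact ⟨r u * a, rfl⟩
  have : Finite F := Finite.of_injective _ bij.1
  have : Nontrivial F := ⟨1, 0, fun a => hv (by simpa [hev] using congrArg ev a)⟩
  have : NoZeroDivisors F := ⟨fun {a b} hab => (inj a (ev b) (congrArg ev hab)).imp id fun c => bij.1 (c.trans (map_zero ev).symm)⟩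
  have : IsDomain F := NoZeroDivisors.to_isDomain F
  refine ⟨F, (Finite.isField_of_domain F).toField, fun x => (ev x).toMul, fun d => if h : d ∈ D then r ⟨d, h⟩ else 1,
    fun x y => congrArg (fun v : Additive Q => (v.toMul : G)) (map_add ev x y), fun x y e => bij.1 (ext e), fun u => ⟨fun h => ?_, ?_⟩,
    fun d h x => ?_⟩
  · obtain ⟨x, e⟩ := bij.2 (Additive.ofMul ⟨u, h⟩)
    exact ⟨x, by simp [e]⟩
  · rintro ⟨x, rfl⟩; exact (ev x).toMul.2
  · simp only [dif_pos h]; rfl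

theorem exists_field [Finite G] (hQ : ∀ x ∈ Q, ∀ y ∈ Q, x * y = y * x) (hD : ∀ x ∈ D, ∀ y ∈ D, x * y = y * x)
    (hn : D ≤ normalizer (Q : Set G)) (h1 : Q ≠ ⊥)
    (irr : ∀ W ≤ Q, (∀ d ∈ D, ∀ u ∈ W, d * u * d⁻¹ ∈ W) → W = ⊥ ∨ W = Q) :
    ∃ (F : Type) (_ : Field F) (_ : Fintype F) (f : F → G) (ψ : G → F), (∀ x y, f (x + y) = f x * f y) ∧ Function.Injective f ∧
      (∀ u, u ∈ Q ↔ ∃ x, f x = u) ∧ ∀ d ∈ D, ∀ x, d * f x * d⁻¹ = f (ψ d * x) := by
  obtain ⟨F, _, f, ψ, a, b, c, d⟩ := exists_field' hQ hD hn h1 irr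
  have := Finite.of_injective f b
  obtain ⟨K, _, _, k⟩ := exists_type0 F
  let _ := Fintype.ofFinite F
  let E := FiniteField.ringEquivOfCardEq (k.trans Nat.card_eq_fintype_card)
  refine ⟨K, inferInstance, inferInstance, fun x => f (E x), fun g => E.symm (ψ g), fun x y => by simp only [map_add, a],
    b.comp E.injective, fun u => (c u).trans E.surjective.exists, fun g h x => by simp only [d g h, map_mul, E.apply_symm_apply]⟩

/-- the functional equation of Zassenhaus -/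
theorem zid_key {F : Type*} [Field F] {S : F → Prop} {τ : F → F} (S0 : ¬ S 0) (S1 : S 1) (Sm : ∀ x y, S x → S y → S (x * y))
    (Si : ∀ x, S x → S x⁻¹) (S2 : ∀ x y, x ≠ 0 → y ≠ 0 → ¬ S x → ¬ S y → S (x * y))
    (hs : ∀ s x, S s → x ≠ 0 → τ (s * x) = s⁻¹ * τ x) (h0 : ∀ x, x ≠ 0 → τ x ≠ 0) (hi : ∀ x, x ≠ 0 → τ (τ x) = x) (h1 : τ 1 = 1)
    {s c : F} (b1 : S s) (b2 : c ≠ 0) (b3 : 1 + s * τ c = 0) (b4 : τ (-c) = -1)
    (b5 : ∀ x, x ≠ 0 → x + c ≠ 0 → τ (τ x + 1) = 1 + s * τ (x + c)) {y : F} (hy : y ≠ 0) : τ y = y⁻¹ := by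
  have n : ∀ x, S x → x ≠ 0 := fun x h e => S0 (e ▸ h)
  have t : ∀ x, S x → τ x = x⁻¹ := fun x h => by simpa [h1] using hs x 1 h one_ne_zero
  have m : S (-1) := by_contra fun m => by
    have := S2 _ _ (by simp) (neg_ne_zero.2 b2) m fun e => m (b4 ▸ t _ e ▸ Si _ e)
    rw [neg_mul_neg, one_mul] at this
    exact m ((eq_neg_of_add_eq_zero_right b3) ▸ t _ this ▸ Sm _ _ b1 (Si _ this))
  obtain rfl : 1 = c := by simpa [b4, t _ m] using hi _ (neg_ne_zero.2 b2)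
  obtain rfl : s = -1 := by rw [h1] at b3; linear_combination b3
  by_contra hn
  have k : ∀ x, x ≠ 0 → τ x = x⁻¹ → S x := fun x x0 e => by_contra fun u => hn (by
    have := S2 y x⁻¹ hy (inv_ne_zero x0) (fun v => hn (t _ v)) fun v => u (inv_inv x ▸ Si _ v)
    have := hs _ x this x0
    rw [inv_mul_cancel_right₀ x0, e] at this
    rw [this]; field_simp)
  have a : ∀ x, S x → x + 1 ≠ 0 → S (x + 1) := fun x h e => k _ e (by
    have := b5 x (n x h) e
    rw [t x h, show x⁻¹ + 1 = x⁻¹ * (x + 1) by field_simp [n x h]; ring, hs _ _ (Si _ h) e, inv_inv] at this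
    field_simp; linear_combination this)
  have ny : ¬ S y := fun v => hn (t _ v)
  have y1 : y + 1 ≠ 0 := fun e => ny ((eq_neg_of_add_eq_zero_left e) ▸ m)
  have ny1 : ¬ S (y + 1) := fun v => ny (by
    have := Sm _ _ m (a _ (Sm _ _ m v) (by simpa using hy))
    simpa using this)
  have := a _ (Sm _ _ m (Sm _ _ (S2 _ _ hy y1 ny ny1) (Si _ (S2 _ _ hy hy ny ny)))) (by field_simp; simpa using hy)
  have := Sm _ _ m (Si _ this)
  refine ny (by convert this using 1; field_simp; ring)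

variable [MulAction G Ω] {a b : Ω} {w : G}

/-- hypotheses of the identification theorem -/
structure ZI (a b : Ω) (Q D : Subgroup G) : Prop where
  ne : a ≠ b
  cQ : ∀ x ∈ Q, ∀ y ∈ Q, x * y = y * x
  cD : ∀ x ∈ D, ∀ y ∈ D, x * y = y * x
  fix : ∀ u ∈ Q, u • a = a
  norm : D ≤ normalizer (Q : Set G)
  reg : ∀ c, c ≠ a → ∃ u ∈ Q, u • b = c
  free : ∀ u ∈ Q, u • b = b → u = 1
  mem : ∀ g, g ∈ D ↔ g • a = a ∧ g • b = b
  fpf : ∀ d ∈ D, ∀ u ∈ Q, d * u = u * d → d = 1 ∨ u = 1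
  card : Nat.card Q ≤ 2 * Nat.card D + 1
  nt : Q ≠ ⊥

theorem card_lt_of_fpf [Finite G] {W : Subgroup G} (hf : ∀ d ∈ D, ∀ u ∈ W, d * u = u * d → d = 1 ∨ u = 1)
    (hW : ∀ d ∈ D, ∀ u ∈ W, d * u * d⁻¹ ∈ W) (h1 : W ≠ ⊥) : Nat.card D < Nat.card W := by
  obtain ⟨⟨s, hs⟩, s1⟩ := ne_bot_iff_exists_ne_one.1 h1
  have s1 : s ≠ 1 := by simpa using s1
  let _ := Fintype.ofFinite D
  let _ := Fintype.ofFinite W
  simp only [Nat.card_eq_fintype_card]
  refine Fintype.card_lt_of_injective_of_notMem (fun d => ⟨_, hW d d.2 s hs⟩) (fun d e k => ?_) (b := 1) ?_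
  · have k : d * s * (d : G)⁻¹ = e * s * (e : G)⁻¹ := congrArg Subtype.val k
    exact Subtype.ext (inv_mul_eq_one.1 ((hf _ (mul_mem (inv_mem e.2) d.2) s hs (by
      rw [show (e : G)⁻¹ * d * s = (e : G)⁻¹ * (d * s * (d : G)⁻¹) * d by group, k]
      group)).resolve_right s1)).symm
  · rintro ⟨d, k⟩
    exact s1 (by simpa using congrArg Subtype.val k)

theorem ZI.exists_hom [Finite G] (h : ZI a b Q D) (w1 : w • a = b) (w2 : w * w = 1) (w3 : ∀ d ∈ D, w * d * w⁻¹ = d⁻¹) :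
    ∃ (F : Type) (_ : Field F) (_ : Fintype F), Fintype.card F = Nat.card Q ∧ ∃ φ : G →* PG F, Function.Injective φ ∧ PS F ≤ φ.range := by
  classical
  have hn : ∀ d ∈ D, ∀ u ∈ Q, d * u * d⁻¹ ∈ Q := fun d hd u hu => (mem_normalizer_iff.1 (h.norm hd) u).1 hu
  obtain ⟨F, _, _, f, ψ, fa, fi, fQ, fψ⟩ := exists_field h.cQ h.cD h.norm h.nt fun W hW k => by
    by_contra! u
    have := card_lt_of_fpf (fun d hd u hu => h.fpf d hd u (hW hu)) k u.1
    have := h.card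
    have := H9.relIndex_mul_card hW
    have := mt relIndex_eq_one.1 (fun e => u.2 (hW.antisymm e))
    have := (W.subgroupOf Q).index_ne_zero_of_finite
    have : 2 ≤ W.relIndex Q := by unfold relIndex at *; omega
    nlinarith
  have f0 : f 0 = 1 := by simpa using fa 0 0
  have fm : ∀ x, f x ∈ Q := fun x => (fQ _).2 ⟨x, rfl⟩
  have cF : Fintype.card F = Nat.card Q := by
    rw [← Nat.card_eq_fintype_card]
    exact Nat.card_congr (Equiv.ofBijective (fun x => ⟨f x, fm x⟩) ⟨fun x y e => fi (congrArg Subtype.val e), fun u =>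
      ((fQ _).1 u.2).imp fun _ => Subtype.ext⟩)
  have ψm : ∀ d ∈ D, ∀ e ∈ D, ψ (d * e) = ψ d * ψ e := fun d hd e he => fi (by
    rw [← mul_one (ψ (d * e)), ← fψ _ (mul_mem hd he), ← fψ _ hd, ← mul_one (ψ e), ← fψ _ he]; group)
  have ψ1 : ψ 1 = 1 := fi (by simpa using (fψ 1 (one_mem _) 1).symm)
  have ψi : ∀ d ∈ D, ψ d * ψ d⁻¹ = 1 := fun d hd => by rw [← ψm _ hd _ (inv_mem hd), mul_inv_cancel, ψ1]
  have ψ0 : ∀ d ∈ D, ψ d ≠ 0 := fun d hd => left_ne_zero_of_mul_eq_one (ψi d hd)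
  have ψi : ∀ d ∈ D, ψ d⁻¹ = (ψ d)⁻¹ := fun d hd => eq_inv_of_mul_eq_one_right (ψi d hd)
  have ψk : ∀ d ∈ D, ψ d = 1 → d = 1 := fun d hd e => (h.fpf d hd (f 1) (fm 1) (by
    rw [← mul_inv_eq_iff_eq_mul, fψ d hd, e, mul_one])).resolve_right fun k => one_ne_zero (fi (k.trans f0.symm))
  let μ : D →* Fˣ := ⟨⟨fun d => Units.mk0 _ (ψ0 d d.2), Units.ext ψ1⟩, fun d e => Units.ext (ψm _ d.2 _ e.2)⟩
  have μi : Function.Injective μ := (injective_iff_map_eq_one μ).2 fun d e => Subtype.ext (ψk _ d.2 (congrArg Units.val e))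
  have S2 : ∀ x y, x ≠ 0 → y ≠ 0 → (¬ ∃ d ∈ D, ψ d = x) → (¬ ∃ d ∈ D, ψ d = y) → ∃ d ∈ D, ψ d = x * y := fun x y x0 y0 u v => by
    have k := μ.range.index_mul_card
    have := h.card
    have := μ.range.index_ne_zero_of_finite
    have n : ∀ x (x0 : x ≠ 0), (¬ ∃ d ∈ D, ψ d = x) → Units.mk0 x x0 ∉ μ.range := fun x _ u ⟨d, e⟩ => u ⟨d, d.2, congrArg Units.val e⟩
    have := mt index_eq_one.1 fun e : μ.range = ⊤ => n x x0 u (e ▸ mem_top _)
    rw [Nat.card_units, ← Nat.card_congr (MonoidHom.ofInjective μi).toEquiv, Nat.card_eq_fintype_card (α := F), cF] at k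
    have := Nat.card_pos (α := D)
    obtain ⟨d, e⟩ := (mul_mem_iff_of_index_two (show μ.range.index = 2 by
      by_contra; have : 3 ≤ μ.range.index := by omega
      have : 3 * Nat.card D ≤ Nat.card Q - 1 := k ▸ Nat.mul_le_mul_right _ this
      omega)).2 (iff_of_false (n x x0 u) (n y y0 v))
    exact ⟨d, d.2, congrArg Units.val e⟩
  let e : OnePoint F → Ω := fun x => OnePoint.rec a (fun x => f x • b) x
  have e0 : e ∞ = a := rfl
  have e1 : ∀ x : F, e x = f x • b := fun _ => rfl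
  have na : ∀ x, f x • b ≠ a := fun x k => h.ne (by rw [← h.fix _ (inv_mem (fm x)), ← k, inv_smul_smul])
  have ei : Function.Injective e := fun x y k => by
    cases x <;> cases y
    · rfl
    · exact absurd k.symm (na _)
    · exact absurd k (na _)
    · exact congrArg _ (fi (inv_mul_eq_one.1 (h.free _ (mul_mem (inv_mem (fm _)) (fm _)) (by
        rw [mul_smul, inv_smul_eq_iff]; exact k.symm))))
  have es : Function.Surjective e := fun c => by
    by_cases k : c = a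
    · exact ⟨∞, k.symm⟩
    obtain ⟨u, hu, k⟩ := h.reg c k
    obtain ⟨x, rfl⟩ := (fQ u).1 hu
    exact ⟨x, k⟩
  have af : ∀ y x : F, f y • e x = e (y + x : F) := fun y x => by rw [e1, e1, fa, mul_smul]
  have ad : ∀ d ∈ D, ∀ x : F, d • e x = e (ψ d * x : F) := fun d hd x => by
    rw [e1, e1, ← fψ d hd, mul_smul, mul_smul, ((h.mem _).1 (inv_mem hd)).2]
  have eb : e (0 : F) = b := by rw [e1, f0, one_smul]
  have dec : ∀ g : G, g • a = a → ∃ y, ∃ d ∈ D, g = f y * d := fun g k => by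
    obtain ⟨u, hu, l⟩ := h.reg (g • b) fun l => h.ne (smul_left_cancel g (k.trans l.symm))
    obtain ⟨y, rfl⟩ := (fQ u).1 hu
    exact ⟨y, (f y)⁻¹ * g, (h.mem _).2 ⟨by rw [mul_smul, k, h.fix _ (inv_mem hu)], by rw [mul_smul, ← l, inv_smul_smul]⟩, by group⟩
  have br : ∀ w : G, w • a = b → ∀ g : G, g • a ≠ a → ∃ x y, ∃ d ∈ D, g⁻¹ = f y * d * w⁻¹ * f x := fun w w1 g k => by
    obtain ⟨u, hu, l⟩ := h.reg _ k
    obtain ⟨x, rfl⟩ := (fQ u).1 hu
    obtain ⟨y, d, hd, m⟩ := dec (g⁻¹ * f x * w) (by rw [mul_smul, mul_smul, w1, l, inv_smul_smul])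
    exact ⟨-x, y, d, hd, by rw [← m, eq_inv_of_mul_eq_one_right (show f x * f (-x) = 1 by rw [← fa, add_neg_cancel, f0])]; group⟩
  let T : Subgroup G :=
    { carrier := {g | ∃ p : PG F, ∀ x, g • e x = e (p • x)}
      one_mem' := ⟨1, by simp⟩
      mul_mem' := fun ⟨p, hp⟩ ⟨q, hq⟩ => ⟨p * q, fun x => by rw [mul_smul, hq, hp, mul_smul]⟩
      inv_mem' := fun ⟨p, hp⟩ => ⟨p⁻¹, fun x => by rw [inv_smul_eq_iff, hp, smul_inv_smul]⟩ }
  have Tf' : ∀ y x, f y • e x = e (aff 1 y • x) := fun y x => by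
    cases x
    · rw [aff_infty, e0, h.fix _ (fm y)]
    · simp [af, add_comm]
  have Tf : ∀ y, f y ∈ T := fun y => ⟨_, Tf' y⟩
  have TD : D ≤ T := fun d hd => ⟨aff (μ ⟨d, hd⟩) 0, fun x => by
    cases x
    · rw [aff_infty, e0, ((h.mem _).1 hd).1]
    · simp [ad d hd, μ]⟩
  have ex : ∀ w : G, w • a = b → w * w = 1 → (∀ d ∈ D, w * d * w⁻¹ = d⁻¹) → ∃ τ : F → F, w • e (0 : F) = e ∞ ∧
      (∀ x, x ≠ 0 → w • e (x : F) = e (τ x)) ∧ (∀ x, x ≠ 0 → τ x ≠ 0) ∧ (∀ x, x ≠ 0 → τ (τ x) = x) ∧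
      (∀ s x, (∃ d ∈ D, ψ d = s) → x ≠ 0 → τ (s * x) = s⁻¹ * τ x) ∧ ((∃ c, ∀ x, x ≠ 0 → τ x = c * x⁻¹) → w ∈ T) := fun w w1 w2 w3 => by
    have ww : ∀ c : Ω, w • w • c = c := fun c => by rw [← mul_smul, w2, one_smul]
    have w0 : w • e (0 : F) = e ∞ := by rw [eb, ← w1, ww, e0]
    have : ∀ x : F, ∃ y : F, x ≠ 0 → w • e x = e y := fun x => by
      obtain ⟨y, k⟩ := es (w • e x)
      cases y
      · exact ⟨0, fun n => absurd (coe_injective (ei (smul_left_cancel w (k.symm.trans w0.symm)))) n⟩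
      · exact ⟨_, fun _ => k.symm⟩
    choose τ t using this
    have t0 : ∀ x, x ≠ 0 → τ x ≠ 0 := fun x n k => coe_ne_infty x (ei (by rw [← ww (e x), t x n, k, w0]))
    refine ⟨τ, w0, t, t0, fun x n => coe_injective (ei (by rw [← t _ (t0 x n), ← t x n, ww])), ?_, fun ⟨c, k⟩ => ?_⟩
    · rintro _ x ⟨d, hd, rfl⟩ n
      refine coe_injective (ei ?_)
      rw [← t _ (mul_ne_zero (ψ0 d hd) n), ← ψi d hd, ← ad _ (inv_mem hd), ← t x n, ← ad d hd, ← w3 d hd]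
      simp [mul_smul]
    · have c0 : c ≠ 0 := by simpa [k] using t0 1 one_ne_zero
      refine ⟨pg 0 c 1 0 (by simpa using c0), fun x => ?_⟩
      cases x with
      | infty => rw [pg_infty one_ne_zero, zero_div, eb, e0, w1]
      | coe x =>
        by_cases n : x = 0
        · rw [pg_coe_of_eq (by simpa using n), n, w0]
        · rw [pg_coe (by simpa using n), t x n, k x n]; simp [div_eq_mul_inv]
  have Tw : w ∈ T := by
    obtain ⟨τ, -, t, t0, t1, t2, t3⟩ := ex w w1 w2 w3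
    by_cases k : ∃ d ∈ D, ψ d = τ 1
    · obtain ⟨d, hd, k⟩ := k
      rw [← T.mul_mem_cancel_left (TD (inv_mem hd))]
      have v1 : (d⁻¹ * w) • a = b := by rw [mul_smul, w1, ((h.mem _).1 (inv_mem hd)).2]
      have v2 : d⁻¹ * w * (d⁻¹ * w) = 1 := by
        rw [show d⁻¹ * w * (d⁻¹ * w) = d⁻¹ * (w * d⁻¹ * w⁻¹) * (w * w) by group, w2, w3 _ (inv_mem hd)]; group
      have v4 : (d⁻¹ * w) • e (1 : F) = e (1 : F) := by
        rw [mul_smul, t 1 one_ne_zero, ad _ (inv_mem hd), ψi d hd, k, inv_mul_cancel₀ (t0 1 one_ne_zero)]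
      obtain ⟨τ, w0, t, t0, t1, t2, t3⟩ := ex _ v1 v2 fun x hx => by
        rw [show d⁻¹ * w * x * (d⁻¹ * w)⁻¹ = d⁻¹ * (w * x * w⁻¹) * d by group, w3 x hx, h.cD _ (inv_mem hd) _ (inv_mem hx)]; group
      generalize d⁻¹ * w = v at *
      have vi := eq_inv_of_mul_eq_one_left v2
      have h1 : τ 1 = 1 := coe_injective (ei ((t 1 one_ne_zero).symm.trans v4))
      obtain ⟨c, y, s, hs, m⟩ := br v v1 (v * f 1 * v)⁻¹ fun k => coe_ne_infty (1 : F) (ei (by
        rw [inv_smul_eq_iff, mul_smul, mul_smul, v1, ← e1, v4] at k; exact k.symm))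
      rw [inv_inv, ← vi] at m
      have m : ∀ x, v • f 1 • v • e x = f y • s • v • f c • e x := fun x => by simp only [← mul_smul, ← mul_assoc, m]
      have sa := ((h.mem _).1 hs).1
      obtain rfl : 1 = y := coe_injective (ei (by
        have := m ∞
        rwa [e0, h.fix _ (fm c), v1, ((h.mem _).1 hs).2, ← e1, ← e1, v4] at this))
      have m0 := m (0 : F)
      rw [w0, e0, h.fix _ (fm 1), v1, af, add_zero] at m0
      have c0 : c ≠ 0 := fun k => h.ne (by rw [k, w0, e0, sa, h.fix _ (fm 1)] at m0; exact m0.symm)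
      have m1 := m (-c : F)
      rw [t _ (neg_ne_zero.2 c0), af, af, add_neg_cancel, w0, e0, sa, h.fix _ (fm 1), ← e0, ← w0] at m1
      rw [t _ c0, ad _ hs, af, ← eb] at m0
      refine t3 ⟨1, fun x n => (zid_key (S := fun x => ∃ d ∈ D, ψ d = x) (fun ⟨d, hd, k⟩ => ψ0 d hd k) ⟨1, one_mem _, ψ1⟩ ?_ ?_ S2 t2 t0 t1
        h1 ⟨s, hs, rfl⟩ c0 (coe_injective (ei m0)).symm (eq_neg_of_add_eq_zero_right (coe_injective (ei (smul_left_cancel v m1))))
        (fun x x0 n => ?_) n).trans (one_mul _).symm⟩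
      · rintro _ _ ⟨d, hd, rfl⟩ ⟨e, he, rfl⟩; exact ⟨_, mul_mem hd he, ψm _ hd _ he⟩
      · rintro _ ⟨d, hd, rfl⟩; exact ⟨_, inv_mem hd, ψi d hd⟩
      · have := m (x : F)
        rw [t x x0, af, af, add_comm c, t _ n, ad _ hs, af, add_comm] at this
        by_cases k : τ x + 1 = 0
        · rw [k, w0] at this; exact absurd (ei this) (infty_ne_coe _)
        · exact coe_injective (ei ((t _ k).symm.trans this))
    · refine t3 ⟨τ 1, fun x n => ?_⟩
      by_cases l : ∃ d ∈ D, ψ d = x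
      · simpa [mul_comm] using t2 x 1 l one_ne_zero
      · have := t2 _ _ (S2 x _ n (inv_ne_zero (t0 1 one_ne_zero)) l fun ⟨d, hd, e⟩ => k ⟨_, inv_mem hd, by rw [ψi d hd, e, inv_inv]⟩)
          (t0 1 one_ne_zero)
        simpa [t0 1 one_ne_zero, t1 1 one_ne_zero] using this
  have TT : ∀ g, g ∈ T := fun g => by
    by_cases k : g • a = a
    · obtain ⟨y, d, hd, rfl⟩ := dec g k
      exact mul_mem (Tf y) (TD hd)
    · obtain ⟨x, y, d, hd, m⟩ := br w w1 g k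
      exact T.inv_mem_iff.1 (m ▸ mul_mem (mul_mem (mul_mem (Tf y) (TD hd)) (inv_mem Tw)) (Tf x))
  choose φ hφ using TT
  have pe : ∀ {p q : PG F}, (∀ x, e (p • x) = e (q • x)) → p = q := fun k => pg_ext (ei (k _)) (ei (k _)) (ei (k _))
  refine ⟨F, _, _, cF, MonoidHom.mk' φ fun g g' => pe fun x => by rw [← hφ, mul_smul, mul_smul, hφ, hφ],
    (injective_iff_map_eq_one _).2 fun g k => ?_, PS_le (fun y => ⟨f y, pe fun x => (hφ _ _).symm.trans (Tf' y x)⟩)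
      ⟨_, ⟨w, rfl⟩, fun k => h.ne ?_⟩⟩
  · have k : ∀ x, g • e x = e x := fun x => by rw [hφ, show φ g = 1 from k, one_smul]
    have hd := (h.mem g).2 ⟨k ∞, eb ▸ k (0 : F)⟩
    exact ψk g hd (by simpa using coe_injective (ei ((ad g hd 1).symm.trans (k _))))
  · rw [← w1, ← e0, hφ]; exact congrArg e k.symm

theorem iso_of_PS_le {F : Type*} [Field F] [Fintype F] {φ : G →* PG F} (h1 : Function.Injective φ) (h2 : PS F ≤ φ.range) :
    Nonempty (G ≃* PSL2 F) ∨ (PS F).index = 2 ∧ Nonempty (G ≃* PG F) := by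
  by_cases e : φ.range = PS F
  · exact Or.inl ⟨(MonoidHom.ofInjective h1).trans ((MulEquiv.subgroupCongr e).trans (psEquiv F).symm)⟩
  have k := relIndex_mul_index h2
  have := mt relIndex_eq_one.1 fun u => e (h2.antisymm' u)
  have l : (PS F).index ∣ 2 := index_PS (k := F) ▸ Nat.gcd_dvd_left _ _
  obtain l | l := (Nat.dvd_prime Nat.prime_two).1 l
  · exact absurd (Nat.eq_one_of_mul_eq_one_right (k.trans l)) this
  obtain u | u := (Nat.dvd_prime Nat.prime_two).1 (Dvd.intro _ (k.trans l))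
  · exact absurd u this
  exact Or.inr ⟨l, ⟨MulEquiv.ofBijective φ ⟨h1, MonoidHom.range_eq_top.1 (index_eq_one.1 (by rw [u, l] at k; omega))⟩⟩⟩

theorem ZI.psl [Finite G] (h : ZI a b Q D) (w1 : w • a = b) (w2 : w * w = 1) (w3 : ∀ d ∈ D, w * d * w⁻¹ = d⁻¹)
    (hc : (∀ H : Subgroup G, H.index ≠ 2) ∨ Nat.card G ≠ Nat.card Q * (Nat.card Q - 1) * (Nat.card Q + 1)) :
    ∃ (F : Type) (_ : Field F) (_ : Fintype F), Fintype.card F = Nat.card Q ∧ Nonempty (G ≃* PSL2 F) := by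
  obtain ⟨F, _, _, c, φ, h1, h2⟩ := h.exists_hom w1 w2 w3
  refine ⟨F, _, _, c, (iso_of_PS_le h1 h2).resolve_right fun ⟨k, ⟨e⟩⟩ => hc.elim (fun u => u ((PS F).comap e.toMonoidHom) ?_) fun u => u ?_⟩
  · rw [index_comap_of_surjective _ e.surjective, k]
  · rw [Nat.card_congr e.toEquiv, card_PG, c]

theorem ZI.pgl [Finite G] (h : ZI a b Q D) (w1 : w • a = b) (w2 : w * w = 1) (w3 : ∀ d ∈ D, w * d * w⁻¹ = d⁻¹)
    (hc : Nat.card G = Nat.card Q * (Nat.card Q - 1) * (Nat.card Q + 1)) :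
    ∃ (F : Type) (_ : Field F) (_ : Fintype F), Fintype.card F = Nat.card Q ∧ Nonempty (G ≃* PG F) := by
  obtain ⟨F, _, _, c, φ, h1, h2⟩ := h.exists_hom w1 w2 w3
  exact ⟨F, _, _, c, ⟨MulEquiv.ofBijective φ ((Nat.bijective_iff_injective_and_card _).2 ⟨h1, by rw [hc, card_PG, c]⟩)⟩⟩

end H3
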