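import Cfsg.Agent.H3.BSW
import Cfsg.Agent.H3.ZId
import Cfsg.Agent.H1.Frob
import Cfsg.Agent.H1.Product

/-!
H3.BSW2: the Brauer–Suzuki–Wall theorem `BSW.main`, `BSW.psl`; CC-subgroups.
-/

set_option autoImplicit false
open Cfsg Subgroup Finset
open scoped Classical ComplexConjugate Pointwise

namespace H3

variable {G : Type*} [Group G] {t s g u x y : G} {K A N Q D : Subgroup G}

/-- `A` is the centralizer of each of its non-identity elements -/
def CC (A : Subgroup G) : Prop := ∀ x ∈ A, x ≠ 1 → centralizer {x} = A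

theorem CC.comm (h : CC A) (hx : x ∈ A) (hy : y ∈ A) : x * y = y * x := by
  by_cases e : y = 1
  · simp [e]
  · exact mem_centralizer_singleton_iff.1 ((h y hy e).ge hx)

theorem CC.mem (h : CC A) (hx : x ∈ A) (h1 : x ≠ 1) (e : y * x = x * y) : y ∈ A := (h x hx h1).le (mem_centralizer_singleton_iff.2 e)

theorem CC.cj (h : CC A) (g : G) : CC (H9.cj g A) := fun x hx h1 => by
  rw [← h _ (H9.mem_cj.1 hx) (by simpa [H1.conj_eq_one_iff'] using h1), H9.cj_centralizer_singleton]; simp [mul_assoc]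

theorem CC.ti (h : CC A) (hx : x ∈ A) (h1 : x ≠ 1) (e : g * x * g⁻¹ ∈ A) : g ∈ normalizer (A : Set G) :=
  H9.mem_normalizer_iff_cj.2 (by rw [← (h.cj g) _ (H9.conj_mem_cj hx) (by simpa using h1), h _ e (by simpa using h1)])

theorem exists_prime_pow [Finite G] (h : g ≠ 1) : ∃ p j : ℕ, p.Prime ∧ p ∣ orderOf g ∧ orderOf (g ^ j) = p := by
  obtain ⟨p, a, b⟩ := Nat.exists_prime_and_dvd (mt orderOf_eq_one_iff.1 h)
  exact ⟨p, _, a, b, orderOf_pow_orderOf_div (orderOf_pos g).ne' b⟩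

theorem exists_conj_mem_of_prime [Finite G] {p : ℕ} (hp : p.Prime) (hx : orderOf x = p) (h : ¬ p ∣ A.index) : ∃ g, g * x * g⁻¹ ∈ A := by
  have := Fact.mk hp
  obtain ⟨g, e⟩ := H1.exists_conj_le_of_not_dvd_index (IsPGroup.of_card (n := 1) ((Nat.card_zpowers x).trans (hx.trans (pow_one p).symm))) h
  exact ⟨g, e (H1.conj_mem_conj_smul (mem_zpowers x))⟩

theorem CC.exists_conj [Finite G] (h : CC A) (hc : (Nat.card A).Coprime A.index) (hg : orderOf g ∣ Nat.card A) : ∃ x, x * g * x⁻¹ ∈ A := by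
  by_cases e : g = 1
  · exact ⟨1, by simp [e]⟩
  obtain ⟨p, j, a, b, c⟩ := exists_prime_pow e
  obtain ⟨x, d⟩ := exists_conj_mem_of_prime a c fun u => a.one_lt.ne' (Nat.eq_one_of_dvd_coprimes hc (b.trans hg) u)
  exact ⟨x, h.mem d (by simpa using fun u : g ^ j = 1 => a.one_lt.ne' (by rw [← c, u, orderOf_one])) (by
    rw [← conj_pow]; exact (Commute.self_pow _ j).eq)⟩

section
variable [Fintype G]

/-- non-identity elements conjugate into `A` -/
noncomputable def cs (A : Subgroup G) : Finset G := {g | g ≠ 1 ∧ ∃ x, x * g * x⁻¹ ∈ A}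

theorem mem_cs : g ∈ cs A ↔ g ≠ 1 ∧ ∃ x, x * g * x⁻¹ ∈ A := by simp only [cs, mem_filter_univ]

theorem card_mem (A : Subgroup G) : #{g | g ∈ A} = Nat.card A := by rw [Nat.card_eq_fintype_card, Fintype.card_subtype]

theorem card_cs (hN : ∀ g ∈ N, ∀ x ∈ A, g * x * g⁻¹ ∈ A) (ti : ∀ g, ∀ x ∈ A, x ≠ 1 → g * x * g⁻¹ ∈ A → g ∈ N) :
    #(cs A) = N.index * (Nat.card A - 1) := by
  have := sum_card_bipartiteAbove_eq_sum_card_bipartiteBelow (s := univ) (t := univ) (fun x g : G => g ≠ 1 ∧ x * g * x⁻¹ ∈ A)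
  replace this := ((sum_congr rfl (g := fun _ => Nat.card A - 1) fun x _ => ?_).symm.trans this).trans
    (sum_congr rfl (g := fun g => if g ∈ cs A then Nat.card N else 0) fun g _ => ?_)
  · rw [← sum_filter, sum_const, sum_const, card_univ, ← Nat.card_eq_fintype_card, ← N.index_mul_card, filter_mem_eq_inter, univ_inter] at this
    exact Nat.eq_of_mul_eq_mul_right (Nat.card_pos (α := N)) (by simp only [smul_eq_mul] at this; rw [← this]; ring)
  · rw [← card_mem, ← card_erase_of_mem (a := 1) (by simp)]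
    refine card_bij' (fun u _ => x * u * x⁻¹) (fun u _ => x⁻¹ * u * x) (fun u c => ?_) (fun u c => ?_) (by intros; group) (by intros; group)
    · simpa [bipartiteAbove] using c
    · simpa [bipartiteAbove, mul_assoc, H1.conj_eq_one_iff', ← mul_assoc] using c
  · split_ifs with e
    · obtain ⟨a, y, b⟩ := mem_cs.1 e
      rw [← card_mem]
      refine card_bij' (fun u _ => u * y⁻¹) (fun u _ => u * y) (fun u c => ?_) (fun u c => ?_) (by simp) (by simp)
      · simp only [bipartiteBelow, mem_filter_univ] at c ⊢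
        exact ti _ _ b (by simpa using a) (by simpa [mul_assoc] using c.2)
      · simp only [bipartiteBelow, mem_filter_univ] at c ⊢
        exact ⟨a, by simpa [mul_assoc] using hN _ c _ b⟩
    · exact card_eq_zero.2 (filter_eq_empty_iff.2 fun x _ c => e (mem_cs.2 ⟨c.1, x, c.2⟩))

theorem CC.card (h : CC A) (hc : (Nat.card A).Coprime A.index) :
    #{g : G | g ≠ 1 ∧ orderOf g ∣ Nat.card A} = (normalizer (A : Set G)).index * (Nat.card A - 1) := by
  rw [← card_cs (fun _ a _ => H1.conj_mem_of_mem_normalizer a) fun _ _ => h.ti, cs]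
  exact congrArg _ (filter_congr fun g _ => and_congr_right fun _ => ⟨h.exists_conj hc, fun ⟨x, e⟩ =>
    (show orderOf (x * g * x⁻¹) = orderOf g from (MulAut.conj x).orderOf_eq g) ▸ H1.orderOf_dvd_card_of_mem e⟩)

theorem NI_inv (ht : orderOf t = 2) (h : IsConj t u ∧ IsConj t (u⁻¹ * y)) : orderOf u = 2 ∧ u * y * u⁻¹ = y⁻¹ := by
  have o : ∀ {u}, IsConj t u → orderOf u = 2 := fun k => by
    obtain ⟨c, rfl⟩ := isConj_iff.1 k
    exact ((MulAut.conj c).orderOf_eq t).trans ht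
  have := H4.mul_self_of_two (o h.2)
  rw [H4.inv_of_two (o h.1)] at this ⊢
  exact ⟨o h.1, eq_inv_of_mul_eq_one_left (by rw [← this]; group)⟩

theorem NI_le (ht : orderOf t = 2) (y : G) : NI t y ≤ Nat.card (centralizer {y}) := by
  by_cases e : NI t y = 0
  · simp [e]
  obtain ⟨u, a⟩ := card_ne_zero.1 e
  rw [← card_mem]
  refine card_le_card_of_injOn (fun v => u * v) (fun v b => ?_) (mul_right_injective u).injOn
  simp only [coe_filter_univ, Set.mem_setOf_eq, mem_filter_univ] at a b ⊢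
  rw [mem_centralizer_singleton_iff, ← mul_inv_eq_iff_eq_mul, show u * v * y * (u * v)⁻¹ = u * (v * y * v⁻¹) * u⁻¹ by group,
    (NI_inv ht b).2, ← conj_inv, (NI_inv ht a).2, inv_inv]

end

theorem cc_of_inv [Finite G] {P : G → Prop} (h1 : ∀ z, P z → Odd (Nat.card (centralizer {z})))
    (h2 : ∀ z, P z → ∀ w ∈ centralizer {z}, w ≠ 1 → P w) (hu : orderOf u = 2) (hy : P y) (e : u * y * u⁻¹ = y⁻¹) :
    CC (centralizer {y}) ∧ ∀ z ∈ centralizer {y}, u * z * u⁻¹ = z⁻¹ := by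
  have k : ∀ y, P y → u * y * u⁻¹ = y⁻¹ → ∀ z ∈ centralizer {y}, u * z * u⁻¹ = z⁻¹ := fun y hy e z => by
    refine H1.conj_eq_inv_of_fpf (H9.mem_normalizer_iff_cj.2 ?_) (eq_bot_iff.2 fun w a => by_contra fun b => ?_)
      (H4.mul_self_of_two hu ▸ one_mem _)
    · rw [H9.cj_centralizer_singleton, e, ← H9.centralizer_zpowers, zpowers_inv, H9.centralizer_zpowers]
    · exact (h1 w (h2 y hy w a.1 b)).not_two_dvd_nat (hu ▸ H1.orderOf_dvd_card_of_mem (mem_centralizer_singleton_iff.2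
        (mem_centralizer_singleton_iff.1 a.2).symm))
  have c := fun y hy e => H1.isMulCommutative_of_conj_eq_inv (k y hy e)
  refine ⟨fun z a b => le_antisymm (fun w d => ?_) fun w d => ?_, k y hy e⟩
  · exact mem_centralizer_singleton_iff.2 (H1.comm_of_mem (c z (h2 y hy z a b) (k y hy e z a)) d (mem_centralizer_singleton_iff.2
      (mem_centralizer_singleton_iff.1 a).symm))
  · exact mem_centralizer_singleton_iff.2 (H1.comm_of_mem (c y hy e) d a)

theorem mem_of_sq [Finite G] (h : Odd (orderOf g)) (e : g * g ∈ A) : g ∈ A := by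
  obtain ⟨j, k⟩ := H4.exists_sqrt_odd h.not_two_dvd_nat
  rw [← k, ← pow_mul, mul_comm, pow_mul, sq]
  exact pow_mem e j

/-- Frobenius' theorem for an odd order subgroup meeting a TI-subgroup of index at most two in its normalizer -/
theorem exists_ker [Finite G] {L : Subgroup G} (hL : Odd (Nat.card L)) (hA : ∀ g, ∀ x ∈ A, x ≠ 1 → g * x * g⁻¹ ∈ A → g * g ∈ A)
    (hx : x ∈ A) (hx' : x ∈ L) (h1 : x ≠ 1) : L ≤ A ∨ ∃ N < L, N ≠ ⊥ ∧ L ≤ normalizer (N : Set G) ∧
      ∀ y ∈ L, (orderOf y).Coprime (Nat.card A) → y ∈ N := by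
  refine or_iff_not_imp_left.2 fun n => ?_
  obtain ⟨N, a, -, b, -, c, d⟩ := H1.IsFrob.exists_kernel (H := A.subgroupOf L) (H1.isFrob_iff.2
    ⟨fun e => h1 (congrArg Subtype.val (mem_bot.1 (e.le (show (⟨x, hx'⟩ : L) ∈ A.subgroupOf L from hx)))), mt subgroupOf_eq_top.1 n,
      fun g x a b c => mem_of_sq (g := (g : G)) (A := A) (hL.of_dvd_nat (H1.orderOf_dvd_card_of_mem g.2)) (hA g x a (by simpa using b) c)⟩)
  refine ⟨N.map L.subtype, (map_subtype_le N).lt_of_ne fun e => ?_, mt (map_eq_bot_iff_of_injective _ L.subtype_injective).1 c,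
    H9.map_subtype_le_normalizer N, fun y e f => ⟨⟨y, e⟩, by_contra fun u => ?_, rfl⟩⟩
  · obtain ⟨z, u, rfl⟩ := e.ge hx'
    exact h1 (congrArg Subtype.val (disjoint_def.1 b.disjoint u hx))
  · obtain ⟨g, v⟩ := d _ u
    have := H1.orderOf_dvd_card_of_mem (show (g⁻¹ * y * g⁻¹⁻¹ : G) ∈ A by rw [inv_inv]; exact (H1.mem_conj_smul (G := L)).1 v)
    rw [show orderOf (g⁻¹ * y * g⁻¹⁻¹ : G) = orderOf y from (MulAut.conj (g⁻¹ : G)).orderOf_eq y] at this
    exact u (by simp [orderOf_eq_one_iff.1 (f.eq_one_of_dvd this), show ∀ h, (⟨1, h⟩ : L) = 1 from fun _ => rfl])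

theorem le_normalizer_of_inv [Finite G] {X : Subgroup G} (hD : ∀ x ∈ D, ∀ y ∈ D, x * y = y * x) (hu : ∀ d ∈ D, u * d * u⁻¹ = d⁻¹)
    (hX : X ≤ D) : D ⊔ zpowers u ≤ normalizer (X : Set G) :=
  sup_le (fun g a => H1.mem_normalizer_iff_conj_mem.2 fun x b => by rwa [hD g a x (hX b), mul_inv_cancel_right])
    (zpowers_le_of_mem (H1.mem_normalizer_iff_conj_mem.2 fun x b => (hu x (hX b)).symm ▸ inv_mem b))

/-- conclusion of the Brauer–Suzuki–Wall theorem -/
structure BSWC (Q D : Subgroup G) (u : G) : Prop where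
  cc : CC Q
  card : 2 * Nat.card G = Nat.card Q * (Nat.card Q + 1) * (Nat.card Q - 1)
  comm : ∀ x ∈ D, ∀ y ∈ D, x * y = y * x
  cardD : 2 * Nat.card D + 1 = Nat.card Q
  inf : Q ⊓ D = ⊥
  norm : normalizer (Q : Set G) = Q ⊔ D
  ord : orderOf u = 2
  nmem : u ∉ D
  inv : ∀ d ∈ D, u * d * u⁻¹ = d⁻¹
  sub : ∀ X ≤ D, X ≠ ⊥ → normalizer (X : Set G) = D ⊔ zpowers u

namespace BSW
variable (h : BSW t s K)
include h

theorem two_dvd : 2 ∣ Nat.card K := h.ot ▸ H1.orderOf_dvd_card_of_mem h.tK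

theorem sq_mem (e : g * t = t * g) : g * g ∈ K :=
  (h.cent.1 e).elim (fun a => mul_mem a a) fun a => H4.mul_self_of_two (h.ord a) ▸ one_mem _

variable [Fintype G]

theorem card_W : #(cs K) = (centralizer {t}).index * (Nat.card K - 1) :=
  card_cs (fun _ a _ b => (h.cent.1 (mem_centralizer_singleton_iff.1 a)).elim (fun c => (h.fix c b).symm ▸ b) fun c =>
    (h.inv' c b).symm ▸ inv_mem b) fun g x a b c => mem_centralizer_singleton_iff.2 (h.ti g x a b c)

theorem cop_cent (hn : (centralizer {t}).index.Coprime (Nat.card K)) (h1 : g ≠ 1) (hg : g ∉ cs K) :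
    (Nat.card (centralizer {g})).Coprime (Nat.card K) := Nat.coprime_of_dvd fun p hp a b => hg (mem_cs.2 ⟨h1, by
  have := Fact.mk hp
  obtain ⟨⟨z, z1⟩, z2⟩ := exists_prime_orderOf_dvd_card' p a
  replace z2 : orderOf z = p := (orderOf_coe _).trans z2
  have c : ∀ y : G, orderOf y = 2 → ∃ x, x * y * x⁻¹ ∈ K := fun y e => by
    obtain ⟨x, e⟩ := isConj_iff.1 (h.cj y e).symm
    exact ⟨x, e ▸ h.tK⟩
  have k : ∀ y x : G, x * y * x⁻¹ * t = t * (x * y * x⁻¹) → ∃ x, x * y * x⁻¹ ∈ K := fun y x e =>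
    (h.cent.1 e).elim (fun a => ⟨x, a⟩) fun a => c y (((MulAut.conj x).orderOf_eq y).symm.trans (h.ord a))
  obtain ⟨x, e⟩ := exists_conj_mem_of_prime hp z2 fun u => hp.one_lt.ne' (Nat.eq_one_of_dvd_coprimes hn u b)
  obtain ⟨x, e⟩ := k z x (mem_centralizer_singleton_iff.1 e)
  refine k g x (h.ti _ _ e (by simpa using fun u : z = 1 => hp.one_lt.ne' (by rw [← z2, u, orderOf_one])) ?_)
  rwa [show x * g * x⁻¹ * (x * z * x⁻¹) * (x * g * x⁻¹)⁻¹ = x * (g * z * g⁻¹) * x⁻¹ by group, ← mem_centralizer_singleton_iff.1 z1,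
    mul_inv_cancel_right]⟩)

theorem nums : ∃ (q m : ℕ) (U V : Finset G), (q = 2 * Nat.card K + 1 ∧ m = Nat.card K + 1 ∧ #V = q * Nat.card K ^ 2 ∨
      q + 1 = 2 * Nat.card K ∧ m + 1 = Nat.card K ∧ #V = q * Nat.card K * (m - 1)) ∧ (centralizer {t}).index = q * m ∧ #U + 1 = q ^ 2 ∧
    (∀ g ∈ U, Nat.card (centralizer {g}) = q) ∧ (∀ g ∈ V, Nat.card (centralizer {g}) ∣ m) ∧ 1 ∉ U ∧ 1 ∉ V ∧
    (∀ g ∈ U, ∀ x, IsConj g x → x ∈ U) ∧ univ = insert 1 (cs K ∪ (U ∪ V)) := by
  obtain ⟨a, c, d, δ, hδ, ha, hc, hd, o, a1, c1, cd, hn, aK, aO, az⟩ := h.exists_char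
  choose z hz using az
  obtain ⟨j, hj⟩ := h.two_dvd
  have k0 := Nat.card_pos (α := K)
  have hW := h.card_W
  have hG : Nat.card G = 2 * (centralizer {t}).index * Nat.card K := by rw [← h.index, index_mul_card]
  have cop := fun g => h.cop_cent (g := g)
  generalize Nat.card K = k at *
  generalize (centralizer {t}).index = n at *
  obtain ⟨q, m, e, hq, hm⟩ : ∃ q m : ℕ, (q = 2 * k + 1 ∧ m = k + 1 ∧ δ = 1 ∨ q + 1 = 2 * k ∧ m + 1 = k ∧ δ = -1) ∧
      1 + 2 * k * δ = δ * q ∧ 1 + k * δ = δ * m := by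
    rcases hδ with rfl | rfl
    · exact ⟨_, _, Or.inl ⟨rfl, rfl, rfl⟩, by push_cast; ring, by push_cast; ring⟩
    · exact ⟨2 * k - 1, k - 1, Or.inr ⟨by omega, by omega, rfl⟩, by omega, by omega⟩
  have δ2 : δ * δ = 1 := by rcases hδ with rfl | rfl <;> rfl
  obtain rfl : n = q * m := by rw [hq, hm, mul_mul_mul_comm, δ2, one_mul] at hn; exact_mod_cast hn
  have qk : q.Coprime (2 * k) := by
    rcases e with ⟨rfl, -⟩ | ⟨e, -⟩
    · simp
    · simp [← e]
  have mk : m.Coprime (2 * k) := by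
    refine Nat.Coprime.mul_right (Nat.coprime_two_right.2 (Nat.odd_iff.2 (by omega))) ?_
    rcases e with ⟨-, rfl, -⟩ | ⟨-, e, -⟩
    · simp
    · simp [← e]
  have cop' : ∀ g : G, g ≠ 1 → g ∉ cs K → (Nat.card (centralizer {g})).Coprime (2 * k) := fun g a b =>
    have := cop g ((qk.mul_left mk).of_dvd_right (Nat.dvd_mul_left _ _)) a b
    (this.of_dvd_right ⟨j, hj⟩).mul_right this
  have z1 : z 1 = δ * q := by exact_mod_cast (hz 1).symm.trans (hq ▸ a1)
  have zW : ∀ g ∈ cs K, z g = 1 := fun g e => by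
    obtain ⟨e1, x, e2⟩ := mem_cs.1 e
    exact_mod_cast (hz g).symm.trans ((gen_class ha.gen g x).symm.trans (aK _ e2 (by simpa using e1)))
  let O : Finset G := {g | g ≠ 1 ∧ g ∉ cs K}
  have sp : ∀ f : G → ℤ, ∑ g, f g = f 1 + (∑ g ∈ cs K, f g + ∑ g ∈ O, f g) := fun f => by
    rw [← sum_union (disjoint_left.2 fun g a b => (mem_filter.1 b).2.2 a), ← sum_insert (by simp [O, mem_cs])]
    exact sum_congr (by ext g; simp only [O, mem_insert, mem_union, mem_filter, mem_univ, true_and, true_iff]; tauto) fun _ _ => rfl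
  have s1 : ∑ g, z g = 0 := by
    simp only [classInner, hz, map_one, mul_one, mul_eq_zero, inv_eq_zero, card_ne_zero' G, false_or] at o
    exact_mod_cast o
  have s2 : ∑ g, z g * z g = Nat.card G := by
    have := ha.inner_self
    simp only [classInner, hz, map_intCast, inv_mul_eq_one₀ (card_ne_zero' G)] at this
    exact_mod_cast this.symm
  have s3 := sp fun _ => 1
  rw [sp, sum_congr rfl zW] at s1
  rw [sp, sum_congr rfl fun g e => by rw [zW g e]] at s2
  simp only [sum_const, card_univ, ← Nat.card_eq_fintype_card, hG, hW, z1, nsmul_eq_mul, mul_one] at s1 s2 s3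
  push_cast [Nat.cast_sub (show 1 ≤ k from k0)] at s1 s2 s3
  have key : δ * q * (δ * q) + δ * q = 2 * q * m := by linear_combination δ * q * (2 * hm - hq) + 2 * q * m * δ2
  have zO : ∀ g ∈ O, z g * (z g + 1) = 0 := (sum_eq_zero_iff_of_nonneg fun g _ => by nlinarith [sq_nonneg (2 * z g + 1)]).1 (by
    simp only [mul_add, mul_one, sum_add_distrib]
    linear_combination s1 + s2 - key)
  have sU : ∑ g ∈ O, z g = -#{g ∈ O | z g = -1} := by
    rw [← sum_filter_add_sum_filter_not O (z · = -1), sum_congr rfl fun g e => (mem_filter.1 e).2, sum_eq_zero (f := z) fun g e => ?_]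
    · simp
    · exact (mul_eq_zero.1 (zO g (mem_filter.1 e).1)).resolve_right fun u => (mem_filter.1 e).2 (by omega)
  have sO : #{g ∈ O | z g = -1} + #{g ∈ O | ¬ z g = -1} = #O := card_filter_add_card_filter_not _
  have cU : #{g ∈ O | ¬ z g = -1} + 1 = q ^ 2 := by
    zify at sO ⊢
    linear_combination sO - s3 + s1 - sU - key + q ^ 2 * δ2
  have ci : ∀ {χ}, SIrr G χ → ∀ g, IsIntegral ℤ (((centralizer {g}).index : ℂ) * χ g / χ 1) := fun hχ g =>
    hχ.elim (central_integral · g) fun i => by simpa [neg_div_neg_eq] using central_integral i g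
  have δi : IsIntegral ℤ (δ : ℂ) := isIntegral_algebraMap
  have δ0 : (δ : ℂ) ≠ 0 := by rcases hδ with rfl | rfl <;> simp
  have q0 : q ≠ 0 := by omega
  have m0 : m ≠ 0 := by omega
  have cl : ∀ g ∈ ({g ∈ O | ¬ z g = -1} : Finset G), ∀ x, IsConj g x → x ∈ ({g ∈ O | ¬ z g = -1} : Finset G) := fun g e x i => by
    obtain ⟨y, rfl⟩ := isConj_iff.1 i
    simp only [O, mem_filter, mem_univ, true_and, mem_cs] at e ⊢
    refine ⟨⟨by simpa using e.1.1, fun ⟨_, w, u⟩ => e.1.2 ⟨e.1.1, w * y, by simpa [mul_assoc] using u⟩⟩, ?_⟩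
    rw [show z (y * g * y⁻¹) = z g by exact_mod_cast (hz _).symm.trans ((gen_class ha.gen g y).trans (hz g))]
    exact e.2
  refine ⟨q, m, {g ∈ O | ¬ z g = -1}, {g ∈ O | z g = -1}, e.imp (fun e => ⟨e.1, e.2.1, ?_⟩) fun e => ⟨e.1, e.2.1, ?_⟩, rfl, cU,
    fun g e => ?_, fun g e => ?_, by simp [O], by simp [O], cl, ?_⟩
  · obtain ⟨-, rfl, rfl⟩ := e
    zify; push_cast at s1; linear_combination sU - s1
  · obtain ⟨-, rfl, rfl⟩ := e
    zify [Nat.one_le_iff_ne_zero.2 m0]; push_cast at s1; linear_combination sU - s1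
  · have e' := e
    simp only [O, mem_filter, mem_univ, true_and] at e'
    have z0 : z g = 0 := (mul_eq_zero.1 (zO g (mem_filter.1 e).1)).resolve_right fun u => e'.2 (by omega)
    have := aO g fun x u => e'.1.2 (mem_cs.2 ⟨e'.1.1, x, u⟩)
    have i := ((ci hc g).add (ci hd g)).mul δi
    rw [← cd, ← add_div, ← mul_add, show c g + d g = -1 by rw [hz, z0] at this; simpa using this, neg_eq_iff_eq_neg.1 c1, hm,
      show ((centralizer {g}).index : ℂ) * -1 / -((δ * m : ℤ) : ℂ) * δ = (centralizer {g}).index / m by push_cast; field_simp] at i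
    obtain ⟨r, hr⟩ := dvd_of_isIntegral_div m0 i
    have k1 := (centralizer {g}).index_mul_card
    have : Nat.card (centralizer {g}) ∣ q := (cop' g e'.1.1 e'.1.2).dvd_of_dvd_mul_left ⟨r, Nat.eq_of_mul_eq_mul_left (Nat.pos_of_ne_zero m0)
      (by rw [hr, hG] at k1; linear_combination -k1)⟩
    obtain ⟨w, hw⟩ := this
    have le : (centralizer {g}).index + 1 ≤ q ^ 2 := by
      rw [← cU, ← card_class_eq_index, Nat.card_eq_fintype_card, Fintype.card_subtype]
      exact Nat.succ_le_succ (card_le_card fun x u => cl g e x (mem_filter.1 u).2)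
    have : (centralizer {g}).index = 2 * k * m * w := Nat.eq_of_mul_eq_mul_right (Nat.card_pos (α := centralizer {g}))
      (by rw [k1, hG]; nth_rw 1 [hw]; ring)
    have w3 : w < 3 := by
      by_contra! u
      have : 2 * k * m * 3 ≤ 2 * k * m * w := Nat.mul_le_mul_left _ u
      rcases ‹_ ∨ _› with ⟨rfl, rfl, -⟩ | ⟨e1, rfl, -⟩
      · nlinarith
      · obtain rfl : q = 2 * m + 1 := by omega
        nlinarith [Nat.pos_of_ne_zero m0]
    have : ¬ 2 ∣ w := fun u => by simpa using Nat.eq_one_of_dvd_coprimes qk (u.trans ⟨_, hw.trans (mul_comm _ _)⟩) (Nat.dvd_mul_right _ _)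
    obtain rfl : w = 1 := by omega
    simpa using hw.symm
  · simp only [O, mem_filter, mem_univ, true_and] at e
    have i := ((ci ha g).mul δi).neg
    rw [hz g, e.2, a1, hq, show -(((centralizer {g}).index : ℂ) * (-1 : ℤ) / ((δ * q : ℤ) : ℂ) * δ) = (centralizer {g}).index / q by
      push_cast; field_simp] at i
    obtain ⟨r, hr⟩ := dvd_of_isIntegral_div q0 i
    have k1 := (centralizer {g}).index_mul_card
    exact (cop' g e.1.1 e.1.2).dvd_of_dvd_mul_left ⟨r, Nat.eq_of_mul_eq_mul_left (Nat.pos_of_ne_zero q0)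
      (by rw [hr, hG] at k1; linear_combination -k1)⟩
  · ext g; simp only [O, mem_insert, mem_union, mem_filter, mem_univ, true_and, true_iff]; tauto

set_option maxHeartbeats 800000 in
theorem main : ∃ (Q D : Subgroup G) (u : G), BSWC Q D u ∧ (Nat.card Q = 2 * Nat.card K + 1 ∨ Nat.card Q + 1 = 2 * Nat.card K) := by
  obtain ⟨q, m, U, V, e, hn, cU, hU, hV, U1, V1, cl, un⟩ := h.nums
  obtain ⟨j, hj⟩ := h.two_dvd
  have k0 := Nat.card_pos (α := K)
  have hW := h.card_W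
  have hG : Nat.card G = 2 * (centralizer {t}).index * Nat.card K := by rw [← h.index, index_mul_card]
  have oc : ∀ x g : G, orderOf (x * g * x⁻¹) = orderOf g := fun x g => (MulAut.conj x).orderOf_eq g
  have oW : ∀ g ∈ cs K, orderOf g ∣ Nat.card K := fun g a => by
    obtain ⟨-, x, a⟩ := mem_cs.1 a
    exact oc x g ▸ H1.orderOf_dvd_card_of_mem a
  have nW : ∀ g ∈ cs K, NI t g = Nat.card K := fun g a => by
    obtain ⟨b, x, a⟩ := mem_cs.1 a
    rw [← h.NI_K a (by simpa using b)]; exact Nat.cast_injective (R := ℂ) (class_NI t g x).symm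
  have cvK : ∀ x ∈ cs K, ∃ A : Subgroup G, x ∈ A ∧ (∀ g, ∀ x ∈ A, x ≠ 1 → g * x * g⁻¹ ∈ A → g * g ∈ A) ∧ Nat.card A = Nat.card K := fun x a => by
    obtain ⟨-, y, a⟩ := mem_cs.1 a
    refine ⟨H9.cj y⁻¹ K, by simpa [H9.mem_cj] using a, fun g z b c d => ?_, H9.card_cj _ _⟩
    simp only [H9.mem_cj, inv_inv] at b d ⊢
    simpa [mul_assoc] using h.sq_mem (h.ti (y * g * y⁻¹) _ b (by simpa using c) (by simpa [mul_assoc] using d))
  have n1 : NI t 1 = (centralizer {t}).index := by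
    rw [← card_class_eq_index, Nat.card_eq_fintype_card, Fintype.card_subtype]
    exact congrArg _ (filter_congr fun u _ => and_iff_left_of_imp fun a => by
      obtain ⟨c, rfl⟩ := isConj_iff.1 a
      rwa [mul_one, conj_inv, H4.inv_of_two h.ot])
  have sN := sum_NI t
  rw [hn] at hW hG n1 sN
  generalize hk : Nat.card K = k at *
  have qk : q.Coprime (2 * k) := by
    rcases e with ⟨rfl, -⟩ | ⟨e, -⟩
    · simp
    · simp [← e]
  have mk : m.Coprime (2 * k) := by
    refine Nat.Coprime.mul_right (Nat.coprime_two_right.2 (Nat.odd_iff.2 (by omega))) ?_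
    rcases e with ⟨-, rfl, -⟩ | ⟨-, e, -⟩
    · simp
    · simp [← e]
  have qm : q.Coprime m := by
    rcases e with ⟨rfl, rfl, -⟩ | ⟨e, rfl, -⟩
    · rw [show 2 * k + 1 = k + (k + 1) by ring]; simp
    · simp [show q = 1 + m * 2 by omega]
  have q1 : 2 < q := by omega
  have m0 : 0 < m := by omega
  have oq := Nat.coprime_two_right.1 qk.coprime_mul_right_right
  have om := Nat.coprime_two_right.1 mk.coprime_mul_right_right
  have cs' : ∀ g, g ≠ 1 → g ∈ cs K ∨ g ∈ U ∨ g ∈ V := fun g a => by simpa [a] using un.le (mem_univ g)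
  have oU : ∀ g ∈ U, orderOf g ∣ q := fun g a => hU g a ▸ H1.orderOf_dvd_card_of_mem (mem_centralizer_singleton_iff.2 rfl)
  have oV : ∀ g ∈ V, orderOf g ∣ m := fun g a => (H1.orderOf_dvd_card_of_mem (mem_centralizer_singleton_iff.2 rfl)).trans (hV g a)
  have z : ∀ {g : G} {a b}, a.Coprime b → orderOf g ∣ a → orderOf g ∣ b → g = 1 := fun c a b =>
    orderOf_eq_one_iff.1 (Nat.eq_one_of_dvd_coprimes c a b)
  have mU : ∀ g, g ≠ 1 → orderOf g ∣ q → g ∈ U := fun g a b => (((cs' g a).resolve_left fun c =>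
    a (z qk b ((oW g c).mul_left 2))).resolve_right fun c => a (z qm b (oV g c)))
  have mV : ∀ g, g ≠ 1 → orderOf g ∣ m → g ∈ V := fun g a b => (((cs' g a).resolve_left fun c =>
    a (z mk b ((oW g c).mul_left 2))).resolve_left fun c => a (z qm (oU g c) b))
  have hP : ∀ g, g ∈ U ∨ g ∈ V → (Nat.card (centralizer {g})).Coprime (2 * k) := fun g a =>
    a.elim (fun a => hU g a ▸ qk) fun a => mk.of_dvd_left (hV g a)
  have cc := fun u y => cc_of_inv (u := u) (y := y) (P := fun g => g ∈ U ∨ g ∈ V)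
    (fun g a => Nat.coprime_two_right.1 (hP g a).coprime_mul_right_right) fun g a w b c => (cs' w c).resolve_left fun d =>
      c (z (hP g a) (H1.orderOf_dvd_card_of_mem b) ((oW w d).mul_left 2))
  have ix : ∀ {A : Subgroup G} {a b}, Nat.card A = a → Nat.card G = b * a → A.index = b := fun {A} a b c d =>
    Nat.eq_of_mul_eq_mul_right (Nat.card_pos (α := A)) (by rw [index_mul_card, d, c])
  have qq : 2 * Nat.card G = q * (q + 1) * (q - 1) := by
    rw [hG]; rcases e with ⟨rfl, rfl, -⟩ | ⟨e, rfl, -⟩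
    · simp; ring
    · obtain rfl : q = 2 * m + 1 := by omega
      simp; ring
  have iq : ∀ {A : Subgroup G}, Nat.card A = q → A.index = 2 * k * m := fun a => ix a (by rw [hG]; ring)
  have NQ : ∀ Q : Subgroup G, CC Q → Nat.card Q = q → 2 * Nat.card (normalizer (Q : Set G)) = q * (q - 1) := fun Q a b => by
    have := a.card (by rw [iq b, b]; exact qk.mul_right qm)
    rw [b, show ({g | g ≠ 1 ∧ orderOf g ∣ q} : Finset G) = U by
      ext g; simp only [mem_filter_univ]; exact ⟨fun c => mU g c.1 c.2, fun c => ⟨fun d => U1 (d ▸ c), oU g c⟩⟩] at this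
    have c : (normalizer (Q : Set G)).index = q + 1 := Nat.eq_of_mul_eq_mul_right (show 0 < q - 1 by omega) (by
      rw [← this]; zify [q1.le.trans' one_le_two] at cU ⊢; linear_combination cU)
    have d := (normalizer (Q : Set G)).index_mul_card
    exact Nat.eq_of_mul_eq_mul_left (show 0 < q + 1 by omega) (by rw [c] at d; linear_combination 2 * d + qq)
  rw [un, sum_insert (by simp [U1, V1, mem_cs]), sum_union (disjoint_left.2 fun g a b => (mem_cs.1 a).1 (z (hP g (mem_union.1 b))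
    (H1.orderOf_dvd_card_of_mem (mem_centralizer_singleton_iff.2 rfl)) ((oW g a).mul_left 2))),
    sum_union (disjoint_left.2 fun g a b => U1 (z qm (oU g a) (oV g b) ▸ a)), sum_congr rfl nW, sum_const, hW, n1, smul_eq_mul] at sN
  have lV : ∀ g ∈ V, NI t g ≤ m := fun g a => (NI_le h.ot g).trans (Nat.le_of_dvd m0 (hV g a))
  have sr : ∀ y, NI t y ≠ 0 → ∃ u, orderOf u = 2 ∧ u * y * u⁻¹ = y⁻¹ := fun y a =>
    let ⟨u, b⟩ := card_ne_zero.1 a; ⟨u, NI_inv h.ot (mem_filter.1 b).2⟩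
  rcases e with ⟨e1, e2, e3⟩ | ⟨e1, e2, e3⟩
  · obtain ⟨y, y1, y2⟩ : ∃ y ∈ U, NI t y ≠ 0 := exists_ne_zero_of_sum_ne_zero fun a => by
      have := sum_le_card_nsmul V _ _ lV
      obtain ⟨k, rfl⟩ : ∃ l, k = l + 1 := ⟨k - 1, by omega⟩
      rw [a, e1, e2] at sN
      rw [e3, e1, e2, smul_eq_mul] at this
      simp only [add_tsub_cancel_right] at sN
      nlinarith
    obtain ⟨u, u1, u2⟩ := sr y y2
    obtain ⟨x, rfl⟩ := isConj_iff.1 (h.cj u u1).symm
    have y3 := cl y y1 _ (isConj_iff.2 ⟨x, rfl⟩)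
    obtain ⟨c1, c2⟩ := cc _ _ h.ot (Or.inl y3) (by rw [conj_inv (a := y), ← u2]; group)
    have c3 := hU _ y3
    have y4 : x * y * x⁻¹ ∈ centralizer {x * y * x⁻¹} := mem_centralizer_singleton_iff.2 rfl
    have y5 : x * y * x⁻¹ ≠ 1 := fun a => U1 (a ▸ y3)
    generalize centralizer {x * y * x⁻¹} = Q at *
    generalize x * y * x⁻¹ = y at *
    generalize x * u * x⁻¹ = t at *
    have tt := H4.mul_self_of_two h.ot
    have c4 := NQ Q c1 c3
    have c5 : normalizer (Q : Set G) ≤ Q ⊔ K ⊓ normalizer (Q : Set G) := fun g a => by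
      have b : g * t * g⁻¹ * t ∈ Q := c1.mem y4 y5 (by
        have := c2 _ (H1.conj_mem_of_mem_normalizer' a (inv_mem y4))
        rw [← mul_inv_eq_iff_eq_mul, show g * t * g⁻¹ * t * y * (g * t * g⁻¹ * t)⁻¹ = g * (t * (g⁻¹ * (t * y * t⁻¹) * g) * t⁻¹) * g⁻¹ by group,
          c2 y y4, this]; group)
      obtain ⟨i, c⟩ := H4.exists_eq_comm tt (oq.of_dvd_nat (c3 ▸ H1.orderOf_dvd_card_of_mem b)).not_two_dvd_nat (c2 _ b)
      have d := H4.comm_eq_iff.1 c
      have f := pow_mem b i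
      generalize (g * t * g⁻¹ * t) ^ i = w at *
      have l := mul_mem (inv_mem (le_normalizer f)) a
      rw [← mul_inv_cancel_left w g]
      refine mul_mem (mem_sup_left f) (mem_sup_right ⟨(h.cent.1 (mem_centralizer_singleton_iff.1 d)).elim id fun n => ?_, l⟩)
      generalize w⁻¹ * g = v at *
      have v2 := H4.mul_self_of_two (h.ord n)
      have := H1.conj_eq_inv_of_fpf l (eq_bot_iff.2 fun r a => by_contra fun b => oq.not_two_dvd_nat (by
        rw [← hU r (mU r b (c3 ▸ H1.orderOf_dvd_card_of_mem a.1)), ← h.ord n]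
        exact H1.orderOf_dvd_card_of_mem (mem_centralizer_singleton_iff.2
          (mem_centralizer_singleton_iff.1 a.2).symm))) (v2 ▸ one_mem _) (Q.inv_mem y4)
      have b : v * t ∈ Q := c1.mem y4 y5 (by
        rw [← mul_inv_eq_iff_eq_mul, show v * t * y * (v * t)⁻¹ = v * (t * y * t⁻¹) * v⁻¹ by group, c2 y y4, this, inv_inv])
      have := z (oq.coprime_two_right) (c3 ▸ H1.orderOf_dvd_card_of_mem b) (orderOf_dvd_of_pow_eq_one (by
        rw [sq, mul_assoc, ← mul_assoc t, ← mem_centralizer_singleton_iff.1 d, mul_assoc, tt, mul_one, v2]))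
      rw [eq_inv_of_mul_eq_one_left this]; exact K.inv_mem h.tK
    have c6 : K ≤ normalizer (Q : Set G) := inf_eq_left.1 (eq_of_le_of_card_ge inf_le_left (by
      have := (card_le_of_le (c5.trans (sup_comm _ _).le)).trans (Nat.le_of_dvd (Nat.mul_pos Nat.card_pos Nat.card_pos)
        (H1.card_sup_dvd inf_le_right))
      rw [c3] at this
      rw [hk]; rw [show q - 1 = 2 * k by omega] at c4
      nlinarith))
    refine ⟨Q, K, s, ⟨c1, c3 ▸ qq, h.comm, by omega, H1.inf_eq_bot_of_coprime (by rw [c3, hk]; exact qk.coprime_mul_left_right),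
      le_antisymm (c5.trans (sup_le_sup_left inf_le_left _)) (sup_le le_normalizer c6), h.ord (h.ss ▸ one_mem _), h.sK, h.inv,
      fun X a b => le_antisymm (fun g c => ?_) (le_normalizer_of_inv h.comm h.inv a)⟩, by omega⟩
    obtain ⟨⟨x, x1⟩, x2⟩ := ne_bot_iff_exists_ne_one.1 b
    refine (h.cent.1 (h.ti g x (a x1) (by simpa using x2) (a (H1.conj_mem_of_mem_normalizer c x1)))).elim mem_sup_left fun d => ?_
    simpa using mul_mem (mem_sup_left d) (mem_sup_right (inv_mem (mem_zpowers s)) : _ ∈ K ⊔ zpowers s)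
  have qm' : q - 1 = 2 * m := by omega
  have nS : ∀ y ∈ U, ∀ u, orderOf u = 2 → u * y * u⁻¹ ≠ y⁻¹ := fun y a u b c => by
    obtain ⟨c1, c2⟩ := cc u y b (Or.inl a) c
    have := NQ _ c1 (hU y a)
    rw [qm', mul_left_comm, Nat.mul_right_inj two_ne_zero] at this
    exact (oq.mul om).not_two_dvd_nat (this ▸ b ▸ H1.orderOf_dvd_card_of_mem (H1.mem_normalizer_iff_conj_mem.2 fun x d =>
      (c2 x d).symm ▸ inv_mem d))
  have eV : ∀ g ∈ V, NI t g = m := (sum_eq_sum_iff_of_le lV).1 (by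
    rw [sum_eq_zero fun y a => by_contra fun b => let ⟨u, c, d⟩ := sr y b; nS y a u c d] at sN
    rw [sum_const, e3, smul_eq_mul]
    obtain rfl : q = 2 * m + 1 := by omega
    subst e2
    zify [m0] at sN ⊢
    simp only [add_tsub_cancel_right] at sN
    push_cast at sN; linear_combination sN)
  have dV : ∀ y ∈ V, ∃ u, orderOf u = 2 ∧ CC (centralizer {y}) ∧ (∀ z ∈ centralizer {y}, u * z * u⁻¹ = z⁻¹) ∧
      Nat.card (centralizer {y}) = m ∧ (centralizer {y}).relIndex (normalizer (centralizer {y} : Set G)) = 2 := fun y a => by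
    obtain ⟨u, b, c⟩ := sr y (by rw [eV y a]; omega)
    obtain ⟨c1, c2⟩ := cc u y b (Or.inr a) c
    have c3 := le_antisymm (Nat.le_of_dvd m0 (hV y a)) (eV y a ▸ NI_le h.ot y)
    refine ⟨u, b, c1, c2, c3, ?_⟩
    have := c1.card (by rw [ix (b := 2 * k * q) c3 (by rw [hG]; ring), c3]; exact mk.mul_right qm.symm)
    rw [c3, show ({g | g ≠ 1 ∧ orderOf g ∣ m} : Finset G) = V by
      ext g; simp only [mem_filter_univ]; exact ⟨fun c => mV g c.1 c.2, fun c => ⟨fun d => V1 (d ▸ c), oV g c⟩⟩, e3] at this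
    have m1 : m ≠ 1 := fun d => V1 (orderOf_eq_one_iff.1 (Nat.dvd_one.1 (d ▸ oV y a)) ▸ a)
    have d := relIndex_mul_index (le_normalizer (H := centralizer {y}))
    rw [← Nat.eq_of_mul_eq_mul_right (by omega) this, ix (b := 2 * (q * k)) c3 (by rw [hG]; ring)] at d
    exact Nat.eq_of_mul_eq_mul_right (by positivity) d
  have t2 : ∀ y ∈ V, ∀ g, ∀ x ∈ centralizer {y}, x ≠ 1 → g * x * g⁻¹ ∈ centralizer {y} → g * g ∈ centralizer {y} := fun y a g x b c d =>
    let ⟨_, _, c1, _, _, c2⟩ := dV y a; mul_self_mem_of_index_two c2 ⟨g, c1.ti b c d⟩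
  have pc : ∀ L : Subgroup G, Odd (Nat.card L) → ∀ A ≤ L, ∀ B ≤ L, Nat.card A ∣ q → Nat.card B ∣ q → ∀ y ∈ A ⊔ B, orderOf y ∣ q := fun L => by
    induction L using WellFoundedLT.induction with | _ L ih =>
    refine fun a A a1 B b1 a2 b2 => by_contra fun n => ?_
    push Not at n
    obtain ⟨x, x1, x2⟩ := n
    have x3 : x ≠ 1 := fun d => x2 (by simp [d])
    obtain ⟨C, c1, c2, c3⟩ : ∃ A : Subgroup G, x ∈ A ∧ (∀ g, ∀ x ∈ A, x ≠ 1 → g * x * g⁻¹ ∈ A → g * g ∈ A) ∧ q.Coprime (Nat.card A) := by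
      rcases cs' x x3 with d | d | d
      · obtain ⟨A, d1, d2, d3⟩ := cvK x d
        exact ⟨A, d1, d2, d3 ▸ qk.coprime_mul_left_right⟩
      · exact absurd (oU x d) x2
      · exact ⟨_, mem_centralizer_singleton_iff.2 rfl, t2 x d, qm.of_dvd_right (hV x d)⟩
    obtain d | ⟨N, d1, -, -, d2⟩ := exists_ker a c2 c1 (sup_le a1 b1 x1) x3
    · rw [card_eq_one.1 (Nat.eq_one_of_dvd_coprimes c3 a2 (card_dvd_of_le (a1.trans d))),
        card_eq_one.1 (Nat.eq_one_of_dvd_coprimes c3 b2 (card_dvd_of_le (b1.trans d))), sup_idem] at x1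
      exact x3 x1
    · exact x2 (ih N d1 (a.of_dvd_nat (card_dvd_of_le d1.le)) A (fun y f => d2 y (a1 f) (c3.of_dvd_left
        ((H1.orderOf_dvd_card_of_mem f).trans a2))) B (fun y f => d2 y (b1 f) (c3.of_dvd_left ((H1.orderOf_dvd_card_of_mem f).trans b2)))
          a2 b2 x x1)
  obtain ⟨x, x1⟩ : U.Nonempty := card_pos.1 (by nlinarith)
  have x2 : x ≠ 1 := fun d => U1 (d ▸ x1)
  have x3 : x⁻¹ ∈ U := mU _ (inv_ne_one.2 x2) (orderOf_inv x ▸ oU x x1)
  have x4 : ∀ y ∈ U, orderOf y = orderOf x := by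
    have a : ∀ x ∈ U, #{y | IsConj x y} = 2 * k * m := fun x a => by
      rw [← iq (hU x a), ← card_class_eq_index, Nat.card_eq_fintype_card, Fintype.card_subtype]
    have b : ({y | IsConj x y} : Finset G) ∪ ({y | IsConj x⁻¹ y} : Finset G) = U := eq_of_subset_of_card_le
      (union_subset (fun y b => cl x x1 y (mem_filter.1 b).2) fun y b => cl _ x3 y (mem_filter.1 b).2) (by
        rw [card_union_of_disjoint (disjoint_left.2 fun y b c => ?_), a x x1, a _ x3]
        · obtain rfl : q = 2 * m + 1 := by omega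
          subst e2; nlinarith
        obtain ⟨g, d⟩ := isConj_iff.1 ((mem_filter.1 b).2.trans (mem_filter.1 c).2.symm)
        have f : g * g ∈ centralizer {x} := mem_centralizer_singleton_iff.2 (by
          rw [← mul_inv_eq_iff_eq_mul, show g * g * x * (g * g)⁻¹ = g * (g * x * g⁻¹) * g⁻¹ by group, d, ← conj_inv, d, inv_inv])
        obtain ⟨r, hr⟩ := oq
        have l : g ^ q * x * (g ^ q)⁻¹ = x⁻¹ := by
          rw [hr, pow_succ', pow_mul, sq, show ∀ w, g * w * x * (g * w)⁻¹ = g * (w * x * w⁻¹) * g⁻¹ from fun w => by group,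
            mem_centralizer_singleton_iff.1 (pow_mem f r), mul_inv_cancel_right, d]
        refine nS x x1 _ (H4.orderOf_two_of ?_ fun o => x2 (z (Nat.coprime_two_right.2 ⟨r, hr⟩) (oU x x1) (orderOf_dvd_of_pow_eq_one ?_))) l
        · rw [← Commute.mul_pow rfl, ← orderOf_dvd_iff_pow_eq_one]; exact hU x x1 ▸ H1.orderOf_dvd_card_of_mem f
        · rw [o, one_mul, inv_one, mul_one] at l; rw [sq, ← eq_inv_iff_mul_eq_one, ← l])
    intro y c
    rcases mem_union.1 (b.ge c) with c | c <;> obtain ⟨g, rfl⟩ := isConj_iff.1 (mem_filter.1 c).2 <;> simp [oc]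
  obtain ⟨p, i, pp, p1, p2⟩ := exists_prime_pow x2
  have := Fact.mk pp
  have pq := p1.trans (oU x x1)
  replace p2 := (x4 _ (mU _ (fun d => pp.one_lt.ne' (by rw [← p2, d, orderOf_one])) (p2 ▸ pq))).symm.trans p2
  have pg : ∀ A : Subgroup G, (∀ y ∈ A, orderOf y ∣ q) → IsPGroup p A := fun A a y => ⟨1, Subtype.ext (by
    by_cases b : (y : G) = 1
    · simp [b]
    · simpa [x4 _ (mU _ b (a y y.2)), p2] using pow_orderOf_eq_one (y : G))⟩
  have pg' : ∀ A : Subgroup G, Nat.card A = q → IsPGroup p A := fun A a => pg A fun y b => a ▸ H1.orderOf_dvd_card_of_mem b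
  have c3 := hU x x1
  generalize centralizer {x} = Q at c3
  have sy : ∀ P : Sylow p G, Nat.card P = q := fun P => by
    rw [← c3, P.card_eq_multiplicity, ← ((pg' Q c3).toSylow fun d => pp.one_lt.ne' (Nat.eq_one_of_dvd_coprimes (qk.mul_right qm) pq
      (iq c3 ▸ d))).card_eq_multiplicity]; rfl
  have ti : ∀ R Q₁ : Subgroup G, Nat.card Q₁ = q → Q₁ ≠ Q → R = Q ⊓ Q₁ → R = ⊥ := fun R => by
    induction R using WellFoundedGT.induction with | _ R ih =>
    refine fun Q₁ a b c => by_contra fun n => ?_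
    have r1 := H9.lt_normalizer_of_nilpotent (pg' Q c3).isNilpotent (c ▸ inf_le_left.lt_of_ne fun d =>
      b (H1.eq_of_le_of_card_eq (inf_eq_left.1 d) (c3.trans a.symm)).symm : R < Q)
    have r2 := H9.lt_normalizer_of_nilpotent (pg' Q₁ a).isNilpotent (c ▸ inf_le_right.lt_of_ne fun d =>
      b (H1.eq_of_le_of_card_eq (inf_eq_right.1 d) (a.trans c3.symm)) : R < Q₁)
    have o : Odd (Nat.card (normalizer (R : Set G))) := Nat.not_even_iff_odd.1 fun d => by
      obtain ⟨⟨u, u1⟩, u2⟩ := exists_prime_orderOf_dvd_card' 2 d.two_dvd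
      replace u2 : orderOf u = 2 := (orderOf_coe _).trans u2
      have rU : ∀ r ∈ R, r ≠ 1 → r ∈ U := fun r a b => mU r b (c3 ▸ H1.orderOf_dvd_card_of_mem (c ▸ a : r ∈ Q ⊓ Q₁).1)
      obtain ⟨⟨r, r1⟩, r2⟩ := ne_bot_iff_exists_ne_one.1 n
      exact nS r (rU r r1 (by simpa using r2)) u u2 (H1.conj_eq_inv_of_fpf u1 (eq_bot_iff.2 fun r a => by_contra fun b =>
        (hU r (rU r a.1 b) ▸ oq).not_two_dvd_nat (u2 ▸ H1.orderOf_dvd_card_of_mem (mem_centralizer_singleton_iff.2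
          (mem_centralizer_singleton_iff.1 a.2).symm))) (H4.mul_self_of_two u2 ▸ one_mem _) r1)
    obtain ⟨P, d⟩ := (pg _ (pc _ o _ inf_le_left _ inf_le_left ((card_dvd_of_le (inf_le_right (b := Q))).trans c3.dvd)
      ((card_dvd_of_le (inf_le_right (b := Q₁))).trans a.dvd))).exists_le_sylow
    by_cases f : (P : Subgroup G) = Q
    · exact r2.not_ge ((le_inf (le_sup_right.trans (d.trans f.le)) inf_le_right).trans c.ge)
    · have l := r1.trans_le (le_inf inf_le_right (le_sup_left.trans d))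
      exact not_lt_bot (l.trans_eq (ih _ l P (sy P) f rfl))
  have c1 : CC Q := fun y a b => by_contra fun n => b (mem_bot.1 ((ti _ _ (hU y (mU y b (c3 ▸ H1.orderOf_dvd_card_of_mem a))) n rfl).le
    ⟨a, mem_centralizer_singleton_iff.2 rfl⟩))
  have c4 := NQ Q c1 c3
  rw [qm', mul_left_comm, Nat.mul_right_inj two_ne_zero] at c4
  have c5 : Q.relIndex (normalizer (Q : Set G)) = m := Nat.eq_of_mul_eq_mul_left (by omega)
    (c3 ▸ (H1.card_mul_relIndex le_normalizer).trans (c3 ▸ c4))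
  obtain ⟨D, d1, d2, d3, d4⟩ := H1.exists_complement_rel le_normalizer le_rfl (by rwa [c5, c3])
  rw [c5] at d4
  suffices ∃ u, (∀ x ∈ D, ∀ y ∈ D, x * y = y * x) ∧ orderOf u = 2 ∧ (∀ d ∈ D, u * d * u⁻¹ = d⁻¹) ∧
      ∀ X ≤ D, X ≠ ⊥ → normalizer (X : Set G) = D ⊔ zpowers u from
    let ⟨u, a, b, c, d⟩ := this
    ⟨Q, D, u, ⟨c1, c3 ▸ qq, a, by omega, inf_comm Q D ▸ d2, sup_comm Q D ▸ d3.symm, b,
      fun n => om.not_two_dvd_nat (d4 ▸ b ▸ H1.orderOf_dvd_card_of_mem n), c, d⟩, by omega⟩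
  by_cases d0 : D = ⊥
  · subst d0
    exact ⟨t, by simp, h.ot, by simp, fun X a b => absurd (le_bot_iff.1 a) b⟩
  have cv : ∀ E : Subgroup G, E ≠ ⊥ → Nat.card E ∣ m → ∃ y ∈ V, E ≤ centralizer {y} := fun E => by
    induction E using WellFoundedLT.induction with | _ E ih =>
    intro a b
    obtain ⟨⟨y, y1⟩, y2⟩ := ne_bot_iff_exists_ne_one.1 a
    replace y2 : y ≠ 1 := by simpa using y2
    have y3 := mV y y2 ((H1.orderOf_dvd_card_of_mem y1).trans b)
    obtain d | ⟨N, n1, n2, n3, -⟩ := exists_ker (om.of_dvd_nat b) (t2 y y3) (mem_centralizer_singleton_iff.2 rfl) y1 y2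
    · exact ⟨y, y3, d⟩
    obtain ⟨w, w1, w2⟩ := ih N n1 n2 ((card_dvd_of_le n1.le).trans b)
    obtain ⟨⟨r, r1⟩, r2⟩ := ne_bot_iff_exists_ne_one.1 n2
    exact ⟨w, w1, fun g c => mem_of_sq (om.of_dvd_nat ((H1.orderOf_dvd_card_of_mem c).trans b)) (t2 w w1 g r (w2 r1) (by simpa using r2)
      (w2 (H1.conj_mem_of_mem_normalizer (n3 c) r1)))⟩
  obtain ⟨y, y1, y2⟩ := cv D d0 d4.dvd
  obtain ⟨u, u1, u2, u3, u4, u5⟩ := dV y y1
  obtain rfl := H1.eq_of_le_of_card_eq y2 (d4.trans u4.symm)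
  refine ⟨u, fun _ a _ => u2.comm a, u1, u3, fun X a b => le_antisymm (fun g c => ?_) (le_normalizer_of_inv (fun _ a _ => u2.comm a) u3 a)⟩
  obtain ⟨⟨x, x1⟩, x2⟩ := ne_bot_iff_exists_ne_one.1 b
  have g1 := u2.ti (a x1) (by simpa using x2) (a (H1.conj_mem_of_mem_normalizer c x1))
  by_cases g2 : g ∈ centralizer {y}
  · exact mem_sup_left g2
  have := (mul_mem_iff_of_index_two u5 (a := ⟨g, g1⟩) (b := ⟨u, H1.mem_normalizer_iff_conj_mem.2 fun x d => (u3 x d).symm ▸ inv_mem d⟩)).2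
    (iff_of_false g2 fun n => om.not_two_dvd_nat (d4 ▸ u1 ▸ H1.orderOf_dvd_card_of_mem n))
  simpa using mul_mem (mem_sup_left (show g * u ∈ centralizer {y} from this))
    (mem_sup_right (inv_mem (mem_zpowers u)) : _ ∈ centralizer {y} ⊔ zpowers u)

end BSW

end H3
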