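import Cfsg.Agent.H3.BSW2

/-!
H3.BSW3: `BSWC.psl`, `BSW.psl` and consequences for groups with dihedral Sylow 2-subgroups.
-/

set_option autoImplicit false
open Cfsg Subgroup Finset H5
open scoped Classical Pointwise

namespace H3

variable {G : Type*} [Group G] {t s g u x y : G} {K A N Q D : Subgroup G}

theorem BSWC.psl [Finite G] (h : BSWC Q D u) :
    ∃ (F : Type) (_ : Field F) (_ : Fintype F), Fintype.card F = Nat.card Q ∧ Nonempty (G ≃* PSL2 F) := by
  have n : D ≤ normalizer (Q : Set G) := h.norm ▸ le_sup_right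
  have ui := H4.inv_of_two h.ord
  have d0 := Nat.card_pos (α := D)
  have fpf : ∀ d ∈ D, ∀ x ∈ Q, d * x = x * d → d = 1 ∨ x = 1 := fun d a x b c =>
    or_iff_not_imp_right.2 fun e => mem_bot.1 (h.inf.le ⟨h.cc.mem b e c, a⟩)
  have dec : ∀ g ∈ normalizer (Q : Set G), ∃ x ∈ Q, ∃ d ∈ D, x * d = g := fun g a => (H1.mem_sup_of_le_normalizer_left n).1 (h.norm.le a)
  have cN : Nat.card (normalizer (Q : Set G)) = Nat.card D * Nat.card Q := by
    rw [h.norm, sup_comm, H1.card_sup_of_disjoint n (inf_comm D Q ▸ h.inf)]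
  have uN : u ∉ normalizer (Q : Set G) := fun a => by
    obtain ⟨x, b, d, c, e⟩ := dec u a
    by_cases d1 : D = ⊥
    · rw [mem_bot.1 (d1.le c), mul_one] at e
      have := h.ord ▸ H1.orderOf_dvd_card_of_mem (e ▸ b)
      have := h.cardD; omega
    obtain ⟨⟨r, r1⟩, r2⟩ := ne_bot_iff_exists_ne_one.1 d1
    have k : x * r * x⁻¹ = r⁻¹ := by rw [← h.inv r r1, ← e, mul_assoc x d r, h.comm d c r r1]; group
    have : x * (r * x⁻¹ * r⁻¹) = 1 := mem_bot.1 (h.inf.le ⟨mul_mem b (H1.conj_mem_of_mem_normalizer (n r1) (inv_mem b)), by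
      rw [← mul_assoc, ← mul_assoc, k]; exact D.mul_mem (D.inv_mem r1) (D.inv_mem r1)⟩)
    rcases fpf r r1 x b (by rw [← mul_inv_eq_iff_eq_mul]; simpa [mul_assoc] using (congrArg (·⁻¹) (eq_inv_of_mul_eq_one_right this))) with f | f
    · exact r2 (Subtype.ext f)
    · exact h.nmem (by rw [← e, f, one_mul]; exact c)
  have fa : ∀ g : G, g • ((1 : G) : G ⧸ normalizer (Q : Set G)) = (1 : G) ↔ g ∈ normalizer (Q : Set G) := fun g => by
    rw [MulAction.Quotient.smul_coe, QuotientGroup.eq]; simp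
  have fb : ∀ g : G, g • (u : G ⧸ normalizer (Q : Set G)) = u ↔ u * g * u⁻¹ ∈ normalizer (Q : Set G) := fun g => by
    rw [MulAction.Quotient.smul_coe, eq_comm, QuotientGroup.eq, ui, smul_eq_mul, mul_assoc]
  have free : ∀ x ∈ Q, x • (u : G ⧸ normalizer (Q : Set G)) = u → x = 1 := fun x a b => by_contra fun c => uN (h.cc.ti a c
    (H1.le_of_coprime_relIndex (zpowers_le_of_mem ((fb x).1 b)) le_rfl (by
      have := H1.card_mul_relIndex (le_normalizer (H := Q))
      rw [cN, mul_comm, Nat.mul_left_inj Nat.card_pos.ne'] at this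
      rw [this, Nat.card_zpowers, show orderOf (u * x * u⁻¹) = orderOf x from (MulAut.conj u).orderOf_eq x]
      exact Nat.Coprime.of_dvd_left (H1.orderOf_dvd_card_of_mem a) (by rw [← h.cardD]; simp)) (mem_zpowers _)))
  have ne : ((1 : G) : G ⧸ normalizer (Q : Set G)) ≠ u := fun e => uN (by simpa using QuotientGroup.eq.1 e)
  have cG := h.card
  refine ZI.psl (a := ((1 : G) : G ⧸ normalizer (Q : Set G))) (b := u) (D := D) (w := u) ⟨ne, fun _ a _ => h.cc.comm a, h.comm,
    fun x a => (fa x).2 (le_normalizer a), n, fun c a => ?_, free, fun g => ⟨fun a => ⟨(fa g).2 (n a), (fb g).2 (h.inv g a ▸ n (inv_mem a))⟩,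
      fun ⟨a, b⟩ => ?_⟩, fpf, h.cardD.ge, fun e => ?_⟩ (by simp) (H4.mul_self_of_two h.ord) h.inv (Or.inr fun e => ?_)
  · have := Fintype.ofFinite G
    have i : (normalizer (Q : Set G)).index = Nat.card Q + 1 := by
      have := (normalizer (Q : Set G)).index_mul_card
      rw [cN] at this
      rw [← this, ← h.cardD, add_tsub_cancel_right] at cG
      rw [← h.cardD]
      exact Nat.eq_of_mul_eq_mul_right (show 0 < 2 * Nat.card D * (2 * Nat.card D + 1) by positivity) (by linear_combination cG)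
    obtain ⟨x, e⟩ := (Function.Injective.bijective_of_nat_card_le (f := fun x : Q =>
      (⟨(x : G) • (u : G ⧸ normalizer (Q : Set G)), fun e => ne (by
        rw [← smul_left_cancel_iff (x : G), e, (fa _).2 (le_normalizer x.2)])⟩ : {c : G ⧸ normalizer (Q : Set G) // c ≠ (1 : G)}))
      (fun x y e => eq_of_inv_mul_eq_one (Subtype.ext (free _ (x⁻¹ * y).2 (by
        rw [Subgroup.coe_mul, mul_smul, ← Subtype.mk.inj e, Subgroup.coe_inv, inv_smul_smul])))) (by
          rw [index_eq_card, Nat.card_eq_fintype_card] at i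
          rw [Nat.card_eq_fintype_card, Fintype.card_subtype_compl, i]; simp)).2 ⟨c, a⟩
    exact ⟨x, x.2, Subtype.mk.inj e⟩
  · obtain ⟨x, c, d, e, rfl⟩ := dec g ((fa g).1 a)
    rw [mul_smul, (fb d).2 (h.inv d e ▸ n (inv_mem e))] at b
    rwa [free x c b, one_mul]
  · have := h.cardD; rw [e, card_bot] at this; omega
  · rw [e, ← h.cardD, add_tsub_cancel_right] at cG
    nlinarith [Nat.mul_pos d0 d0]

theorem BSW.psl [Finite G] (h : BSW t s K) : ∃ (F : Type) (_ : Field F) (_ : Fintype F),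
    (Fintype.card F = 2 * Nat.card K + 1 ∨ Fintype.card F + 1 = 2 * Nat.card K) ∧ Nonempty (G ≃* PSL2 F) := by
  have := Fintype.ofFinite G
  obtain ⟨Q, D, u, a, b⟩ := h.main
  obtain ⟨F, _, _, c, d⟩ := a.psl
  exact ⟨F, _, _, c ▸ b, d⟩

end H3
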