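import Cfsg.Agent.H3.BR2
import Cfsg.Agent.H3.Galois
import Cfsg.Agent.H4.Ctr

/-!
H3.BT: lemmas of Brauer and Tuan on the principal block.
-/

set_option autoImplicit false
open Cfsg Subgroup Finset
open scoped Classical ComplexConjugate

namespace H3
open H4

variable {G : Type*} [Group G] [Finite G] {p q : ℕ} {M : Ideal AlgInt} {χ : IrrCharacter G}

theorem exists_principal_not_dvd (hM : IsPModular p M) {g : G} (hg : p ∣ orderOf g) (hq : q.Prime) :
    ∃ χ ∈ principalBlock M G, χ ≠ triv G ∧ ¬ q ∣ charDegree χ.1 ∧ χ.1 g ≠ 0 := by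
  by_contra! a
  have h := KB_eq_zero_weak' hM isPBlock_principal hg (not_dvd_orderOf_one hM.1)
  rw [KB, ← add_sum_erase _ _ (mem_fs.2 (triv_mem_principal hM))] at h
  have b := IsIntegral.sum (R := ℤ) (s := (H4.fs (principalBlock M G)).erase (triv G)) (fun χ => χ.1 g * conj (χ.1 1) / q) fun χ b => by
    by_cases c : q ∣ charDegree χ.1
    · obtain ⟨c, d⟩ := c
      rw [ideg, d, map_natCast, Nat.cast_mul, mul_left_comm, mul_div_cancel_left₀ _ (Nat.cast_ne_zero.2 hq.ne_zero)]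
      exact (char_integral (irr_char χ.2) g).mul (isIntegral_algebraMap (x := (c : ℤ)))
    · simp [a χ (mem_fs.1 (mem_erase.1 b).2) (mem_erase.1 b).1 c, isIntegral_zero]
  rw [← sum_div, eq_neg_of_add_eq_zero_right h] at b
  exact hq.not_dvd_one (dvd_of_isIntegral_div hq.ne_zero (by simpa [neg_div] using b.neg))

theorem principal_ne_zero (hM : IsPModular p M) (hχ : χ ∈ principalBlock M G) {z : G} (hz : ¬ p ∣ (C1 z).index) : χ.1 z ≠ 0 := fun a => by
  have := (lamB_cls hM isPBlock_principal hχ z).symm.trans (lamB_cls hM isPBlock_principal (triv_mem_principal hM) z)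
  simp only [centralChar, a, mul_zero, zero_div, red_zero, triv_apply, mul_one, div_one] at this
  exact red_natCast_ne_zero hM hz this.symm

theorem exists_le_C1 [hp : Fact p.Prime] (h : p ∣ Nat.card G) (P : Sylow p G) :
    ∃ z ∈ (P : Subgroup G), orderOf z = p ∧ (P : Subgroup G) ≤ C1 z :=
  let ⟨z, a, b⟩ := H9.exists_orderOf_eq_of_isPGroup P.isPGroup'.to_inf_left
    (H9.inf_centralizer_ne_bot_of_nilpotent P.isPGroup'.isNilpotent le_rfl le_normalizer (P.ne_bot_of_dvd_card h))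
  ⟨z, a.1, b, le_centralizer_singleton.2 a.2⟩

theorem exists_not_dvd_index [hp : Fact p.Prime] (h : p ∣ Nat.card G) : ∃ z : G, orderOf z = p ∧ ¬ p ∣ (C1 z).index :=
  let ⟨P⟩ : Nonempty (Sylow p G) := inferInstance
  let ⟨z, _, b, c⟩ := exists_le_C1 h P
  ⟨z, b, fun e => P.not_dvd_index (e.trans (index_dvd_of_le c))⟩

theorem not_pow_deg [IsSimpleGroup G] (hG : ¬ IsMulCommutative G) (hM : IsPModular p M) (h : p ∣ Nat.card G)
    (hχ : χ ∈ principalBlock M G) (h1 : χ ≠ triv G) (k : ℕ) : charDegree χ.1 ≠ p ^ k := fun a => by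
  have := Fact.mk hM.1
  obtain ⟨z, b, c⟩ := exists_not_dvd_index h
  have d := (burnside_zero_or_center χ.2 (ideg χ) z (a ▸ (hM.1.coprime_iff_not_dvd.2 c).pow_left k)).resolve_left
    (principal_ne_zero hM hχ c)
  rw [← norm_one_eq_deg (irr_char χ.2), ← mem_charCenter (irr_char χ.2), charCenter_eq_center χ.2
    ((charKer_normal (irr_class χ.2)).eq_bot_or_eq_top.resolve_right (charKer_ne_top χ.2 fun e => h1 (Subtype.ext e))),
    (Normal.eq_bot_or_eq_top inferInstance).resolve_right fun e => hG (center_eq_top_iff.1 e)] at d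
  exact hM.1.ne_one (by rw [← b, mem_bot.1 d, orderOf_one])

theorem eq_pow_of_dvd {d a b r s : ℕ} (hp : p.Prime) (hr : r.Prime) (hs : s.Prime) (h : d ∣ p ^ a * r * s ^ b) (h1 : ¬ r ∣ d)
    (h2 : ¬ s ∣ d) : ∃ k, d = p ^ k :=
  let ⟨k, _, e⟩ := (Nat.dvd_prime_pow hp).1 ((hr.coprime_iff_not_dvd.2 h1).symm.dvd_of_dvd_mul_right
    (((hs.coprime_iff_not_dvd.2 h2).symm.pow_right b).dvd_of_dvd_mul_right h))
  ⟨k, e⟩

theorem no_mixed [IsSimpleGroup G] (hG : ¬ IsMulCommutative G) {r a b : ℕ} (hp : p.Prime) (hq : q.Prime) (hr : r.Prime)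
    (h : Nat.card G ∣ p ^ a * r * q ^ b) (h2 : ¬ r ^ 2 ∣ Nat.card G) {g : G} (h3 : p ∣ orderOf g) : ¬ r ∣ orderOf g := fun h4 => by
  obtain ⟨M, hM⟩ := exists_isPModular hp
  obtain ⟨χ, c, d, e, f⟩ := exists_principal_not_dvd hM h3 hq
  obtain ⟨k, i⟩ := eq_pow_of_dvd hp hr hq ((deg_dvd χ.2).trans h) (fun i => f (eq_zero_of_nu hr χ.2 ((nu_eq_iff_not_dvd hr χ.2).2
    fun j => h2 (by rw [← Nat.div_mul_cancel (deg_dvd χ.2), sq]; exact mul_dvd_mul j i)) h4)) e
  exact not_pow_deg hG hM (h3.trans (orderOf_dvd_natCard g)) c d k i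

theorem cen_eq_of_card [IsSimpleGroup G] {r a b : ℕ} (hp : p.Prime) (hq : q.Prime) [hr : Fact r.Prime] (h1 : p ≠ r) (h2 : q ≠ r)
    (h : Nat.card G = p ^ a * q ^ b * r) {S : Subgroup G} (hS : Nat.card S = r) : CS S = S := by
  by_cases hG : IsMulCommutative G
  · letI : CommGroup G := { (inferInstance : Group G) with mul_comm := hG.1.1 }
    have := (IsSimpleGroup.prime_card (α := G)).eq_one_or_self_of_dvd r (Dvd.intro_left _ h.symm)
    rw [eq_top_of_card_eq S (hS.trans (this.resolve_left hr.out.ne_one))]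
    exact centralizer_eq_top_iff_subset.2 fun x _ => mem_center_iff.2 fun y => hG.1.1 y x
  have c : (p ^ a * q ^ b).Coprime r := .mul_left (.pow_left _ ((Nat.coprime_primes hp hr.out).2 h1))
    (.pow_left _ ((Nat.coprime_primes hq hr.out).2 h2))
  have r2 : ¬ r ^ 2 ∣ Nat.card G := fun e => hr.out.ne_one
    (c.symm.eq_one_of_dvd (Nat.dvd_of_mul_dvd_mul_right hr.out.pos (by rwa [← sq, ← h])))
  have sy : H9.Syl r S ⊤ := ⟨le_top, IsPGroup.of_card (hS.trans (pow_one r).symm), fun e => r2 (by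
    rw [← S.card_mul_index, hS, sq]; exact Nat.mul_dvd_mul_left r (relIndex_top_right S ▸ e))⟩
  refine le_antisymm (fun g e => zpowers_le.1 (sy.le_of_le_normalizer (isPGroup_zpowers hr.out ((pq_eq_one_iff hr.out).1
    (by_contra fun f => ?_))) le_top (Or.inl (zpowers_le.2 (CS_le_NS S e))))) (le_CS_prime hS)
  obtain ⟨⟨y, y1⟩, y2⟩ := ne_bot_iff_exists_ne_one.1 fun a : S = ⊥ => hr.out.ne_one (by simpa [a] using hS.symm)
  have k : Commute y (pq r g) := pq_mem e y y1
  have nd := not_dvd_orderOf_pq hr.out g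
  have d := dvd_orderOf_mul_of_commute hr.out k (isPElt_of_mem hr.out sy.isP y1) (by simpa using y2) nd
  obtain ⟨s, s1, s2⟩ := Nat.exists_prime_and_dvd (mt orderOf_eq_one_iff.1 f)
  have s3 : s ∣ orderOf (y * pq r g) := s2.trans (by
    conv_lhs => rw [← pq_mul_of_commute hr.out k (isPElt_of_mem hr.out sy.isP y1) nd]
    exact orderOf_dvd_of_mem_zpowers (pq_mem (mem_zpowers _)))
  have s4 := h ▸ s3.trans (orderOf_dvd_natCard _)
  simp only [s1.dvd_mul] at s4
  rcases s4 with (s4 | s4) | s4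
  · exact no_mixed hG (a := a) (b := b) hp hq hr.out (by rw [h, mul_right_comm]) r2
      ((Nat.prime_dvd_prime_iff_eq s1 hp).1 (s1.dvd_of_dvd_pow s4) ▸ s3) d
  · exact no_mixed hG (a := b) (b := a) hq hp hr.out (by rw [h]; exact dvd_of_eq (by ring)) r2
      ((Nat.prime_dvd_prime_iff_eq s1 hq).1 (s1.dvd_of_dvd_pow s4) ▸ s3) d
  · exact nd ((Nat.prime_dvd_prime_iff_eq s1 hr.out).1 s4 ▸ s2)

theorem exists_reg_of_ne (hM : IsPModular p M) {B : Set (IrrCharacter G)} (hB : IsPBlock M B) (h : B ≠ principalBlock M G) :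
    ∃ g : G, g ≠ 1 ∧ ¬ p ∣ orderOf g ∧ blockDefect p B ≤ (Nat.card (C1 g)).factorization p := by
  obtain ⟨g, a, b⟩ := exists_cls_ne_zero (f := lamB M B - lamB M (principalBlock M G)) (eB_mem_Z (M := M) B) (by
    simp [lamB_eB_self hM hB, lamB_eB_ne hM isPBlock_principal hB h.symm])
  refine ⟨g, ?_, fun c => a (by rw [coeff_eB, blockCoeff_eq_zero_of_IntA hM (fI_mem_IntA hM hB) c, red_zero]), not_lt.1 fun c => b ?_⟩
  · rintro rfl
    obtain ⟨χ, c⟩ := block_nonempty hM hB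
    simp [lamB_cls hM hB c, lamB_cls hM isPBlock_principal (triv_mem_principal hM), centralChar, irr_one_ne_zero χ.2] at b
  · rw [LinearMap.sub_apply, of_not_not (mt (le_of_lamB_cls hM hB) c.not_ge), of_not_not (mt (le_of_lamB_cls hM isPBlock_principal)
      (c.trans_le (by rw [blockDefect_principal hM, blockDefect_eq]; exact Nat.sub_le _ _)).not_ge), sub_zero]

end H3
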