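import Cfsg.Agent.H3.Chr3
import Cfsg.Prelude.Def_DegreeGraph

/-!
H3.Chr4: character degrees (Isaacs, chapter 12).
-/

set_option autoImplicit false
open Cfsg
open scoped ComplexConjugate commutatorElement

namespace H3

universe u
variable {G : Type u} [Group G] [Finite G]

theorem irr_restrict_of_sup {χ : G → ℂ} (hχ : IsIrrCharacter G χ) {H : Subgroup G}
    (h : H ⊔ charKer χ = ⊤) : IsIrrCharacter H fun x => χ x := by
  have := charKer_normal (irr_class hχ)
  obtain ⟨ψ, a, b⟩ := exists_deflate_irr (QuotientGroup.mk' (charKer χ))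
    (QuotientGroup.mk'_surjective _) hχ fun g hg =>
      (mem_charKer (irr_char hχ) g).1 ((QuotientGroup.eq_one_iff g).1 hg)
  have := irr_comp_surj a ((QuotientGroup.mk' (charKer χ)).comp H.subtype) fun y => by
    obtain ⟨y, rfl⟩ := QuotientGroup.mk'_surjective _ y
    obtain ⟨u, c, v, d, rfl⟩ := Subgroup.mem_sup_of_normal_right.1 (h ▸ Subgroup.mem_top y)
    exact ⟨⟨u, c⟩, by simp [(QuotientGroup.eq_one_iff v).2 d]⟩
  simp only [MonoidHom.comp_apply, b] at this
  exact this

theorem restrict_eq_of_deg_le [Fintype G] (H : Subgroup G) [Fintype H] {ψ : G → ℂ} {θ : H → ℂ}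
    (hψ : IsCharacter G ψ) (hθ : IsIrrCharacter H θ) (h : classInner (fun x : H => ψ x) θ ≠ 0)
    (hd : charDegree ψ ≤ charDegree θ) (x : H) : ψ x = θ x :=
  congrFun (eq_of_sub_char_of_degree (char_sub_of_inner_ne_zero (char_restrict hψ H) hθ h) (by
    rw [ideg_eq hθ, ← hd.antisymm (degree_le_of_constituent (char_restrict hψ H) hθ h (deg_eq hψ)
      (ideg_eq hθ))]; exact deg_eq hψ)) x

theorem ind_apply_of_max [Fintype G] (H : Subgroup G) [Fintype H] {θ : H → ℂ}
    (hθ : IsIrrCharacter H θ) (h : ∀ ψ, IsIrrCharacter G ψ → classInner (fun x : H => ψ x) θ ≠ 0 →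
      charDegree ψ ≤ charDegree θ) (x : H) : indFun H θ x = H.index * θ x := by
  have key : ∀ x : H, indFun H θ x =
      (∑ ψ : IrrCharacter G, classInner (indFun H θ) ψ) * θ x := fun x => by
    rw [class_apply_eq_sum (class_indFun H θ), Finset.sum_mul]
    refine Finset.sum_congr rfl fun ψ _ => ?_
    by_cases e : classInner (indFun H θ) ψ = 0
    · simp [e]
    rw [inner_indFun_left H θ (irr_class ψ.2), ← ne_eq, ← inner_eq_zero_symm.ne] at e
    rw [restrict_eq_of_deg_le H (irr_char ψ.2) hθ e (h _ ψ.2 e)]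
  have := key 1
  rw [OneMemClass.coe_one, indFun_one] at this
  rw [key, ← mul_right_cancel₀ (irr_one_ne_zero hθ) this]

theorem mem_core_of_perm [Fintype G] (H : Subgroup G) {x : G}
    (h : indFun H (fun _ => 1) x = H.index) : x ∈ H.normalCore := fun g =>
  mem_of_norm_indFun H char_one one_ne_zero (by
    rw [class_indFun, h, indFun_one, mul_one])

theorem broline {χ : G → ℂ} (hχ : IsIrrCharacter G χ) {H : Subgroup G} (hH : IsCoatom H)
    (h : ¬ charKer χ ≤ H) : (∃ ψ, IsIrrCharacter G ψ ∧ charDegree χ < charDegree ψ ∧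
      charKer ψ < charKer χ) ∨ ∀ x ∈ H, χ x ≠ 0 → x ∈ H.normalCore := by
  have := Fintype.ofFinite G
  have := Fintype.ofFinite H
  have hθ := irr_restrict_of_sup hχ (H1.sup_eq_top_of_coatom hH h)
  by_cases c : ∀ ψ, IsIrrCharacter G ψ → classInner (fun x : H => ψ x) (fun x : H => χ x) ≠ 0 →
    charDegree ψ ≤ charDegree χ
  · refine Or.inr fun x a b => mem_core_of_perm H (mul_right_cancel₀ b ?_)
    have := ind_apply_of_max H hθ c ⟨x, a⟩
    rwa [indFun_restrict H (irr_class hχ)] at this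
  push Not at c
  obtain ⟨ψ, a, b, c⟩ := c
  have d : charKer ψ ≤ H := of_not_not fun e => c.ne' (congrArg charDegree
    (irr_eq_of_inner_ne_zero (irr_restrict_of_sup a (H1.sup_eq_top_of_coatom hH e)) hθ b) :)
  exact Or.inl ⟨ψ, a, c, lt_of_le_of_ne (fun x e => (mem_charKer (irr_char hχ) x).2
    (ker_of_constituent (char_restrict (irr_char a) H) hθ b (g := ⟨x, d e⟩)
      ((mem_charKer (irr_char a) x).1 e))) fun e => h (e ▸ d)⟩

theorem garrison {χ : G → ℂ} (hχ : IsIrrCharacter G χ) (h : ¬ charKer χ ≤ fittingSubgroup G ∨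
    (charKer χ = fittingSubgroup G ∧ Group.IsSolvable G ∧ charKer χ ≠ ⊤)) :
    ∃ ψ, IsIrrCharacter G ψ ∧ charDegree χ < charDegree ψ ∧ charKer ψ < charKer χ := by
  have := charKer_normal (irr_class hχ)
  set K := charKer χ with hK
  have h0 : ∀ x ∈ K, χ x ≠ 0 := fun x a => by
    rw [(mem_charKer (irr_char hχ) x).1 a]; exact irr_one_ne_zero hχ
  by_contra c
  have key : ∀ H, IsCoatom H → ¬ K ≤ H → ∀ x ∈ H, χ x ≠ 0 → x ∈ H.normalCore := fun H a b =>
    (broline hχ a b).resolve_left c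
  rcases h with h | ⟨h1, h2, h3⟩
  · refine h (H1.le_fitting (H1.isNilpotent_of_isSylowIn_normal fun p _ _ => ?_))
    obtain ⟨P, hP⟩ := H1.exists_isSylowIn (p := p) K
    refine ⟨P, hP, of_not_not fun d => ?_⟩
    obtain ⟨H, a, b⟩ := H1.exists_coatom_ge (H := Subgroup.normalizer (P : Set G))
      fun e => d (e ▸ le_top)
    have e : ¬ K ≤ H := fun e => a.1 (eq_top_iff.2 (H1.IsSylowIn.frattini_top hP ▸ sup_le e b))
    have f : P ≤ H.normalCore ⊓ K := fun x hx => ⟨key H a e x (b (Subgroup.le_normalizer hx))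
      (h0 x (hP.1 hx)), hP.1 hx⟩
    exact a.1 (eq_top_iff.2 (H1.IsSylowIn.frattini_top (H1.IsSylowIn.of_le hP f inf_le_right) ▸
      sup_le (inf_le_left.trans H.normalCore_le) b))
  have h4 : ∀ g, χ g ≠ 0 → g ∈ K := fun g hg => by
    have a : ∀ k ∈ K, g * k * g⁻¹ * k⁻¹ ∈ frattini G := fun k hk =>
      H1.mem_frattini_iff.2 fun H a => by
        have b : g * k * g⁻¹ * k⁻¹ ∈ K := K.mul_mem (this.conj_mem k hk g) (K.inv_mem hk)
        by_cases e : K ≤ H
        · exact e b
        obtain ⟨u, u1, v, v1, rfl⟩ := Subgroup.mem_sup_of_normal_right.1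
          (H1.sup_eq_top_of_coatom a e ▸ Subgroup.mem_top g)
        rw [char_mul_ker (irr_char hχ) ((mem_charKer (irr_char hχ) v).1 v1)] at hg
        have u2 := key H a e u u1 hg
        rw [show u * v * k * (u * v)⁻¹ * k⁻¹ = u * (v * k * v⁻¹ * k⁻¹) * (k * u⁻¹ * k⁻¹) by group]
        refine H.mul_mem (H.mul_mem u1 ?_) (H.normalCore.inv_mem u2 k)
        exact H1.le_frattini_iff.1 (H1.map_frattini_le_of_normal K) H a
          (H1.commutator_le_map_frattini (h1 ▸ H1.fitting_isNilpotent)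
            (Subgroup.commutator_mem_commutator v1 hk))
    have b : fittingSubgroup (G ⧸ frattini G) = K.map (QuotientGroup.mk' _) := by
      refine le_antisymm ?_ (h1 ▸ H1.map_fitting_le (QuotientGroup.mk'_surjective _))
      rw [← Subgroup.map_comap_eq_self_of_surjective (QuotientGroup.mk'_surjective _)
        (fittingSubgroup _), h1]
      refine Subgroup.map_mono (H1.le_fitting (H1.isNilpotent_of_map_le_frattini
        (B := frattini G) (QuotientGroup.le_comap_mk' _ _) le_rfl ?_))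
      rw [Subgroup.map_comap_eq_self_of_surjective (QuotientGroup.mk'_surjective _)]
      exact H1.fitting_isNilpotent
    have d : (g : G ⧸ frattini G) ∈ fittingSubgroup _ := H1.centralizer_fitting_le (by
      rw [b]; rintro _ ⟨k, hk, rfl⟩
      have := (QuotientGroup.eq_one_iff _).2 (a k hk)
      simp only [QuotientGroup.mk_mul, QuotientGroup.mk_inv, mul_inv_eq_iff_eq_mul, one_mul] at this
      exact this.symm)
    rw [b] at d
    have e : g ∈ (K.map (QuotientGroup.mk' _)).comap (QuotientGroup.mk' (frattini G)) := d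
    rwa [Subgroup.comap_map_eq, QuotientGroup.ker_mk', sup_eq_left.2
      (h1 ▸ H1.frattini_le_fitting)] at e
  have h5 := sq_eq_index_of_vanish_center hχ K (charKer_le_charCenter χ)
    (fun g hg => of_not_not (mt (h4 g) hg)) (ideg_eq hχ)
  classical
  have h6 : χ ≠ fun _ => 1 := fun e => h3 (eq_top_iff.2 fun g _ =>
    (mem_charKer (irr_char hχ) g).2 (by simp [e]))
  have := Finset.sum_le_sum_of_subset (f := fun ψ : IrrCharacter G => charDegree ψ.1 ^ 2)
    (s := {⟨χ, hχ⟩, ⟨_, isIrr_one⟩}) (t := {ψ | ∀ n ∈ K, ψ.1 n = ψ.1 1}) (by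
      intro ψ; simp only [Finset.mem_insert, Finset.mem_singleton, Finset.mem_filter]
      rintro (rfl | rfl)
      · exact ⟨Finset.mem_univ _, fun n hn => (mem_charKer (irr_char hχ) n).1 hn⟩
      · simp)
  rw [sum_deg_sq_ker, Finset.sum_pair fun e => h6 (congrArg Subtype.val e), h5] at this
  exact (lt_add_of_pos_right _ (pow_pos (deg_pos (isIrr_one (G := G))) 2)).not_ge this

omit [Finite G] in
theorem nil_quot_of_hom {Q : Type*} [Group Q] [Group.IsNilpotent Q] (f : G →* Q) (N : Subgroup G)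
    [N.Normal] (h : f.ker ≤ N) : Group.IsNilpotent (G ⧸ N) :=
  have := Subgroup.isNilpotent_of_ker_le_center (QuotientGroup.kerLift f)
    (((MonoidHom.ker_eq_bot_iff _).2 (QuotientGroup.kerLift_injective f)).le.trans bot_le)
  Group.nilpotent_of_surjective (QuotientGroup.map f.ker N (MonoidHom.id G) h) fun y => by
    obtain ⟨y, rfl⟩ := QuotientGroup.mk_surjective y
    exact ⟨y, rfl⟩

theorem finite_cd : (charDegrees G).Finite := Set.finite_range _

theorem one_mem_cd : 1 ∈ charDegrees G := ⟨⟨_, isIrr_hom 1⟩, deg_hom 1⟩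

theorem cd_quot (N : Subgroup G) [N.Normal] : charDegrees (G ⧸ N) ⊆ charDegrees G :=
  fun _ ⟨χ, e⟩ => ⟨⟨_, irr_comp_surj χ.2 _ (QuotientGroup.mk'_surjective N)⟩,
    (deg_comp _ _).trans e⟩

theorem cd_fitting [hs : Group.IsSolvable G] (h : fittingSubgroup G ≠ ⊤) :
    (charDegrees (G ⧸ fittingSubgroup G)).ncard < (charDegrees G).ncard := by
  obtain ⟨b, b1, b2⟩ := Set.exists_max_image _ id (finite_cd (G := G)) ⟨1, one_mem_cd⟩
  refine Set.ncard_lt_ncard ⟨cd_quot _, fun c => ?_⟩ finite_cd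
  obtain ⟨χ, rfl⟩ := c b1
  have h1 := irr_comp_surj χ.2 _ (QuotientGroup.mk'_surjective _)
  have h2 : fittingSubgroup G ≤ charKer fun x => χ.1 (QuotientGroup.mk' _ x) := fun x hx =>
    (mem_charKer (irr_char h1) x).2 (by simp [(QuotientGroup.eq_one_iff x).2 hx])
  obtain ⟨ψ, a, d, -⟩ := garrison h1 (by
    by_cases e : charKer (fun x => χ.1 (QuotientGroup.mk' _ x)) ≤ fittingSubgroup G
    · exact Or.inr ⟨e.antisymm h2, hs, (e.antisymm h2).trans_ne h⟩
    · exact Or.inl e)
  exact (b2 _ ⟨⟨ψ, a⟩, rfl⟩).not_gt (deg_comp (QuotientGroup.mk' _) χ.1 ▸ d)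

theorem deg_le_index {χ : G → ℂ} (hχ : IsIrrCharacter G χ) {H : Subgroup G}
    (hH : IsMulCommutative H) : charDegree χ ≤ H.index := by
  have := Fintype.ofFinite G
  have := Fintype.ofFinite H
  obtain ⟨θ, a, b⟩ := exists_irr_under H hχ
  rw [← inner_indFun_right H θ (irr_class hχ), ne_eq, inner_eq_zero_symm] at b
  exact degree_le_of_constituent (char_indFun H (irr_char a)) hχ b (by
    rw [indFun_one, irr_degree_one_of_comm a hH.1.1, mul_one]) (ideg_eq hχ)

theorem comm_le_of_deg (N : Subgroup G) [N.Normal] (h : ∀ χ, IsIrrCharacter G χ →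
    (∀ n ∈ N, χ n = χ 1) → charDegree χ = 1) : commutator G ≤ N :=
  Subgroup.commutator_le.2 fun a _ b _ => (QuotientGroup.eq_one_iff _).1
    (commutatorElement_eq_one_iff_mul_comm.2 (comm_of_deg_one (G := G ⧸ N) (fun χ hχ =>
      (deg_comp (QuotientGroup.mk' N) χ).symm.trans (h _ (irr_comp_surj hχ _
        (QuotientGroup.mk'_surjective N)) fun n hn => by
          simp [(QuotientGroup.eq_one_iff n).2 hn])) a b))

/-- degrees over an extendible character of a normal subgroup -/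
theorem deg_over_ext (A : Subgroup G) [A.Normal] {θ : A → ℂ} (hθ : IsIrrCharacter A θ)
    {T : Subgroup G} (hT : T = inertia A θ) (hAT : A ≤ T) {η β : T → ℂ} (hη : IsCharacter T η)
    (he : ∀ a : A, η ⟨a, hAT a.2⟩ = θ a) (hβ : IsIrrCharacter T β)
    (h : ∀ n ∈ A.subgroupOf T, β n = β 1) :
    ∃ χ, IsIrrCharacter G χ ∧ charDegree χ = T.index * charDegree β * charDegree θ := by
  have := Fintype.ofFinite G
  have := Fintype.ofFinite A
  have h1 := gallagher_irr (A.subgroupOf T) hη (by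
    have := irr_subgroupOf A hAT hθ
    rwa [← show (fun n : A.subgroupOf T => η n) = _ from funext fun n => he ⟨n, n.2⟩] at this) hβ h
  refine ⟨_, clifford_corr_irr A hθ hT hAT h1 (by
    rw [show (fun n : A => (β * η) ⟨n, hAT n.2⟩) = β 1 • θ from funext fun n => by
      simp [he, h ⟨n, hAT n.2⟩ n.2], inner_smul_left, irr_inner_self hθ, mul_one]
    exact irr_one_ne_zero hβ), deg_of_eq ?_⟩
  rw [indFun_one, Pi.mul_apply, show η 1 = θ 1 from he 1, ideg_eq hβ, ideg_eq hθ]
  simp [mul_assoc]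

theorem exists_ext_inertia (A : Subgroup G) [A.Normal] {θ : A → ℂ} (hθ : IsIrrCharacter A θ)
    {T : Subgroup G} (hT : T ≤ inertia A θ) (hAT : A ≤ T)
    (hc : (Nat.card A).Coprime (A.relIndex T)) :
    ∃ η, IsIrrCharacter T η ∧ ∀ a : A, η ⟨a, hAT a.2⟩ = θ a := by
  obtain ⟨η, a, b, -⟩ := extend_of_coprime_card (A.subgroupOf T) (irr_subgroupOf A hAT hθ)
    (fun g => funext fun n => (mem_inertia' A).1 (hT g.2) ⟨n, n.2⟩)
    (by rwa [H1.card_subgroupOf hAT])
  exact ⟨η, a, fun x => b ⟨⟨x, hAT x.2⟩, x.2⟩⟩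

theorem le_center_of_inv (A : Subgroup G) [hA : A.Normal] (hc : IsMulCommutative A)
    (h : ∀ l : A →* ℂˣ, inertia A (fun a => (l a : ℂ)) = ⊤) : A ≤ Subgroup.center G := fun a ha =>
  Subgroup.mem_center_iff.2 fun g => by
    obtain ⟨x, hx⟩ := isConj_iff.1 (isConj_of_irr_eq (g := (⟨a, ha⟩ : A))
      (h := ⟨_, hA.conj_mem a ha g⟩) fun θ hθ => by
        obtain ⟨l, rfl⟩ := irr_exists_hom_of_comm hθ hc.1.1
        exact ((mem_inertia' A).1 (h l ▸ Subgroup.mem_top g) ⟨a, ha⟩).symm)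
    rw [hc.1.1 x, mul_inv_cancel_right] at hx
    exact mul_inv_eq_iff_eq_mul.1 (congrArg Subtype.val hx).symm

theorem two_degrees {m : ℕ} (hcd : ∀ χ, IsIrrCharacter G χ → charDegree χ = 1 ∨ charDegree χ = m)
    (hm : ∃ χ, IsIrrCharacter G χ ∧ charDegree χ = m) (hm1 : m ≠ 1) :
    (∃ T : Subgroup G, IsMulCommutative T ∧ T.index = m ∧ commutator G ≤ T) ∨
      (Group.IsNilpotent G ∧ ∀ p : ℕ, p.Prime → p ∣ m → IsMulCommutative (pResidual p G) ∧
        (Nat.card (pResidual p G)).Coprime p) := by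
  obtain ⟨χ₀, hχ₀, hm⟩ := hm
  have hm0 : m ≠ 0 := hm ▸ (deg_pos hχ₀).ne'
  have h0 : ∀ p : ℕ, p.Prime → p ∣ m → (Nat.card (pResidual p G)).Coprime p := fun p hp h =>
    have := Fact.mk hp
    thompson_npc fun χ a b => (hcd χ a).resolve_left b ▸ h
  let f : G →* ∀ p : m.primeFactors, G ⧸ pResidual p G :=
    Pi.monoidHom fun p => QuotientGroup.mk' _
  have hf : ∀ p : m.primeFactors, Group.IsNilpotent (G ⧸ pResidual p G) := fun p =>
    have := Fact.mk (Nat.prime_of_mem_primeFactors p.2)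
    (H2.isPGroup_quotient_pResidual (p : ℕ)).isNilpotent
  set A := f.ker with hA
  have h1 : (Nat.card A).Coprime m := Nat.coprime_of_dvd fun p hp a b => by
    have : A ≤ pResidual p G := fun x hx => (QuotientGroup.eq_one_iff x).1
      (congrFun hx ⟨p, Nat.mem_primeFactors.2 ⟨hp, b, hm0⟩⟩)
    exact hp.one_lt.ne' (Nat.eq_one_of_dvd_coprimes (h0 p hp b)
      (a.trans (Subgroup.card_dvd_of_le this)) dvd_rfl)
  have h2 : (Nat.card A).Coprime A.index := Nat.coprime_of_dvd fun p hp a b => by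
    rw [hA, Subgroup.index_ker] at b
    have := b.trans (Subgroup.card_subgroup_dvd_card _)
    rw [Nat.card_pi] at this
    obtain ⟨q, -, c⟩ := (Prime.dvd_finset_prod_iff hp.prime _).1 this
    have hq := Nat.prime_of_mem_primeFactors q.2
    have := Fact.mk hq
    obtain ⟨k, hk⟩ := (H2.isPGroup_quotient_pResidual (G := G) (q : ℕ)).exists_card_eq
    exact hp.one_lt.ne' (Nat.eq_one_of_dvd_coprimes h1 a
      ((hp.dvd_of_dvd_pow (hk ▸ c)).trans (Nat.dvd_of_mem_primeFactors q.2)))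
  have h3 : IsMulCommutative A := ⟨⟨comm_of_deg_one fun θ hθ => by
    obtain ⟨χ, a, b⟩ := exists_deg_dvd A hθ
    rcases hcd χ a with c | c
    · exact Nat.dvd_one.1 (c ▸ (Dvd.intro_left _ rfl).trans b)
    · exact Nat.eq_one_of_dvd_coprimes h1 (deg_dvd hθ) (c ▸ (Dvd.intro_left _ rfl).trans b)⟩⟩
  by_cases hZ : A ≤ Subgroup.center G
  · have := Subgroup.isNilpotent_of_ker_le_center f hZ
    refine Or.inr ⟨this, fun p hp h => ⟨⟨⟨comm_of_deg_one fun θ hθ => ?_⟩⟩, h0 p hp h⟩⟩
    have := Fact.mk hp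
    obtain ⟨P⟩ : Nonempty (Sylow p G) := inferInstance
    obtain ⟨k, hk⟩ : ∃ k, (pResidual p G).index = p ^ k :=
      (H2.isPGroup_quotient_pResidual p).exists_card_eq
    obtain ⟨χ, a, b, -⟩ := extend_of_coprime_card _ hθ (fun g => (mem_inertia _).1 (by
      refine (eq_top_iff.2 (H2.pResidual_sup_sylow P ▸ sup_le (le_inertia _ (irr_class hθ))
        fun x hx => (mem_inertia' _).2 fun n => congrArg θ (Subtype.ext ?_))) ▸ Subgroup.mem_top g
      exact mul_inv_eq_iff_eq_mul.2 (Subgroup.commute_of_normal_of_disjoint _ _ inferInstance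
        inferInstance (disjoint_iff.2 (H2.inf_eq_bot_of_coprime_card P.2 (h0 p hp h))) x n hx n.2)))
      (hk ▸ (h0 p hp h).pow_right k)
    have c : charDegree χ = charDegree θ := deg_of_eq ((b 1).trans (ideg_eq hθ))
    exact (c ▸ hcd χ a).resolve_right fun e => hp.one_lt.ne' (Nat.eq_one_of_dvd_coprimes
      (h0 p hp h) (h.trans (e ▸ deg_dvd hθ)) dvd_rfl)
  have key : ∀ l : A →* ℂˣ, ∀ T, T = inertia A (fun a => (l a : ℂ)) → T ≠ ⊤ →
      T.index = m ∧ ∀ x ∈ T, ∀ y ∈ T, ⁅x, y⁆ ∈ A := fun l T hT hT' => by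
    have hAT : A ≤ T := hT ▸ le_inertia A (irr_class (isIrr_hom l))
    obtain ⟨η, a, b⟩ := exists_ext_inertia A (isIrr_hom l) hT.le hAT
      (h2.coprime_dvd_right (Subgroup.relIndex_dvd_index_of_le hAT))
    have c : ∀ β, IsIrrCharacter T β → (∀ n ∈ A.subgroupOf T, β n = β 1) →
        T.index * charDegree β = m := fun β c d => by
      obtain ⟨χ, e, g⟩ := deg_over_ext A (isIrr_hom l) hT hAT (irr_char a) b c d
      rw [deg_hom, mul_one] at g
      exact (g ▸ hcd χ e).resolve_left fun e =>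
        hT' (Subgroup.index_eq_one.1 (Nat.eq_one_of_mul_eq_one_right e))
    have d : T.index = m := by simpa only [deg_hom, mul_one] using c _ (isIrr_hom 1) fun _ _ => rfl
    refine ⟨d, fun x hx y hy => comm_le_of_deg (A.subgroupOf T) (fun β e g => ?_)
      (Subgroup.commutator_mem_commutator (Subgroup.mem_top (⟨x, hx⟩ : T))
        (Subgroup.mem_top ⟨y, hy⟩))⟩
    exact (mul_right_inj' hm0).1 ((d ▸ c β e g :).trans (mul_one m).symm)
  obtain ⟨l, hl⟩ := not_forall.1 (mt (le_center_of_inv A h3) hZ)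
  obtain ⟨t1, t2⟩ := key l _ rfl hl
  set T := inertia A (fun a => (l a : ℂ)) with hT
  have hAT : A ≤ T := le_inertia A (irr_class (isIrr_hom l))
  have t3 : commutator G ≤ T := by
    have hAK : A ≤ T.normalCore := Subgroup.normal_le_normalCore.2 hAT
    have := nil_quot_of_hom f _ hAK
    have : Nontrivial (G ⧸ T.normalCore) := QuotientGroup.nontrivial_iff.2
      fun e => hl (eq_top_iff.2 (e ▸ T.normalCore_le))
    obtain ⟨z, z1, z2⟩ := H1.exists_mem_ne_one (Group.IsNilpotent.center_ne_bot (G ⧸ T.normalCore))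
    have c : IsMulCommutative (T.map (QuotientGroup.mk' T.normalCore)) :=
      H1.isMulCommutative_of_comm (by
        rintro _ ⟨x, hx, rfl⟩ _ ⟨y, hy, rfl⟩
        exact commutatorElement_eq_one_iff_mul_comm.1
          ((QuotientGroup.eq_one_iff ⁅x, y⁆).2 (hAK (t2 x hx y hy))))
    have d := H1.isMulCommutative_sup c (inferInstance : IsMulCommutative (Subgroup.zpowers z))
      (Subgroup.le_centralizer_iff.1 ((Subgroup.zpowers_le.2 z1).trans
        (Subgroup.center_le_centralizer _)))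
    have e := Subgroup.index_strictAnti (left_lt_sup.2 fun e : Subgroup.zpowers z ≤
        T.map (QuotientGroup.mk' T.normalCore) => by
      obtain ⟨x, hx, rfl⟩ := e (Subgroup.mem_zpowers z)
      refine z2 ((QuotientGroup.eq_one_iff x).2 fun g => ?_)
      have := T.normalCore_le (QuotientGroup.eq.1 (show (x : G ⧸ T.normalCore) = ↑(g * x * g⁻¹) by
        exact eq_mul_inv_of_mul_eq (Subgroup.mem_center_iff.1 z1 g).symm))
      exact (T.mul_mem_cancel_left (T.inv_mem hx)).1 this)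
    simp only [Subgroup.index_map_eq _ (QuotientGroup.mk'_surjective _)
      ((QuotientGroup.ker_mk' _).le.trans T.normalCore_le), t1] at e
    refine Subgroup.commutator_le.2 fun a _ b _ => T.normalCore_le ((QuotientGroup.eq_one_iff _).1
      (commutatorElement_eq_one_iff_mul_comm.2 (comm_of_deg_one (G := G ⧸ T.normalCore)
        (fun χ hχ => ?_) a b)))
    exact (deg_comp (QuotientGroup.mk' _) χ ▸ hcd _ (irr_comp_surj hχ _
      (QuotientGroup.mk'_surjective _))).resolve_right ((deg_le_index hχ d).trans_lt e).ne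
  have : T.Normal := Subgroup.Normal.of_commutator_le G t3
  obtain ⟨H, hH⟩ := Subgroup.exists_right_complement'_of_coprime h2
  have t4 : A ⊔ (H ⊓ T) = T := by
    rw [← H1.dedekind_left hAT (Or.inr Subgroup.le_normalizer_of_normal), hH.sup_eq_top, top_inf_eq]
  have t5 : A ⊓ Subgroup.centralizer (H ⊓ T : Subgroup G) ≤ A ⊓ Subgroup.centralizer T :=
    fun x hx => ⟨hx.1, Subgroup.zpowers_le.1 (Subgroup.le_centralizer_iff.1 (t4.ge.trans (sup_le
      (Subgroup.le_centralizer_iff.1 ((Subgroup.zpowers_le.2 hx.1).trans A.le_centralizer))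
      (Subgroup.le_centralizer_iff.1 (Subgroup.zpowers_le.2 hx.2)))))⟩
  have hc : (Nat.card (H ⊓ T : Subgroup G)).Coprime (Nat.card A) :=
    (hH.symm.index_eq_card ▸ h2.symm).coprime_dvd_left (Subgroup.card_dvd_of_le inf_le_left)
  have t6 : A ≤ ⁅A, T⁆ ⊔ (A ⊓ Subgroup.centralizer T) :=
    (H1.commutator_sup_centralizer Subgroup.le_normalizer_of_normal hc
      (solv_or_of_coprime hc)).ge.trans (sup_le_sup (Subgroup.commutator_mono le_rfl inf_le_right) t5)
  have t7 : ∀ k : A →* ℂˣ, T ≤ inertia A (fun a => (k a : ℂ)) → ⁅A, T⁆ ≤ k.ker.map A.subtype :=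
    fun k hk => Subgroup.commutator_le.2 fun a ha t ht => by
      have := Units.ext ((mem_inertia' A).1 (hk ht) ⟨a, ha⟩⁻¹)
      exact ⟨⟨a, ha⟩ * ⟨t * a⁻¹ * t⁻¹, _⟩, (map_mul _ _ _).trans ((congrArg _ this).trans (by simp)),
        by simp [commutatorElement_def, mul_assoc]⟩
  have t8 : A ≤ Subgroup.centralizer T := by
    intro a ha
    by_contra c
    set D := (A ⊓ Subgroup.centralizer T).subgroupOf A
    obtain ⟨k, hk⟩ := exists_hom_ne_one (G := A ⧸ D) (g := ((⟨a, ha⟩ : A) : A ⧸ D)) (by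
      rw [(commutator_eq_bot_iff _).2 ⟨⟨fun x y => by
        obtain ⟨x, rfl⟩ := QuotientGroup.mk_surjective x
        obtain ⟨y, rfl⟩ := QuotientGroup.mk_surjective y
        exact congrArg QuotientGroup.mk (h3.1.1 x y)⟩⟩, Subgroup.mem_bot, QuotientGroup.eq_one_iff]
      exact fun e => c e.2)
    let μ := k.comp (QuotientGroup.mk' D)
    have m1 : ∀ d : A, (d : G) ∈ Subgroup.centralizer (T : Set G) → μ d = 1 := fun d hd => by
      simp [μ, (QuotientGroup.eq_one_iff (N := D) d).2 ⟨d.2, hd⟩]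
    have m2 : inertia A (fun a => ((l * μ) a : ℂ)) ≤ T := fun g hg => (mem_inertia' A).2 fun n => by
      obtain ⟨u, u1, v, v1, e⟩ := Subgroup.mem_sup_of_normal_left.1 (t6 n.2)
      have u2 := t7 l le_rfl u1
      have u3 := t7 l le_rfl ((inferInstance : ⁅A, T⁆.Normal).conj_mem u u1 g)
      have v2 := (mem_inertia' A).1 hg ⟨v, v1.1⟩
      have v3 := (inferInstance : (A ⊓ Subgroup.centralizer (T : Set G)).Normal).conj_mem v v1 g
      obtain ⟨u, u2, rfl⟩ := u2
      obtain ⟨u', u3, u4⟩ := u3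
      simp only [MonoidHom.mul_apply, m1 ⟨v, v1.1⟩ v1.2, m1 ⟨_, v3.1⟩ v3.2, mul_one] at v2
      rw [show n = u * ⟨v, v1.1⟩ from Subtype.ext e.symm, map_mul, show l u = 1 from u2, one_mul,
        ← v2, ← one_mul (l ⟨_, v3.1⟩), ← show l u' = 1 from u3, ← map_mul]
      congr 2
      exact Subtype.ext (by simp [show (u' : G) = _ from u4, mul_assoc])
    have m3 := t7 (l * μ) (of_not_not fun e => (Subgroup.index_strictAnti
      (lt_of_le_not_ge m2 e)).ne (t1.trans (key _ _ rfl fun e => hl (eq_top_iff.2 (e ▸ m2))).1.symm))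
    obtain ⟨u, u1, v, v1, e⟩ := Subgroup.mem_sup_of_normal_left.1 (t6 ha)
    obtain ⟨u', u2, rfl⟩ := t7 l le_rfl u1
    obtain ⟨u, u3, u4⟩ := m3 u1
    obtain rfl : u = u' := Subtype.ext u4
    refine hk (show μ ⟨a, ha⟩ = 1 from ?_)
    rw [show (⟨a, ha⟩ : A) = u * ⟨v, v1.1⟩ from Subtype.ext e.symm, map_mul, m1 ⟨v, v1.1⟩ v1.2,
      mul_one, ← show l u * μ u = 1 from u3, show l u = 1 from u2, one_mul]
  refine Or.inl ⟨T, t4 ▸ H1.isMulCommutative_sup h3 (H1.isMulCommutative_of_comm fun x hx y hy =>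
    commutatorElement_eq_one_iff_mul_comm.1 (Subgroup.disjoint_def.1 hH.disjoint (t2 x hx.2 y hy.2)
      (H.commutator_le_self (Subgroup.commutator_mem_commutator hx.1 hy.1))))
    (t8.trans (Subgroup.centralizer_le inf_le_right)), t1, t3⟩

theorem comm_le_core (H : Subgroup G) (h : ∀ χ, IsIrrCharacter G χ → charDegree χ < H.index →
    charDegree χ = 1) (hH : H ≠ ⊤) : commutator G ≤ H := by
  have := Fintype.ofFinite G
  have := Fintype.ofFinite H
  have h1 := char_indFun H (char_one (G := H))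
  have h2 : classInner (indFun H fun _ => 1) (fun _ => 1) ≠ 0 := by
    rw [inner_indFun_left H _ (class_const 1), irr_inner_self isIrr_one]; exact one_ne_zero
  refine fun g hg => H.normalCore_le (mem_core_of_perm H ?_)
  rw [ker_of_forall_constituent (char_class h1) fun ψ a b => ?_, indFun_one, mul_one]
  refine (mem_charKer (irr_char a) g).1 ((degree_one_iff_commutator_le a).1 ?_ hg)
  by_cases e : ψ = fun _ => 1
  · rw [e]
  obtain ⟨n, hn⟩ := char_one_nat (char_sub_of_inner_ne_zero h1 isIrr_one h2)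
  have h3 := degree_le_of_constituent (char_sub_of_inner_ne_zero h1 isIrr_one h2) a (by
    rwa [inner_sub_left, irr_inner_ne isIrr_one a (Ne.symm e), sub_zero]) hn (ideg_eq a)
  rw [Pi.sub_apply, indFun_one, mul_one, sub_eq_iff_eq_add] at hn
  exact (deg_eq_one_iff (irr_char a)).1 (h ψ a (by
    have : H.index = n + 1 := by exact_mod_cast hn
    omega))

theorem comm_abelian_of_two {m : ℕ}
    (hcd : ∀ χ, IsIrrCharacter G χ → charDegree χ = 1 ∨ charDegree χ = m)
    [Group.IsNilpotent G] : IsMulCommutative (commutator G) := by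
  have := Fintype.ofFinite G
  have key : ∀ g ∈ ⁅commutator G, commutator G⁆, g = 1 := fun g hg => by
    by_contra c
    obtain ⟨χ, a, b⟩ := exists_irr_ne_of_ne_one c
    have d : χ 1 ≠ 1 := fun e => b ((mem_charKer (irr_char a) g).1
      ((degree_one_iff_commutator_le a).1 e (Subgroup.commutator_le_self _ hg)))
    obtain ⟨H, l, rfl⟩ := monomial_of_nilpotent a
    have e := (hcd _ a).resolve_left (mt (deg_eq_one_iff (irr_char a)).1 d)
    rw [deg_of_eq (n := H.index) (by simp [indFun_one])] at e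
    have f := comm_le_core H (fun χ a b => (hcd χ a).resolve_right (e ▸ b).ne)
      fun e => d (by simp [indFun_one, e])
    refine b (indFun_ker _ H ((Subgroup.commutator_le_self _).trans f) (fun x hx => ?_) hg)
    have : ⁅commutator G, commutator G⁆ ≤ l.ker.map H.subtype :=
      Subgroup.commutator_le.2 fun u hu v hv => ⟨⁅(⟨u, f hu⟩ : H), (⟨v, f hv⟩ : H)⁆, by
        simp [commutatorElement_eq_one_iff_mul_comm, mul_comm], rfl⟩
    obtain ⟨y, h1, h2⟩ := this hx
    rw [← show y = x from Subtype.ext h2, show l y = 1 from h1, map_one]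
  exact H1.isMulCommutative_of_comm fun x a y b => commutatorElement_eq_one_iff_mul_comm.1
    (key _ (Subgroup.commutator_mem_commutator a b))

end H3
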