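import Cfsg.Agent.H3.Cz
import Cfsg.Agent.H3.Brauer2

/-!
H3.Cw: counting characters (kernels, class numbers of extensions).
-/

set_option autoImplicit false
open Cfsg
open scoped ComplexConjugate commutatorElement

namespace H3

universe u
variable {G : Type u} [Group G]

local notation "𝓘" => classInner

theorem card_irr_ker [Finite G] {Q : Type*} [Group Q] (f : G →* Q) (hf : Function.Surjective f) :
    Nat.card {χ : IrrCharacter G // ∀ n ∈ f.ker, χ.1 n = χ.1 1} = Nat.card (IrrCharacter Q) :=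
  (Nat.card_congr (Equiv.ofBijective (fun ψ : IrrCharacter Q =>
    (⟨⟨fun x => ψ.1 (f x), irr_comp_surj ψ.2 f hf⟩, fun n hn => by
    simp [MonoidHom.mem_ker.1 hn]⟩ : {χ : IrrCharacter G // ∀ n ∈ f.ker, χ.1 n = χ.1 1}))
    ⟨fun a b e => Subtype.ext (funext fun x => by
      obtain ⟨x, rfl⟩ := hf x
      exact congrFun (congrArg (fun z => z.1.1) e) x), fun χ => by
    obtain ⟨ψ, a, b⟩ := exists_deflate_irr f hf χ.1.2 χ.2
    exact ⟨⟨ψ, a⟩, Subtype.ext (Subtype.ext (funext b))⟩⟩)).symm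

theorem card_irr_compl [Finite G] {N H : Subgroup G} [N.Normal] (h : N.IsComplement' H) :
    Nat.card {χ : IrrCharacter G // ∀ n ∈ N, χ.1 n = χ.1 1} = Nat.card (ConjClasses H) := by
  have := card_irr_ker (h.symm.QuotientMulEquiv.toMonoidHom.comp (QuotientGroup.mk' N))
    (h.symm.QuotientMulEquiv.surjective.comp (QuotientGroup.mk'_surjective N))
  rw [← card_irr_eq_card_conjClasses, ← this]
  simp

theorem ne_zero_of_pelt [Finite G] {p : ℕ} (hp : p.Prime) {χ : G → ℂ} (h : IsCharacter G χ)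
    (hd : ¬ p ∣ charDegree χ) {g : G} {k : ℕ} (hg : g ^ p ^ k = 1) : χ g ≠ 0 := fun e =>
  hd (Int.natCast_dvd_natCast.1 (by
    simpa using (char_int_congr hp h hg (n := 0) (by simpa using e)).dvd))

open Classical in
/-- Brauer's averaging bound. -/
theorem sum_weight_le [Finite G] (g : G) (h : ∀ χ, IsIrrCharacter G χ → χ g ≠ 0)
    (N : Subgroup G) (hg : g ∈ N) :
    ∑ χ : IrrCharacter G, (if ∀ n ∈ N, χ.1 n = χ.1 1 then charDegree χ.1 ^ 2 else 1) ≤
      Nat.card (Subgroup.centralizer ({g} : Set G)) := by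
  let s : Finset G := (@Finset.univ _ (Fintype.ofFinite G)).filter fun x => ∃ k : ℕ, k.Coprime (Nat.card G) ∧ x = g ^ k
  have hs : 0 < s.card := Finset.card_pos.2 ⟨g, by simpa [s] using ⟨1, by simp⟩⟩
  have a : ∑ χ : IrrCharacter G, ∑ x ∈ s, ‖χ.1 x‖ ^ 2 =
      s.card * Nat.card (Subgroup.centralizer ({g} : Set G)) := by
    rw [Finset.sum_comm, ← nsmul_eq_mul, ← Finset.sum_const]
    refine Finset.sum_congr rfl fun x hx => ?_
    obtain ⟨k, hk, rfl⟩ := (Finset.mem_filter.1 hx).2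
    rw [sum_norm_sq_char, ← H1.centralizer_zpowers, ← H1.centralizer_zpowers g]
    rw [le_antisymm (Subgroup.zpowers_le.2 (pow_mem (Subgroup.mem_zpowers g) k))
      (Subgroup.zpowers_le.2 ((pow_mem_iff_of_coprime _ hk g).1 (Subgroup.mem_zpowers _)))]
  have b : ∀ χ : IrrCharacter G, (s.card : ℝ) * (if ∀ n ∈ N, χ.1 n = χ.1 1 then
      charDegree χ.1 ^ 2 else 1 : ℕ) ≤ ∑ x ∈ s, ‖χ.1 x‖ ^ 2 := fun χ => by
    split_ifs with e
    · rw [← nsmul_eq_mul, ← Finset.sum_const]
      refine Finset.sum_le_sum fun x hx => ?_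
      obtain ⟨k, hk, rfl⟩ := (Finset.mem_filter.1 hx).2
      rw [e _ (pow_mem hg k), norm_one_eq_deg (irr_char χ.2), Nat.cast_pow]
    · rw [Nat.cast_one, mul_one]
      refine card_le_sum_norm_sq (irr_gen χ.2) s (fun j hj x hx => ?_) fun x hx => ?_
      · obtain ⟨k, hk, rfl⟩ := (Finset.mem_filter.1 hx).2
        exact Finset.mem_filter.2 ⟨@Finset.mem_univ _ (_) _, k * j, hk.mul_left hj, (pow_mul _ _ _).symm⟩
      · obtain ⟨k, hk, rfl⟩ := (Finset.mem_filter.1 hx).2
        exact gen_pow_ne_zero (irr_gen χ.2) hk (h _ χ.2)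
  have c := (Finset.sum_le_sum fun χ _ => b χ).trans_eq a
  rw [← Finset.mul_sum] at c
  exact_mod_cast le_of_mul_le_mul_left c (by exact_mod_cast hs)

theorem kgv_bound [Finite G] {p : ℕ} [hp : Fact p.Prime] (V : Subgroup G) [V.Normal]
    (hV : IsPGroup p V) (hi : ¬ p ∣ V.index) (hab : ∀ a ∈ V, ∀ b ∈ V, a * b = b * a) {v : G}
    (hv : v ∈ V) : Nat.card (IrrCharacter G) + V.index ≤
      Nat.card (Subgroup.centralizer ({v} : Set G)) +
        Nat.card {χ : IrrCharacter G // ∀ n ∈ V, χ.1 n = χ.1 1} := by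
  classical
  obtain ⟨k, hk⟩ := hV ⟨v, hv⟩
  have a := sum_weight_le v (fun χ hχ => ne_zero_of_pelt hp.out (irr_char hχ)
    (not_dvd_of_normal hab hi hχ) (congrArg Subtype.val hk)) V hv
  rw [Finset.sum_ite, sum_deg_sq_ker, Finset.sum_const, smul_eq_mul, mul_one] at a
  have b := Finset.card_filter_add_card_filter_not (s := Finset.univ)
    fun χ : IrrCharacter G => ∀ n ∈ V, χ.1 n = χ.1 1
  rw [Nat.card_eq_fintype_card, Nat.card_eq_fintype_card (α := {χ : IrrCharacter G // _}),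
    Fintype.card_subtype (fun χ : IrrCharacter G => ∀ n ∈ V, χ.1 n = χ.1 1), ← Finset.card_univ]
  omega

/-- If `η` lies over no common constituent with `ξ` on `Z`, coset sums vanish. -/
theorem sum_coset_mul_eq_zero [Finite G] (Z : Subgroup G) [Z.Normal] [Fintype Z] {η ξ : G → ℂ}
    (hη : IsCharacter G η) (hξ : IsCharacter G ξ)
    (h : 𝓘 (fun z : Z => η z) (fun z : Z => ξ z) = 0) (g : G) :
    ∑ z : Z, η (z * g) * conj (ξ (z * g)) = 0 := by
  have a := char_cavg Z (char_mul hη (char_conj hξ))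
  have := congrFun (char_eq_zero_of_degree_zero a (by simpa [cavg, classInner] using h)) g
  simpa [cavg] using this

/-- No self-centralizing cyclic subgroup over a fully ramified character. -/
theorem not_good [Finite G] (Z : Subgroup G) [hZ : Z.Normal] {χ : G → ℂ} (hχ : IsIrrCharacter G χ)
    {θ : Z → ℂ} (hθ : IsIrrCharacter Z θ) {e : ℕ} (he : e ^ 2 = Z.index)
    (h : ∀ z : Z, χ z = e * θ z) (U : Subgroup G) (hZU : Z ≤ U) {η : U → ℂ}
    (hη : IsCharacter U η) (hη' : ∀ z : Z, η ⟨z, hZU z.2⟩ = θ z) (g : U)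
    (hg : ∀ x : G, x * g * x⁻¹ * (g : G)⁻¹ ∈ Z ↔ x ∈ U) : (g : G) ∈ Z := by
  classical
  have := Fintype.ofFinite G
  by_contra h0
  have hv := vanish_of_sq_eq_index Z hχ hθ h he
  have e0 : (e : ℂ) ≠ 0 := fun a => irr_one_ne_zero hχ (by simpa [a] using h 1)
  let Z' := Z.subgroupOf U
  have h1 : (fun z : Z' => η z) = fun z : Z' => θ ⟨z, Subgroup.mem_subgroupOf.1 z.2⟩ :=
    funext fun z => hη' ⟨z, Subgroup.mem_subgroupOf.1 z.2⟩
  let f : U → ℂ := fun u => if u * g⁻¹ ∈ Z' then η u else 0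
  have hf : ∀ F : U → ℂ, ∑ u, f u * F u = ∑ z : Z', η (z * g) * F (z * g) := fun F => by
    rw [← Equiv.sum_comp (Equiv.mulRight g), ← Finset.sum_subtype (Finset.univ.filter (· ∈ Z'))
      (by simp) fun z => η (z * g) * F (z * g), Finset.sum_filter]
    simp [f]
  have h2 : indFun U f = 0 := class_eq_zero_of_inner (class_indFun U f) fun ψ hψ => by
    rw [inner_indFun_left U f (irr_class hψ), classInner, hf]
    by_cases c : 𝓘 (fun z : Z => ψ z) θ = 0
    · rw [sum_coset_mul_eq_zero Z' hη (char_restrict (irr_char hψ) U), mul_zero]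
      rw [h1, H3.inner_eq_zero_symm]
      exact (inner_subgroupOf Z hZU (fun u => ψ u) θ).trans c
    · have : ψ = χ := irr_eq_of_inner_ne_zero hψ hχ fun d => c (by
        have := inner_of_vanish Z ψ χ fun g hg => Or.inr (hv g hg)
        rw [d, mul_zero, show (fun z : Z => χ z) = (e : ℂ) • θ from funext h, H3.inner_smul_right,
          map_natCast] at this
        exact (mul_eq_zero.1 this.symm).resolve_left e0)
      rw [this, Finset.sum_eq_zero, mul_zero]
      intro z _
      rw [hv, map_zero, mul_zero]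
      exact fun d => h0 ((Z.mul_mem_cancel_left (Subgroup.mem_subgroupOf.1 z.2)).1 d)
  have h3 : ∀ z : Z', η (z * g) = 0 := fun z => by
    have hfc : IsClassFunction U f := fun u x => by
      have a : x * g * x⁻¹ * g⁻¹ ∈ Z' := (hg x).2 x.2
      have : x * u * x⁻¹ * g⁻¹ ∈ Z' ↔ u * g⁻¹ ∈ Z' := by
        rw [← Z'.mul_mem_cancel_right (inv_mem a), show x * u * x⁻¹ * g⁻¹ * (x * g * x⁻¹ * g⁻¹)⁻¹
          = x * (u * g⁻¹ * x⁻¹) by group, Subgroup.Normal.mem_comm_iff inferInstance,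
          inv_mul_cancel_right]
      simp only [f, this, char_class hη u x]
    have := indFun_ti_apply U hfc (z * g) fun x hx hx' => if_neg fun d => hx ((hg x).1 ?_)
    · rw [h2] at this
      simpa [f, z.2] using this.symm
    · have d : x * (z * g) * x⁻¹ * (g : G)⁻¹ ∈ Z := d
      have := Z.mul_mem (Z.inv_mem (hZ.conj_mem _ (Subgroup.mem_subgroupOf.1 z.2) x)) d
      convert this using 1; group
  obtain ⟨l, hl⟩ := exists_hom_of_degree_one (char_cavg Z' (char_mul hη (char_conj hη))) (by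
    have := irr_inner_self (h1 ▸ irr_subgroupOf Z hZU hθ)
    simpa [cavg, classInner] using this)
  have := congrFun hl g
  exact (l g).ne_zero (by simpa [cavg, h3] using this.symm)

end H3
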