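import Cfsg.Agent.H3.Chr4
import Cfsg.Agent.H3.Mono
import Cfsg.Agent.H1.Frattini
import Cfsg.Prelude.Def_Transfer

/-!
H3.Cx: small general lemmas (class two groups, extraspecial groups, vanishing off the derived
subgroup, invariant bilinear forms).
-/

set_option autoImplicit false
open Cfsg
open scoped ComplexConjugate commutatorElement

namespace H3

universe u
variable {G : Type u} [Group G] [Finite G]

theorem cls2_vanish {χ : G → ℂ} (hχ : IsIrrCharacter G χ) {g : G} (hg : g ∉ charCenter χ)
    (h : ∀ x, g⁻¹ * (x * g * x⁻¹) ∈ charCenter χ) : χ g = 0 := by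
  by_contra h0
  apply hg
  rw [mem_charCenter_iff_comm hχ]
  intro x
  obtain ⟨f, hf⟩ := exists_hom_charCenter (irr_one_ne_zero hχ)
  have a := hf ⟨_, h x⟩ g
  simp only [mul_inv_cancel_left] at a
  rw [irr_class hχ] at a
  have b : (f ⟨_, h x⟩ : ℂ) = 1 := mul_right_cancel₀ h0 (by rw [one_mul]; exact a.symm)
  have c := hf ⟨_, h x⟩ 1
  rw [b, one_mul, one_mul] at c
  have := (charKer_normal (irr_class hχ)).conj_mem _ ((mem_charKer (irr_char hχ) _).2 c) g
  convert this using 1; group

theorem inf_center_ne_bot' [Group.IsNilpotent G] (N : Subgroup G) [N.Normal] (h : N ≠ ⊥) :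
    N ⊓ Subgroup.center G ≠ ⊥ := by
  have := H1.nilpotent_inf_centralizer_ne_bot (U := N) (L := ⊤) inferInstance le_top
    (by rw [Subgroup.normalizer_eq_top]) h
  rwa [Subgroup.coe_top, Subgroup.centralizer_univ] at this

theorem eq_bot_or_eq_of_prime {Z K : Subgroup G} (hZ : (Nat.card Z).Prime) (h : K ≤ Z) :
    K = ⊥ ∨ K = Z := by
  rcases (Nat.dvd_prime hZ).1 (Subgroup.card_dvd_of_le h) with e | e
  · exact Or.inl (Subgroup.card_eq_one.1 e)
  · exact Or.inr (Subgroup.eq_of_le_of_card_ge h e.ge)

/-- Nonlinear characters of a nilpotent group with `G' = Z(G)` of prime order. -/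
theorem es_nonlin [Group.IsNilpotent G] (hc : commutator G = Subgroup.center G)
    (hz : (Nat.card (Subgroup.center G)).Prime) {χ : G → ℂ} (hχ : IsIrrCharacter G χ)
    (h1 : χ 1 ≠ 1) : charKer χ = ⊥ ∧ (∀ g, g ∉ Subgroup.center G → χ g = 0) ∧
      charDegree χ ^ 2 = (Subgroup.center G).index := by
  have := charKer_normal (irr_class hχ)
  have hk : charKer χ = ⊥ := by
    by_contra h
    rcases eq_bot_or_eq_of_prime hz (inf_le_right (a := charKer χ)) with e | e
    · exact inf_center_ne_bot' _ h e
    · exact h1 ((degree_one_iff_commutator_le hχ).2 (hc ▸ e ▸ inf_le_left))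
  have hC := charCenter_eq_center hχ hk
  have hv : ∀ g, g ∉ Subgroup.center G → χ g = 0 := fun g hg =>
    cls2_vanish hχ (hC ▸ hg) fun x => by
      rw [hC, ← hc]
      have : ⁅g⁻¹, x⁆ ∈ commutator G :=
        Subgroup.commutator_mem_commutator (Subgroup.mem_top g⁻¹) (Subgroup.mem_top x)
      convert this using 1
      rw [commutatorElement_def]; group
  exact ⟨hk, hv, sq_eq_index_of_vanish_center hχ _ hC.ge hv (ideg_eq hχ)⟩

open Classical in
/-- The sum of the squares of the nonlinear degrees. -/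
theorem sum_nonlin : ∑ χ : IrrCharacter G with χ.1 1 ≠ 1, charDegree χ.1 ^ 2 +
    (commutator G).index = Nat.card G := by
  rw [← sum_deg_sq, ← sum_deg_sq_ker (commutator G), add_comm,
    ← Finset.sum_filter_add_sum_filter_not Finset.univ fun χ : IrrCharacter G => χ.1 1 = 1]
  congr 2
  ext χ
  simp only [Finset.mem_filter, Finset.mem_univ, true_and, degree_one_iff_commutator_le χ.2]
  exact forall₂_congr fun n _ => (mem_charKer (irr_char χ.2) n).symm

theorem es_count [Group.IsNilpotent G] (hc : commutator G = Subgroup.center G)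
    (hz : (Nat.card (Subgroup.center G)).Prime) :
    Nat.card {χ : IrrCharacter G // χ.1 1 ≠ 1} + 1 = Nat.card (Subgroup.center G) := by
  classical
  have a := sum_nonlin (G := G)
  rw [Finset.sum_congr rfl fun χ h => (es_nonlin hc hz χ.2 (Finset.mem_filter.1 h).2).2.2,
    Finset.sum_const, smul_eq_mul, hc, ← (Subgroup.center G).card_mul_index] at a
  rw [Nat.card_eq_fintype_card, Fintype.card_subtype]
  exact Nat.eq_of_mul_eq_mul_right (Nat.pos_of_ne_zero Subgroup.index_ne_zero_of_finite)
    (by rw [← a]; ring)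

/-- A character fixed by all linear twists vanishes off the derived subgroup. -/
theorem vanish_of_twist {χ : G → ℂ} (h : ∀ f : G →* ℂˣ, (χ * fun g => (f g : ℂ)) = χ) {g : G}
    (hg : g ∉ commutator G) : χ g = 0 := by
  obtain ⟨f, hf⟩ := exists_hom_ne_one hg
  have := congrFun (h f) g
  by_contra h0
  exact hf (Units.ext (mul_left_cancel₀ h0 (by simpa using this)))

theorem exists_nonlin (h : ¬ ∀ a b : G, a * b = b * a) : ∃ χ, IsIrrCharacter G χ ∧ χ 1 ≠ 1 := by
  by_contra! a
  exact h (comm_of_deg_one fun χ hχ => (deg_eq_one_iff (irr_char hχ)).2 (a χ hχ))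

theorem deg_mul_hom (χ : G → ℂ) (f : G →* ℂˣ) :
    charDegree (χ * fun g => (f g : ℂ)) = charDegree χ := by
  unfold charDegree; simp

end H3
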