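import Cfsg.Agent.H3.Jordan

/-!
H3.Fb: invariant bilinear forms and the Frobenius–Schur indicator.
-/

set_option autoImplicit false
open Cfsg Matrix
open scoped ComplexConjugate ComplexOrder

namespace H3

universe u
variable {G : Type u} [Group G] [Fintype G] {ι : Type} [Fintype ι] [DecidableEq ι]
  {X : G →* Matrix ι ι ℂ}

theorem irreducible_of_irr {V : Type*} [AddCommGroup V] [Module ℂ V] [FiniteDimensional ℂ V]
    (ρ : Representation ℂ G V) (h : IsIrrCharacter G ρ.character) : ρ.IsIrreducible := by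
  obtain ⟨n, σ, hσ, e⟩ := h
  obtain ⟨f⟩ := equiv_of_character_eq _ σ ρ rfl e
  exact irreducible_of_equiv f

theorem mschur (hX : IsIrrCharacter G fun g => (X g).trace) {B : Matrix ι ι ℂ}
    (hB : ∀ g, B * X g = X g * B) : ∃ c : ℂ, B = c • 1 := by
  let ρ : Representation ℂ G (ι → ℂ) :=
    (Matrix.toLinAlgEquiv' (R := ℂ) (n := ι)).toMulEquiv.toMonoidHom.comp X
  have : ρ.IsIrreducible := irreducible_of_irr ρ (by
    convert hX using 1
    ext g
    exact Matrix.trace_toLin'_eq (X g))
  obtain ⟨c, hc⟩ := schur_scalar ρ (Matrix.toLinAlgEquiv' B) fun g => by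
    change Matrix.toLinAlgEquiv' B * Matrix.toLinAlgEquiv' (X g) =
      Matrix.toLinAlgEquiv' (X g) * Matrix.toLinAlgEquiv' B
    rw [← map_mul, hB, map_mul]
  refine ⟨c, (Matrix.toLinAlgEquiv' (R := ℂ) (n := ι)).injective ?_⟩
  rw [hc, map_smul, map_one]; rfl

theorem mcard_ne (hX : IsIrrCharacter G fun g => (X g).trace) : (Fintype.card ι : ℂ) ≠ 0 := by
  simpa using irr_one_ne_zero hX

theorem mschur' (hX : IsIrrCharacter G fun g => (X g).trace) {B : Matrix ι ι ℂ}
    (hB : ∀ g, B * X g = X g * B) : B = (B.trace / Fintype.card ι) • 1 := by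
  obtain ⟨c, rfl⟩ := mschur hX hB
  simp [mcard_ne hX]

theorem morth (hX : IsIrrCharacter G fun g => (X g).trace) (l j k i : ι) :
    ∑ g, X g l j * X g⁻¹ k i =
      if l = i ∧ j = k then (Nat.card G : ℂ) / Fintype.card ι else 0 := by
  have a := mschur' hX (B := ∑ g, X g * single j k 1 * X g⁻¹) fun h => by
    rw [Finset.mul_sum, Finset.sum_mul]
    refine Fintype.sum_equiv (Equiv.mulLeft h⁻¹) _ _ fun g => ?_
    simp only [Equiv.coe_mulLeft, _root_.mul_inv_rev, inv_inv, map_mul, ← mul_assoc]
    rw [← map_mul X h, mul_inv_cancel, map_one, one_mul]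
  have b : ∀ g, (X g * single j k 1 * X g⁻¹).trace = if j = k then 1 else 0 := fun g => by
    rw [trace_mul_cycle, ← map_mul, inv_mul_cancel, map_one, one_mul]
    split_ifs with h
    · simp [h]
    · simp [h]
  have := congrFun (congrFun a l) i
  simp only [trace_sum, b, Matrix.sum_apply] at this
  convert this using 1
  · refine Finset.sum_congr rfl fun g _ => ?_
    simp [mul_apply, single, ite_and, eq_comm (a := j), eq_comm (a := k)]
  · by_cases h1 : l = i <;> by_cases h2 : j = k <;> simp [h1, h2, one_apply]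

theorem form_fs (hX : IsIrrCharacter G fun g => (X g).trace) {M : Matrix ι ι ℂ}
    (hM : ∀ g, (X g)ᵀ * M * X g = M) : Mᵀ = fs (fun g => (X g).trace) • M := by
  have a := mschur' hX (B := ∑ g, X (g * g)) fun h => by
    rw [Finset.mul_sum, Finset.sum_mul]
    refine Fintype.sum_equiv (MulAut.conj h⁻¹).toEquiv _ _ fun g => ?_
    simp only [← map_mul]
    congr 1; simp [mul_assoc]
  have b : M * ∑ g, X (g * g) = ∑ g, (X g⁻¹)ᵀ * M * X g := by
    rw [Finset.mul_sum]
    refine Finset.sum_congr rfl fun g _ => ?_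
    conv_lhs => rw [← hM g⁻¹, mul_assoc, ← map_mul, inv_mul_cancel_left]
  have c : ∑ g, (X g⁻¹)ᵀ * M * X g = ((Nat.card G : ℂ) / Fintype.card ι) • Mᵀ := by
    ext i j
    simp only [Matrix.sum_apply, mul_apply, transpose_apply, Finset.sum_mul, Matrix.smul_apply,
      smul_eq_mul]
    rw [Finset.sum_comm]
    simp_rw [fun l => Finset.sum_comm (s := (Finset.univ : Finset G)) (t := Finset.univ)
      (f := fun g k => X g⁻¹ k i * M k l * X g l j)]
    have : ∀ l k, ∑ g, X g⁻¹ k i * M k l * X g l j =
        M k l * if l = i ∧ j = k then (Nat.card G : ℂ) / Fintype.card ι else 0 := fun l k => by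
      rw [← morth hX, Finset.mul_sum]
      exact Finset.sum_congr rfl fun g _ => by ring
    simp only [this]
    simp [ite_and, mul_comm]
  rw [a, c, Matrix.mul_smul, mul_one, trace_sum] at b
  have h1 := mcard_ne hX
  have h2 := card_ne_zero' G
  rw [← smul_right_inj (div_ne_zero h2 h1), ← b, smul_smul, fs]
  congr 1
  field_simp

theorem exists_form (hX : IsIrrCharacter G fun g => (X g).trace)
    (h : ∀ g, (X g).trace.im = 0) : ∃ M, M ≠ 0 ∧ ∀ g, (X g)ᵀ * M * X g = M := by
  by_contra! a
  have b : ∀ i j, ∑ g, X g i i * X g j j = 0 := fun i j => by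
    have : ∑ g, (X g)ᵀ * single i j 1 * X g = 0 := by
      by_contra e
      obtain ⟨h, e⟩ := a _ e
      apply e
      rw [Finset.mul_sum, Finset.sum_mul]
      refine Fintype.sum_equiv (Equiv.mulRight h) _ _ fun g => ?_
      simp [mul_assoc]
    have := congrFun (congrFun this i) j
    simpa [Matrix.sum_apply, mul_apply, single, ite_and, eq_comm (a := i), eq_comm (a := j)]
      using this
  have c := sum_conj_mul_irr hX
  simp only [fun g => Complex.conj_eq_iff_im.2 (h g)] at c
  simp only [trace, diag, Finset.sum_mul_sum] at c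
  rw [Finset.sum_comm] at c
  simp_rw [fun i => Finset.sum_comm (s := (Finset.univ : Finset G)) (t := Finset.univ)
    (f := fun g j => X g i i * X g j j), b] at c
  exact card_ne_zero' G (by simpa using c.symm)

/-- For a unitary real irreducible representation the invariant form can be taken unitary. -/
theorem exists_form_unit (hX : IsIrrCharacter G fun g => (X g).trace)
    (hu : ∀ g, X g ∈ unitary _) (h : ∀ g, (X g).trace.im = 0) :
    ∃ M : Matrix ι ι ℂ, star M * M = 1 ∧ (∀ g, (X g)ᵀ * M * X g = M) ∧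
      ∀ g, M * X g = (X g).map conj * M := by
  obtain ⟨M, h0, hM⟩ := exists_form hX h
  have e : ∀ g, (X g).map conj * (X g)ᵀ = 1 := fun g => by
    have := congrArg transpose (hu g).1
    rwa [transpose_mul, transpose_one, mul_eq_one_comm] at this
  have a : ∀ g, M * X g = (X g).map conj * M := fun g => by
    conv_rhs => rw [← hM g]
    rw [← mul_assoc, ← mul_assoc, e, one_mul]
  obtain ⟨c, hc⟩ := mschur hX (B := star M * M) fun g => by
    have b := congrArg star (hM g⁻¹)
    have e1 : star (X g⁻¹) = X g := by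
      rw [← mul_one (star _), ← map_one X, ← inv_mul_cancel g, map_mul, ← mul_assoc, (hu _).1,
        one_mul]
    have e2 : star (X g⁻¹)ᵀ * (X g).map conj = 1 := by
      change (X g⁻¹).map conj * _ = _
      rw [← Matrix.map_mul, ← map_mul]; simp
    rw [star_mul, star_mul, e1] at b
    rw [mul_assoc, a, ← mul_assoc]
    conv_lhs => rw [← b]
    rw [mul_assoc (X g), mul_assoc (star M), e2, mul_one, mul_assoc]
  have h1 := mcard_ne hX
  have h2 : 0 < (star M * M).trace :=
    lt_of_le_of_ne (posSemidef_conjTranspose_mul_self M).trace_nonneg fun e =>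
      h0 (trace_conjTranspose_mul_self_eq_zero_iff.1 e.symm)
  rw [Complex.lt_def] at h2
  have hc' : c = ((star M * M).trace.re / Fintype.card ι : ℝ) := by
    rw [Complex.ofReal_div, Complex.conj_eq_iff_re.1 (Complex.conj_eq_iff_im.2 h2.2.symm), hc]
    simp [h1]
  have hp : 0 < (star M * M).trace.re / Fintype.card ι :=
    div_pos h2.1 (by exact_mod_cast Nat.pos_of_ne_zero (by exact_mod_cast h1))
  set r := (star M * M).trace.re / Fintype.card ι
  refine ⟨((√r)⁻¹ : ℝ) • M, ?_, fun g => by simp [hM g], fun g => by simp [a g]⟩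
  rw [star_smul, smul_mul_smul_comm, hc, hc', star_trivial, ← mul_inv, Real.mul_self_sqrt hp.le,
    Complex.coe_smul, smul_smul, inv_mul_cancel₀ hp.ne', one_smul]

theorem fs_of_odd {χ : G → ℂ} (hχ : IsIrrCharacter G χ) (h : ∀ g, (χ g).im = 0)
    (ho : Odd (charDegree χ)) : fs χ = 1 := by
  refine (fs_real hχ h).resolve_right fun e => ?_
  obtain ⟨n, X, hu, rfl⟩ := exists_unitary (irr_char hχ)
  obtain ⟨M, a, b, -⟩ := exists_form_unit hχ hu h
  have c := congrArg det (form_fs hχ b)
  rw [deg_of_eq (n := n) (by simp)] at ho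
  rw [det_transpose, e, det_smul, Fintype.card_fin, ho.neg_one_pow] at c
  have d := congrArg det a
  rw [det_mul, det_one, show M.det = 0 by linear_combination c / 2, mul_zero] at d
  exact zero_ne_one d

theorem exists_real_of_fs {χ : G → ℂ} (hχ : IsIrrCharacter G χ) (h : fs χ = 1) :
    ∃ (n : ℕ) (Y : G →* Matrix (Fin n) (Fin n) ℝ), ∀ g, ((Y g).trace : ℂ) = χ g := by
  have hr := real_of_fs hχ (h ▸ one_ne_zero)
  obtain ⟨n, X, hu, rfl⟩ := exists_unitary (irr_char hχ)
  obtain ⟨M, a, b, c⟩ := exists_form_unit hχ hu hr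
  have d := form_fs hχ b
  rw [h, one_smul] at d
  have e : star M = M.map conj := by
    conv_lhs => rw [← d]
    rfl
  obtain ⟨t, ht⟩ : ∃ t : ℝ, IsUnit (((t + Complex.I) • 1 + (t - Complex.I) • star M)) := by
    have : (Set.range fun t : ℝ => -(t + Complex.I) / (t - Complex.I)).Infinite :=
      Set.infinite_range_of_injective fun s t e => by
        have h1 : ∀ t : ℝ, (t - Complex.I) ≠ 0 := fun t e => by simpa using congrArg Complex.im e
        rw [div_eq_div_iff (h1 _) (h1 _)] at e
        have : (s : ℂ) = t := by linear_combination (-Complex.I / 2) * e + (s - t) * Complex.I_sq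
        exact_mod_cast this
    obtain ⟨_, ⟨t, rfl⟩, ht⟩ := this.exists_notMem_finite (Matrix.finite_spectrum (star M))
    have h1 : (t - Complex.I) ≠ 0 := fun e => by simpa using congrArg Complex.im e
    refine ⟨t, ?_⟩
    have := (spectrum.notMem_iff.1 ht).smul (Units.mk0 _ (neg_ne_zero.2 h1))
    convert this using 1
    rw [Units.smul_mk0, Algebra.algebraMap_eq_smul_one, smul_sub, smul_smul, neg_smul _ (star M),
      sub_neg_eq_add]
    congr 2
    field_simp
  obtain ⟨P, hP⟩ := ht
  have f : P.1.map conj = M * P.1 := by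
    have : (star M).map conj = M := by rw [e]; ext; simp
    rw [hP, mul_add, Matrix.mul_smul, Matrix.mul_smul, mul_eq_one_comm.1 a, mul_one,
      Matrix.map_add _ (map_add _), Matrix.map_smul' _ _ _ (map_mul _),
      Matrix.map_smul' _ _ _ (map_mul _), this, add_comm]
    simp [sub_eq_add_neg]
  have f' : P⁻¹.1.map conj * (M * P.1) = 1 := by
    rw [← f, ← Matrix.map_mul]; simp
  have k : ∀ g, (P⁻¹.1 * X g * P.1).map conj = P⁻¹.1 * X g * P.1 := fun g => by
    rw [Matrix.map_mul, Matrix.map_mul, f, mul_assoc, ← mul_assoc _ M, ← c]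
    calc _ = P⁻¹.1.map conj * (M * P.1) * (P⁻¹.1 * X g * P.1) := by
          simp only [mul_assoc, Units.mul_inv_cancel_left]
      _ = _ := by rw [f', one_mul]
  have k' : ∀ g, ((P⁻¹.1 * X g * P.1).map Complex.re).map Complex.ofRealHom =
      P⁻¹.1 * X g * P.1 := fun g => by
    ext i j
    exact Complex.conj_eq_iff_re.1 (congrFun (congrFun (k g) i) j)
  refine ⟨n, ⟨⟨fun g => (P⁻¹.1 * X g * P.1).map Complex.re, by simp⟩, fun x y => ?_⟩, fun g => ?_⟩
  · apply Matrix.map_injective (f := Complex.ofRealHom) Complex.ofReal_injective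
    simp only [Matrix.map_mul, k']
    simp [mul_assoc]
  · refine Eq.trans ?_ ((congrArg trace (k' g)).trans (Matrix.trace_units_conj' P (X g)))
    simp [trace]

theorem fs_of_real {n : ℕ} (Y : G →* Matrix (Fin n) (Fin n) ℝ) {χ : G → ℂ}
    (hχ : IsIrrCharacter G χ) (h : ∀ g, ((Y g).trace : ℂ) = χ g) : fs χ = 1 := by
  let X : G →* Matrix (Fin n) (Fin n) ℂ := Complex.ofRealHom.mapMatrix.toMonoidHom.comp Y
  have e : χ = fun g => (X g).trace := funext fun g => by simp [← h, X, trace]
  subst e
  have a := form_fs hχ (M := ∑ g, (X g)ᵀ * X g) fun x => by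
    rw [Finset.mul_sum, Finset.sum_mul]
    refine Fintype.sum_equiv (Equiv.mulRight x) _ _ fun g => ?_
    simp [mul_assoc]
  have b : (∑ g, (X g)ᵀ * X g)ᵀ = ∑ g, (X g)ᵀ * X g := by simp [transpose_sum]
  have c : (∑ g, (X g)ᵀ * X g).PosDef := by
    classical
    rw [← Finset.add_sum_erase _ _ (Finset.mem_univ 1), map_one, transpose_one, one_mul]
    refine Matrix.PosDef.one.add_posSemidef (Matrix.posSemidef_sum _ fun g _ => ?_)
    convert Matrix.posSemidef_conjTranspose_mul_self (X g) using 2
    ext i j; simp [X]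
  have : Nonempty (Fin n) := Fintype.card_pos_iff.1 (Nat.pos_of_ne_zero (by
    exact_mod_cast mcard_ne hχ))
  rw [b] at a
  exact smul_left_injective ℂ c.isUnit.ne_zero (a.symm.trans (one_smul _ _).symm)

end H3
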