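import Cfsg.Agent.H3.Cx
import Cfsg.Agent.H3.Fb
import Cfsg.Agent.FT.Final

/-!
H3.Cy: Galois action `g ↦ g ^ k` on characters over normal subgroups of odd index.
-/

set_option autoImplicit false
open Cfsg
open scoped ComplexConjugate commutatorElement

namespace H3

universe u
variable {G : Type u} [Group G]

local notation "𝓘" => classInner

theorem exists_fixed_of_iterate {α : Type*} [Finite α] {p e : ℕ} [hp : Fact p.Prime] (f : α → α)
    (h : ∀ a, f^[p ^ e] a = a) (hc : ¬ p ∣ Nat.card α) : ∃ a, f a = a := by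
  classical
  have := Fintype.ofFinite α
  have hf : Function.Injective f := fun a b e' => by
    obtain ⟨m, hm⟩ : ∃ m, p ^ e = m + 1 :=
      ⟨_, (Nat.succ_pred_eq_of_pos (pow_pos hp.out.pos e)).symm⟩
    rw [← h a, ← h b, hm, Function.iterate_succ_apply, Function.iterate_succ_apply, e']
  exact Equiv.Perm.exists_fixed_point_of_prime (σ := Equiv.ofBijective f hf.bijective_of_finite)
    (n := e) (by rwa [← Nat.card_eq_fintype_card]) (Equiv.ext fun a => by
      rw [Equiv.Perm.coe_pow]; exact h a)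

theorem inner_pow [Fintype G] {k : ℕ} (hk : k.Coprime (Nat.card G)) (a b : G → ℂ) :
    𝓘 (fun g => a (g ^ k)) (fun g => b (g ^ k)) = 𝓘 a b := by
  unfold classInner
  congr 1
  exact Fintype.sum_equiv (powCoprime hk.symm) _ _ fun g => rfl

theorem iterate_pow (k n : ℕ) (φ : G → ℂ) (g : G) :
    (fun (φ : G → ℂ) g => φ (g ^ k))^[n] φ g = φ (g ^ k ^ n) := by
  induction n generalizing g with
  | zero => simp
  | succ n ih => rw [Function.iterate_succ_apply', ih, ← pow_mul, pow_succ']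

theorem cop_sub {k : ℕ} (hk : k.Coprime (Nat.card G)) (N : Subgroup G) :
    k.Coprime (Nat.card N) := hk.coprime_dvd_right N.card_subgroup_dvd_card

theorem pow_eq_of_modEq {m : ℕ} (h : m ≡ 1 [MOD Nat.card G]) (g : G) : g ^ m = g := by
  conv_rhs => rw [← pow_one g]
  exact pow_eq_pow_iff_modEq.2 (h.of_dvd (orderOf_dvd_natCard g))

theorem inner_pow_fix [Fintype G] {k : ℕ} (hk : k.Coprime (Nat.card G)) (N : Subgroup G)
    [Fintype N] {χ : G → ℂ} (h : ∀ g, χ (g ^ k) = χ g) (θ : N → ℂ) :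
    𝓘 (fun n : N => χ n) (fun n => θ (n ^ k)) = 𝓘 (fun n : N => χ n) θ := by
  rw [← inner_pow (cop_sub hk N) (fun n : N => χ n) θ]
  simp only [Subgroup.coe_pow, h]

theorem cj_pow (N : Subgroup G) [N.Normal] (θ : N → ℂ) (k : ℕ) (g : G) (n : N) :
    cj N θ g (n ^ k) = cj N (fun n => θ (n ^ k)) g n := congrArg θ (map_pow (cjAut N g) n k)

theorem fix_under [Fintype G] {p : ℕ} [Fact p.Prime] (N : Subgroup G) [N.Normal] [Fintype N]
    (hidx : ¬ p ∣ N.index) {k e : ℕ} (hk : k.Coprime (Nat.card G))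
    (hke : k ^ p ^ e ≡ 1 [MOD Nat.card G]) {χ : G → ℂ} (hχ : IsIrrCharacter G χ)
    (h : ∀ g, χ (g ^ k) = χ g) {θ : N → ℂ} (hθ : IsIrrCharacter N θ)
    (hc : 𝓘 (fun n : N => χ n) θ ≠ 0) (n : N) : θ (n ^ k) = θ n := by
  obtain ⟨g, hg⟩ := cj_of_inner_ne_zero N hχ hθ (irr_pow_coprime hθ (cop_sub hk N)) hc
    (by rwa [inner_pow_fix hk N h])
  obtain ⟨⟨_, a⟩, b⟩ := exists_fixed_of_iterate (p := p) (e := e) (α := cjOrbit N θ)
    (fun φ => ⟨fun n => φ.1 (n ^ k), by
      obtain ⟨x, e⟩ := (mem_cjOrbit N).1 φ.2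
      exact (mem_cjOrbit N).2 ⟨g * x, funext fun n => by rw [e, cj_pow, hg, cj_cj]⟩⟩)
    (fun φ => Subtype.ext (((Function.Semiconj.iterate_right (f := Subtype.val)
      (gb := fun (φ : N → ℂ) n => φ (n ^ k)) (fun _ => rfl) _) φ).trans (funext fun n => by
        rw [iterate_pow, pow_eq_of_modEq (hke.of_dvd N.card_subgroup_dvd_card)])))
    (by
      rw [Nat.card_eq_fintype_card, Fintype.card_coe, card_cjOrbit]
      exact fun e => hidx (e.trans (Subgroup.index_dvd_of_le (le_inertia N (irr_class hθ)))))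
  obtain ⟨x, rfl⟩ := (mem_cjOrbit N).1 a
  have c := congrFun (congrArg (fun φ => cj N φ x⁻¹) (congrArg Subtype.val b)) n
  have d : cj N (cj N θ x) x⁻¹ = θ := by rw [cj_cj, mul_inv_cancel, cj_one]
  exact (congrFun d _).symm.trans ((cj_pow N _ k _ n).trans (c.trans (congrFun d _)))

/-- Hypotheses on the exponent. -/
structure Sg (G : Type u) [Group G] (k e : ℕ) : Prop where
  cop : k.Coprime (Nat.card G)
  ord : k ^ 2 ^ e ≡ 1 [MOD Nat.card G]
  inv : ∀ g : G, Odd (orderOf g) → g ^ k = g⁻¹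

theorem Sg.sub {k e : ℕ} (h : Sg G k e) (N : Subgroup G) : Sg N k e :=
  ⟨cop_sub h.cop N, h.ord.of_dvd N.card_subgroup_dvd_card, fun g hg =>
    Subtype.ext (h.inv g (by rwa [Subgroup.orderOf_coe]))⟩

theorem Sg.hom_eq_one [Finite G] {k e : ℕ} (h : Sg G k e) (N : Subgroup G) [N.Normal]
    (ho : Odd N.index) {f : G →* ℂˣ} (h1 : ∀ n ∈ N, f n = 1) (h2 : ∀ g, f (g ^ k) = f g) (g : G) :
    f g = 1 := by
  obtain ⟨m, r, hr, e⟩ := Nat.exists_eq_two_pow_mul_odd (orderOf_pos g).ne'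
  have a : Odd (orderOf (g ^ 2 ^ m)) := hr.of_dvd_nat (by
    rw [orderOf_dvd_iff_pow_eq_one, ← pow_mul, ← e, pow_orderOf_eq_one])
  have b := h2 (g ^ 2 ^ m)
  rw [h.inv _ a, map_inv, inv_eq_iff_mul_eq_one, ← sq, map_pow, ← pow_mul, ← pow_succ] at b
  exact eq_one_of_pow_coprime ((Nat.coprime_two_left.2 ho).pow_left _) b
    (DFunLike.congr_fun (hom_pow_index N f h1) g)

/-- One step: `G/M` cyclic of odd order. -/
theorem Sg.step [Fintype G] {k e : ℕ} (h : Sg G k e) (M : Subgroup G) [M.Normal] [Fintype M]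
    (ho : Odd M.index) (hc : IsCyclic (G ⧸ M)) {η : M → ℂ} (hη : IsIrrCharacter M η)
    (hinv : ∀ g, cj M η g = η) (hf : ∀ n, η (n ^ k) = η n) :
    ∃ χ, IsIrrCharacter G χ ∧ (∀ n : M, χ n = η n) ∧ (∀ g, χ (g ^ k) = χ g) ∧
      ∀ χ', IsIrrCharacter G χ' → (∀ g, χ' (g ^ k) = χ' g) → 𝓘 (fun n : M => χ' n) η ≠ 0 →
        χ' = χ := by
  classical
  have hab : commutator G ≤ M := Subgroup.commutator_le.2 fun a _ b _ => by
    rw [← QuotientGroup.eq_one_iff, commutatorElement_def]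
    simp only [QuotientGroup.mk_mul, QuotientGroup.mk_inv, hc.isMulCommutative.is_comm.comm (a : G ⧸ M)]
    group
  obtain ⟨d, C, hd, a, b, c, -⟩ := abelian_quot M hab hη hinv
  obtain ⟨⟨χ, hχ⟩, e'⟩ := exists_fixed_of_iterate (p := 2) (e := e) (α := C)
    (fun φ => ⟨fun n => φ.1 (n ^ k), (a _).2 ⟨irr_pow_coprime ((a _).1 φ.2).1 h.cop, by
      have := ((a _).1 φ.2).2
      rw [← inner_pow (cop_sub h.cop M)] at this
      simp only [hf] at this
      exact this⟩⟩)
    (fun φ => Subtype.ext (((Function.Semiconj.iterate_right (f := Subtype.val)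
      (gb := fun (φ : G → ℂ) n => φ (n ^ k)) (fun _ => rfl) _) φ).trans (funext fun n => by
        rw [iterate_pow, pow_eq_of_modEq h.ord])))
    (by
      rw [Nat.card_eq_fintype_card, Fintype.card_coe]
      exact fun e => Nat.not_even_iff_odd.2 ho (even_iff_two_dvd.2 (c ▸ e.mul_left _)))
  replace e' : ∀ g, χ (g ^ k) = χ g := congrFun (congrArg Subtype.val e')
  obtain ⟨ψ, hψ, hψ'⟩ := extend_of_cyclic M hc hη hinv
  have h1 : d = 1 := by
    have := b ψ ((a _).2 ⟨hψ, by simp only [hψ', irr_inner_self hη, one_ne_zero, ne_eq,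
      not_false_eq_true]⟩) 1
    rw [hψ'] at this
    exact_mod_cast mul_right_cancel₀ (irr_one_ne_zero hη) (this.symm.trans (one_mul _).symm)
  subst h1
  simp only [Nat.cast_one, one_mul] at b
  have h2 := ((a _).1 hχ).1
  have h3 : IsIrrCharacter M fun n : M => χ n := by rwa [funext (b χ hχ)]
  refine ⟨χ, h2, b χ hχ, e', fun χ' h4 h5 h6 => ?_⟩
  obtain ⟨μ, h7, h8⟩ := linear_twist M (irr_char h4) (irr_char h2) h3 fun n hn =>
    (b χ' ((a _).2 ⟨h4, h6⟩) ⟨n, hn⟩).trans (b χ hχ ⟨n, hn⟩).symm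
  have h9 := gallagher_inj M (irr_char h2) h3 (isIrr_hom (μ ^ k)) (by simp +contextual [h7])
    (isIrr_hom μ) (by simp +contextual [h7]) (funext fun g => by
      have := h5 g
      rw [h8, h8, e', map_pow] at this
      exact this)
  funext g
  rw [h8, h.hom_eq_one M ho h7 fun g => Units.ext (by rw [map_pow]; exact congrFun h9 g)]
  simp

theorem Sg.inv_case {k e : ℕ} (n : ℕ) : ∀ (G : Type u) [Group G] [Fintype G] (_ : Sg G k e)
    (N : Subgroup G) [N.Normal] [Fintype N] (_ : N.index = n) (_ : Odd N.index) {θ : N → ℂ}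
    (_ : IsIrrCharacter N θ) (_ : ∀ g, cj N θ g = θ) (_ : ∀ n, θ (n ^ k) = θ n),
    ∃ χ, IsIrrCharacter G χ ∧ (∀ n : N, χ n = θ n) ∧ (∀ g, χ (g ^ k) = χ g) ∧
      ∀ χ', IsIrrCharacter G χ' → (∀ g, χ' (g ^ k) = χ' g) → 𝓘 (fun n : N => χ' n) θ ≠ 0 →
        χ' = χ := by
  induction n using Nat.strong_induction_on with
  | _ n ih =>
  intro G _ _ h N _ _ hn ho θ hθ hinv hf
  classical
  rcases subsingleton_or_nontrivial (G ⧸ N) with hs | hs
  · exact h.step N ho inferInstance hθ hinv hf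
  have := FT.feit_thompson (G ⧸ N) ho
  obtain ⟨M', _, hM'⟩ := H1.exists_normal_prime_index (G := G ⧸ N)
  let M := M'.comap (QuotientGroup.mk' N)
  have hM : M.index = M'.index := M'.index_comap_of_surjective (QuotientGroup.mk'_surjective N)
  have hNM : N ≤ M := fun x hx => by
    simp [M, (QuotientGroup.eq_one_iff x).2 hx]
  have hi := Subgroup.relIndex_mul_index hNM
  have hoM : Odd M.index := ho.of_dvd_nat (Subgroup.index_dvd_of_le hNM)
  obtain ⟨η, a, b, c, d⟩ := ih _ (by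
      have := hM'.two_le
      have : 0 < N.relIndex M := Nat.pos_of_ne_zero Subgroup.index_ne_zero_of_finite
      change N.relIndex M < n
      rw [← hn, ← hi, hM]; nlinarith) M (h.sub M) (N.subgroupOf M) rfl
    (ho.of_dvd_nat ⟨_, hi.symm⟩) (irr_subgroupOf N hNM hθ)
    (fun g => funext fun x => congrFun (hinv g) ⟨x, Subgroup.mem_subgroupOf.1 x.2⟩)
    fun x => hf ⟨x, Subgroup.mem_subgroupOf.1 x.2⟩
  have b' : ∀ x : N, η ⟨x, hNM x.2⟩ = θ x := fun x => b ⟨⟨x, hNM x.2⟩, x.2⟩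
  have hp : Fact M.index.Prime := ⟨hM ▸ hM'⟩
  obtain ⟨χ, h1, h2, h3, h4⟩ := h.step M hoM (isCyclic_of_prime_card (p := M.index) rfl) a
    (fun g => d _ (irr_cj M a g) (fun x => by rw [cj_pow, funext c]) (by
      rw [inner_subgroupOf N hNM]
      have : (fun x : N => cj M η g ⟨x, hNM x.2⟩) = θ := funext fun x =>
        (b' (cjAut N g x)).trans (congrFun (hinv g) x)
      rw [this, irr_inner_self hθ]; exact one_ne_zero)) c
  refine ⟨χ, h1, fun x => (h2 ⟨x, hNM x.2⟩).trans (b' x), h3, fun χ' h5 h6 h7 => ?_⟩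
  obtain ⟨ψ, h8, h9, h10⟩ := exists_irr_between N hNM (irr_class h5) h7
  refine h4 χ' h5 h6 ?_
  rwa [← d ψ h8 (fix_under (p := 2) M (Nat.two_dvd_ne_zero.2 (Nat.odd_iff.1 hoM)) h.cop h.ord
    h5 h6 h8 h9) (by rwa [inner_subgroupOf N hNM])]

theorem indFun_pow [Fintype G] {k : ℕ} (hk : k.Coprime (Nat.card G)) (T : Subgroup G)
    (ψ : T → ℂ) (g : G) : indFun T ψ (g ^ k) = indFun T (fun t => ψ (t ^ k)) g := by
  rw [indFun_apply', indFun_apply']
  congr 1
  refine Finset.sum_congr rfl fun x _ => ?_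
  rw [← conj_pow]
  by_cases h : x * g * x⁻¹ ∈ T
  · rw [extendByZero_of_mem _ _ h, extendByZero_of_mem _ _ (pow_mem h k)]; rfl
  · rw [extendByZero_of_not_mem _ _ h, extendByZero_of_not_mem _ _
      fun e => h ((pow_mem_iff_of_coprime T hk _).1 e)]

theorem Sg.main [Fintype G] {k e : ℕ} (h : Sg G k e) (N : Subgroup G) [N.Normal] [Fintype N]
    (ho : Odd N.index) {θ : N → ℂ} (hθ : IsIrrCharacter N θ) (hf : ∀ n, θ (n ^ k) = θ n) :
    ∃ χ, IsIrrCharacter G χ ∧ 𝓘 (fun n : N => χ n) θ = 1 ∧ (∀ g, χ (g ^ k) = χ g) ∧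
      (∃ ψ : inertia N θ → ℂ, IsIrrCharacter _ ψ ∧ indFun _ ψ = χ ∧ (∀ g, ψ (g ^ k) = ψ g) ∧
        ∀ n : N, ψ ⟨n, le_inertia N (irr_class hθ) n.2⟩ = θ n) ∧
      ∀ χ', IsIrrCharacter G χ' → (∀ g, χ' (g ^ k) = χ' g) → 𝓘 (fun n : N => χ' n) θ ≠ 0 →
        χ' = χ := by
  classical
  have hNT := le_inertia N (irr_class hθ)
  obtain ⟨ψ, a, b, c, d⟩ := Sg.inv_case _ (inertia N θ) (h.sub _) (N.subgroupOf _) rfl
    (ho.of_dvd_nat ⟨_, (Subgroup.relIndex_mul_index hNT).symm⟩) (irr_subgroupOf N hNT hθ)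
    (fun g => funext fun x => congrFun g.2 ⟨x, Subgroup.mem_subgroupOf.1 x.2⟩)
    fun x => hf ⟨x, Subgroup.mem_subgroupOf.1 x.2⟩
  have b' : ∀ x : N, ψ ⟨x, hNT x.2⟩ = θ x := fun x => b ⟨⟨x, hNT x.2⟩, x.2⟩
  have h1 : 𝓘 (fun x : N => ψ ⟨x, hNT x.2⟩) θ = 1 := by rw [funext b', irr_inner_self hθ]
  have h2 := h1.trans_ne one_ne_zero
  refine ⟨_, clifford_corr_irr N hθ rfl hNT a h2, (clifford_corr_inner N hθ rfl hNT a h2).trans h1,
    fun g => by rw [indFun_pow h.cop, funext c], ⟨ψ, a, rfl, c, b'⟩, fun χ' h3 h4 h5 => ?_⟩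
  obtain ⟨ψ', h6, rfl, h7⟩ := clifford_corr_surj N hθ rfl hNT h3 h5
  rw [← h7] at h5
  rw [d ψ' h6 (congrFun (clifford_corr_inj N hθ rfl hNT
    (irr_pow_coprime h6 (cop_sub h.cop _)) h6 ?_ h5 (funext fun g => by
      rw [← indFun_pow h.cop, h4]))) (by rwa [inner_subgroupOf N hNT])]
  rw [← inner_pow (cop_sub h.cop N)] at h5
  simp only [hf] at h5
  exact h5

theorem pow_card_sub_one [Finite G] (g : G) : g ^ (Nat.card G - 1) = g⁻¹ := by
  rw [eq_inv_iff_mul_eq_one, ← pow_succ, Nat.sub_add_cancel Nat.card_pos, pow_card_eq_one']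

theorem sg_inv (G : Type u) [Group G] [Finite G] : Sg G (Nat.card G - 1) 1 := by
  obtain ⟨m, hm⟩ : ∃ m, Nat.card G = m + 1 := ⟨_, (Nat.succ_pred_eq_of_pos Nat.card_pos).symm⟩
  refine ⟨by simp [hm], ?_, fun g _ => pow_card_sub_one g⟩
  rw [hm, Nat.add_sub_cancel]
  exact (Nat.modEq_iff_dvd.2 ⟨1 - m, by push_cast; ring⟩)

theorem real_iff [Finite G] {χ : G → ℂ} (h : IsCharacter G χ) :
    (∀ g, (χ g).im = 0) ↔ ∀ g, χ g⁻¹ = χ g := by
  simp only [char_inv h, Complex.conj_eq_iff_im]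

theorem fs_ext [Fintype G] {H : Type u} [Group H] [Fintype H] (f : H →* G) {χ : G → ℂ}
    (hχ : IsIrrCharacter G χ) (hr : ∀ g, (χ g).im = 0) (h : IsIrrCharacter H fun x => χ (f x)) :
    fs χ = fs fun x => χ (f x) := by
  obtain ⟨n, X, rfl⟩ := char_exists_matrix (irr_char hχ)
  obtain ⟨M, a, b⟩ := exists_form hχ hr
  exact smul_left_injective ℂ a ((form_fs hχ b).symm.trans
    (form_fs (X := X.comp f) h fun x => b (f x)))

theorem mem_of_sq_mem2 [Finite G] {N T : Subgroup G} [N.Normal] (ho : Odd N.index) (h : N ≤ T)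
    {g : G} (hg : g * g ∈ T) : g ∈ T := by
  obtain ⟨m, hm⟩ := ho
  have := h (N.pow_index_mem g)
  rw [hm, pow_succ, pow_mul, sq] at this
  exact (T.mul_mem_cancel_left (pow_mem hg m)).1 this

theorem fs_indFun [Fintype G] (T : Subgroup G) [Fintype T] (h : ∀ g, g * g ∈ T → g ∈ T)
    (ψ : T → ℂ) : fs (indFun T ψ) = fs ψ := by
  unfold fs
  simp only [indFun_apply']
  rw [← Finset.mul_sum, Finset.sum_comm]
  have : ∀ x : G, ∑ s : G, extendByZero T ψ (x * (s * s) * x⁻¹) = ∑ s : T, ψ (s * s) := fun x => by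
    have := sum_extendByZero T (fun s => ψ (s * s)) fun _ => 1
    simp only [mul_one] at this
    rw [← this]
    refine Fintype.sum_equiv (MulAut.conj x).toEquiv _ _ fun s => ?_
    have e : x * (s * s) * x⁻¹ = (x * s * x⁻¹) * (x * s * x⁻¹) := by group
    rw [e]
    change _ = extendByZero _ _ (x * s * x⁻¹)
    by_cases a : x * s * x⁻¹ ∈ T
    · rw [extendByZero_of_mem _ _ a, extendByZero_of_mem _ _ (mul_mem a a)]; rfl
    · rw [extendByZero_of_not_mem _ _ a, extendByZero_of_not_mem _ _ fun e => a (h _ e)]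
  simp only [this, Finset.sum_const, Finset.card_univ, nsmul_eq_mul, ← Nat.card_eq_fintype_card]
  have := card_ne_zero' G
  field_simp

theorem real_over [Fintype G] (N : Subgroup G) [N.Normal] [Fintype N] (ho : Odd N.index)
    {θ : N → ℂ} (hθ : IsIrrCharacter N θ) (hf : ∀ n, (θ n).im = 0) :
    ∃ χ, IsIrrCharacter G χ ∧ 𝓘 (fun n : N => χ n) θ = 1 ∧ (∀ g, (χ g).im = 0) ∧ fs χ = fs θ ∧
      ∀ χ', IsIrrCharacter G χ' → (∀ g, (χ' g).im = 0) → 𝓘 (fun n : N => χ' n) θ ≠ 0 →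
        χ' = χ := by
  classical
  have e : ∀ (T : Subgroup G) (x : T), x ^ (Nat.card G - 1) = x⁻¹ := fun T x =>
    Subtype.ext (pow_card_sub_one x.1)
  obtain ⟨χ, a, b, c, ⟨ψ, h1, rfl, h2, h3⟩, d⟩ := (sg_inv G).main N ho hθ (by
    simpa only [e] using (real_iff (irr_char hθ)).1 hf)
  simp only [pow_card_sub_one, e] at c d h2
  refine ⟨_, a, b, (real_iff (irr_char a)).2 c, ?_, fun χ' h4 h5 =>
    d χ' h4 ((real_iff (irr_char h4)).1 h5)⟩
  have hNT := le_inertia N (irr_class hθ)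
  have h4 : (fun x => ψ (Subgroup.inclusion hNT x)) = θ := funext h3
  rw [fs_indFun _ fun g => mem_of_sq_mem2 ho hNT, fs_ext (Subgroup.inclusion hNT) h1
    ((real_iff (irr_char h1)).2 h2) (by rwa [h4]), h4]

theorem real_under [Fintype G] (N : Subgroup G) [N.Normal] [Fintype N] (ho : Odd N.index)
    {χ : G → ℂ} (hχ : IsIrrCharacter G χ) (h : ∀ g, (χ g).im = 0) {θ : N → ℂ}
    (hθ : IsIrrCharacter N θ) (hc : 𝓘 (fun n : N => χ n) θ ≠ 0) (n : N) : (θ n).im = 0 := by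
  refine (real_iff (irr_char hθ)).2 (fun n => ?_) n
  have := fix_under (p := 2) N (Nat.two_dvd_ne_zero.2 (Nat.odd_iff.1 ho)) (sg_inv G).cop
    (sg_inv G).ord hχ (by simpa only [pow_card_sub_one] using (real_iff (irr_char hχ)).1 h) hθ hc n
  rwa [show n ^ (Nat.card G - 1) = n⁻¹ from Subtype.ext (pow_card_sub_one n.1)] at this

open Classical in
theorem inv_count [Fintype G] : (Nat.card {x : G // orderOf x = 2} : ℂ) =
    ∑ χ : IrrCharacter G with χ.1 ≠ fun _ => 1, fs χ.1 * charDegree χ.1 := by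
  have a := card_sqrt (1 : G)
  rw [← Finset.add_sum_erase _ _ (Finset.mem_univ ⟨_, isIrr_one⟩), fs_one, inv_one] at a
  have b : Nat.card {s : G // s * s = 1} = 1 + Nat.card {x : G // orderOf x = 2} := by
    simp only [Nat.card_eq_fintype_card, Fintype.card_subtype]
    rw [← Finset.card_erase_add_one (a := 1) (by simp), add_comm]
    congr 2
    ext x
    simp [orderOf_eq_prime_iff, sq, and_comm]
  rw [b, Nat.cast_add, Nat.cast_one, mul_one, add_right_inj] at a
  rw [a]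
  refine Finset.sum_congr ?_ fun χ _ => by rw [ideg]
  ext χ
  simp [Subtype.ext_iff]

/-- A faithful character of prime codegree. -/
theorem codeg_prime [Finite G] {χ : G → ℂ} (hχ : IsIrrCharacter G χ) {p : ℕ} (hp : p.Prime)
    (h : Nat.card G = p * charDegree χ) (hk : charKer χ = ⊥) :
    ∃ P : Subgroup G, P.Normal ∧ Nat.card P = p ∧ P.index = charDegree χ ∧ charDegree χ < p ∧
      Subgroup.centralizer (P : Set G) ≤ P := by
  classical
  have := Fact.mk hp
  have := Fintype.ofFinite G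
  have h0 := deg_pos hχ
  have h1 : χ ≠ fun _ => 1 := fun e => by
    have : Nat.card G = 1 := by
      rw [← Subgroup.card_top, Subgroup.card_eq_one, eq_bot_iff, ← hk]
      exact fun g _ => (mem_charKer (irr_char hχ) g).2 (by rw [e])
    exact hp.one_lt.ne' (Nat.eq_one_of_mul_eq_one_right (h ▸ this))
  have h2 : charDegree χ < p := by
    have a := sum_deg_sq (G := G)
    rw [← Finset.add_sum_erase _ _ (Finset.mem_univ ⟨_, hχ⟩), ← Finset.add_sum_erase _ _
      (a := ⟨_, isIrr_one⟩) (by simpa using h1.symm), h, deg_of_eq (χ := fun _ => 1) (n := 1)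
      (by simp)] at a
    by_contra e
    nlinarith [Nat.zero_le (∑ x ∈ (Finset.univ.erase (⟨χ, hχ⟩ : IrrCharacter G)).erase
      ⟨fun _ => 1, isIrr_one⟩, charDegree x.1 ^ 2)]
  have h3 : ¬ p ∣ charDegree χ := Nat.not_dvd_of_pos_of_lt h0 h2
  obtain ⟨P⟩ : Nonempty (Sylow p G) := inferInstance
  have h4 : Nat.card P = p := by
    rw [P.card_eq_multiplicity, h, Nat.factorization_mul hp.ne_zero h0.ne', Finsupp.add_apply,
      hp.factorization_self, Nat.factorization_eq_zero_of_not_dvd h3, add_zero, pow_one]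
  have h5 : (P : Subgroup G).index = charDegree χ :=
    Nat.eq_of_mul_eq_mul_left hp.pos (by rw [← h, ← (P : Subgroup G).card_mul_index, h4])
  have h6 : Nat.card (Sylow p G) = 1 := by
    have a := card_sylow_modEq_one p G
    have b := Nat.le_of_dvd h0 (h5 ▸ P.card_dvd_index)
    exact Nat.ModEq.eq_of_lt_of_lt a (by omega) hp.one_lt
  have := (Nat.card_eq_one_iff_unique.1 h6).1
  have := P.normal_of_subsingleton
  refine ⟨P, this, h4, h5, h2, ?_⟩
  obtain ⟨θ, a, b⟩ := exists_irr_under (P : Subgroup G) hχ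
  have := isCyclic_of_prime_card h4
  have c : θ 1 = 1 := irr_degree_one_of_comm a this.isMulCommutative.is_comm.comm
  have d : indFun P θ = χ := eq_of_sub_char_of_degree
    (char_sub_of_inner_ne_zero (char_indFun _ (irr_char a)) hχ (by
      rwa [inner_indFun_left _ _ (irr_class hχ), Ne, H3.inner_eq_zero_symm]))
    (by rw [indFun_one, c, mul_one, ideg_eq hχ, h5])
  refine le_of_le_of_eq (fun g hg => ?_) (inertia_eq_of_irr_indFun _ a (d ▸ hχ))
  rw [mem_inertia']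
  intro n
  congr 1
  exact Subtype.ext (by simp [← hg n n.2])

theorem comm_le_cent [Finite G] (P : Subgroup G) [P.Normal] [hc : IsCyclic P] :
    commutator G ≤ Subgroup.centralizer (P : Set G) := by
  have : IsMulCommutative (MulAut P) := ⟨⟨fun a b => (IsCyclic.mulAutMulEquiv P).injective (by
    rw [map_mul, map_mul, mul_comm])⟩⟩
  refine Subgroup.commutator_le.2 fun a _ b _ x hx => ?_
  have : MulAut.conjNormal (H := P) ⁅a, b⁆ = 1 := by
    rw [map_commutatorElement, commutatorElement_eq_one_iff_mul_comm, this.is_comm.comm]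
  have := congrArg Subtype.val (DFunLike.congr_fun this ⟨x, hx⟩)
  simp only [MulAut.conjNormal_apply, MulAut.one_apply] at this
  rw [← mul_inv_eq_iff_eq_mul.1 this]

end H3
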