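import Cfsg.Agent.H3.Cy

/-!
H3.Cz: quaternionic structure and parity of multiplicities; linear twists over an extendible
character.
-/

set_option autoImplicit false
open Cfsg Matrix
open scoped ComplexConjugate commutatorElement Kronecker

namespace H3

universe u
variable {G : Type u} [Group G]

local notation "𝓘" => classInner

theorem even_of_antilinear {W : Type*} [AddCommGroup W] [Module ℂ W] [FiniteDimensional ℂ W]
    (J : W →ₛₗ[starRingEnd ℂ] W) (h : ∀ v, J (J v) = -v) : Even (Module.finrank ℂ W) := by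
  classical
  let b := Module.finBasis ℂ W
  let N : Matrix _ _ ℂ := Matrix.of fun i j => b.repr (J (b j)) i
  have a : N * N.map conj = -1 := by
    ext k j
    have := congrArg (fun v => b.repr v k) (h (b j))
    conv_lhs at this => rw [← b.sum_repr (J (b j))]
    simp only [map_sum, map_smulₛₗ, map_neg, b.repr_self] at this
    simpa [N, mul_apply, one_apply, Finsupp.single_apply, eq_comm, mul_comm] using this
  have c := congrArg det a
  rw [det_mul, ← RingHom.mapMatrix_apply, ← RingHom.map_det, Complex.mul_conj, det_neg, det_one,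
    mul_one, Fintype.card_fin] at c
  by_contra e
  rw [(Nat.not_even_iff_odd.1 e).neg_one_pow] at c
  have d : Complex.normSq N.det = -1 := by exact_mod_cast c
  linarith [Complex.normSq_nonneg N.det]

theorem even_mult [Fintype G] {H : Type u} [Group H] [Fintype H] (f : H →* G) {χ : G → ℂ}
    (hχ : IsIrrCharacter G χ) (h : fs χ = -1) {m : ℕ} (Y : H →* Matrix (Fin m) (Fin m) ℝ) :
    ∃ k : ℕ, 𝓘 (fun x => χ (f x)) (fun x => ((Y x).trace : ℝ)) = 2 * k := by
  have hr := real_of_fs hχ (h ▸ neg_ne_zero.2 one_ne_zero)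
  obtain ⟨n, X, hu, rfl⟩ := exists_unitary (irr_char hχ)
  obtain ⟨M, a, b, c⟩ := exists_form_unit hχ hu hr
  have d := form_fs hχ b
  rw [h, neg_one_smul] at d
  have e : M.map conj * M = -1 := by
    have : star M = -M.map conj := by
      ext i j
      simpa using congrArg conj (congrFun (congrFun d i) j)
    rw [← a, this, neg_mul, neg_neg]
  let R : H →* Matrix (Fin n × Fin m) (Fin n × Fin m) ℂ :=
    { toFun := fun x => X (f x) ⊗ₖ (Y x).map Complex.ofRealHom
      map_one' := by simp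
      map_mul' := fun x y => by simp only [map_mul, Matrix.map_mul, mul_kronecker_mul] }
  let ρ : Representation ℂ H (Fin n × Fin m → ℂ) :=
    (Matrix.toLinAlgEquiv' (R := ℂ)).toMulEquiv.toMonoidHom.comp R
  let N : Matrix (Fin n × Fin m) (Fin n × Fin m) ℂ := M ⊗ₖ 1
  have h1 : ∀ x, N * R x = (R x).map conj * N := fun x => by
    have : (R x).map conj = (X (f x)).map conj ⊗ₖ (Y x).map Complex.ofRealHom := by
      ext i j; simp [R]
    rw [this]
    simp only [N, R, MonoidHom.coe_mk, OneHom.coe_mk, ← mul_kronecker_mul, c, one_mul, mul_one]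
  have h2 : N.map conj * N = -1 := by
    have : N.map conj = M.map conj ⊗ₖ 1 := by
      ext i j; simp [N, one_apply, apply_ite conj]
    rw [this, ← mul_kronecker_mul, e, one_mul]
    ext i j; simp [one_apply, Prod.ext_iff, ite_and]; split_ifs <;> simp
  have h3 : ∀ (A : Matrix (Fin n × Fin m) (Fin n × Fin m) ℂ) v,
      star (A *ᵥ v) = A.map conj *ᵥ star v := fun A v => by
    ext i; simp [mulVec, dotProduct]
  have h4 : ∀ A : Matrix (Fin n × Fin m) (Fin n × Fin m) ℂ, (A.map conj).map conj = A :=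
    fun A => by ext; simp
  obtain ⟨k, hk⟩ := even_of_antilinear (W := ρ.invariants)
    { toFun := fun v => ⟨star (N *ᵥ v.1), fun x => by
        change R x *ᵥ _ = _
        conv_rhs => rw [← v.2 x]
        change _ = star (N *ᵥ (R x *ᵥ _))
        rw [mulVec_mulVec, h1, ← mulVec_mulVec, h3 ((R x).map conj), h4]⟩
      map_add' := fun v w => Subtype.ext (by simp [mulVec_add])
      map_smul' := fun c v => Subtype.ext (by simp [mulVec_smul]) }
    fun v => Subtype.ext (by
      change star (N *ᵥ star (N *ᵥ v.1)) = -v.1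
      rw [h3, star_star, mulVec_mulVec, h2, neg_mulVec, one_mulVec])
  refine ⟨k, ?_⟩
  have := inner_one_eq_finrank ρ
  rw [hk] at this
  rw [two_mul, ← Nat.cast_add, ← this]
  unfold classInner
  congr 1
  refine Finset.sum_congr rfl fun x _ => ?_
  rw [show ρ.character x = (R x).trace from Matrix.trace_toLin'_eq (R x)]
  simp [R, trace, Finset.sum_mul_sum, Fintype.sum_prod_type]

theorem fs_of_odd_mult [Fintype G] {H : Type u} [Group H] [Fintype H] (f : H →* G) {χ : G → ℂ}
    (hχ : IsIrrCharacter G χ) (hr : ∀ g, (χ g).im = 0) {ψ : H → ℂ} (hψ : IsIrrCharacter H ψ)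
    (h : fs ψ = 1) {m : ℕ} (hm : Odd m) (e : 𝓘 (fun x => χ (f x)) ψ = m) : fs χ = 1 := by
  refine (fs_real hχ hr).resolve_right fun a => ?_
  obtain ⟨n, Y, hY⟩ := exists_real_of_fs hψ h
  obtain ⟨k, hk⟩ := even_mult f hχ a Y
  rw [funext hY, e] at hk
  have : m = 2 * k := by exact_mod_cast hk
  exact Nat.not_even_iff_odd.2 hm ⟨k, by omega⟩

theorem fs_ind_one [Fintype G] (H : Subgroup G) [Fintype H] {ψ : H → ℂ} (hψ : IsIrrCharacter H ψ)
    (h : fs ψ = 1) (hχ : IsIrrCharacter G (indFun H ψ)) : fs (indFun H ψ) = 1 :=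
  fs_of_odd_mult H.subtype hχ (fun g => Complex.conj_eq_iff_im.1 (by
    rw [← indFun_conj]
    simp only [fun x => Complex.conj_eq_iff_im.2 (real_of_fs hψ (h.trans_ne one_ne_zero) x)]))
    hψ h odd_one (by
      rw [Nat.cast_one, ← irr_inner_self hχ, inner_indFun_right H _ (irr_class hχ)]; rfl)

theorem card_le_of_fiber {α β : Type*} [Finite α] [Finite β] (f : α → β) {n : ℕ}
    (h : ∀ b, Nat.card {a // f a = b} ≤ n) : Nat.card α ≤ n * Nat.card β := by
  have := Fintype.ofFinite β
  rw [← Nat.card_congr (Equiv.sigmaFiberEquiv f), Nat.card_sigma, Nat.card_eq_fintype_card,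
    mul_comm, ← smul_eq_mul, ← Finset.card_univ]
  exact Finset.sum_le_card_nsmul _ _ _ fun b _ => h b

theorem card_res_le [Finite G] (I : Subgroup G) (μ : G →* ℂˣ) :
    Nat.card {f : G →* ℂˣ // ∀ x ∈ I, f x = μ x} ≤ I.index := by
  have : (I ⊔ commutator G).Normal := Subgroup.Normal.of_commutator_le _ le_sup_right
  refine le_trans ?_ (Nat.le_of_dvd (Nat.pos_of_ne_zero Subgroup.index_ne_zero_of_finite)
    (Subgroup.index_dvd_of_le (le_sup_left : I ≤ I ⊔ commutator G)))
  rw [← card_hom_trivial_on _ le_sup_right]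
  refine Nat.card_le_card_of_injective (fun f => ⟨f.1 / μ, fun x hx => ?_⟩) fun a b e =>
    Subtype.ext (div_left_injective (congrArg Subtype.val e))
  refine (sup_le (fun y hy => ?_) (Abelianization.commutator_subset_ker _) :
    _ ≤ (f.1 / μ).ker) hx
  simp [f.2 y hy]

theorem twist_count [Fintype G] (N : Subgroup G) [N.Normal] (hN : N ≤ commutator G)
    {φ : N → ℂ} (hφ : IsIrrCharacter N φ) {I : Subgroup G} (hI : I = inertia N φ) (hNI : N ≤ I)
    {ψ : I → ℂ} (hψ : IsIrrCharacter I ψ) (he : ∀ n : N, ψ ⟨n, hNI n.2⟩ = φ n)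
    (P : IrrCharacter G → Prop) (Q : IrrCharacter G → Prop)
    (h : ∀ (f : G →* ℂˣ) (χ : IrrCharacter G), P ⟨_, isIrr_hom f⟩ →
      IsIrrCharacter I (ψ * fun x : I => (f x : ℂ)) → χ.1 = indFun I (ψ * fun x : I => (f x : ℂ)) → Q χ) :
    Nat.card {χ : IrrCharacter G // charDegree χ.1 = 1 ∧ P χ} ≤
      I.index * Nat.card {χ : IrrCharacter G // charDegree χ.1 = charDegree φ * I.index ∧ Q χ} := by
  classical
  have h1 : ∀ f : G →* ℂˣ, ∀ n ∈ N, f n = 1 := fun f n hn =>
    Abelianization.commutator_subset_ker f (hN hn)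
  have h2 : ∀ f : G →* ℂˣ, IsIrrCharacter I (ψ * fun x : I => (f x : ℂ)) := fun f =>
    irr_mul_hom hψ (f.comp I.subtype)
  have h3 : ∀ f : G →* ℂˣ, 𝓘 (fun n : N => (ψ * fun x : I => (f x : ℂ)) ⟨n, hNI n.2⟩) φ ≠ 0 :=
    fun f => by
      simp only [Pi.mul_apply, he, h1 f _ (Subtype.prop _), Units.val_one, mul_one]
      rw [irr_inner_self hφ]; exact one_ne_zero
  choose l hl using fun χ : {χ : IrrCharacter G // charDegree χ.1 = 1 ∧ P χ} =>
    exists_hom_of_degree_one (irr_char χ.1.2) ((deg_eq_one_iff (irr_char χ.1.2)).1 χ.2.1)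
  let F : {χ : IrrCharacter G // charDegree χ.1 = 1 ∧ P χ} →
      {χ : IrrCharacter G // charDegree χ.1 = charDegree φ * I.index ∧ Q χ} := fun χ =>
    ⟨⟨_, clifford_corr_irr N hφ hI hNI (h2 (l χ)) (h3 _)⟩, deg_of_eq (by
      refine (indFun_one _ _).trans ?_
      rw [Pi.mul_apply, show ψ 1 = φ 1 from he 1, ideg_eq hφ]; simp [mul_comm]),
      h (l χ) _ (by convert χ.2.2 using 1; exact Subtype.ext (hl χ).symm) (h2 _) rfl⟩
  refine card_le_of_fiber F fun b => ?_
  rcases isEmpty_or_nonempty {a // F a = b} with e | ⟨⟨a, ha⟩⟩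
  · simp
  have key : ∀ c : {a // F a = b}, ∀ x ∈ I, l c.1 x = l a x := by
    intro c x hx
    have e1 := clifford_corr_inj N hφ hI hNI (h2 _) (h2 _) (h3 _) (h3 _)
      (congrArg (fun z => z.1.1) (c.2.trans ha.symm))
    have e2 : IsIrrCharacter (N.subgroupOf I) fun n => ψ n := by
      convert irr_subgroupOf N hNI hφ using 2 with n
      exact he ⟨n, Subgroup.mem_subgroupOf.1 n.2⟩
    have := gallagher_inj (N.subgroupOf I) (irr_char hψ) e2 (isIrr_hom ((l c.1).comp I.subtype))
      (fun n hn => by simp [h1 _ _ (Subgroup.mem_subgroupOf.1 hn)])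
      (isIrr_hom ((l a).comp I.subtype))
      (fun n hn => by simp [h1 _ _ (Subgroup.mem_subgroupOf.1 hn)])
      (by rw [mul_comm, mul_comm _ ψ]; exact e1)
    exact Units.ext (congrFun this ⟨x, hx⟩)
  refine le_trans (Nat.card_le_card_of_injective (fun c => ⟨l c.1, key c⟩)
    fun c d e => ?_) (card_res_le I (l a))
  replace e : l c.1 = l d.1 := congrArg Subtype.val e
  exact Subtype.ext (Subtype.ext (Subtype.ext ((hl _).trans (e ▸ (hl _).symm))))

theorem le_comm_of_min {N : Subgroup G} [N.Normal]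
    (hmin : ∀ M : Subgroup G, M.Normal → M ≤ N → M = ⊥ ∨ M = N) (hna : ¬ IsMulCommutative N) :
    N ≤ commutator G := by
  rcases hmin ⁅N, N⁆ inferInstance (Subgroup.commutator_le_left _ _) with e | e
  · exact absurd (Subgroup.le_centralizer_iff_isMulCommutative.1
      (Subgroup.commutator_eq_bot_iff_le_centralizer.1 e)) hna
  · exact e ▸ Subgroup.commutator_mono le_top le_top

theorem eq_inertia {N : Subgroup G} [N.Normal] {φ : N → ℂ} {I : Subgroup G}
    (hI : ∀ g : G, g ∈ I ↔ ∀ n n' : N, (n' : G) = g * (n : G) * g⁻¹ → φ n' = φ n) :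
    I = inertia N φ := by
  ext g
  rw [hI, mem_inertia']
  exact ⟨fun h n => h n _ rfl, fun h n n' e => by rw [← h n]; congr 1; exact Subtype.ext e⟩

end H3
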