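import Cfsg.Agent.H3.Md
import Cfsg.Agent.H3.Ext

/-!
# Blocks whose defect group is a Sylow subgroup of prime order
`rank_ge`, structure `Df`, generalized decomposition numbers `Df.D`, `Df.dade`.
-/

set_option autoImplicit false
set_option linter.unusedSectionVars false

namespace H3
open MonoidAlgebra Cfsg H1 H4
open scoped Pointwise ComplexConjugate

theorem isCyclic_quot_subgroupOf {K : Type*} [Group K] (N T : Subgroup K) [N.Normal] (hc : IsCyclic (K ⧸ N)) :
    IsCyclic (T ⧸ N.subgroupOf T) := by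
  refine isCyclic_of_injective (QuotientGroup.lift (N.subgroupOf T) ((QuotientGroup.mk' N).comp T.subtype)
    fun x hx => (QuotientGroup.eq_one_iff _).2 hx) ((injective_iff_map_eq_one _).2 fun a ha => ?_)
  obtain ⟨a, rfl⟩ := QuotientGroup.mk_surjective a
  exact (QuotientGroup.eq_one_iff _).2 ((QuotientGroup.eq_one_iff (N := N) (a : K)).1 ha)

theorem mult_one_of_cyclic {K : Type*} [Group K] [Fintype K] (N : Subgroup K) [N.Normal] [Fintype N]
    (hc : IsCyclic (K ⧸ N)) {θ : N → ℂ} (hθ : IsIrrCharacter N θ) {ψ : K → ℂ} (hψ : IsIrrCharacter K ψ)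
    (h : classInner (fun n : N => ψ n) θ ≠ 0) : classInner (fun n : N => ψ n) θ = 1 := by
  have hNT := le_inertia N (irr_class hθ)
  obtain ⟨η, h1, -, h2⟩ := clifford_corr_surj N hθ rfl hNT hψ h
  set T := inertia N θ
  haveI := Fintype.ofFinite (N.subgroupOf T)
  haveI hc' := isCyclic_quot_subgroupOf N T hc
  have h3 := irr_subgroupOf N hNT hθ
  obtain ⟨χ, h4, h5⟩ := extend_of_cyclic (N.subgroupOf T) hc' h3 fun g => funext fun n =>
    (mem_inertia' N).1 g.2 ⟨(n : T), n.2⟩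
  have h6 : (fun n : N.subgroupOf T => χ n) = _ := funext h5
  rw [← h2, ← inner_subgroupOf N hNT] at h ⊢
  obtain ⟨β, h7, h8, rfl⟩ := gallagher (N.subgroupOf T) (irr_char h4) (h6 ▸ h3) h1 (h6 ▸ h)
  have h9 : β 1 = 1 := (degree_one_iff_commutator_le h7).2 (le_trans
    (Subgroup.Normal.quotient_commutative_iff_commutator_le.1 ⟨⟨fun a b => (IsCyclic.commGroup).mul_comm a b⟩⟩)
    fun n hn => (mem_charKer (irr_char h7) n).2 (h8 n hn))
  rw [← irr_inner_self h3]
  congr 1; funext n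
  rw [Pi.mul_apply, h8 n n.2, h9, one_mul, h5]

theorem card_over_cyclic {K : Type*} [Group K] [Fintype K] (N : Subgroup K) [N.Normal] [Fintype N]
    (hc : IsCyclic (K ⧸ N)) {θ : N → ℂ} (hθ : IsIrrCharacter N θ) :
    Nat.card {ψ : IrrCharacter K // classInner (fun n : N => ψ.1 n) θ ≠ 0} = N.relIndex (inertia N θ) := by
  classical
  have h1 := inner_indFun_normal_self N hθ
  rw [parseval (class_indFun N θ), Finset.sum_congr rfl (g := fun ψ : IrrCharacter K =>
    if classInner (fun n : N => ψ.1 n) θ ≠ 0 then 1 else 0) fun ψ _ => ?_, Finset.sum_boole,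
    ← Subgroup.card_mul_index (N.subgroupOf _), Nat.card_congr (Subgroup.subgroupOfEquivOfLe
      (le_inertia N (irr_class hθ))).toEquiv, Nat.cast_mul, mul_div_cancel_left₀ _ (Nat.cast_ne_zero.2 Nat.card_pos.ne')] at h1
  · rw [Nat.card_eq_fintype_card, Fintype.card_subtype]; exact_mod_cast h1
  · rw [inner_gen_symm (gen_indFun N (irr_gen hθ)) (irr_gen ψ.2), inner_indFun_right N θ (irr_class ψ.2)]
    split_ifs with h
    · rw [mult_one_of_cyclic N hc hθ ψ.2 h]; simp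
    · rw [not_not.1 h]; simp

variable {G : Type*} [Group G] [Finite G] {p : ℕ} [hp : Fact p.Prime] {M : Ideal AlgInt} {B : Set (IrrCharacter G)}

theorem le_CS_prime {P : Subgroup G} (hP : Nat.card P = p) : P ≤ CS P :=
  cyclic_le_CS (isCyclic_of_prime_card hP)

theorem eq_zpowers_prime {P : Subgroup G} (hP : Nat.card P = p) {t : G} (h : t ∈ P) (ht : t ≠ 1) :
    Subgroup.zpowers t = P := by
  refine Subgroup.eq_of_le_of_card_ge (Subgroup.zpowers_le.2 h) ?_
  rw [Nat.card_zpowers, hP]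
  exact ((hp.out.eq_one_or_self_of_dvd _ (hP ▸ P.orderOf_dvd_natCard h)).resolve_left (mt orderOf_eq_one_iff.1 ht)).ge

theorem C1_eq_prime {P : Subgroup G} (hP : Nat.card P = p) {t : G} (h : t ∈ P) (ht : t ≠ 1) : C1 t = CS P := by
  rw [← eq_zpowers_prime hP h ht]; exact (H4.centralizer_zpowers t).symm

theorem not_dvd_relIndex (P : Sylow p G) {K L : Subgroup G} (h : (P : Subgroup G) ≤ K) (hL : K ≤ L) :
    ¬ p ∣ K.relIndex L := fun h1 => P.not_dvd_index
  ((h1.trans (Subgroup.relIndex_dvd_index_of_le hL)).trans (Subgroup.index_dvd_of_le h))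

theorem exists_compl (P : Sylow p G) : ∃ H : Subgroup G, H ≤ NS (P : Subgroup G) ∧ (P : Subgroup G) ⊓ H = ⊥ ∧
    ¬ p ∣ Nat.card H ∧ ∀ n ∈ NS (P : Subgroup G), ∃ h ∈ H, ∃ z ∈ (P : Subgroup G), n = h * z := by
  have h0 := not_dvd_relIndex P le_rfl (Subgroup.le_normalizer (H := (P : Subgroup G)))
  obtain ⟨n, hn⟩ := IsPGroup.iff_card.1 P.isPGroup'
  obtain ⟨H, h1, h2, h3, h4⟩ := exists_complement_rel (Subgroup.le_normalizer (H := (P : Subgroup G))) le_rfl
    (hn ▸ (hp.out.coprime_iff_not_dvd.2 h0).pow_left n)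
  refine ⟨H, h1, inf_comm H _ ▸ h2, h4 ▸ h0, fun n hn => ?_⟩
  have : n ∈ ((H ⊔ P : Subgroup G) : Set G) := by rw [h3]; exact hn
  rw [Subgroup.coe_mul_of_left_le_normalizer_right _ _ h1] at this
  obtain ⟨h, hh, z, hz, rfl⟩ := this
  exact ⟨h, hh, z, hz, rfl⟩

theorem rank_ge (hM : IsPModular p M) (hB : IsPBlock M B) (P : Sylow p G) (hP : Nat.card P = p) {e : (k M)[G]}
    (hm : MaxP p (eB M B) P e) : (CS P).relIndex (Stab (NS P) e) ≤ blockRank p B := by
  classical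
  haveI := charP_k hM
  obtain ⟨H, h1, h2, h3, h4⟩ := exists_compl P
  have hab := le_CS_prime hP
  have hC : ∀ g ∈ CS (P : Subgroup G), ∃ h ∈ CS (P : Subgroup G) ⊓ H, ∃ z ∈ (P : Subgroup G), g = h * z := fun g hg =>
    let ⟨h, hh, z, hz, e⟩ := h4 g (CS_le_NS _ hg)
    ⟨h, ⟨(mul_mem_cancel_right (hab hz)).1 (e ▸ hg), hh⟩, z, hz, e⟩
  have hs : ∀ a ∈ ZA (k M) (CS (P : Subgroup G)), a * a = a → a ∈ Sup (k M) (CS (P : Subgroup G) ⊓ H : Subgroup G) :=
    fun a ha haa => mem_Sup.2 fun g hg => by_contra fun h0 => hg (by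
      obtain ⟨h, hh, z, hz, rfl⟩ := hC g (mem_of_coeff_ne_zero (mem_ZA.1 ha).2 h0)
      have hc : Commute z h := hh.1 z hz
      have := pp_mul_of_commute hp.out hc (isPElt_of_mem hp.out P.isPGroup' hz) (not_dvd_orderOf_of_mem h3 hh.2)
      rw [hc.eq, (pp_eq_one_iff hp.out).2 (not_dvd_of_idem hM ha haa h0)] at this
      rw [← this, mul_one]; exact hh)
  have hbi : IsBI (CS (P : Subgroup G) ⊓ H) e :=
    ⟨mem_ZA.2 ⟨Fix_anti inf_le_left (mem_ZA.1 hm.be.mem).1, hs _ hm.be.mem hm.be.idem⟩, hm.be.idem, hm.be.ne,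
      fun z hz hzz => hm.be.prim z (mem_ZA.2 ⟨mem_Fix.2 fun g hg => by
        obtain ⟨h, hh, y, hy, rfl⟩ := hC g hg
        rw [H4.cj_mul, mem_Fix.1 (mem_Fix_of_Sup_CS (Sup_mono (fun _ h => h.1) (mem_ZA.1 hz).2)) y hy,
          mem_Fix.1 (mem_ZA.1 hz).1 h hh], Sup_mono (fun _ h => h.1) (mem_ZA.1 hz).2⟩) hzz⟩
  have he : incA H (resA H e) = e := incA_resA_of_Sup (Sup_mono (fun _ h => h.2) (mem_ZA.1 hbi.mem).2)
  let V := (CS (P : Subgroup G)).subgroupOf H
  haveI : V.Normal := (Subgroup.normal_subgroupOf_iff_le_normalizer_inf).2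
    (le_trans (le_inf (h1.trans (NS_le_NS_CS _)) Subgroup.le_normalizer) (by
      rw [inf_comm]; exact Subgroup.inf_normalizer_le_normalizer_inf.trans' (by rw [inf_comm])))
  obtain ⟨b, hb, hbe⟩ := (isBI_incA.1 (by rw [Subgroup.subgroupOf_map_subtype, he]; exact hbi) :
    IsBI V (resA H e)).exists_block hM
  obtain ⟨θ, hθ⟩ := block_nonempty hM hb
  obtain rfl : b = {θ} := block_eq_of_mem hM hb
    (isPBlock_singleton hM (fun h => h3 (h.trans (Subgroup.card_subgroup_dvd_card V))) θ) hθ rfl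
  haveI := Fintype.ofFinite H
  haveI := Fintype.ofFinite V
  have hT : (Stab (NS P) e).subgroupOf H ≤ inertia V θ.1 := fun t ht => (mem_inertia' V).2 fun n => by
    have e1 : aE M V {θ} ∈ Fix (k M) ((Stab (NS P) e).subgroupOf H) := by
      rw [hbe, ← incA_mem_Fix_map, he, Subgroup.subgroupOf_map_subtype]
      exact Fix_anti inf_le_left (mem_Fix_Stab _ _)
    have e2 := mem_Fix_coeff.1 (aF_mem_Fix hM (fun x _ => mem_NS_of_normal V x) hb e1) t ht n
    rw [coeff_incA_of_mem _ (‹V.Normal›.conj_mem n n.2 t), coeff_incA, coeff_fI, coeff_fI, blockCoeff_eq, blockCoeff_eq,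
      show H4.fs ({θ} : Set _) = {θ} from Finset.ext fun _ => by simp [mem_fs], Finset.sum_singleton,
      Finset.sum_singleton] at e2
    exact (RingHom.injective _) (mul_left_cancel₀ (irr_one_ne_zero θ.2)
      (mul_left_cancel₀ (inv_ne_zero (Nat.cast_ne_zero.2 Nat.card_pos.ne')) e2))
  have hcyc : IsCyclic (H ⧸ V) := (cyclic_quot (isCyclic_of_prime_card hP) P.isPGroup'
    (fun h => hp.out.one_lt.ne' (by rw [← hP]; exact Subgroup.card_eq_one.2 h)) h1
    fun h => h3 (h.trans (Subgroup.index_dvd_card _))).1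
  have hi : (CS P).relIndex (Stab (NS P) e) = V.relIndex ((Stab (NS P) e).subgroupOf H) := by
    have hle := CS_le_Stab hm.be
    haveI : ((CS (P : Subgroup G)).subgroupOf (Stab (NS P) e)).Normal :=
      Subgroup.normal_subgroupOf_of_le_normalizer ((Stab_le _ _).trans (NS_le_NS_CS _))
    rw [← Subgroup.inf_subgroupOf_right (Stab _ _), Subgroup.relIndex_subgroupOf inf_le_right,
      ← Subgroup.relIndex_subgroupOf (inf_le_left : Stab (NS P) e ⊓ H ≤ _),
      ← Subgroup.relIndex_sup_right _ ((CS (P : Subgroup G)).subgroupOf (Stab (NS P) e)), show (Stab (NS P) e ⊓ H).subgroupOf (Stab (NS P) e) ⊔ (CS (P : Subgroup G)).subgroupOf (Stab (NS P) e) = ⊤ from ?_,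
      Subgroup.relIndex_top_right]
    · rfl
    · refine eq_top_iff.2 fun t _ => ?_
      obtain ⟨h, hh, z, hz, e1⟩ := h4 t t.2.1
      have hz' := hle (hab hz)
      have hh' := (mul_mem_cancel_right hz').1 (e1 ▸ t.2)
      rw [show t = ⟨h, hh'⟩ * ⟨z, hz'⟩ from Subtype.ext e1]
      exact Subgroup.mul_mem_sup ⟨hh', hh⟩ (hab hz)
  rw [hi]
  refine (Subgroup.relIndex_le_of_le_right hT Subgroup.FiniteIndex.index_ne_zero).trans ?_
  rw [← card_over_cyclic V hcyc θ.2, Nat.card_eq_fintype_card]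
  have hF := Br_idem P.isPGroup' (Z_le_Fix _ (eB_mem_Z B)) (eB_mul_self hM hB)
  have hF' : Br (P : Subgroup G) (eB M B) ∈ ZA (k M) H := mem_ZA.2 ⟨Br_mem_Fix h1 (Z_le_Fix _ (eB_mem_Z B)),
    Sup_mono (fun _ h => h.2) (hs _ (Br_mem_ZA' _ (Z_le_Fix _ (eB_mem_Z B))) hF)⟩
  have hb' := fun ψ : IrrCharacter H => isBI_aE hM (isPBlock_singleton hM h3 ψ)
  refine card_le_rank hM hB P hP h1 h2 h4 (fun ψ => aE M H {ψ.1}) (fun ψ => (hb' _).mem) (fun ψ => (hb' _).idem)
    (fun ψ => (hb' _).ne) (fun ψ φ h => (hb' _).mul_eq_zero (hb' _) fun e => h (Subtype.ext (Set.singleton_injective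
      (aE_inj hM (isPBlock_singleton hM h3 _) (isPBlock_singleton hM h3 _) e)))) fun ψ => ?_
  rw [← ZA_comm_Sup hF' (mem_ZA.1 (hb' _).mem).2]
  refine (hb' _).mul_eq hF' hF fun h0 => (cov_iff hM (isPBlock_singleton hM h3 ψ.1) hb).1 ⟨_, rfl, _, rfl, ψ.2⟩ ?_
  refine incA_injective ?_
  rw [map_mul, hbe, he, map_zero, ← hm.mul, ← mul_assoc, ← ZA_comm_Sup hF' (mem_ZA.1 (hb' _).mem).2, h0, zero_mul]

theorem fb_prime (hM : IsPModular p M) (hB : IsPBlock M B) {P : Subgroup G} (hP : Nat.card P = p) {e : (k M)[G]}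
    (hm : MaxP p (eB M B) P e) : FB p P e B :=
  ⟨hM, hB, hm, le_CS_prime hP, fun g _ x hx h1 h2 => C1_eq_prime hP hx h1 ▸
    mem_centralizer_singleton.2 (mul_inv_eq_iff_eq_mul.1 h2).symm⟩

theorem card_ge (hM : IsPModular p M) (hB : IsPBlock M B) (P : Sylow p G) [Fintype P] (hP : Nat.card P = p)
    {e : (k M)[G]} (hm : MaxP p (eB M B) P e) : Nat.card (ga (P : Subgroup G) (Stab (NS P) e)) +
      (OS (ga (P : Subgroup G) (Stab (NS P) e))).card ≤ Nat.card B := by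
  have hF := fb_prime hM hB hP hm
  have h1 := hF.free.count hM hB hm hF.ab
  have h2 := hF.fr.card_OS
  have h3 := rank_ge hM hB P hP hm
  rw [← card_ga (Stab_le _ _)] at h1 h3
  refine Nat.le_of_mul_le_mul_left ?_ (Nat.card_pos (α := ga (P : Subgroup G) (Stab (NS P) e)))
  have := Nat.mul_le_mul_left (Nat.card (ga (P : Subgroup G) (Stab (NS P) e))) h3
  rw [mul_add]; omega

theorem modEq_of_red (hM : IsPModular p M) {χ : G → ℂ} (hχ : IsCharacter G χ) {n : ℤ} (h : red M (χ 1) = n) :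
    (charDegree χ : ℤ) ≡ n [ZMOD p] := by
  rw [char_one_eq hχ, red_natCast, ← sub_eq_zero, ← Int.cast_natCast, ← Int.cast_sub, intCast_eq_zero_iff hM] at h
  exact (Int.modEq_iff_dvd.2 h).symm

theorem red_char_pelt (hM : IsPModular p M) {χ : G → ℂ} (hχ : IsCharacter G χ) {t : G} (ht : IsPElt p t) :
    red M (χ 1) = red M (χ t) := by rw [← red_char_mul hM hχ (Commute.one_right t) ht, mul_one]

theorem os_mem_O {A : Type*} [Group A] [Fintype A] {Γ : Subgroup (MulAut A)} {o : A → ℂ} (ho : o ∈ OS Γ) (t : A) :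
    o t ∈ O M := by
  obtain ⟨l, -, rfl⟩ := mem_OS.1 ho
  exact mem_O_of_isIntegral (isIntegral_gen (gen_os l) t)

theorem red_os (hM : IsPModular p M) {A : Type*} [Group A] [Fintype A] (hA : IsPGroup p A) {Γ : Subgroup (MulAut A)}
    {o : A → ℂ} (ho : o ∈ OS Γ) (t : A) : red M (o t) = Nat.card Γ := by
  obtain ⟨l, -, rfl⟩ := mem_OS.1 ho
  rw [os_apply, red_sum _ _ fun γ _ => char_mem_O (char_hom l) _, Finset.sum_congr rfl (g := fun _ => 1) fun γ _ => ?_]
  · simp [card_fs]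
  · obtain ⟨n, hn⟩ := hA (γ t)
    exact red_eq_one_of_pow_p_pow hM (n := n) (by rw [← Units.val_pow_eq_pow_val, ← map_pow, hn, map_one, Units.val_one])

theorem principal_dade [Fintype G] (hM : IsPModular p M) (P : Sylow p G) [Fintype P] (hP : Nat.card P = p) :
    ∃ x ζ a δ, Fr (ga (P : Subgroup G) (NS P)) ∧
      (∀ χ ∈ principalBlock M G, ∀ t : P, t ≠ 1 → ∀ g : G, pp p g = t → χ.1 g = x χ t) ∧
      Exc (ga (P : Subgroup G) (NS P)) p (principalBlock M G) x ζ a 0 δ ∧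
      Nat.card (principalBlock M G \ ζ '' OS (ga (P : Subgroup G) (NS P)) : Set _) = Nat.card (ga (P : Subgroup G) (NS P)) ∧
      ∀ χ ∈ principalBlock M G \ ζ '' OS (ga (P : Subgroup G) (NS P)), a χ = 1 ∨ a χ = -1 := by
  haveI : Nontrivial P := Finite.one_lt_card_iff_nontrivial.1 (hp.out.one_lt.trans_eq hP.symm)
  obtain ⟨Θ, x, h1, h2⟩ := (fb_prime hM isPBlock_principal hP (maxP_e0 hM P)).principal_fs
  have h3 := card_ge hM isPBlock_principal P hP (maxP_e0 hM P)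
  rw [stab_e0 hM] at h1 h3
  obtain ⟨ζ, a, δ, h4, h5, h6⟩ := h1.dade h3
  exact ⟨x, ζ, a, δ, h1.toFr, h2, h4, h5, h6⟩

end H3
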