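import Cfsg.Agent.H3.FeitS
import Cfsg.Agent.FT.B3a
import Cfsg.Agent.H2.Control
import Cfsg.Agent.H1.Gaschutz
import Cfsg.Prelude.Def_LieExceptional

/-!
H3.Zass: Zassenhaus groups, group-theoretic part.  `ZG a b H`: `G` is doubly transitive on `Ω`, only the identity fixes three points,
`E = G_{a,b} ≠ 1`, and `H` is the Frobenius kernel of `G_a`.
-/

set_option autoImplicit false
open Cfsg MulAction Subgroup

namespace H3

variable {G Ω : Type*} [Group G] [MulAction G Ω]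

/-- the stabilizer of two points -/
abbrev St2 (G : Type*) [Group G] [MulAction G Ω] (a b : Ω) : Subgroup G := stabilizer G a ⊓ stabilizer G b

structure ZG (a b : Ω) (H : Subgroup G) : Prop where
  two : ∀ {c d c' d' : Ω}, c ≠ d → c' ≠ d' → ∃ g : G, g • c = c' ∧ g • d = d'
  three : ∀ (g : G) (c d f : Ω), c ≠ d → d ≠ f → c ≠ f → g • c = c → g • d = d → g • f = f → g = 1
  ne : a ≠ b
  mem : ∀ {u}, u ∈ H ↔ u • a = a ∧ (u = 1 ∨ ∀ c : Ω, u • c = c → c = a)
  card : Nat.card H + 1 = Nat.card Ω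
  nt : St2 G a b ≠ ⊥
  ntH : H ≠ ⊥

variable {a b c d : Ω} {H : Subgroup G} {g u w x y : G}

theorem conj_smul_iff : (g * x * g⁻¹) • c = c ↔ x • g⁻¹ • c = g⁻¹ • c := by
  rw [mul_smul, mul_smul, smul_eq_iff_eq_inv_smul]

theorem card_centralizer_isConj [Finite G] (h : IsConj x y) : Nat.card (centralizer {x}) = Nat.card (centralizer {y}) := by
  have := sum_norm_sq_char x
  simp only [fun χ : IrrCharacter G => class_isConj (irr_class χ.2) h, sum_norm_sq_char] at this
  exact_mod_cast this.symm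

theorem zass_nt (hZ : IsZassenhausGroup G Ω) (hab : a ≠ b) : St2 G a b ≠ ⊥ := by
  obtain ⟨g, g1, c, d, e, f1, f2⟩ := hZ.2.2.2.1
  obtain ⟨t, rfl, rfl⟩ := is_two_pretransitive_iff.1 hZ.2.1 e hab
  exact fun h => g1 (by simpa using (Subgroup.eq_bot_iff_forall _).1 h (t * g * t⁻¹) ⟨by simp [mul_smul, f1], by simp [mul_smul, f2]⟩)

theorem card_stab2 [Finite Ω] (h : IsMultiplyPretransitive G Ω 2) (hab : a ≠ b) :
    (St2 G a b).relIndex (stabilizer G a) + 1 = Nat.card Ω := by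
  classical
  have := Fintype.ofFinite Ω
  rw [Subgroup.inf_relIndex_left, Subgroup.relIndex, show (stabilizer G b).subgroupOf (stabilizer G a) =
    stabilizer (stabilizer G a) b from rfl, index_stabilizer, show orbit (stabilizer G a) b = {a}ᶜ from ?_,
    Set.ncard_compl, Set.ncard_singleton, Nat.sub_add_cancel (Nat.card_pos_iff.2 ⟨⟨a⟩, inferInstance⟩)]
  ext c
  refine ⟨?_, fun e => ?_⟩
  · rintro ⟨g, rfl⟩ e
    exact hab (smul_left_cancel g (g.2.trans (Eq.symm e)))
  · obtain ⟨g, e1, e2⟩ := is_two_pretransitive_iff.1 h hab (Ne.symm e)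
    exact ⟨⟨g, e1⟩, e2⟩

theorem exists_ZG [Finite G] [Finite Ω] (hZ : IsZassenhausGroup G Ω) (hab : a ≠ b) : ∃ H : Subgroup G, ZG a b H := by
  have two := @is_two_pretransitive_iff.1 hZ.2.1
  have nt := zass_nt hZ hab
  obtain ⟨⟨y, y1, y2⟩, y3⟩ := Subgroup.ne_bot_iff_exists_ne_one.1 nt
  obtain ⟨c, hc⟩ : ∃ c : Ω, y • c ≠ c := by_contra fun h => y3 (Subtype.ext
    (hZ.1.eq_of_smul_eq_smul fun c : Ω => by simpa using not_not.1 (not_exists.1 h c)))
  obtain ⟨t, t1, t2⟩ := two hab (show a ≠ c from fun e => hc (e ▸ y1))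
  obtain ⟨K, _, k1, k2, -, k3, -⟩ := H1.IsFrob.exists_kernel (H1.isFrob_iff.2 ⟨fun e => y3 (Subtype.ext (by
      simpa using (Subgroup.eq_bot_iff_forall _).1 e ⟨y, y1⟩ ⟨y1, y2⟩)),
    fun e => hc (by have : t • b = b := (e.ge (mem_top ⟨t, t1⟩)).2; rw [← t2, this]; exact y2),
    fun g x x1 x2 x3 => ⟨g.2, by_contra fun e => x2 (Subtype.ext (hZ.2.2.1 x a b (g⁻¹ • b) hab
      (fun f => e (eq_inv_smul_iff.1 f)) (fun f => hab (g.2.symm.trans (eq_inv_smul_iff.1 f))) x.2 x1.2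
      (conj_smul_iff.1 x3.2)))⟩⟩ : IsFrobeniusComplement ((St2 G a b).subgroupOf (stabilizer G a)))
  refine ⟨K.map (Subgroup.subtype _), two, hZ.2.2.1, hab, fun {u} => ⟨?_, fun ⟨u1, u2⟩ => ⟨⟨u, u1⟩, ?_, rfl⟩⟩, ?_, nt,
    mt (map_eq_bot_iff_of_injective _ (subtype_injective _)).1 k3⟩
  · rintro ⟨u, hu, rfl⟩
    refine ⟨u.2, (show u ∈ frobeniusKernel _ from k1 ▸ hu).imp (congrArg Subtype.val) fun e c f => by_contra fun k => ?_⟩
    obtain ⟨s, s1, rfl⟩ := two hab (Ne.symm k)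
    exact e ⟨s, s1⟩ (Subgroup.mem_pointwise_smul_iff_inv_smul_mem.2 ⟨Subtype.prop _, by
      simpa [mul_smul, inv_smul_eq_iff] using f⟩)
  · refine k1.ge (show _ ∈ frobeniusKernel _ from u2.imp Subtype.ext fun e s f =>
      hab (smul_left_cancel (s : G) (s.2.trans (e ((s : G) • b) ?_).symm)))
    simpa [mul_smul, inv_smul_eq_iff] using (Subgroup.mem_pointwise_smul_iff_inv_smul_mem.1 f).2
  · rw [Subgroup.card_subtype, ← k2.index_eq_card]; exact card_stab2 hZ.2.1 hab

theorem ZG.of [Finite G] [Fintype Ω] (hZ : IsZassenhausGroup G Ω) (hab : a ≠ b) (h1 : H ≤ stabilizer G a)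
    (h2 : Nat.card H + 1 = Fintype.card Ω) (h3 : ∀ u ∈ H, u ≠ 1 → ∀ c : Ω, u • c = c → c = a) : ZG a b H := by
  obtain ⟨K, h⟩ := exists_ZG hZ hab
  rwa [Subgroup.eq_of_le_of_card_ge (H := H) (K := K) (fun u e => h.mem.2 ⟨h1 e, (em _).imp_right (h3 u e)⟩)
    (by have := h.card; rw [Nat.card_eq_fintype_card (α := Ω)] at this; omega)]

namespace ZG
variable (h : ZG a b H)
include h

theorem le : H ≤ stabilizer G a := fun _ e => (h.mem.1 e).1
theorem fix (hu : u ∈ H) (h1 : u ≠ 1) (e : u • c = c) : c = a := (h.mem.1 hu).2.resolve_left h1 c e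
theorem conj_mem (hg : g • a = a) (hu : u ∈ H) : g * u * g⁻¹ ∈ H :=
  h.mem.2 ⟨conj_smul_iff.2 (by rw [inv_smul_eq_iff.2 hg.symm]; exact h.le hu), (h.mem.1 hu).2.imp (by simp)
    fun e c f => (inv_smul_eq_iff.1 (e _ (conj_smul_iff.1 f))).trans hg⟩
theorem ti (hu : u ∈ H) (h1 : u ≠ 1) (e : g * u * g⁻¹ ∈ H) : g • a = a :=
  (inv_smul_eq_iff.1 (h.fix hu h1 (conj_smul_iff.1 (h.le e)))).symm
theorem norm : stabilizer G a ≤ normalizer (H : Set G) := fun g e => mem_normalizer_iff.2 fun u =>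
  ⟨h.conj_mem e, fun f => by simpa [mul_assoc] using h.conj_mem (inv_mem e) f⟩
theorem normal : (H.subgroupOf (stabilizer G a)).Normal := (normal_subgroupOf_iff_le_normalizer h.le).2 h.norm
theorem cent (hu : u ∈ H) (h1 : u ≠ 1) (e : g * u = u * g) : g ∈ H := by
  have ga := h.ti (g := g) hu h1 (by simpa [e])
  refine h.mem.2 ⟨ga, or_iff_not_imp_left.2 fun g1 c f => by_contra fun k => g1 (h.three g a c (u • c) (Ne.symm k)
    (fun l => k (h.fix hu h1 l.symm)) (fun l => k (smul_left_cancel u (l.symm.trans (h.le hu).symm))) ga f ?_)⟩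
  rw [← mul_smul, e, mul_smul, f]
theorem inf : H ⊓ St2 G a b = ⊥ := eq_bot_iff.2 fun u e => by_contra fun f => h.ne (h.fix e.1 f e.2.2).symm
theorem fpf : H1.Fpf (St2 G a b) H := H1.fpf_iff.2 fun x e u f k => or_iff_not_imp_right.2 fun l =>
  mem_bot.1 (h.inf.le ⟨h.cent f l k, e⟩)
theorem tiE (hx : x ∈ St2 G a b) (h1 : x ≠ 1) (e : g * x * g⁻¹ ∈ St2 G a b) :
    g ∈ St2 G a b ∨ g • a = b ∧ g • b = a := by
  have k : ∀ c : Ω, x • g⁻¹ • c = g⁻¹ • c → g • a = c ∨ g • b = c := fun c f => by_contra fun l =>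
    h1 (h.three x a b _ h.ne (fun m => l (Or.inr (eq_inv_smul_iff.1 m))) (fun m => l (Or.inl (eq_inv_smul_iff.1 m)))
      hx.1 hx.2 f)
  rcases k a (conj_smul_iff.1 e.1) with p | p <;> rcases k b (conj_smul_iff.1 e.2) with q | q
  exacts [(h.ne (p.symm.trans q)).elim, Or.inl ⟨p, q⟩, Or.inr ⟨q, p⟩, (h.ne (p.symm.trans q)).elim]
theorem exists_swap : ∃ w : G, w • a = b ∧ w • b = a := h.two h.ne h.ne.symm
omit h in
theorem swap_conj (w1 : w • a = b) (w2 : w • b = a) (hx : x ∈ St2 G a b) : w * x * w⁻¹ ∈ St2 G a b :=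
  ⟨conj_smul_iff.2 (by rw [inv_smul_eq_iff.2 w2.symm]; exact hx.2), conj_smul_iff.2 (by rw [inv_smul_eq_iff.2 w1.symm]; exact hx.1)⟩
theorem mem_norm : g ∈ normalizer (St2 G a b : Set G) ↔ g ∈ St2 G a b ∨ g • a = b ∧ g • b = a := by
  refine ⟨fun e => ?_, fun e => e.elim (fun e => le_normalizer e) fun e => mem_normalizer_iff.2 fun x =>
    ⟨swap_conj e.1 e.2, fun f => by
      simpa [mul_assoc] using swap_conj (inv_smul_eq_iff.2 e.2.symm) (inv_smul_eq_iff.2 e.1.symm) f⟩⟩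
  obtain ⟨⟨y, y1⟩, y2⟩ := Subgroup.ne_bot_iff_exists_ne_one.1 h.nt
  exact h.tiE y1 (by simpa using y2) ((mem_normalizer_iff.1 e y).1 y1)
theorem relIndex_norm : (St2 G a b).relIndex (normalizer (St2 G a b : Set G)) = 2 := by
  obtain ⟨w, w1, w2⟩ := h.exists_swap
  refine index_eq_two_iff.2 ⟨⟨w, h.mem_norm.2 (Or.inr ⟨w1, w2⟩)⟩, fun g => ?_⟩
  have := h.ne
  rcases h.mem_norm.1 g.2 with e | e
  · exact Or.inr ⟨e, fun f => this ((f.1.symm.trans (by simp [mul_smul, w1])).trans e.2)⟩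
  · exact Or.inl ⟨⟨by simp [mul_smul, w1, e.2], by simp [mul_smul, w2, e.1]⟩, fun f => this (f.1.symm.trans e.1)⟩

variable [Finite G] [Finite Ω]

theorem reg (e : c ≠ a) : ∃ u ∈ H, u • b = c := by
  have := (Nat.bijective_iff_injective_and_card (fun u : H => (⟨(u : G) • b, fun f =>
    h.ne (smul_left_cancel (u : G) ((h.le u.2).trans f.symm))⟩ : ({a}ᶜ : Set Ω)))).2 ⟨fun u v f => by
      refine (inv_mul_eq_one.1 (by_contra fun k => h.ne (h.fix (u⁻¹ * v).2 (fun l => k (Subtype.ext l)) ?_).symm))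
      simpa [mul_smul, inv_smul_eq_iff] using (congrArg Subtype.val f).symm, by
      rw [Nat.card_coe_set_eq, Set.ncard_compl, Set.ncard_singleton, ← h.card]; simp⟩
  obtain ⟨u, f⟩ := this.2 ⟨c, e⟩
  exact ⟨u, u.2, congrArg Subtype.val f⟩
theorem decomp (e : g • a = a) : ∃ u ∈ H, ∃ y ∈ St2 G a b, u * y = g := by
  obtain ⟨u, f, k⟩ := h.reg (c := g • b) fun l => h.ne (smul_left_cancel g (e.trans l.symm))
  exact ⟨u, f, u⁻¹ * g, ⟨(stabilizer G a).mul_mem (inv_mem (h.le f)) e, by simp [mul_smul, ← k]⟩, by simp⟩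
theorem sup : H ⊔ St2 G a b = stabilizer G a := le_antisymm (sup_le h.le inf_le_left) fun _ e =>
  let ⟨_, p, _, q, r⟩ := h.decomp e; r ▸ mul_mem_sup p q
theorem cardN : Nat.card (stabilizer G a) = Nat.card H * Nat.card (St2 G a b) := by
  rw [← h.sup, sup_comm, H1.card_sup_of_disjoint (inf_le_left.trans h.norm) (inf_comm H _ ▸ h.inf), mul_comm]
omit [Finite G] [Finite Ω] in
theorem trans : IsPretransitive G Ω := ⟨fun c d => by
  have : Nontrivial Ω := ⟨_, _, h.ne⟩
  obtain ⟨c', e⟩ := exists_ne (α := Ω) c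
  obtain ⟨d', f⟩ := exists_ne (α := Ω) d
  exact (h.two e.symm f.symm).imp fun _ k => k.1⟩
theorem indexN : (stabilizer G a).index = Nat.card H + 1 := by
  have := h.trans; rw [index_stabilizer_of_transitive, h.card]
theorem cardG : Nat.card G = (Nat.card H + 1) * (Nat.card H * Nat.card (St2 G a b)) := by
  rw [← h.cardN, ← h.indexN, index_mul_card]
theorem indexH : (H.subgroupOf (stabilizer G a)).index = Nat.card (St2 G a b) :=
  Nat.eq_of_mul_eq_mul_right (Nat.card_pos (α := H)) ((H9.relIndex_mul_card h.le).trans (h.cardN.trans (mul_comm _ _)))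
omit [Finite Ω] in
theorem nil : Group.IsNilpotent H := H1.isNilpotent_of_fpf (inf_le_left.trans h.norm) h.fpf h.nt
omit [Finite Ω] in
theorem dvd : Nat.card (St2 G a b) ∣ Nat.card H - 1 := h.fpf.card_dvd (inf_le_left.trans h.norm)
omit [Finite Ω] in
theorem lt : Nat.card (St2 G a b) < Nat.card H := by
  have := (one_lt_card_iff_ne_bot H).2 h.ntH
  have := Nat.le_of_dvd (by omega) h.dvd
  omega
omit [Finite Ω] in
theorem one_lt : 1 < Nat.card (St2 G a b) := (one_lt_card_iff_ne_bot _).2 h.nt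

variable (ho : Odd (Nat.card (St2 G a b)))
include ho

theorem cop : (Nat.card (St2 G a b)).Coprime (St2 G a b).index := by
  have e : (St2 G a b).index = (Nat.card H + 1) * Nat.card H :=
    Nat.eq_of_mul_eq_mul_right Nat.card_pos ((index_mul_card _).trans (h.cardG.trans (mul_assoc _ _ _).symm))
  obtain ⟨k, hk⟩ := h.dvd
  have : Nat.card H = Nat.card (St2 G a b) * k + 1 := by have := Nat.card_pos (α := H); omega
  rw [e, this]
  exact Nat.Coprime.mul_right (by rw [add_assoc]; simpa using ho) (by simp)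

omit h [Finite Ω] in
theorem eq_one_of_sq (hx : x ∈ St2 G a b) (e : x * x = 1) : x = 1 := by
  simpa using mem_of_sq_mem ho (T := ⊥) (g := ⟨x, hx⟩) (Subtype.ext e)

theorem mem_of_sq (e : x * x = 1) (f : x • a = a) : x ∈ H := h.mem.2 ⟨f, or_iff_not_imp_left.2 fun k c l => by_contra fun m => by
  obtain ⟨u, p, rfl⟩ := h.reg m
  exact k (by simpa only [conj_eq_one_iff] using eq_one_of_sq ho (x := u⁻¹ * x * u⁻¹⁻¹) ⟨conj_smul_iff.2 (by rw [inv_inv, h.le p, f]),
    conj_smul_iff.2 (by rwa [inv_inv])⟩ (by simp [mul_assoc, ← mul_assoc x x, e]))⟩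

omit ho in
theorem exists_moved (e : x ≠ 1) : ∃ c : Ω, x • c ≠ c := by
  obtain ⟨⟨u, p⟩, q⟩ := Subgroup.ne_bot_iff_exists_ne_one.1 h.ntH
  by_contra! k
  exact e (h.three x a b (u • b) h.ne (fun l => h.ne (h.fix p (by simpa using q) l.symm).symm)
    (fun l => h.ne (smul_left_cancel u ((h.le p).trans l))) (k _) (k _) (k _))

theorem mem_of_inverts (hu : u ∈ H) (h1 : u ≠ 1) (e : x * x = 1) (f : x * u * x⁻¹ = u⁻¹) : x ∈ H :=
  h.mem_of_sq ho e (h.ti hu h1 (f ▸ inv_mem hu))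

variable (hp : commutator G = ⊤)
include hp

theorem le_der : St2 G a b ≤ ⁅normalizer (St2 G a b : Set G), normalizer (St2 G a b : Set G)⁆ := fun g e => by
  obtain ⟨N, -, n1, -, -, n2⟩ := H2.exists_transfer_kernel (H := normalizer (St2 G a b : Set G)) le_rfl
  have := (n2 g (le_normalizer e) fun k t f => ?_).1 (n1 (hp ▸ mem_top g))
  · obtain ⟨m, hm⟩ := exists_pow_eq_self_of_coprime (((h.cop ho).coprime_dvd_left
      (H9.orderOf_dvd_card_of_mem e)).coprime_dvd_right (index_dvd_of_le le_normalizer)).symm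
    exact hm ▸ pow_mem this m
  by_cases k0 : g ^ k = 1
  · simp [k0]
  have : t * (g ^ k * g ^ k) * t⁻¹ ∈ St2 G a b := by
    have : t * g ^ k * t⁻¹ * (t * g ^ k * t⁻¹) ∈ St2 G a b := mul_self_mem_of_index_two h.relIndex_norm ⟨_, f⟩
    simpa only [mul_assoc, inv_mul_cancel_left] using this
  exact commutator_mem_commutator (h.mem_norm.2 (h.tiE (mul_mem (pow_mem e k) (pow_mem e k))
    (mt (eq_one_of_sq ho (pow_mem e k)) k0) this)) (le_normalizer (pow_mem e k))

theorem cyc : IsCyclic (St2 G a b) := by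
  have := FT.t3_9 (inf_le_left.trans h.norm) h.fpf h.ntH ho
  have c : IsCyclic (⁅St2 G a b, St2 G a b⁆ : Subgroup G) := by
    have := IsZGroup.isCyclic_commutator (St2 G a b)
    rw [← map_subtype_commutator]
    exact isCyclic_of_surjective _ (equivMapOfInjective _ _ (subtype_injective _)).surjective
  refine FT.t3_9_nil (inf_le_left.trans h.norm) h.fpf h.ntH ho ((isNilpotent_iff_lowerCentralSeries _).2 ⟨2, ?_⟩)
  exact commutator_eq_bot_iff_le_centralizer.2 (le_centralizer_iff.1 ((h.le_der ho hp).trans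
    (H1.commutator_le_centralizer_of_isCyclic c (H9.normalizer_commutator le_rfl le_rfl))))

theorem comm (hx : x ∈ St2 G a b) (hy : y ∈ St2 G a b) : x * y = y * x :=
  have := h.cyc ho hp; congrArg Subtype.val (IsCyclic.commutative.is_comm.comm (⟨x, hx⟩ : St2 G a b) ⟨y, hy⟩)

theorem eq_one_of_swap (w1 : w • a = b) (w2 : w • b = a) (hx : x ∈ St2 G a b) (e : w * x = x * w) : x = 1 := by
  obtain ⟨N, -, n1, -, -, n2⟩ := H2.exists_transfer_kernel (H := St2 G a b) (K := ⊥)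
    (commutator_le.2 fun x a y b => by simp [commutatorElement_eq_one_iff_mul_comm, h.comm ho hp a b])
  have := (n2 x hx fun k t f => ?_).1 (n1 (hp ▸ mem_top x))
  · exact orderOf_eq_one_iff.1 (Nat.eq_one_of_dvd_coprimes (h.cop ho) (H9.orderOf_dvd_card_of_mem hx)
      (orderOf_dvd_of_pow_eq_one this))
  by_cases k0 : x ^ k = 1
  · simp [k0]
  rw [mem_bot, mul_inv_eq_one, mul_inv_eq_iff_eq_mul]
  rcases h.tiE (pow_mem hx k) k0 f with l | l
  · exact h.comm ho hp l (pow_mem hx k)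
  · have := h.comm ho hp (x := w⁻¹ * t) ⟨by simp [mul_smul, l.1, ← w1], by simp [mul_smul, l.2, ← w2]⟩ (pow_mem hx k)
    rw [← mul_inv_cancel_left w t, mul_assoc, this, ← mul_assoc, ((show Commute w x from e).pow_right k).eq, mul_assoc]

/-- every element interchanging `a` and `b` inverts `E` -/
theorem inverts (w1 : w • a = b) (w2 : w • b = a) (hx : x ∈ St2 G a b) : w * x * w⁻¹ = x⁻¹ := by
  have e := swap_conj w1 w2 hx
  have ww : w * w ∈ St2 G a b := ⟨by simp [mul_smul, w1, w2], by simp [mul_smul, w1, w2]⟩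
  refine eq_inv_of_mul_eq_one_left (h.eq_one_of_swap ho hp w1 w2 (mul_mem e hx) ?_)
  calc _ = w * w * x * w⁻¹ * x := by simp only [mul_assoc]
    _ = x * (w * x * w⁻¹) * w := by rw [h.comm ho hp ww hx]; simp only [mul_assoc, mul_inv_cancel_left, inv_mul_cancel, mul_one]
    _ = _ := by rw [h.comm ho hp hx e]

theorem swap_sq (w1 : w • a = b) (w2 : w • b = a) : w * w = 1 :=
  h.eq_one_of_swap ho hp w1 w2 ⟨by simp [mul_smul, w1, w2], by simp [mul_smul, w1, w2]⟩ (mul_assoc _ _ _).symm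

theorem swap_order (w1 : w • a = b) (w2 : w • b = a) : orderOf w = 2 :=
  orderOf_eq_prime (by rw [sq, h.swap_sq ho hp w1 w2]) fun e => h.ne (by simpa [e] using w1)

theorem isConj_swap (w1 : w • a = b) (w2 : w • b = a) (hx : orderOf x = 2) : IsConj w x := by
  have xx : x * x = 1 := by rw [← sq, ← hx, pow_orderOf_eq_one]
  obtain ⟨c, e⟩ := h.exists_moved (x := x) fun e => by simp [e] at hx
  obtain ⟨t, t1, t2⟩ := h.two h.ne e.symm
  have m : w⁻¹ * (t⁻¹ * x * t) ∈ St2 G a b :=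
    ⟨by simp [mul_smul, t1, ← t2, inv_smul_eq_iff, w1], by simp [mul_smul, t2, ← mul_smul x x, xx, ← t1, inv_smul_eq_iff, w2]⟩
  obtain ⟨k, hk⟩ := exists_pow_eq_self_of_coprime (Nat.coprime_two_left.2 (ho.of_dvd_nat (H9.orderOf_dvd_card_of_mem m)))
  have := h.inverts ho hp (inv_smul_eq_iff.2 w2.symm) (inv_smul_eq_iff.2 w1.symm) (inv_mem (pow_mem m k))
  rw [← pow_mul, mul_comm, pow_mul, sq] at hk
  generalize (w⁻¹ * (t⁻¹ * x * t)) ^ k = s at this hk
  refine isConj_iff.2 ⟨t * s⁻¹, ?_⟩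
  calc _ = t * w * (w⁻¹ * s⁻¹ * w⁻¹⁻¹ * s) * t⁻¹ := by group
    _ = _ := by rw [this, inv_inv, hk]; group

theorem isConj_inv (hx : orderOf x = 2) (hy : orderOf y = 2) : IsConj x y :=
  let ⟨_, a, b⟩ := h.exists_swap; (h.isConj_swap ho hp a b hx).symm.trans (h.isConj_swap ho hp a b hy)

theorem central (hx : orderOf x = 2) (e : x ∈ H) (hu : u ∈ H) : x * u = u * x := by
  have := Fact.mk Nat.prime_two
  have x1 : x ≠ 1 := fun e => by simp [e] at hx
  have := H9.inf_centralizer_ne_bot_of_nilpotent h.nil (FT.Opi_le {2} H) (FT.normalizer_Opi le_normalizer) fun f => x1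
    (mem_bot.1 (f.le (FT.le_Opi_of_nilpotent h.nil (FT.piG_of_card_prime ((Nat.card_zpowers x).trans hx) Nat.prime_two
      (Set.mem_singleton 2)) (zpowers_le.2 e) (mem_zpowers x))))
  obtain ⟨z, z1, z2⟩ := H9.exists_orderOf_eq_of_isPGroup (FT.piG_singleton_iff.1 ((FT.Opi_pi _ _).le inf_le_left)) this
  obtain ⟨g, rfl⟩ := isConj_iff.1 (h.isConj_inv ho hp z2 hx)
  have := z1.2 _ (h.conj_mem (inv_smul_eq_iff.2 (h.ti (FT.Opi_le _ _ z1.1) (by simpa using x1) e).symm) hu)
  calc _ = g * (z * (g⁻¹ * u * g⁻¹⁻¹)) * g⁻¹ := by group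
    _ = _ := by rw [← this]; group

theorem order_of_prod (hu : u ∈ H) (h1 : u ≠ 1) (hx : orderOf x = 2) (hy : orderOf y = 2) (e : x * y = u) :
    x ∈ H ∧ orderOf u = 2 := by
  have xx : x * x = 1 := by rw [← sq, ← hx, pow_orderOf_eq_one]
  have yy : y * y = 1 := by rw [← sq, ← hy, pow_orderOf_eq_one]
  have f : x * u * x⁻¹ = u⁻¹ := by
    rw [← e, ← mul_assoc, xx, one_mul, mul_inv_rev, ← eq_inv_of_mul_eq_one_left yy]
  have k := h.mem_of_inverts ho hu h1 xx f
  rw [h.central ho hp hx k hu, mul_inv_cancel_right] at f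
  exact ⟨k, orderOf_eq_prime (by rw [sq]; nth_rw 1 [f]; simp) h1⟩

theorem card_inv_moved : {x : G | orderOf x = 2 ∧ x • a ≠ a}.ncard = Nat.card H * Nat.card (St2 G a b) := by
  obtain ⟨w, w1, w2⟩ := h.exists_swap
  have k : ∀ q : H × St2 G a b, ((q.1 : G) * (w * q.2) * (q.1 : G)⁻¹) • a = (q.1 : G) • b := fun q => by
    rw [mul_smul, inv_smul_eq_iff.2 (h.le q.1.2).symm, mul_smul, mul_smul, q.2.2.1, w1]
  rw [← Nat.card_prod, ← Nat.card_coe_set_eq]
  refine (Nat.card_congr (Equiv.ofBijective (fun q : H × St2 G a b => ⟨(q.1 : G) * (w * q.2) * (q.1 : G)⁻¹,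
    (orderOf_conj' _ _).trans (h.swap_order ho hp (by rw [mul_smul, q.2.2.1, w1]) (by rw [mul_smul, q.2.2.2, w2])),
    by rw [k]; exact fun f => h.ne (smul_left_cancel _ ((h.le q.1.2).trans f.symm))⟩) ⟨fun q r e => ?_, ?_⟩)).symm
  · have e := congrArg Subtype.val e
    have : q.1 = r.1 := inv_mul_eq_one.1 (by_contra fun l => h.ne (h.fix (q.1⁻¹ * r.1).2 (fun m => l (Subtype.ext m)) (by
      simpa [mul_smul, inv_smul_eq_iff] using (k r).symm.trans ((congrArg (· • a) e.symm).trans (k q)))).symm)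
    exact Prod.ext this (by simpa [this] using e)
  · rintro ⟨x, hx, e⟩
    obtain ⟨u, p, q⟩ := h.reg e
    have xx : x * x = 1 := by rw [← sq, ← hx, pow_orderOf_eq_one]
    have ua : u • a = a := h.le p
    exact ⟨(⟨u, p⟩, ⟨w⁻¹ * (u⁻¹ * x * u), by simp [mul_smul, ua, ← q, inv_smul_eq_iff, w1],
      by simp [mul_smul, q, ← mul_smul x x, xx, inv_smul_eq_iff, w2, ua]⟩), Subtype.ext (by simp [mul_assoc])⟩

theorem card_inv_H : {x : G | orderOf x = 2 ∧ x ∈ H}.ncard = if Even (Nat.card H) then Nat.card (St2 G a b) else 0 := by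
  have := Fact.mk Nat.prime_two
  split_ifs with e
  · obtain ⟨z, z1, z2⟩ := H9.exists_orderOf_eq_of_dvd e.two_dvd
    have z3 : z ≠ 1 := fun e => by simp [e] at z2
    rw [← Nat.card_coe_set_eq]
    refine (Nat.card_congr (Equiv.ofBijective (fun y : St2 G a b => ⟨(y : G) * z * (y : G)⁻¹,
      (orderOf_conj' _ _).trans z2, h.conj_mem y.2.1 z1⟩) ⟨fun q r e => ?_, ?_⟩)).symm
    · refine inv_mul_eq_one.1 (Subtype.ext (mem_bot.1 (h.inf.le ⟨h.cent z1 z3 ?_, (q⁻¹ * r).2⟩)))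
      have e : (q : G) * z * (q : G)⁻¹ = r * z * (r : G)⁻¹ := congrArg Subtype.val e
      calc _ = (q : G)⁻¹ * (r * z * (r : G)⁻¹) * r := by simp [mul_assoc]
        _ = _ := by simp [← e, mul_assoc]
    · rintro ⟨x, hx, e⟩
      obtain ⟨g, rfl⟩ := isConj_iff.1 (h.isConj_inv ho hp z2 hx)
      obtain ⟨u, p, y, q, r⟩ := h.decomp (inv_smul_eq_iff.2 (h.ti z1 z3 e).symm)
      refine ⟨⟨y⁻¹, inv_mem q⟩, Subtype.ext ?_⟩
      obtain rfl : g = (u * y)⁻¹ := by rw [r, inv_inv]
      simp [mul_assoc, ← mul_assoc z u, h.central ho hp z2 z1 p]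
  · exact (Set.ncard_eq_zero).2 (Set.eq_empty_of_forall_notMem fun x f =>
      e (even_iff_two_dvd.2 (f.1 ▸ H9.orderOf_dvd_card_of_mem f.2)))

theorem card_inv : {x : G | orderOf x = 2}.ncard =
    Nat.card H * Nat.card (St2 G a b) + {x : G | orderOf x = 2 ∧ x ∈ H}.ncard := by
  rw [← h.card_inv_moved ho hp, ← Set.ncard_union_eq (Set.disjoint_left.2 fun x p q => p.2 (h.le q.2))]
  congr 1
  ext x
  exact ⟨fun e => (em (x • a = a)).symm.imp (⟨e, ·⟩) fun f => ⟨e, h.mem_of_sq ho (by rw [← sq, ← e, pow_orderOf_eq_one]) f⟩,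
    fun e => e.elim (·.1) (·.1)⟩

/-- at least `e` classes avoid `H` -/
theorem le_card_classes : Nat.card (St2 G a b) ≤ Nat.card {C : ConjClasses G // ∀ g : G, ConjClasses.mk g = C → g ∉ H} := by
  classical
  have := Fintype.ofFinite G
  have := Fintype.ofFinite (ConjClasses G)
  set I := Finset.univ.filter fun x : G => orderOf x = 2
  set J := Finset.univ.filter fun x : G => orderOf x = 2 ∧ x ∈ H
  set R := Finset.univ.filter fun C : ConjClasses G => ∀ g : G, ConjClasses.mk g = C → g ∉ H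
  have key : ∀ g, ((I ×ˢ I).filter fun q => q.1 * q.2 = g).card ≤ (if g = 1 then I.card else 0) +
      (if g ∈ I then J.card else 0) + if ConjClasses.mk g ∈ R then Nat.card (centralizer {g}) else 0 := fun g => by
    have inj : ∀ f : G → G, Function.Injective f → Set.InjOn (fun q : G × G => f q.1)
        ((I ×ˢ I).filter fun q => q.1 * q.2 = g) := fun f hf q p r s e => Prod.ext (hf e) (mul_left_cancel (a := q.1)
      ((Finset.mem_filter.1 p).2.trans ((Finset.mem_filter.1 s).2.symm.trans (by rw [hf e]))))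
    rcases ((I ×ˢ I).filter fun q => q.1 * q.2 = g).eq_empty_or_nonempty with e | ⟨q, e⟩
    · simp [e]
    by_cases g1 : g = 1
    · exact le_add_right (le_add_right ((Finset.card_le_card_of_injOn _ (fun q p => by
        simp only [Finset.coe_filter, Finset.mem_product] at p; exact p.1.1) (inj id fun _ _ => id)).trans (by simp [g1])))
    by_cases g2 : ConjClasses.mk g ∈ R
    · refine le_add_left ((Finset.card_le_card_of_injOn (t := Finset.univ.filter (· ∈ centralizer {g})) _ (fun r p => ?_)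
        (inj _ (mul_right_injective q.1))).trans (by simp [g2, Fintype.card_subtype]))
      have k : ∀ r ∈ (I ×ˢ I).filter fun q => q.1 * q.2 = g, r.1 * g = g⁻¹ * r.1 := fun r p => by
        simp only [I, Finset.mem_filter, Finset.mem_product, Finset.mem_univ, true_and] at p
        rw [← p.2, mul_inv_rev, ← mul_assoc, ← sq, ← p.1.1, pow_orderOf_eq_one, inv_mul_cancel_right, one_mul, eq_inv_iff_mul_eq_one,
          ← sq, ← p.1.2, pow_orderOf_eq_one]
      have := k q e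
      simp only [Finset.coe_filter, Finset.mem_univ, true_and, Set.mem_setOf_eq, mem_centralizer_singleton_iff]
      rw [mul_assoc, k r p, ← mul_assoc, ← mul_assoc, show q.1 * g⁻¹ = g * q.1 by
        rw [mul_inv_eq_iff_eq_mul, mul_assoc, this, mul_inv_cancel_left]]
    simp only [R, Finset.mem_filter, Finset.mem_univ, true_and, not_forall, not_not] at g2
    obtain ⟨u, p, p'⟩ := g2
    obtain ⟨t, rfl⟩ := isConj_iff.1 (ConjClasses.mk_eq_mk_iff_isConj.1 p)
    have k : ∀ r ∈ (I ×ˢ I).filter fun q => q.1 * q.2 = t * u * t⁻¹, t⁻¹ * r.1 * t⁻¹⁻¹ ∈ J ∧ orderOf u = 2 := fun r s => by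
      simp only [I, Finset.mem_filter, Finset.mem_product, Finset.mem_univ, true_and] at s
      have := h.order_of_prod ho hp p' (by simpa using g1) ((orderOf_conj' _ t⁻¹).trans s.1.1)
        ((orderOf_conj' _ t⁻¹).trans s.1.2) (by rw [← mul_inv_cancel_left t⁻¹ u, ← inv_mul_cancel_right (_ * u) t, inv_inv t, ← s.2]; group)
      exact ⟨Finset.mem_filter.2 ⟨by simp, (orderOf_conj' _ t⁻¹).trans s.1.1, this.1⟩, this.2⟩
    exact le_add_right (le_add_left ((Finset.card_le_card_of_injOn _ (fun r s => (k r s).1)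
      (inj (fun x => t⁻¹ * x * t⁻¹⁻¹) fun _ _ e => by simpa using e)).trans (by simp [I, orderOf_conj', (k q e).2])))
  have e1 := (Finset.card_eq_sum_card_fiberwise (f := fun q : G × G => q.1 * q.2) (s := I ×ˢ I) (t := Finset.univ)
    fun _ _ => by simp).trans_le (Finset.sum_le_sum fun g _ => key g)
  have e2 : ∑ g : G, (if ConjClasses.mk g ∈ R then Nat.card (centralizer {g}) else 0) = R.card * Nat.card G := by
    rw [← Finset.sum_filter, ← Finset.sum_fiberwise_of_maps_to (g := ConjClasses.mk) (t := R)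
      fun _ e => (Finset.mem_filter.1 e).2, ← smul_eq_mul, ← Finset.sum_const]
    refine Finset.sum_congr rfl fun C e => ?_
    obtain ⟨g, rfl⟩ := ConjClasses.mk_surjective C
    rw [← card_class_mul_card_centralizer g, Nat.card_eq_fintype_card, Fintype.card_subtype, ← smul_eq_mul, ← Finset.sum_const]
    refine Finset.sum_congr (Finset.ext fun x => ?_) fun x f => (card_centralizer_isConj (Finset.mem_filter.1 f).2).symm
    simp only [Finset.mem_filter, Finset.mem_univ, true_and, ← ConjClasses.mk_eq_mk_iff_isConj]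
    exact ⟨fun f => f.2.symm, fun f => ⟨f ▸ e, f.symm⟩⟩
  have e3 := h.card_inv ho hp
  have e4 := h.card_inv_H ho hp
  rw [Finset.sum_add_distrib, Finset.sum_add_distrib, e2, Finset.card_product, h.cardG] at e1
  simp only [Finset.sum_ite_eq', Finset.sum_ite_mem, Finset.mem_univ, if_true, Finset.univ_inter, Finset.sum_const, smul_eq_mul] at e1
  rw [Set.ncard_eq_toFinset_card', Set.toFinset_setOf] at e4
  rw [Set.ncard_eq_toFinset_card', Set.toFinset_setOf, Set.ncard_eq_toFinset_card', Set.toFinset_setOf] at e3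
  rw [Nat.card_eq_fintype_card (α := {C : ConjClasses G // _}), Fintype.card_subtype]
  change I.card = _ + J.card at e3
  change J.card = _ at e4
  change _ ≤ R.card
  have l1 := h.lt
  have l2 := h.one_lt
  generalize Nat.card H = n at *
  generalize Nat.card (St2 G a b) = e at *
  by_contra! l
  obtain ⟨s, rfl⟩ := Nat.exists_eq_add_of_lt l
  obtain ⟨m, rfl⟩ := Nat.exists_eq_add_of_lt l1
  rw [e3, e4] at e1
  generalize R.card = r at *
  split_ifs at e1
  · have : (r + s + 1) * (r + s + 1 + m + 1) ≤ 1 + r * (r + s + 1 + m + 1) := by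
      refine Nat.le_of_mul_le_mul_left (c := (r + s + 1 + m + 1 + 1) * (r + s + 1)) ?_ (by positivity)
      nlinarith
    nlinarith
  · have : (r + s + 1) * (r + s + 1 + m + 1) ≤ 1 + r * (r + s + 1 + m + 1 + 1) := by
      refine Nat.le_of_mul_le_mul_left (c := (r + s + 1 + m + 1) * (r + s + 1)) ?_ (by positivity)
      nlinarith
    nlinarith

end ZG

end H3
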