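import Cfsg.Agent.H3.BSW3
import Cfsg.Agent.H1.DI
import Cfsg.Agent.H9.Sec
import Cfsg.Agent.H4.ZStar
import Cfsg.Agent.H3.Zass
import Cfsg.Agent.H5.KB
import Cfsg.Agent.S0111
import Cfsg.Agent.S0251
import Cfsg.Agent.S0253
import Cfsg.Agent.S0254

/-!
H3.Dih: groups with dihedral Sylow 2-subgroups: `Dh`, `Dh.npc`, `Dh.cj_all`, `bsw_of_dih`.
-/

set_option autoImplicit false
open Cfsg Subgroup H9
open scoped Classical

namespace H3

variable {G : Type*} [Group G] [Finite G] {t s g u x y : G} {S R K O : Subgroup G}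

/-- `S` is a dihedral 2-group of order at least 4 -/
def Dh (S : Subgroup G) : Prop := IsKleinFour S ∨ ∃ n a b, H1.DI S n a b

theorem dh_of (S : Sylow 2 G) {n : ℕ} (hn : 2 ≤ n) (h : Nonempty ((S : Subgroup G) ≃* DihedralGroup n)) : Dh (S : Subgroup G) :=
  H1.di_of_dihedral S.isPGroup' hn h.some

theorem Dh.od (h : Dh S) (hR : R ≤ S) (o : H1.Od R) : IsKleinFour R := by
  rcases h with h | ⟨n, a, b, h⟩
  · rcases H1.klein_sub h hR with c | rfl
    · exact absurd o (H1.not_od_of_isCyclic ((H1.klein_pg h).to_le hR) c)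
    · exact h
  · exact h.od_klein hR o

theorem Dh.od' (hS : Syl 2 S ⊤) (h : Dh S) (hR : IsPGroup 2 R) (o : H1.Od R) : IsKleinFour R := by
  obtain ⟨c, -, e⟩ := hS.exists_cj_le hR le_top
  have := H1.klein_cj (h.od e (o.cj c)) c⁻¹
  have e2 : H2.cj c⁻¹ (H9.cj c R) = R := H2.cj_inv_cj c R
  rwa [e2] at this

theorem Dh.npc (hS : Syl 2 S ⊤) (h : Dh S) (ht : orderOf t = 2) : NPC 2 (centralizer {t}) := by
  have tC : t ∈ centralizer {t} := mem_centralizer_singleton_iff.2 rfl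
  obtain ⟨P, hP, tP⟩ := exists_syl_ge (isPGroup_zpowers_of_orderOf ht) (zpowers_le.2 tC)
  refine npc_iff.2 (H2.frobenius_rel hP.h2 fun Q a _ b g c d e => by_contra fun f => ?_)
  exact H1.klein_not_fix (h.od' hS (hP.isP.to_le a) ⟨g, d, e, f⟩) d e f (b ⟨tP (mem_zpowers t), fun y hy =>
    mem_centralizer_singleton_iff.1 (hP.le (a hy))⟩) (H1.two_ne ht) (by rw [mem_centralizer_singleton_iff.1 c, mul_inv_cancel_right])

theorem Dh.cj_all (hS : Syl 2 S ⊤) (h : Dh S) (hG : ∀ H : Subgroup G, H.index ≠ 2) (hx : orderOf x = 2) (hy : orderOf y = 2) :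
    IsConj x y := by
  obtain ⟨S, rfl⟩ := hS.exists_sylow_top
  rcases h with h | ⟨n, a, b, h⟩
  · exact H1.klein_sylow_conj S h (H1.klein_sylow_od S h hG) x y hx hy
  · exact h.all_conj (h.od_of_no_index hG).1 (h.od_of_no_index hG).2 x y hx hy

/-- the shape of a dihedral 2-group relative to a central involution -/
structure DS (S : Subgroup G) (t a b : G) : Prop where
  ha : a ∈ S
  hb : b ∈ S
  ta : t ∈ zpowers a
  bb : b * b = 1
  nb : b ∉ zpowers a
  mem : ∀ x ∈ S, x ∈ zpowers a ∨ x * b ∈ zpowers a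
  inv : b * a * b⁻¹ = a⁻¹

theorem Dh.ds (h : Dh S) (ht : orderOf t = 2) (tS : t ∈ S) (hZ : ∀ s ∈ S, s * t = t * s) : ∃ a b, DS S t a b := by
  rcases h with h | ⟨n, a, b, h⟩
  · obtain ⟨b, hb, b1, bt⟩ := H1.klein_exists_ne h t
    have bb := H1.klein_sq h hb
    refine ⟨t, b, tS, hb, mem_zpowers t, bb, fun e => ((H1.mem_zpowers_two ht).1 e).elim b1 bt, fun x hx => ?_, by
      rw [hZ b hb, mul_inv_cancel_right, H1.two_inv ht]⟩
    rcases H1.klein_mem h tS hb (H1.two_ne ht) b1 bt.symm hx with rfl | rfl | rfl | rfl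
    · exact Or.inl (one_mem _)
    · exact Or.inl (mem_zpowers _)
    · exact Or.inr (bb ▸ one_mem _)
    · exact Or.inr (by rw [mul_assoc, bb, mul_one]; exact mem_zpowers _)
  · refine ⟨a, b, h.ha, h.hb, zpowers_le.2 H1.MC.z_mem (h.center.le ⟨tS, fun y hy => hZ y hy⟩), by rw [← sq, h.b2], h.nb, fun x hx => ?_, h.conj⟩
    exact (em _).imp_right fun e => h.mul_out hx h.hb e h.nb

namespace DS
variable {a b : G} (h : DS S t a b)
include h

theorem inv' (hx : x ∈ zpowers a) : b * x * b⁻¹ = x⁻¹ := by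
  obtain ⟨k, rfl⟩ := mem_zpowers_iff.1 hx
  rw [← conj_zpow, h.inv, inv_zpow]

theorem out_inv (hs : s ∈ S) (sa : s ∉ zpowers a) (hx : x ∈ zpowers a) : s * x * s⁻¹ = x⁻¹ := by
  have e := (h.mem s hs).resolve_left sa
  have c := (H1.comm_of_mem (inferInstance : IsMulCommutative (zpowers a)) e (inv_mem hx))
  rw [show s * x * s⁻¹ = (s * b) * (b⁻¹ * x * b) * (s * b)⁻¹ by group, inv_eq_of_mul_eq_one_left h.bb, show b * x * b = x⁻¹ by
    rw [← h.inv' hx, inv_eq_of_mul_eq_one_left h.bb], c, mul_inv_cancel_right]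

theorem out_sq (hs : s ∈ S) (sa : s ∉ zpowers a) : s * s = 1 := by
  have e := h.inv' ((h.mem s hs).resolve_left sa)
  rw [mul_inv_rev, inv_eq_of_mul_eq_one_left h.bb, mul_assoc, mul_assoc, h.bb, mul_one, mul_right_inj] at e
  rw [← mul_eq_one_iff_eq_inv] at e; exact e

theorem two_lt (ht : orderOf t = 2) : 2 < Nat.card G := by
  have := Fintype.ofFinite G
  rw [Nat.card_eq_fintype_card, Fintype.two_lt_card_iff]
  exact ⟨1, t, b, (H1.two_ne ht).symm, fun e => h.nb (e ▸ one_mem _), fun e => h.nb (e ▸ h.ta)⟩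

theorem bsw (ht : orderOf t = 2) (hS : IsPGroup 2 S) (hO : (Nat.card O).Coprime 2) (hC : O ⊔ S = centralizer {t})
    (ha : a ∈ centralizer (O : Set G)) (hb : ∀ y ∈ O, b * y * b⁻¹ = y⁻¹)
    (hc : ∀ Y ≤ O, Y ≠ ⊥ → normalizer (Y : Set G) ≤ centralizer {t}) (cj : ∀ u, orderOf u = 2 → IsConj t u) :
    BSW t b (O ⊔ zpowers a) := by
  have bi : b⁻¹ = b := inv_eq_of_mul_eq_one_left h.bb
  have ac : ∀ x ∈ zpowers a, ∀ y ∈ O, y * x = x * y := fun x hx y hy => zpowers_le.2 ha hx y hy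
  have oc : ∀ x ∈ O, ∀ y ∈ O, x * y = y * x := fun x hx y hy => by
    rw [← inv_inj, ← hb _ (mul_mem hx hy), mul_inv_rev, ← hb x hx, ← hb y hy]; group
  have i0 := inf_eq_bot_of_p_p' hS hO
  have m : ∀ {x}, x ∈ O ⊔ zpowers a ↔ ∃ o ∈ O, ∃ y ∈ zpowers a, o * y = x :=
    mem_sup_of_le_normalizer' ((zpowers_le.2 ha).trans (centralizer_le_normalizer' O))
  have comm : ∀ x ∈ O ⊔ zpowers a, ∀ y ∈ O ⊔ zpowers a, x * y = y * x := fun x hx y hy => by
    obtain ⟨o, c, x, d, rfl⟩ := m.1 hx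
    obtain ⟨p, e, y, f, rfl⟩ := m.1 hy
    rw [mul_assoc, ← mul_assoc x, ← ac x d p e, mul_assoc p y, ← mul_assoc y, ← ac y f o c, mul_assoc, mul_assoc, ← mul_assoc, ← mul_assoc p,
      oc o c p e, H1.comm_of_mem (inferInstance : IsMulCommutative (zpowers a)) d f]
  have inv : ∀ x ∈ O ⊔ zpowers a, b * x * b⁻¹ = x⁻¹ := fun x hx => by
    obtain ⟨o, c, x, d, rfl⟩ := m.1 hx
    rw [ac x d o c, mul_inv_rev, ← hb o c, ← h.inv' d, ← ac x d o c]; group
  have inv2 : ∀ g, g * b ∈ O ⊔ zpowers a → ∀ x ∈ O ⊔ zpowers a, g * x * g⁻¹ = x⁻¹ := fun g hg x hx => by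
    rw [show g * x * g⁻¹ = (g * b) * (b⁻¹ * x * b) * (g * b)⁻¹ by group, show b⁻¹ * x * b = x⁻¹ by rw [← inv x hx, bi],
      comm _ hg _ (inv_mem hx), mul_inv_cancel_right]
  have sn : S ≤ normalizer (O : Set G) := fun s hs => H1.mem_normalizer_iff_conj_mem.2 fun y hy => by
    rcases h.mem s hs with e | e
    · rwa [← ac s e y hy, mul_inv_cancel_right]
    · rw [inv2 s (mem_sup_right e) y (mem_sup_left hy)]; exact inv_mem hy
  have cent : ∀ {g}, g * t = t * g ↔ g ∈ O ⊔ zpowers a ∨ g * b ∈ O ⊔ zpowers a := fun {g} => by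
    rw [← mem_centralizer_singleton_iff, ← hC]
    have l : O ⊔ zpowers a ≤ O ⊔ S := sup_le_sup_left (zpowers_le.2 h.ha) _
    refine ⟨fun e => ?_, fun e => e.elim (l ·) fun e => by simpa using mul_mem (l e) (mem_sup_right (inv_mem h.hb))⟩
    obtain ⟨o, c, x, d, rfl⟩ := (mem_sup_of_le_normalizer' sn).1 e
    exact (h.mem x d).imp (fun e => m.2 ⟨o, c, x, e, rfl⟩) fun e => m.2 ⟨o, c, _, e, (mul_assoc ..).symm⟩
  have odd : ∀ o ∈ O, o * o = 1 → o = 1 := fun o c e => by_contra fun d =>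
    absurd (hO.coprime_dvd_left (H1.two_of e d ▸ orderOf_dvd_card_of_mem c)) (by decide)
  have uniq : ∀ x ∈ O ⊔ zpowers a, x * x = 1 → x = 1 ∨ x = t := fun x hx e => by
    obtain ⟨o, c, x, d, rfl⟩ := m.1 hx
    rw [mul_assoc, ← mul_assoc x, ← ac x d o c, mul_assoc, ← mul_assoc, mul_eq_one_iff_eq_inv] at e
    obtain rfl := odd o c (mem_bot.1 (i0.le (mem_inf.2 ⟨e ▸ inv_mem (zpowers_le.2 h.ha (mul_mem d d)), mul_mem c c⟩)))
    rw [one_mul] at e ⊢
    exact (em _).imp_right fun f => H1.two_eq_of_mem_zpowers d h.ta (H1.two_of (inv_eq_one.1 e.symm) f) ht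
  refine ⟨ht, comm, mem_sup_right h.ta, h.bb, fun e => ?_, cent, inv, uniq, fun g x hx x1 e => ?_, cj⟩
  · obtain ⟨o, c, x, d, e⟩ := m.1 e
    have : o = 1 := mem_bot.1 (i0.le (mem_inf.2 ⟨eq_mul_inv_of_mul_eq e ▸ mul_mem h.hb (inv_mem (zpowers_le.2 h.ha d)), c⟩))
    exact h.nb (by rwa [← e, this, one_mul])
  by_cases o : 2 ∣ orderOf x
  · have z := orderOf_pow_orderOf_div (orderOf_pos x).ne' o
    have z1 := (uniq _ (pow_mem hx _) (H1.two_sq z)).resolve_left (H1.two_ne z)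
    have z2 := pow_mem e (orderOf x / 2)
    rw [conj_pow, z1] at z2
    exact mul_inv_eq_iff_eq_mul.1 ((uniq _ z2 (by simp [mul_assoc, ← mul_assoc t, H1.two_sq ht])).resolve_left (by simpa using H1.two_ne ht))
  have mO : ∀ x ∈ O ⊔ zpowers a, ¬ 2 ∣ orderOf x → zpowers x ≤ O := fun x hx o =>
    (le_Ores (zpowers_le.2 hx) (by rwa [Nat.card_zpowers, cop_iff])).trans (Ores_le_of_sup (hS.to_le (zpowers_le.2 h.ha))
      ((zpowers_le.2 h.ha).trans sn) le_rfl)
  have nz : ∀ x ∈ O ⊔ zpowers a, ¬ 2 ∣ orderOf x → x ≠ 1 → normalizer (zpowers x : Set G) = centralizer {t} := fun x hx o x1 =>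
    (hc _ (mO x hx o) (by simpa using x1)).antisymm fun c hc => mem_normalizer_of_cj_le (by
      rw [cj_zpowers, zpowers_le]
      rcases cent.1 (mem_centralizer_singleton_iff.1 hc) with e | e
      · rw [comm _ e _ hx, mul_inv_cancel_right]; exact mem_zpowers x
      · rw [inv2 c e x hx]; exact inv_mem (mem_zpowers x))
  have k := nz _ e (by rwa [H1.orderOf_conj]) (by simpa using x1)
  rw [← cj_zpowers, ← cj_normalizer, nz x hx o x1, cj_centralizer_singleton] at k
  have tt : g * t * g⁻¹ * (g * t * g⁻¹) = 1 := by simp [mul_assoc, ← mul_assoc t, H1.two_sq ht]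
  rcases cent.1 (mem_centralizer_singleton_iff.1 (k.le (mem_centralizer_singleton_iff.2 rfl))) with f | f
  · exact mul_inv_eq_iff_eq_mul.1 ((uniq _ f tt).resolve_left (by simpa using H1.two_ne ht))
  · have := inv2 _ f x hx
    rw [← mem_centralizer_singleton_iff.1 (k.ge (mem_centralizer_singleton_iff.2 (cent.2 (Or.inl hx)))), mul_inv_cancel_right] at this
    exact absurd (H1.two_of (mul_eq_one_iff_eq_inv.2 this) x1 ▸ dvd_rfl) o

end DS

theorem no_index_two [IsSimpleGroup G] (h : 2 < Nat.card G) (H : Subgroup G) : H.index ≠ 2 := fun e => by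
  rcases (normal_of_index_eq_two e).eq_bot_or_eq_top with rfl | rfl
  · rw [index_bot] at e; omega
  · simp at e

theorem mc_of_cent (hS : IsPGroup 2 S) (hx : x ∈ S) (h : Nat.card (S ⊓ centralizer {x} : Subgroup G) ≤ 4) :
    IsMulCommutative S ∨ ∃ n a b, H1.MC S n a b := by
  obtain ⟨n, hn⟩ := IsPGroup.iff_card.1 hS
  by_cases c : n ≤ 2
  · exact Or.inl (L.isMulCommutative_of_card_le_sq hS (hn ▸ Nat.pow_le_pow_right two_pos c))
  obtain ⟨n, rfl⟩ : ∃ m, n = m + 3 := ⟨n - 3, by omega⟩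
  obtain ⟨a, b, h1, h2, h3, h4⟩ := L.dqs_of_max_class hn ((L.nilpotencyClass_eq_iff hn).1
    (L.max_class_of_centralizer _ hn ⟨x, hx⟩ (by
      rw [← card_map_subtype, ← centralizer_zpowers, map_centralizer_subtype, MonoidHom.map_zpowers, centralizer_zpowers]; exact h)))
  exact Or.inr ⟨_, _, _, H1.mc_of_sub (by omega) h1 h2 h3 h4⟩

/-- Thompson's transfer lemma -/
theorem thompson (hS : Syl 2 S ⊤) (hG : ∀ H : Subgroup G, H.index ≠ 2) (hR : R ≤ S) (hi : R.relIndex S = 2) (hx : orderOf x = 2) :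
    ∃ g, g * x * g⁻¹ ∈ R := by
  obtain ⟨c, -, e⟩ := hS.exists_cj_le (isPGroup_zpowers_of_orderOf hx) le_top
  obtain ⟨S, rfl⟩ := hS.exists_sylow_top
  by_cases d : c * x * c⁻¹ ∈ R
  · exact ⟨c, d⟩
  obtain ⟨M, -, a, -⟩ | ⟨g, a⟩ := Cfsg.Agent.S0111.result S R hR hi _ ((H1.orderOf_conj c x).trans hx) (e (conj_mem_cj (mem_zpowers x))) d
  · exact absurd a (hG M)
  · exact ⟨g * c, by simpa [mul_assoc] using a⟩

theorem mc_conj {n : ℕ} {a b : G} (h : H1.MC S n a b) (hS : Syl 2 S ⊤) (hG : ∀ H : Subgroup G, H.index ≠ 2) (hx : orderOf x = 2) :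
    IsConj x (a ^ 2 ^ n) := by
  obtain ⟨g, e⟩ := thompson hS hG h.le h.idx hx
  exact isConj_iff.2 ⟨g, h.eq_z e ((H1.orderOf_conj g x).trans hx)⟩

/-- the `Z*`-theorem when there is no core and no centre -/
theorem zstar_conj (hS : Syl 2 S ⊤) (hO : oddCore G = ⊥) (hx : orderOf x = 2) (h : x ∉ center G) :
    ∃ g, g * x * g⁻¹ ∈ S ∧ g * x * g⁻¹ ≠ x := by
  by_contra! e
  exact h (H4.zstar_center (H4.II.of_sylow ⟨hS.le, hS.isP, hS.not_dvd⟩ hx e) hO)

theorem syl_of_cent (hS : IsPGroup 2 (centralizer {t} : Subgroup G)) (h : ∀ x ∈ centralizer {t}, orderOf x = 2 →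
    (∀ y ∈ centralizer {t}, y * x = x * y) → x = t) (ht : orderOf t = 2) : Syl 2 (centralizer {t}) ⊤ := by
  refine Syl.of_normalizer ?_
  have : ⊤ ⊓ normalizer ((centralizer {t} : Subgroup G) : Set G) = centralizer {t} := by
    refine le_antisymm (fun g hg => ?_) (le_inf le_top le_normalizer)
    have e := mem_normalizer_iff_cj.1 hg.2
    rw [cj_centralizer_singleton] at e
    exact mem_centralizer_singleton_iff.2 (mul_inv_eq_iff_eq_mul.1 (h _ (e.le (mem_centralizer_singleton_iff.2 rfl))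
      ((H1.orderOf_conj g t).trans ht) fun y hy => mem_centralizer_singleton_iff.1 (e.ge hy)))
  rw [this]; exact syl_self hS

theorem BSW.card_H (h : BSW t s K) : Nat.card (centralizer {t} : Subgroup G) = 2 * Nat.card K := by
  have a := K.card_mul_index
  rw [h.index, ← (centralizer {t}).card_mul_index, ← mul_assoc] at a
  rw [← Nat.eq_of_mul_eq_mul_right (Nat.pos_of_ne_zero FiniteIndex.index_ne_zero) a, mul_comm]

/-- the involution centralizer is a dihedral Sylow 2-subgroup -/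
theorem psl_of_cent (h : Dh (centralizer {t} : Subgroup G)) (hS : Syl 2 (centralizer {t} : Subgroup G) ⊤) (ht : orderOf t = 2)
    (cj : ∀ u, orderOf u = 2 → IsConj t u) : ∃ (F : Type) (_ : Field F) (_ : Fintype F),
    (Fintype.card F = Nat.card (centralizer {t} : Subgroup G) + 1 ∨ Fintype.card F + 1 = Nat.card (centralizer {t} : Subgroup G)) ∧
      Nonempty (G ≃* H5.PSL2 F) := by
  obtain ⟨a, b, d⟩ := h.ds ht (mem_centralizer_singleton_iff.2 rfl) fun s => mem_centralizer_singleton_iff.1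
  have e := d.bsw (O := ⊥) ht hS.isP (by simp) (bot_sup_eq _) (by simp [mem_centralizer_iff]) (by simp) (by simp) cj
  simpa only [← e.card_H] using e.psl

theorem DI_cent {n : ℕ} {a b : G} (h : H1.DI (centralizer {t}) n a b) (ht : orderOf t = 2) :
    t = a ^ 2 ^ n ∧ Syl 2 (centralizer {t}) ⊤ := by
  have k : ∀ x ∈ centralizer {t}, orderOf x = 2 → (∀ y ∈ centralizer {t}, y * x = x * y) → x = a ^ 2 ^ n := fun x c d e =>
    (h.mem_z.1 (h.center.le ⟨c, e⟩)).resolve_left (H1.two_ne d)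
  have e := k t (mem_centralizer_singleton_iff.2 rfl) ht fun _ => mem_centralizer_singleton_iff.1
  exact ⟨e, syl_of_cent h.pg (fun x c d f => (k x c d f).trans e.symm) ht⟩

theorem d8_cent (e : (centralizer {t} : Subgroup G) ≃* DihedralGroup 4) :
    Nat.card (centralizer {t} : Subgroup G) = 8 ∧ ∃ a b, H1.DI (centralizer {t}) 1 a b := by
  have c : Nat.card (centralizer {t} : Subgroup G) = 8 := by rw [Nat.card_congr e.toEquiv, DihedralGroup.nat_card]
  obtain ⟨n, a, b, h1, h2, h3, h4⟩ := H1.mc_of_dihedral (IsPGroup.of_card (n := 3) c) (by norm_num) e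
  obtain rfl : n = 1 := by simpa using Nat.pow_right_injective le_rfl (show 2 ^ 2 = 2 ^ (n + 1) from h2)
  exact ⟨c, a, b, h1, h3, h4⟩

theorem psl_of_d8' (ht : orderOf t = 2) (e : (centralizer {t} : Subgroup G) ≃* DihedralGroup 4) (cj : ∀ u, orderOf u = 2 → IsConj t u) :
    Nonempty (G ≃* alternatingGroup (Fin 6)) ∨ ∃ (F : Type) (_ : Field F) (_ : Fintype F), Fintype.card F = 7 ∧ Nonempty (G ≃* H5.PSL2 F) := by
  obtain ⟨c, a, b, h⟩ := d8_cent e
  obtain ⟨F, _, _, d | d, ⟨f⟩⟩ := psl_of_cent (Or.inr ⟨_, _, _, h⟩) (DI_cent h ht).2 ht cj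
  · exact Or.inl ⟨f.trans (Cfsg.Agent.S0254.result (d.trans (by rw [c]))).some⟩
  · exact Or.inr ⟨F, _, _, by omega, ⟨f⟩⟩

theorem psl_of_d8 (ht : orderOf t = 2) (e : (centralizer {t} : Subgroup G) ≃* DihedralGroup 4) (hG : ∀ H : Subgroup G, H.index ≠ 2) :
    Nonempty (G ≃* alternatingGroup (Fin 6)) ∨ ∃ (F : Type) (_ : Field F) (_ : Fintype F), Fintype.card F = 7 ∧ Nonempty (G ≃* H5.PSL2 F) := by
  obtain ⟨c, a, b, h⟩ := d8_cent e
  exact psl_of_d8' ht e fun u => Dh.cj_all (DI_cent h ht).2 (Or.inr ⟨_, _, _, h⟩) hG ht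

theorem alt_of_klein (ht : orderOf t = 2) (h : IsKleinFour (centralizer {t} : Subgroup G)) (hS : Syl 2 (centralizer {t} : Subgroup G) ⊤)
    (o : H1.Od (centralizer {t} : Subgroup G)) : Nonempty (G ≃* alternatingGroup (Fin 5)) ∨ Nonempty (G ≃* alternatingGroup (Fin 4)) := by
  obtain ⟨S, e⟩ := hS.exists_sylow_top
  obtain ⟨F, _, _, d | d, ⟨f⟩⟩ := psl_of_cent (Or.inl h) hS ht fun u => H1.klein_sylow_conj S (e ▸ h) (e ▸ o) t u ht
  · exact Or.inl ⟨f.trans (Cfsg.Agent.S0253.result (d.trans (by rw [h.card_four]))).some⟩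
  · exact Or.inr ⟨f.trans (Cfsg.Agent.S0251.result (by rw [h.card_four] at d; omega)).some⟩

theorem perm_of_index {n : ℕ} (h : K.normalCore = ⊥) (hi : K.index = n) (hG : Nat.card G = n.factorial) :
    Nonempty (G ≃* Equiv.Perm (Fin n)) :=
  H5.perm_of_injective (MulAction.toPermHom G (G ⧸ K)) (by rwa [← MonoidHom.ker_eq_bot_iff, ← normalCore_eq_ker]) hi hG

theorem s45 {H : Subgroup G} (ht : orderOf t = 2) (hS : Syl 2 (centralizer {t} : Subgroup G) ⊤)
    (c : Nat.card (centralizer {t} : Subgroup G) = 8) (hi : H.index = 2) (hH : ∀ M : Subgroup H, M.index ≠ 2) (tH : t ∈ H)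
    (hk : IsKleinFour (H ⊓ centralizer {t} : Subgroup G))
    (hV : centralizer {t} ⊓ centralizer ((H ⊓ centralizer {t} : Subgroup G) : Set G) ≤ H) :
    Nonempty (G ≃* Equiv.Perm (Fin 4)) ∨ Nonempty (G ≃* Equiv.Perm (Fin 5)) := by
  have := normal_of_index_eq_two hi
  have e : (centralizer {(⟨t, tH⟩ : H)}).map H.subtype = H ⊓ centralizer {t} := by
    rw [← centralizer_zpowers, map_centralizer_subtype, MonoidHom.map_zpowers, centralizer_zpowers]; rfl
  have k : IsKleinFour (centralizer {(⟨t, tH⟩ : H)}) := H1.isKleinFour_of (by rw [← card_map_subtype, e, hk.card_four]) fun x hx =>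
    Subtype.ext (H1.klein_sq hk (e.le (mem_map_of_mem _ hx)))
  have s : Syl 2 (centralizer {(⟨t, tH⟩ : H)}) ⊤ := by
    have := (hS.inf_normal le_top (top_le_normalizer H)).subgroupOf le_rfl
    rwa [inf_comm, ← e, subgroupOf_map_subtype', subgroupOf_self] at this
  obtain ⟨S, eS⟩ := s.exists_sylow_top
  have o : H1.Od (centralizer {(⟨t, tH⟩ : H)}) := eS ▸ H1.klein_sylow_od S (eS ▸ k) hH
  have ot : orderOf (⟨t, tH⟩ : H) = 2 := by rwa [← orderOf_coe]
  have cG := H.card_mul_index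
  have hz : ∀ w, H ≤ centralizer {w} → w ∈ H := fun w hw => hV ⟨mem_centralizer_singleton_iff.2 (mem_centralizer_singleton_iff.1 (hw tH)).symm,
    fun y hy => mem_centralizer_singleton_iff.1 (hw hy.1)⟩
  obtain ⟨⟨f⟩⟩ | ⟨⟨f⟩⟩ := alt_of_klein ot k s o
  · rw [Nat.card_congr f.toEquiv, H5.KB.card_A5, hi] at cG
    have := f.isSimpleGroup
    set N := normalizer ((H ⊓ centralizer {t} : Subgroup G) : Set G)
    have hN : centralizer {t} ≤ N := normalizer_inf le_normalizer_of_normal le_normalizer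
    have n1 : ¬ H ≤ N := fun d => by
      rcases ((normal_subgroupOf_iff_le_normalizer inf_le_left).2 d).eq_bot_or_eq_top with d | d <;>
        have := card_subgroupOf (inf_le_left : H ⊓ centralizer {t} ≤ H) <;> rw [d, hk.card_four] at this
      · simp at this
      · rw [card_top, Nat.card_congr f.toEquiv, H5.KB.card_A5] at this; omega
    have n2 : N.normalCore = ⊥ := by
      have n3 : N.normalCore ⊓ H = ⊥ := subgroupOf_eq_bot.1 ((inferInstance : (N.normalCore.subgroupOf H).Normal).eq_bot_or_eq_top.resolve_right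
        fun d => n1 ((subgroupOf_eq_top.1 d).trans N.normalCore_le)) |>.eq_bot
      refine eq_bot_iff.2 fun w hw => n3.le ⟨hw, hz w fun y hy => mem_centralizer_singleton_iff.2 ?_⟩
      exact commutatorElement_eq_one_iff_mul_comm.1 (mem_bot.1 (n3.le (And.symm (commutator_le_inf _ _ (commutator_mem_commutator hy hw)))))
    have n5 := index_dvd_of_le hN
    have n6 := (centralizer {t}).card_mul_index
    have n7 : Nat.card G ∣ N.index.factorial := by
      have := card_dvd_of_injective (MulAction.toPermHom G (G ⧸ N)) (by rwa [← MonoidHom.ker_eq_bot_iff, ← normalCore_eq_ker])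
      rwa [Nat.card_perm] at this
    have n8 : N.index ≠ 15 := fun d => by
      obtain ⟨g, g1, g2, g3⟩ := o
      have : N = centralizer {t} := (eq_of_le_of_card_ge hN (by have := N.card_mul_index; rw [d] at this; omega)).symm
      have g4 : (g : G) ∈ N := by
        have := map_le_normalizer_map H.subtype le_rfl (mem_map_of_mem _ g1)
        rwa [e] at this
      rw [this] at g4
      have g5 := orderOf_dvd_card_of_mem g4
      rw [c, orderOf_coe] at g5
      rw [orderOf_eq_one_iff.1 (Nat.eq_one_of_dvd_coprimes (Nat.Coprime.pow_right 3 g2) dvd_rfl g5)] at g3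
      exact g3 (one_mem _)
    rw [c, ← cG] at n6
    rw [show (centralizer {t}).index = 15 by omega] at n5
    refine Or.inr (perm_of_index n2 ?_ cG.symm)
    have := Nat.le_of_dvd (by norm_num) n5
    rw [← cG] at n7
    interval_cases N.index <;> simp_all [Nat.factorial]
  · have cH : Nat.card H = 12 := by rw [Nat.card_congr f.toEquiv, H5.KB.card_A4]
    rw [cH, hi] at cG
    refine Or.inl (H5.S4_of_orders cG.symm fun g og => ?_)
    have u2 : orderOf (g ^ 3) = 2 := by rw [orderOf_pow' g (by norm_num), og]; rfl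
    have x3 : orderOf (g ^ 2) = 3 := by rw [orderOf_pow' g (by norm_num), og]; rfl
    have gc : g ^ 2 ∈ centralizer {g ^ 3} := mem_centralizer_singleton_iff.2 (pow_mul_comm ..)
    have uH : g ^ 3 ∉ H := fun d => by
      have a := card_centralizer_isConj (H.subtype.map_isConj (H1.klein_sylow_conj S (eS ▸ k) (eS ▸ o) _ ⟨_, d⟩ ot (by rwa [← orderOf_coe])))
      have := orderOf_dvd_card_of_mem gc
      rw [x3, show Nat.card (centralizer {g ^ 3}) = 8 from a.symm.trans c] at this; omega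
    obtain ⟨y, -, d⟩ := hS.exists_le_cj (isPGroup_zpowers_of_orderOf u2) le_top
    rw [cj_centralizer_singleton] at d
    have m1 := orderOf_dvd_card_of_mem (mem_inf.2 ⟨H.sq_mem_of_index_two hi g, gc⟩)
    have m2 := orderOf_dvd_card_of_mem (mem_inf.2 ⟨this.conj_mem t tH y, mem_centralizer_singleton_iff.2
      (mem_centralizer_singleton_iff.1 (d (mem_zpowers _))).symm⟩ : _ ∈ H ⊓ centralizer {g ^ 3})
    have m3 := relIndex_mul_card_inf (centralizer {g ^ 3}) H
    rw [inf_comm, cH] at m3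
    rw [x3] at m1
    rw [H1.orderOf_conj, ht] at m2
    obtain ⟨r, m⟩ := Nat.Coprime.mul_dvd_of_dvd_of_dvd (by norm_num) m1 m2
    have m4 := hH ((centralizer {g ^ 3}).subgroupOf H)
    refine uH (hz _ (relIndex_eq_one.1 ?_))
    rw [m] at m3
    change (centralizer {g ^ 3}).relIndex H ≠ 2 at m4
    have : (centralizer {g ^ 3}).relIndex H * r = 2 := by linarith
    exact ((Nat.dvd_prime Nat.prime_two).1 (Dvd.intro _ this)).resolve_right m4

theorem d8_main (ht : orderOf t = 2) (e : (centralizer {t} : Subgroup G) ≃* DihedralGroup 4) :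
    centralizer {t} ⊔ oddCore G = ⊤ ∨ (Nonempty (G ≃* Equiv.Perm (Fin 4)) ∨ Nonempty (G ≃* Equiv.Perm (Fin 5))) ∨
    Nonempty (G ≃* alternatingGroup (Fin 6)) ∨ ∃ (F : Type) (_ : Field F) (_ : Fintype F), Fintype.card F = 7 ∧ Nonempty (G ≃* H5.PSL2 F) := by
  obtain ⟨c, a, b, h⟩ := d8_cent e
  obtain ⟨z, s⟩ := DI_cent h ht
  obtain ⟨S, eS⟩ := s.exists_sylow_top
  have k : ∀ V : Subgroup G, V ≤ S → IsKleinFour V → H1.Od V → (S ⊓ pResidual 2 G : Subgroup G) ≤ V → t ∈ V →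
      Nonempty (G ≃* Equiv.Perm (Fin 4)) ∨ Nonempty (G ≃* Equiv.Perm (Fin 5)) := fun V h1 h2 h3 h4 h5 => by
    have h6 := H1.klein_od_le h2 h3 (le_refl (pResidual 2 G))
    have h7 : pResidual 2 G ⊓ centralizer {t} = V := by rw [← eS, inf_comm]; exact h4.antisymm (le_inf h1 h6)
    refine s45 ht s c ?_ H1.no_index_two_pResidual (h6 h5) (h7 ▸ h2) ?_
    · have := relIndex_mul_card h1
      rw [H1.index_pResidual S, inf_comm, eS, h7, ← eS]
      rw [h2.card_four, eS, c] at this; rw [eS]; omega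
    · rw [h7, h.cent_klein (eS ▸ h1) h2]; exact h6
  rw [← eS] at h
  have tz : ∀ X : Subgroup G, t ∈ zpowers (a ^ 2 ^ 1) ⊔ X := fun X => mem_sup_left (z ▸ mem_zpowers t)
  by_cases o1 : H1.Od (zpowers (a ^ 2 ^ 1) ⊔ zpowers b) <;> by_cases o2 : H1.Od (zpowers (a ^ 2 ^ 1) ⊔ zpowers (a * b))
  · exact Or.inr (Or.inr (psl_of_d8' ht e fun u => h.all_conj o1 o2 t u ht))
  · exact Or.inr (Or.inl (k _ (h.sup_le' h.hb _) h.klein1 o1 (h.hyp_le1 o2) (tz _)))
  · exact Or.inr (Or.inl (k _ (h.sup_le' h.ab_mem _) h.klein2 o2 (h.hyp_le2 o1) (tz _)))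
  · have := (npc_top_iff.2 (H1.hasNPC_of_not_od S fun R hR o => by
      obtain ⟨c, -, rfl | rfl⟩ := h.klein_cj hR (h.od_klein hR o)
      · exact o1 ((H1.od_cj c).1 o)
      · exact o2 ((H1.od_cj c).1 o))).eq_sup s
    exact Or.inl (by rwa [Op'_top, sup_comm] at this)

theorem comm_of_three (h : Nat.card {u : (centralizer {x} : Subgroup G) // orderOf u = 2} ≤ 3) (hR : IsKleinFour R)
    (hx : R ≤ centralizer {x}) (hu : u * x = x * u) (ou : orderOf u = 2) : u ∈ R := by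
  by_contra d
  obtain ⟨a, ha, b, hb, oa, ob, oc, ab, -, -⟩ := H1.klein_elems hR
  have := Fintype.ofFinite G
  have := Finset.card_le_univ ({⟨⟨a, hx ha⟩, (orderOf_coe _).symm.trans oa⟩, ⟨⟨b, hx hb⟩, (orderOf_coe _).symm.trans ob⟩,
    ⟨⟨_, hx (mul_mem ha hb)⟩, (orderOf_coe _).symm.trans oc⟩, ⟨⟨u, mem_centralizer_singleton_iff.2 hu⟩, (orderOf_coe _).symm.trans ou⟩} :
    Finset {u : (centralizer {x} : Subgroup G) // orderOf u = 2})
  have n : ∀ y ∈ R, y ≠ u := fun y hy e => d (e ▸ hy)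
  rw [Finset.card_eq_four.2 ⟨_, _, _, _, by simpa using ab, by simpa using H1.two_ne ob, by simpa using n a ha,
    by simpa using H1.two_ne oa, by simpa using n b hb, by simpa using n _ (mul_mem ha hb), rfl⟩, ← Nat.card_eq_fintype_card] at this
  omega

theorem three_cent (hG : ∀ H : Subgroup G, H.index ≠ 2) (hO : oddCore G = ⊥) (hZ : center G = ⊥) (hx : orderOf x = 2)
    (h : ∀ R : Subgroup G, IsKleinFour R → R ≤ centralizer {x} → ∀ u, u * x = x * u → orderOf u = 2 → u ∈ R) :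
    ∃ S, Syl 2 S ⊤ ∧ S ≤ centralizer {x} := by
  by_contra! hn
  obtain ⟨S, hS⟩ := exists_syl (p := 2) (⊤ : Subgroup G)
  have n : ∀ y, IsConj x y → ¬ S ≤ centralizer {y} := fun y c e => by
    obtain ⟨g, rfl⟩ := isConj_iff.1 c
    exact hn _ (hS.cj_of_mem (g := g⁻¹) (top_le_normalizer _ trivial)) (by rwa [cj_le_iff, inv_inv, cj_centralizer_singleton])
  have nm : ∀ n a b, ¬ H1.MC S n a b := fun m a b c => n _ (mc_conj c hS hG hx) fun y hy => mem_centralizer_singleton_iff.2 (c.z_comm hy)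
  obtain ⟨g, -, x1⟩ := hS.exists_cj_le (isPGroup_zpowers_of_orderOf hx) le_top
  replace x1 := x1 (conj_mem_cj (mem_zpowers x))
  have nc : ¬ IsMulCommutative S := fun c => n _ (isConj_iff.2 ⟨g, rfl⟩) fun y hy => mem_centralizer_singleton_iff.2 (H1.comm_of_mem c hy x1)
  have q : ∀ g, ∀ R : Subgroup G, IsKleinFour R → g * x * g⁻¹ ∈ centralizer (R : Set G) → ∀ u, u * (g * x * g⁻¹) = (g * x * g⁻¹) * u →
      orderOf u = 2 → u ∈ R := fun g R k c u d e => by
    have := h _ (H1.klein_cj k g⁻¹) (cj_le_iff.2 (by rwa [inv_inv, cj_centralizer_singleton, le_centralizer_singleton_iff]))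
      (g⁻¹ * u * g) (by rw [← mul_left_inj g⁻¹, ← mul_right_inj g]; simpa [mul_assoc] using d) ((H1.orderOf_conj' g u).trans e)
    simpa [H2.mem_cj, mul_assoc] using this
  obtain ⟨U, US, Un, Ue, Uc⟩ : ∃ U ≤ S, S ≤ normalizer (U : Set G) ∧ IsElementaryAbelian 2 U ∧ Nat.card U = 2 ^ 2 := by
    by_contra! c
    obtain c | ⟨-, m, a, b, c1, c2, c3, c4, c5, c6, c7⟩ := L.normal_rank_one hS.isP c
    · exact nc c.isMulCommutative
    · exact nm m a b ⟨c1, c2, c4, c6, c5, c3, c7⟩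
  have k : IsKleinFour U := H1.isKleinFour_of Uc fun y hy => by rw [← sq]; exact Ue.2 y hy
  have UU : U ≤ centralizer (U : Set G) := fun y hy w hw => H1.comm_of_mem Ue.1 hw hy
  have i : (S ⊓ centralizer (U : Set G)).relIndex S = 2 := by
    have a := L.relIndex_centralizer_le_pow hS.isP 2 US Un Uc
    have b : (centralizer (U : Set G)).relIndex S ≠ 1 := fun e => n _ (isConj_iff.2 ⟨g, rfl⟩) fun y hy => mem_centralizer_singleton_iff.2
      (relIndex_eq_one.1 e hy _ (q g U k (relIndex_eq_one.1 e x1) _ rfl ((H1.orderOf_conj g x).trans hx))).symm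
    have c : (centralizer (U : Set G)).relIndex S ≠ 0 := FiniteIndex.index_ne_zero
    rw [inf_relIndex_left]; simp at a; omega
  obtain ⟨g, u1, u2⟩ := thompson hS hG inf_le_left i hx
  replace q := q g U k u2
  have xu : IsConj x (g * x * g⁻¹) := isConj_iff.2 ⟨g, rfl⟩
  have ou := (H1.orderOf_conj g x).trans hx
  generalize g * x * g⁻¹ = u at u1 u2 q xu ou
  have uU := q u rfl ou
  obtain ⟨⟨z, zU, zS⟩, z1⟩ := ne_bot_iff_exists_ne_one.1 (inf_centralizer_ne_bot_of_p (hS.isP.to_le US) hS.isP Un fun e => by simp [e] at Uc)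
  replace z1 : z ≠ 1 := fun e => z1 (Subtype.ext e)
  have oz := H1.two_of (H1.klein_sq k zU) z1
  have zS' := le_centralizer_singleton_iff.2 zS
  have uz : u ≠ z := fun e => n u xu (e ▸ zS')
  have a1 : ∀ w ∈ S ⊓ centralizer (U : Set G), IsConj z w → w = z := fun w hw c => by
    have ow : orderOf w = 2 := by obtain ⟨g, rfl⟩ := isConj_iff.1 c; rwa [H1.orderOf_conj]
    have d : ¬ IsConj u z := fun d => n z (xu.trans d) zS'
    rcases H1.klein_mem k uU zU (H1.two_ne ou) z1 uz (q w (hw.2 u uU).symm ow) with e | e | e | e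
    · exact absurd e (H1.two_ne ow)
    · exact absurd (e ▸ c).symm d
    · exact e
    obtain ⟨s, s1, s2⟩ := SetLike.not_le_iff_exists.1 (n u xu)
    rcases H1.klein_mem k uU zU (H1.two_ne ou) z1 uz (conj_mem_of_le_normalizer Un s1 uU) with f | f | f | f
    · exact absurd (by simpa using f) (H1.two_ne ou)
    · exact absurd (mem_centralizer_singleton_iff.2 (mul_inv_eq_iff_eq_mul.1 f)) s2
    · exact absurd (isConj_iff.2 ⟨s, f⟩) d
    · exact absurd ((isConj_iff.2 ⟨s, f.trans e.symm⟩).trans c.symm) d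
  obtain ⟨g, g1, g2⟩ := zstar_conj hS hO oz (by simpa [hZ] using z1)
  have a2 : ∀ r ∈ (S ⊓ centralizer (U : Set G)) ⊓ (S ⊓ centralizer {g * z * g⁻¹}), r * r = 1 → r ∈ zpowers z := fun r hr e => by
    by_contra c
    rw [H1.mem_zpowers_two oz, not_or] at c
    refine g2 (a1 _ ((le_inf US UU) (q _ ?_ ((H1.orderOf_conj g z).trans oz))) (isConj_iff.2 ⟨g, rfl⟩))
    have d := mem_centralizer_singleton_iff.1 hr.2.2
    rcases H1.klein_mem k uU zU (H1.two_ne ou) z1 uz (q r (hr.1.2 u uU).symm (H1.two_of e c.1)) with f | f | f | f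
    · exact absurd f c.1
    · exact f ▸ d.symm
    · exact absurd f c.2
    · rwa [f, mul_assoc u, ← zS _ g1, ← mul_assoc, ← mul_assoc _ u, mul_left_inj, eq_comm] at d
  have a3 : ∀ v ∈ S ⊓ centralizer {g * z * g⁻¹}, v * v ≠ z := fun v hv e => by
    obtain ⟨c, c1, c2⟩ := (hS.mono zS' le_top).exists_cj_le (isPGroup_cj g⁻¹ (isPGroup_zpowers_of_mem hS.isP hv.1)) (by
      rw [cj_le_iff, inv_inv, cj_centralizer_singleton, zpowers_le]; exact hv.2)
    have c3 := c2 (conj_mem_cj (conj_mem_cj (mem_zpowers v)))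
    have c4 : _ * _ ∈ S ⊓ centralizer (U : Set G) := (mul_mem_iff_of_index_two i (a := ⟨_, c3⟩) (b := ⟨_, c3⟩)).2 Iff.rfl
    rw [conj_mul, conj_mul, e] at c4
    have c5 := (a1 _ c4 (isConj_iff.2 ⟨c * g⁻¹, by simp [mul_assoc]⟩)).trans (mul_inv_eq_iff_eq_mul.2 (mem_centralizer_singleton_iff.1 c1)).symm
    rw [mul_left_inj, mul_right_inj] at c5
    exact g2 (by nth_rw 1 [← c5]; simp [mul_assoc])
  have a4 : ∀ (m : ℕ), ∀ r ∈ (S ⊓ centralizer (U : Set G)) ⊓ (S ⊓ centralizer {g * z * g⁻¹}), r ^ 2 ^ m = 1 → r ∈ zpowers z := fun m => by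
    induction m with
    | zero => intro r _ e; rw [pow_zero, pow_one] at e; exact e ▸ one_mem _
    | succ m ih =>
      intro r c e
      exact a2 r c (((H1.mem_zpowers_two oz).1 (ih _ (mul_mem c c) (by rwa [← sq, ← pow_mul, ← pow_succ']))).resolve_right (a3 r c.2))
  have a5 := card_le_of_le (show (S ⊓ centralizer (U : Set G)) ⊓ (S ⊓ centralizer {g * z * g⁻¹}) ≤ zpowers z from fun r c => (hS.isP ⟨r, c.1.1⟩).elim fun m e => a4 m r c (congrArg Subtype.val e))
  have a6 := relIndex_mul_card_inf (S ⊓ centralizer (U : Set G)) (S ⊓ centralizer {g * z * g⁻¹})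
  have a7 := relIndex_le_of_le_right (H := S ⊓ centralizer (U : Set G)) (inf_le_left : S ⊓ centralizer {g * z * g⁻¹} ≤ S) (by omega)
  rw [Nat.card_zpowers, oz] at a5
  rcases mc_of_cent hS.isP g1 (by rw [← a6]; exact Nat.mul_le_mul (i ▸ a7) a5) with c | ⟨m, a, b, c⟩
  exacts [nc c, nm m a b c]

theorem three_conj (hO : oddCore G = ⊥) (hZ : center G = ⊥) (hx : orderOf x = 2) (hS : Syl 2 S ⊤) (hc : S ≤ centralizer {x})
    (h : ∀ R : Subgroup G, IsKleinFour R → R ≤ centralizer {x} → ∀ u, u * x = x * u → orderOf u = 2 → u ∈ R) (hu : orderOf u = 2) :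
    IsConj x u := by
  have nz : ∀ y : G, orderOf y = 2 → y ∉ center G := fun y c => by simpa [hZ] using H1.two_ne c
  obtain ⟨g, g1, g2⟩ := zstar_conj hS hO hx (nz x hx)
  have xy : IsConj x (g * x * g⁻¹) := isConj_iff.2 ⟨g, rfl⟩
  have oy := (H1.orderOf_conj g x).trans hx
  generalize g * x * g⁻¹ = y at g1 g2 xy oy
  have c : Commute x y := (mem_centralizer_singleton_iff.1 (hc g1)).symm
  have k : ∀ v ∈ S, orderOf v = 2 → v = x ∨ v = y ∨ v = x * y := fun v hv o => ((H1.mem_sup_two hx oy c).1 (h _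
    (H1.isKleinFour_sup hx oy g2.symm c) (sup_le (zpowers_le.2 (mem_centralizer_singleton_iff.2 rfl)) (zpowers_le.2 (hc g1))) v
    (mem_centralizer_singleton_iff.1 (hc hv)) o)).resolve_left (H1.two_ne o)
  obtain ⟨c, -, e⟩ := hS.exists_cj_le (isPGroup_zpowers_of_orderOf hu) le_top
  have o := (H1.orderOf_conj c u).trans hu
  refine IsConj.trans ?_ (isConj_iff.2 ⟨c, rfl⟩).symm
  rcases k _ (e (conj_mem_cj (mem_zpowers u))) o with e | e | e <;> rw [e]
  · exact xy
  rw [e] at o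
  obtain ⟨g, g1, g2⟩ := zstar_conj hS hO o (nz _ o)
  rcases k _ g1 ((H1.orderOf_conj g _).trans o) with e | e | e
  · exact (isConj_iff.2 ⟨g, e⟩).symm
  · exact xy.trans (isConj_iff.2 ⟨g, e⟩).symm
  · exact absurd e g2

theorem simple_facts [IsSimpleGroup G] (h : ¬ IsMulCommutative G) (hx : orderOf x = 2) :
    (∀ H : Subgroup G, H.index ≠ 2) ∧ oddCore G = ⊥ ∧ center G = ⊥ := by
  refine ⟨no_index_two (lt_of_not_ge fun e => h (isCyclic_of_card_le_orderOf x (hx ▸ e)).isMulCommutative),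
    (inferInstance : (oddCore G).Normal).eq_bot_or_eq_top.resolve_right fun e => ?_,
    (inferInstance : (center G).Normal).eq_bot_or_eq_top.resolve_right fun e => h ⟨⟨fun a b => mem_center_iff.1 (e.ge trivial) a⟩⟩⟩
  have := pPrimeCore_cop (G := G) 2
  rw [show pPrimeCore 2 G = ⊤ from e, card_top] at this
  exact absurd (this.coprime_dvd_left (hx ▸ orderOf_dvd_natCard x)) (by decide)

end H3
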