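import Cfsg.Agent.H3.Feit

/-!
H3.FeitS: the Feit-Sibley theorem without parity assumption on `L` (Peterfalvi, Appendix IV): `feit_sibley`.
-/

set_option autoImplicit false
open Cfsg Submodule
open scoped ComplexConjugate

namespace H3

variable {L G : Type*} [Group L] [Group G] {K H M N A D P Q S Z : Subgroup L} {j : L →* G}
variable [Fintype L] [Fintype G]

omit [Fintype L] in
/-- PF (6.7) when the elements of `Z^#` are non-real -/
theorem ti_congr2 [Finite L] (hj : Function.Injective j) [P.Normal] [hZ : Z.Normal]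
    (ho : ∀ z ∈ Z, IsConj z z⁻¹ → z = 1) (hcop : (Nat.card P).Coprime P.index) (hti : TIH j P) (hZP : Z ≤ P)
    (hc : ∀ z ∈ Z, ∀ y ∈ P, z * y = y * z) {ψ : G → ℂ} (hψ : IsIrrCharacter G ψ) {z : L} (hz : z ∈ Z)
    (h1 : z ≠ 1) (hk : ∀ w ∈ Z, w ≠ 1 → ψ (j w) = ψ (j z)) :
    ∃ n k : ℤ, ψ (j z) = n ∧ ψ 1 - n = Nat.card P * k := by
  classical
  have := Fintype.ofFinite L
  obtain ⟨n, hn⟩ := gen_int_of_pow (gen_comp (irr_gen hψ) j) z fun k h => hk _ (Z.pow_mem hz k) fun e =>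
    h1 (orderOf_eq_one_iff.mp (h.symm.eq_one_of_dvd (orderOf_dvd_of_pow_eq_one e)))
  obtain ⟨d, -, hd⟩ := irr_one_nat hψ
  let C := Finset.univ.filter (IsConj (j z))
  let A := (Finset.univ.filter (IsConj z)).map ⟨j, hj⟩
  let F : G × G → ℂ := fun q => ψ (q.1 * q.2⁻¹) - ψ (q.1 * q.2)
  have hAC : A ⊆ C := fun u hu => by
    obtain ⟨x, hx, rfl⟩ := Finset.mem_map.mp hu
    simpa [C] using j.map_isConj (Finset.mem_filter.mp hx).2
  have e1 : ∑ q ∈ C ×ˢ C, F q = 0 := by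
    rw [Finset.sum_product_right]
    refine Finset.sum_eq_zero fun v hv => mul_right_cancel₀ (irr_one_ne_zero hψ) ?_
    have := fun h => sum_class_mul_char hψ (class_classInd (j z)) h
    simp only [classInd, ite_mul, one_mul, zero_mul, ← Finset.sum_filter] at this
    have h2 := class_isConj (irr_class hψ) (Finset.mem_filter.mp hv).2
    simp only [F, C]
    rw [Finset.sum_sub_distrib, sub_mul, this, this, char_inv (irr_char hψ), ← h2, hn]
    simp
  have e2 : ∑ q ∈ A ×ˢ A, F q = A.card * (d - n) := by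
    rw [Finset.sum_product, ← nsmul_eq_mul, ← Finset.sum_const]
    refine Finset.sum_congr rfl fun u hu => ?_
    obtain ⟨x, hx, rfl⟩ := Finset.mem_map.mp hu
    have key : ∀ y, IsConj z y → y ∈ Z := fun y hy => by
      obtain ⟨c, rfl⟩ := isConj_iff.mp hy; exact hZ.conj_mem z hz c
    have h3 : ∀ y, IsConj z y → ψ (j x * j y) = n := fun y hy => by
      have hx := (Finset.mem_filter.mp hx).2
      rw [← map_mul, hk _ (mul_mem (key x hx) (key y hy)) fun e => h1 ?_, hn]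
      rw [eq_inv_of_mul_eq_one_right e] at hy
      exact isConj_one_left.mp (ho x (key x hx) (hx.symm.trans hy) ▸ hx)
    rw [Finset.sum_eq_single_of_mem _ hu fun v hv hne => ?_]
    · simp [F, hd, h3 x (Finset.mem_filter.mp hx).2]
    obtain ⟨y, hy, rfl⟩ := Finset.mem_map.mp hv
    have hy := (Finset.mem_filter.mp hy).2
    simp only [F, Function.Embedding.coeFn_mk, h3 y hy]
    rw [← map_inv, ← map_mul, hk _ (mul_mem (key x (Finset.mem_filter.mp hx).2) (inv_mem (key y hy)))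
      fun e => hne (by rw [mul_inv_eq_one.mp e]), hn, sub_self]
  have hfree : ∀ x ∈ P, x ≠ 1 → ∀ u ∈ C, j x * u * (j x)⁻¹ = u → u ∈ A := fun x hx h0 u hu e => by
    obtain ⟨y, rfl⟩ := hti u x hx h0 x hx (by rw [mul_inv_eq_iff_eq_mul] at e ⊢; exact e.symm)
    obtain ⟨g, hg⟩ := isConj_iff.mp (Finset.mem_filter.mp hu).2
    obtain ⟨c, rfl⟩ := hti g z (hZP hz) h1 y (mem_of_coprime_index hcop (by
      rw [← orderOf_injective j hj, ← hg, orderOf_conj', orderOf_injective j hj]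
      exact H9.orderOf_dvd_card_of_mem (hZP hz))) hg
    exact Finset.mem_map_of_mem _ (Finset.mem_filter.mpr ⟨by simp, isConj_iff.mpr ⟨c, hj (by simpa)⟩⟩)
  have hcj : ∀ (g : L) u, (j g * u * (j g)⁻¹ ∈ C ↔ u ∈ C) ∧ (j g * u * (j g)⁻¹ ∈ A → u ∈ A) := fun g u =>
    ⟨by
      have : IsConj u (j g * u * (j g)⁻¹) := isConj_iff.mpr ⟨_, rfl⟩
      simp only [C, Finset.mem_filter, Finset.mem_univ, true_and]
      exact ⟨fun h => h.trans this.symm, fun h => h.trans this⟩, fun h => by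
      obtain ⟨y, hy, e⟩ := Finset.mem_map.mp h
      refine Finset.mem_map.mpr ⟨g⁻¹ * y * g, Finset.mem_filter.mpr ⟨by simp,
        (Finset.mem_filter.mp hy).2.trans (isConj_iff.mpr ⟨g⁻¹, by simp⟩)⟩, ?_⟩
      simp only [Function.Embedding.coeFn_mk] at e ⊢
      simp [e, mul_assoc]⟩
  obtain ⟨ω, hω, e3⟩ := sum_mem_of_orbits (G := P) (intMul (Nat.card P))
    (fun g (q : G × G) => (j g * q.1 * (j g)⁻¹, j g * q.2 * (j g)⁻¹)) (by simp)
    (fun a b q => by simp [mul_assoc]) F (C ×ˢ C \ A ×ˢ A)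
    (fun g q hq => by
      simp only [Finset.mem_sdiff, Finset.mem_product] at hq ⊢
      exact ⟨⟨(hcj g _).1.mpr hq.1.1, (hcj g _).1.mpr hq.1.2⟩,
        fun h => hq.2 ⟨(hcj g _).2 h.1, (hcj g _).2 h.2⟩⟩)
    (fun g q _ => by
      simp only [F]
      rw [← irr_class hψ (q.1 * q.2⁻¹) (j g), ← irr_class hψ (q.1 * q.2) (j g)]
      congr 2 <;> group)
    (fun q hq T hT => by
      simp only [Finset.mem_sdiff, Finset.mem_product] at hq
      obtain rfl : T = ⊥ := eq_bot_iff.mpr fun x hx => by_contra fun h0 => by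
        have := Prod.ext_iff.mp ((hT x).mp hx)
        have h0 : (x : L) ≠ 1 := by simpa using h0
        exact hq.2 ⟨hfree x x.2 h0 _ hq.1.1 this.1, hfree x x.2 h0 _ hq.1.2 this.2⟩
      exact ⟨F q, (char_integral (irr_char hψ) _).sub (char_integral (irr_char hψ) _), by simp⟩)
  rw [← Finset.sum_sdiff (Finset.product_subset_product hAC hAC), e2, ← e3] at e1
  have h4 : (Nat.card P : ℤ) ∣ A.card * (d - n) := int_dvd_of_isIntegral_div
    (by exact_mod_cast Nat.card_pos.ne') (by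
      convert IsIntegral.neg hω using 1
      rw [div_eq_iff (by exact_mod_cast card_ne_zero' P)]
      simp only [AddMonoidHom.coe_mulLeft] at e1
      push_cast; linear_combination e1)
  have h5 : A.card ∣ P.index := by
    rw [Finset.card_map, ← Fintype.card_subtype, ← Nat.card_eq_fintype_card, card_class_eq_index]
    exact Subgroup.index_dvd_of_le fun y hy =>
      Subgroup.mem_centralizer_singleton_iff.mpr (hc z hz y hy).symm
  obtain ⟨k, hk⟩ := (Nat.isCoprime_iff_coprime.mpr (hcop.coprime_dvd_right h5)).dvd_of_dvd_mul_left h4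
  exact ⟨n, k, hn, by rw [hd]; exact_mod_cast hk⟩

omit [Fintype L] in
theorem ti_congr2' [Finite L] (hj : Function.Injective j) [P.Normal] [hZ : Z.Normal]
    (ho : ∀ z ∈ Z, IsConj z z⁻¹ → z = 1) (hcop : (Nat.card P).Coprime P.index) (hti : TIH j P) (hZP : Z ≤ P)
    (hc : ∀ z ∈ Z, ∀ y ∈ P, z * y = y * z) {ψ : G → ℂ} (hψ : SIrr G ψ) {z : L} (hz : z ∈ Z)
    (h1 : z ≠ 1) (hk : ∀ w ∈ Z, w ≠ 1 → ψ (j w) = ψ (j z)) :
    ∃ k : ℤ, ψ 1 - ψ (j z) = Nat.card P * k := by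
  rcases hψ with h | h
  · obtain ⟨n, k, a, b⟩ := ti_congr2 hj ho hcop hti hZP hc h hz h1 hk
    exact ⟨k, a ▸ b⟩
  · obtain ⟨n, k, a, b⟩ := ti_congr2 hj ho hcop hti hZP hc h hz h1 fun w a b => by simp [hk w a b]
    exact ⟨-k, by rw [← a] at b; simp only [Pi.neg_apply] at b; push_cast; linear_combination -b⟩

/-- coherence of `X ∪ Y` (PF (6.8.1) without parity assumptions) -/
theorem coh_union_A (hj : Function.Injective j) [H.Normal] [Z.Normal] (ho : ∀ z ∈ Z, IsConj z z⁻¹ → z = 1)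
    (hcop : (Nat.card H).Coprime H.index) (hti : TIH j H) (hZ : Z ≤ ⁅H, H⁆) (hc : ∀ z ∈ Z, ∀ y ∈ H, z * y = y * z)
    {Y : Set (L → ℂ)} (hY : ∀ χ ∈ Y, χ ∈ AI H ∧ Kr χ ⁅H, H⁆ ∧ IsIrrCharacter L χ) {η₁ η₂ : L → ℂ} (h1 : η₁ ∈ Y)
    (h1' : η₂ ∈ Y) (hn : η₂ ≠ η₁) (hX : ∀ χ ∈ SI H Z ⊥, IsIrrCharacter L χ)
    (t : ∃ a ∈ SI H Z ⊥, ∃ b ∈ SI H Z ⊥, a ≠ b) (hXc : Coh (SI H Z ⊥) (indH j)) :
    Coh (SI H Z ⊥ ∪ Y) (indH j) := by
  obtain ⟨ν₂, h2⟩ := hXc
  have hZH := hZ.trans (Subgroup.commutator_le_self H)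
  have iso : IsoOn (SI H Z ⊥ ∪ Y) (indH j) :=
    (hti.isTau hj).isoOn_SI (fun _ a b => ⟨a, b⟩) fun χ a => a.elim (·.1) fun a => (hY χ a).1
  have dY := fun η b => SI.degree_der (hY η b).1 (hY η b).2.1
  have iY := fun η b => (hY η b).2.2
  obtain ⟨ν, hν⟩ := (iso.mono Set.subset_union_right).uniform iY fun a b c d => (dY a b).trans (dY c d).symm
  obtain ⟨χ₁, c1, -⟩ := id t
  obtain ⟨a, a0, ha⟩ := AI.degree c1.1
  have d1 := dY _ h1
  have n1 := AI.one_ne_zero c1.1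
  have dj : ∀ χ ∈ SI H Z ⊥, χ ∉ Y := fun χ b c => b.2.1 ((hY χ c).2.1.mono hZ)
  have o : ∀ χ ∈ SI H Z ⊥, ∀ η ∈ Y, classInner (indH j (χ - (χ 1 / χ₁ 1) • χ₁)) (ν η) = 0 := fun χ b η c => by
    have hm : χ - (χ 1 / χ₁ 1) • χ₁ ∈ span ℂ (SI H Z ⊥) :=
      sub_mem (subset_span b) (smul_mem _ _ (subset_span c1))
    rw [← h2.agree _ hm (by simp [n1])]
    exact inner_span_zero (fun χ b => orth_of_disjoint iso (fun χ a => a.elim (hX χ) (iY χ)) Set.subset_union_left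
      Set.subset_union_right (Set.disjoint_left.2 dj) t ⟨_, h1', _, h1, hn⟩ h2 hν b c) hm
  have g1 := gen_comp (hν.gen _ h1) j
  obtain ⟨c, hc1⟩ := inner_gen_int (irr_gen (hX _ c1)) g1
  obtain ⟨m, hm⟩ := inner_gen_int (irr_gen (iY _ h1)) g1
  have key : ∀ z ∈ Z, z ≠ 1 → ν η₁ (j 1) - ν η₁ (j z) = c / χ₁ 1 * Nat.card L := fun z hz hz1 => by
    have e1 := class_apply_eq_sum (gen_class g1)
    rw [e1 1, e1 z, ← Finset.sum_sub_distrib, ← sub_zero (Nat.card L : ℂ), ← sum_degree_mul hz1,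
      ← sum_sq_degree, ← Finset.sum_sub_distrib, Finset.mul_sum]
    refine Finset.sum_congr rfl fun χ _ => ?_
    by_cases hk : Kr χ.1 Z
    · simp [hk z hz, sq]
    have := o χ (SI_eq_irr hZH hX ▸ ⟨χ.2, hk⟩) _ h1
    rw [inner_indH_left _ _ (gen_class (hν.gen _ h1)), inner_sub_left, inner_smul_left, hc1,
      sub_eq_zero, ← inner_gen_symm g1 (irr_gen χ.2)] at this
    rw [this]; ring
  obtain ⟨z, hz, hz1⟩ := not_kr.mp c1.2.1
  have hz1 : z ≠ 1 := fun e => hz1 (by rw [e])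
  obtain ⟨k, hk⟩ := ti_congr2' hj ho hcop hti hZH hc (hν.sirr h1 (iY _ h1)) hz hz1 fun w b b' =>
    sub_right_injective ((key w b b').trans (key z hz hz1).symm)
  have e2 : (c : ℂ) = a * k := by
    have := key z hz hz1
    rw [map_one, hk, ha, ← H.index_mul_card] at this
    have h3 : (H.index : ℂ) ≠ 0 := by exact_mod_cast H.index_ne_zero_of_finite
    have h4 := card_ne_zero' H
    have h5 : (a : ℂ) ≠ 0 := by exact_mod_cast a0.ne'
    push_cast at this
    field_simp at this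
    linear_combination -this
  obtain ⟨ε, η, b1, b2, b3, b4⟩ := exists_anchor (hti.isTau hj) (fun χ b => (hY χ b).1) iY h1 h1' hn
    (fun η b => (dY η b).trans d1.symm) hν (AI.cls c1.1)
    (AI.supp c1.1) (fun η b => AI.orth c1.1 (hY η b).1 fun e => dj _ c1 (e ▸ b)) (a := a)
    (by rw [ha, d1, mul_comm]) (by
      have : a ≠ 1 := fun e => c1.2.1 ((AI.kr_der c1.1 (by simp [ha, e])).mono hZ)
      rw [SIrr.nsq (Or.inl (hX _ c1))]
      exact_mod_cast Nat.one_lt_pow two_ne_zero (by omega)) (k := k - m) (by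
      rw [inner_indH_left _ _ (gen_class (hν.gen _ h1)), inner_sub_left, inner_smul_left, hc1, hm, e2]
      push_cast; ring)
  refine ⟨_, (coh_of_anchor iso (Or.inr h1) (AI.one_ne_zero (hY _ h1).1) b2.gen
    (b2.inner_self.trans (irr_inner_self (iY _ h1)).symm) ?_).choose_spec.1⟩
  rintro χ (b | b)
  · obtain ⟨r, -, hr⟩ := AI.degree b.1
    refine ⟨r, by rw [hr, d1, mul_comm], ?_⟩
    have e3 : χ 1 / χ₁ 1 * a = r := by rw [div_mul_eq_mul_div, div_eq_iff n1, hr, ha]; ring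
    rw [inner_sub_left χ, inner_smul_left, irr_inner_self (iY _ h1), AI.orth b.1 (hY _ h1).1 fun e => dj _ b (e ▸ h1),
      show χ - (r : ℂ) • η₁ = (χ - (χ 1 / χ₁ 1) • χ₁) + (χ 1 / χ₁ 1) • (χ₁ - (a : ℂ) • η₁) by
        rw [← e3, mul_smul, smul_sub]; ring, map_add, map_smul, inner_add_left, inner_smul_left, b3,
      inner_smul_right, o χ b η b1, ← e3]
    ring
  · exact ⟨1, by simp [dY _ b, d1], by simpa using b4 χ b⟩

/-- coherence when all degrees are `e p ^ a` -/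
theorem coh_pdeg {τ : (L → ℂ) →ₗ[ℂ] (G → ℂ)} [K.Normal] [Z.Normal] [M.Normal] (h : IsoOn (SI K Z M) τ)
    (hi : ∀ χ ∈ SI K Z M, IsIrrCharacter L χ) {p k : ℕ} (hp : p.Prime) (h2 : p ≠ 2) (he : K.index.Coprime p)
    (hZ : Z ≤ K) (hM : M ≤ K) (hk : p ^ k ∣ (Z ⊔ M).relIndex K)
    (hd : ∀ χ ∈ SI K Z M, ∃ a : ℕ, χ 1 = (K.index * p ^ a : ℕ) ∧ a * 2 ≤ k) : Coh (SI K Z M) τ := by
  classical
  by_contra hn
  choose! a ha ha' using hd
  obtain ⟨χ₁, h1, m1⟩ := Set.exists_min_image _ a (SI_finite K Z M)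
    (Set.nonempty_iff_ne_empty.mpr fun e => hn (e ▸ coh_empty))
  obtain ⟨T, b, c, f, g⟩ := h.bound hi (SI_finite K Z M) (Set.sep_subset _ fun χ => χ 1 = χ₁ 1)
    ((h.mono (Set.sep_subset _ _)).uniform (fun χ e => hi χ e.1) fun _ u _ v => u.2.trans v.2.symm) hn
  obtain ⟨χ, ⟨h3, h4⟩, m⟩ := Set.exists_min_image (SI K Z M \ T) a ((SI_finite K Z M).subset Set.diff_subset) f
  have h5 : a χ₁ < a χ := (m1 χ h3).lt_of_ne fun e' => h4 (b ⟨h3, by rw [ha χ h3, ha χ₁ h1, e']⟩)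
  obtain ⟨r, hr⟩ := Nat.exists_eq_add_of_lt h5
  have hT : T ⊆ SIf K Z M := by simpa [← Finset.coe_subset]
  have s : ∀ U ⊆ SIf K Z M, ∑ φ ∈ U, (φ 1).re ^ 2 = ↑(∑ φ ∈ U, (K.index * p ^ a φ) ^ 2) := by
    intro U hU
    push_cast
    exact Finset.sum_congr rfl fun φ h => by rw [ha φ (mem_SIf.mp (hU h)), Complex.natCast_re]; simp
  refine (g χ h3 h4 χ₁ (b ⟨h1, rfl⟩) (p ^ (r + 1)) (by rw [ha χ h3, ha χ₁ h1, hr]; push_cast; ring)).not_gt ?_
  have h6 := sum_SI_sq hZ hM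
  rw [Finset.sum_congr rfl fun φ a => by rw [SIrr.nsq (Or.inl (hi φ (mem_SIf.mp a))), div_one],
    s _ le_rfl, ← Finset.sum_sdiff hT, eq_sub_iff_add_eq] at h6
  norm_cast at h6
  have h7 : (p ^ a χ) ^ 2 ∣ (Z ⊔ M).index := by
    rw [← pow_mul, ← Subgroup.relIndex_mul_index (sup_le hZ hM)]
    exact ((pow_dvd_pow p (ha' χ h3)).trans hk).mul_right _
  have h8 : (p ^ a χ) ^ 2 ∣ ∑ φ ∈ T, (K.index * p ^ a φ) ^ 2 :=
    (Nat.dvd_add_right (Finset.dvd_sum fun φ h => pow_dvd_pow_of_dvd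
      ((pow_dvd_pow p (m φ (by simpa using h))).mul_left _) 2)).mp
      ((Nat.dvd_add_left h7).mp (h6 ▸ h7.trans (Subgroup.index_dvd_of_le le_sup_right)))
  have e0 := Nat.pos_of_ne_zero K.index_ne_zero_of_finite
  have p0 := hp.pos
  have h9 := Nat.le_of_dvd (Finset.sum_pos (fun φ _ => by positivity) ⟨χ₁, b ⟨h1, rfl⟩⟩)
    (Nat.Coprime.mul_dvd_of_dvd_of_dvd ((he.pow_right _).pow 2 2)
      (Finset.dvd_sum fun φ _ => pow_dvd_pow_of_dvd (dvd_mul_right _ _) 2) h8)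
  rw [s T hT, ha χ h3, ha χ₁ h1, Complex.natCast_re, Complex.natCast_re]
  norm_cast
  refine lt_of_lt_of_le ?_ h9
  have : 3 ≤ p ^ (r + 1) := le_trans (by have := hp.two_le; omega) (Nat.le_self_pow (by simp) p)
  have h10 : 0 < K.index * p ^ a χ * (K.index * p ^ a χ₁) := by positivity
  calc _ < p ^ (r + 1) * (K.index * p ^ a χ * (K.index * p ^ a χ₁)) := by nlinarith
    _ = _ := by rw [hr]; ring

omit [Fintype L] in
theorem exists_projQ [S.Normal] (h : S ⊓ P = ⊥) (hQ : S ⊔ P = Q) : ∃ π : Q →* P,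
    (∀ (x : Q) (a : (x : L) ∈ P), π x = ⟨x, a⟩) ∧ ∀ x : Q, (x : L) ∈ S → π x = 1 := by
  have hf : Function.Injective ((QuotientGroup.mk' S).comp P.subtype) :=
    (injective_iff_map_eq_one _).2 fun x a => Subtype.ext
      (Subgroup.mem_bot.1 (h ▸ ⟨(QuotientGroup.eq_one_iff _).1 a, x.2⟩ : (x : L) ∈ (⊥ : Subgroup L)))
  have hr : ∀ x : Q, ((QuotientGroup.mk' S).comp Q.subtype) x ∈ ((QuotientGroup.mk' S).comp P.subtype).range := by
    rintro ⟨x, hx⟩
    obtain ⟨s, a, p, b, rfl⟩ := Subgroup.mem_sup_of_normal_left.1 (hQ ▸ hx : x ∈ S ⊔ P)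
    exact ⟨⟨p, b⟩, by simp [(QuotientGroup.eq_one_iff s).2 a]⟩
  refine ⟨(MonoidHom.ofInjective hf).symm.toMonoidHom.comp (MonoidHom.codRestrict _ _ hr), fun x a => ?_, fun x a => ?_⟩
  · exact (MonoidHom.ofInjective hf).symm_apply_eq.2 rfl
  · exact (MonoidHom.ofInjective hf).symm_apply_eq.2 (Subtype.ext (by simpa using a))

/-- the hypotheses of the Feit-Sibley theorem inside `L`: `Q = S × P` is a nilpotent normal Hall subgroup of odd index,
`P` has odd order and the elements outside `Q` act without fixed points on `P` -/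
structure FS (Q S P : Subgroup L) : Prop where
  nS : S.Normal
  nP : P.Normal
  sup : S ⊔ P = Q
  inf : S ⊓ P = ⊥
  nil : Group.IsNilpotent Q
  oddP : Odd (Nat.card P)
  odde : Odd Q.index
  cop : (Nat.card Q).Coprime Q.index
  fp : FP Q P

namespace FS
variable (h : FS Q S P)
include h

omit [Fintype L] in
theorem nQ : Q.Normal := have := h.nS; have := h.nP; h.sup ▸ inferInstance
omit [Fintype L] in
theorem SQ : S ≤ Q := h.sup ▸ le_sup_left
omit [Fintype L] in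
theorem PQ : P ≤ Q := h.sup ▸ le_sup_right
omit [Fintype L] in
theorem comm : ⁅S, P⁆ = ⊥ := have := h.nS; have := h.nP; le_bot_iff.1 ((Subgroup.commutator_le_inf S P).trans h.inf.le)
omit [Fintype L] in
theorem commS : ⁅S, Q⁆ ≤ ⁅S, S⁆ := by
  have := h.nS
  rw [Subgroup.commutator_comm, ← h.sup]
  exact H9.commutator_sup_le (le_normalizer_of_normal' _ _) (le_normalizer_of_normal' _ _) le_rfl
    (by rw [Subgroup.commutator_comm, h.comm]; exact bot_le)
omit [Fintype L] in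
theorem commP : ⁅P, Q⁆ ≤ ⁅P, P⁆ := by
  have := h.nP
  rw [Subgroup.commutator_comm, ← h.sup]
  exact H9.commutator_sup_le (le_normalizer_of_normal' _ _) (le_normalizer_of_normal' _ _)
    (by rw [h.comm]; exact bot_le) le_rfl
omit [Fintype L] in
theorem mem_of_sq [Finite L] {g : L} (a : g * g ∈ Q) : g ∈ Q := by
  have := h.nQ
  exact (QuotientGroup.eq_one_iff g).1 (Subgroup.mem_bot.1 (mem_of_sq_mem (L := L ⧸ Q) h.odde
    (Subgroup.mem_bot.2 ((QuotientGroup.eq_one_iff _).2 a))))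

omit [Fintype L] in
theorem le_inertia {φ : P → ℂ} (b : IsClassFunction P φ) : have := h.nP; Q ≤ inertia P φ :=
  have := h.nP
  h.sup.ge.trans (sup_le (fun s u => (mem_inertia' P).2 fun n => by
    simp [(Subgroup.commutator_eq_bot_iff_le_centralizer.1 h.comm u n n.2).symm]) (H3.le_inertia P b))

theorem exists_res {θ : Q → ℂ} (a : IsIrrCharacter Q θ) :
    ∃ φ, IsIrrCharacter P φ ∧ ∃ m : ℕ, 0 < m ∧ ∀ n : P, θ ⟨n, h.PQ n.2⟩ = m * φ n := by
  have := h.nP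
  have := Fintype.ofFinite P
  obtain ⟨φ, b, c⟩ := exists_irr_inner_ne_zero (char_class (char_restrict_le P h.PQ (irr_char a)))
    fun e => irr_one_ne_zero a (congrFun e 1)
  obtain ⟨m, d, -, e⟩ := clifford_inertia P h.PQ b (h.le_inertia (irr_class b)) a c
  exact ⟨φ, b, m, d, e⟩

theorem inertia_le {φ : P → ℂ} (a : IsIrrCharacter P φ) (b : φ ≠ fun _ => 1) : have := h.nP; inertia P φ ≤ Q :=
  have := h.nP
  fun g c => by_contra fun d => not_mem_inertia_of_class P (fun n e m f k => by_contra fun l => d (by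
    simpa [h.PQ f, Q.mul_mem_cancel_left] using h.fp n e l (m⁻¹ * g) (by
      rw [show m⁻¹ * g * n = m⁻¹ * (g * n * g⁻¹) * g by group, k]; group))) a b c

theorem exists_res' {χ : L → ℂ} (a : χ ∈ SI Q P ⊥) : ∃ θ φ, IsIrrCharacter Q θ ∧ χ = indFun Q θ ∧
    IsIrrCharacter P φ ∧ φ ≠ (fun _ => 1) ∧ ∃ m : ℂ, m ≠ 0 ∧ conj m = m ∧ ∀ n : P, θ ⟨n, h.PQ n.2⟩ = m * φ n := by
  have := h.nP; have := h.nQ
  obtain ⟨⟨θ, b, rfl⟩, c, -⟩ := a
  obtain ⟨φ, d, m, e, f⟩ := h.exists_res b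
  exact ⟨θ, φ, b, rfl, d, fun g => c ((kr_ind_iff h.PQ b).2 fun x u => (f ⟨x, u⟩).trans (by rw [g]; exact (g ▸ f 1 :).symm)),
    m, by exact_mod_cast e.ne', by simp, f⟩

theorem irr {χ : L → ℂ} (a : χ ∈ SI Q P ⊥) : IsIrrCharacter L χ := by
  have := h.nP; have := h.nQ
  obtain ⟨θ, φ, b, rfl, c, d, m, e, -, f⟩ := h.exists_res' a
  exact irr_indFun_of_inertia Q b fun g u => h.inertia_le c d ((mem_inertia' P).2 fun n =>
    mul_left_cancel₀ e (by rw [← f, ← f]; exact (mem_inertia' Q).1 u ⟨n, _⟩))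

theorem conj_ne {χ : L → ℂ} (a : χ ∈ SI Q P ⊥) : conjFun χ ≠ χ := fun e => by
  have := h.nP; have := h.nQ
  obtain ⟨θ, φ, b, rfl, c, d, m, m0, m1, f⟩ := h.exists_res' a
  rw [conjFun_eq_gal, gal_indFun] at e
  obtain ⟨g, hg⟩ : ∃ g, H3.gal (starRingEnd ℂ) θ = cj Q θ g := by
    by_contra hn
    have := inner_indFun_normal_eq_zero Q b (irr_conj b) hn
    exact AI.ne_zero ⟨θ, b, rfl⟩ (inner_self_eq_zero (by convert this using 2; exact e.symm))
  have hφ : H3.gal (starRingEnd ℂ) φ = cj P φ g := funext fun n => mul_left_cancel₀ m0 (by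
    have := congrFun hg ⟨n, h.PQ n.2⟩
    simp only [gal, f, map_mul, m1] at this
    exact this.trans (f (cjAut P g n)))
  have h2 : g * g ∈ inertia P φ := by
    rw [mem_inertia, ← cj_cj, ← hφ]
    ext x
    simpa using congrArg conj (congrFun hφ x).symm
  exact irr_conj_ne_odd h.oddP c d (hφ.trans (h.le_inertia (irr_class c) (h.mem_of_sq (h.inertia_le c d h2))))

theorem exists_base [Z.Normal] (hZ : Z ≤ P) {ψ : L → ℂ} (a : ψ ∈ SI Q Z ⊥) {n : ℕ} (b : ψ 1 = Q.index * n) :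
    ∃ χ ∈ SI Q Z S, ∃ m r : ℕ, χ 1 = Q.index * m ∧ n = r * m := by
  have := h.nP; have := h.nQ; have := h.nS
  obtain ⟨⟨θ, c, rfl⟩, d, -⟩ := a
  obtain ⟨φ, e, r, -, f⟩ := h.exists_res c
  obtain ⟨π, p1, p2⟩ := exists_projQ h.inf h.sup
  have g := irr_comp_surj e π fun x => ⟨⟨x, h.PQ x.2⟩, p1 _ x.2⟩
  obtain ⟨m, -, k⟩ := irr_one_nat e
  refine ⟨indFun Q fun x => φ (π x), ⟨⟨_, g, rfl⟩, fun u => d ((kr_ind_iff (hZ.trans h.PQ) c).2 fun x v => ?_),
    (kr_ind_iff h.SQ g).2 fun x v => by simp [p2 x v]⟩, m, r, by simp [indFun_one, k], ?_⟩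
  · have := (kr_ind_iff (hZ.trans h.PQ) g).1 u x v
    simp only [p1 x (hZ v), map_one] at this
    exact (f ⟨x, hZ v⟩).trans (this ▸ (f 1).symm)
  · have := f 1
    rw [indFun_one, mul_right_inj' (by exact_mod_cast Q.index_ne_zero_of_finite)] at b
    exact_mod_cast b.symm.trans (k ▸ this)

omit [Fintype L] in
theorem not_le [Finite L] (h0 : S ≠ ⊥) : ¬ Q ≤ P ⊔ ⁅Q, Q⁆ :=
  have := h.nP; have := h.nil
  not_le_of_solvable inferInstance fun e => h0 (h.inf ▸ (inf_eq_left.2 (h.SQ.trans e)).symm)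

omit [Fintype L] in
theorem not_le' [Finite L] (h0 : P ≠ ⊥) : ¬ Q ≤ S ⊔ ⁅Q, Q⁆ :=
  have := h.nS; have := h.nil
  not_le_of_solvable inferInstance fun e => h0 (h.inf ▸ (inf_eq_right.2 (h.PQ.trans e)).symm)

variable {τ : (L → ℂ) →ₗ[ℂ] (G → ℂ)} (t : IsoOn (SI Q P ⊥) τ)
include t

/-- descent in `S` -/
theorem coh_of_derS (c : Coh (SI Q P ⁅S, S⁆) τ) : Coh (SI Q P ⊥) τ := by
  have := h.nP; have := h.nQ; have := h.nS
  by_contra hn
  have h0 : P ≠ ⊥ := fun e => hn (by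
    convert coh_empty (τ := τ); exact Set.eq_empty_of_forall_notMem fun χ a => a.2.1 (e ▸ kr_bot χ))
  have s := Subgroup.commutator_mono h.SQ h.SQ
  obtain ⟨A, _, a, b, n, d, d'⟩ := descent' t (fun _ => h.irr) h.PQ s bot_le (nilMod_of_nilpotent h.nil ⊥)
    (fun e => h.not_le' h0 (h.sup.ge.trans (sup_le_sup_left e _))) c hn
  have AS := b.trans (Subgroup.commutator_le_self S)
  set D := P ⊓ Subgroup.centralizer (Q : Set L)
  have d := d D (inf_le_left.trans h.PQ) (Subgroup.commutator_eq_bot_iff_le_centralizer.2 inf_le_right).le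
  have e1 := (h.fp.mono inf_le_left).le2 (M := A) (N := D) (inf_le_left.trans h.PQ) h.odde
    (h.oddP.of_dvd_nat (Subgroup.card_dvd_of_le inf_le_left)) fun u =>
      center_der_ne_bot h.nil h.PQ h0 (le_bot_iff.1 ((le_inf (u.trans AS) inf_le_left).trans h.inf.le))
  rw [← Subgroup.relIndex_sup_left] at e1
  have e2 := Subgroup.relIndex_mul_relIndex _ _ _ (le_sup_left (a := A)) (sup_le (AS.trans h.SQ) (inf_le_left.trans h.PQ : D ≤ Q))
  have e3 := Subgroup.relIndex_mul_relIndex _ _ _ (le_sup_left (a := A) (b := D))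
    (sup_le le_sup_right (inf_le_left.trans le_sup_left) : A ⊔ D ≤ P ⊔ A)
  have e4 := Subgroup.relIndex_mul_relIndex _ _ _ (le_sup_right (a := P)) (sup_le h.PQ (AS.trans h.SQ))
  have e5 : (P ⊔ A).relIndex Q ≠ 1 := fun u => h.not_le (a.trans_le AS).ne'
    ((Subgroup.relIndex_eq_one.1 u).trans (sup_le_sup_left (b.trans s) _))
  have e6 : (P ⊔ A).relIndex Q ≠ 0 := Subgroup.index_ne_zero_of_finite
  have e7 : (A ⊔ D).relIndex (P ⊔ A) ≠ 0 := Subgroup.index_ne_zero_of_finite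
  have e0 := Nat.pos_of_ne_zero Q.index_ne_zero_of_finite
  generalize A.relIndex (A ⊔ D) = v at *
  generalize (A ⊔ D).relIndex Q = w at *
  generalize (P ⊔ A).relIndex Q = y at *
  generalize A.relIndex (P ⊔ A) = u at *
  generalize Q.index = e at *
  obtain ⟨u, rfl⟩ : ∃ k, u = k + 1 := ⟨u - 1, by have : 0 < u := e3 ▸ Nat.mul_pos (by omega) (by omega); omega⟩
  have e8 : v ≤ u + 1 := e3 ▸ Nat.le_mul_of_pos_right _ (by omega)
  have f1 : u * y ≤ 2 * e * n := by nlinarith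
  have f2 : (2 * e + 1) * n ^ 2 ≤ (u + 1) * y := (Nat.mul_le_mul e1 d).trans (e2.trans e4.symm).le
  have f3 : y ≤ n := Nat.le_of_mul_le_mul_left ((Nat.mul_le_mul_right y (by omega : 2 * e ≤ u)).trans f1) (by omega)
  have : (2 * e + 1) * n ^ 2 ≤ (2 * e + 1) * n := by nlinarith
  have := Nat.le_of_mul_le_mul_left this (by omega)
  have : 2 ≤ n := by omega
  nlinarith

/-- reduction to the case where `P` is a non-abelian `p`-group -/
theorem pgroup (hn : ¬ Coh (SI Q P ⊥) τ) : ⁅P, P⁆ ≠ ⊥ ∧ ∃ p m : ℕ, p.Prime ∧ Nat.card P = p ^ m := by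
  have := h.nP; have := h.nQ; have := h.nS
  have h0 : P ≠ ⊥ := fun e => hn (by
    convert coh_empty (τ := τ); exact Set.eq_empty_of_forall_notMem fun χ a => a.2.1 (e ▸ kr_bot χ))
  have k := Subgroup.commutator_le_self P
  obtain ⟨A, _, a, b, n, d, d'⟩ := descent' t (fun _ => h.irr) h.PQ le_rfl (Subgroup.commutator_mono h.SQ h.SQ)
    (nilMod_of_nilpotent h.nil _) (fun e => h.not_le' h0 (h.sup.ge.trans (sup_le_sup_left e _)))
    (coh_der' t (fun _ => h.irr) le_rfl) (mt (h.coh_of_derS t) hn)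
  have AQ := b.trans (Subgroup.commutator_le_self Q)
  have der : A ≤ ⁅S, S⁆ ⊔ ⁅P, P⁆ := b.trans ((Subgroup.commutator_mono h.sup.ge le_rfl).trans
    (H9.commutator_sup_le (le_normalizer_of_normal' _ _) (le_normalizer_of_normal' _ _) (h.commS.trans le_sup_left)
      (h.commP.trans le_sup_right)))
  refine ⟨fun e => a.not_ge (by simpa [e] using der), ?_⟩
  have e1 : (A ⊔ S).relIndex Q ≤ A.relIndex P := by
    rw [show Q = (A ⊔ S) ⊔ P from le_antisymm (h.sup.ge.trans (sup_le_sup_right le_sup_right _))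
      (sup_le (sup_le AQ h.SQ) h.PQ), Subgroup.relIndex_sup_left]
    exact relIndex_le_of_le le_sup_left P
  have e2 := Subgroup.relIndex_mul_relIndex _ _ _ (le_sup_right (a := P)) (sup_le h.PQ AQ)
  rw [Subgroup.relIndex_sup_right] at e2
  have e3 : ⁅P, P⁆.relIndex P ≤ A.relIndex P := by
    rw [← Subgroup.inf_relIndex_right A]
    refine relIndex_le_of_le (fun x u => ?_) P
    obtain ⟨s, v, y, w, rfl⟩ := Subgroup.mem_sup_of_normal_left.1 (der u.1)
    rwa [Subgroup.mem_bot.1 (h.inf.le ⟨Subgroup.commutator_le_self S v, (P.mul_mem_cancel_right (k w)).1 u.2⟩), one_mul]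
  have e4 : (P ⊔ A).relIndex Q ≠ 0 := Subgroup.index_ne_zero_of_finite
  have e0 := Nat.pos_of_ne_zero Q.index_ne_zero_of_finite
  have e5 : A.relIndex P ≤ 4 * Q.index ^ 2 + 1 := by
    have d := (d S h.SQ h.commS).trans e1
    obtain ⟨y, hy⟩ := Nat.exists_eq_succ_of_ne_zero e4
    have : A.relIndex P ≤ 1 + 2 * Q.index * n := by
      rcases Nat.eq_zero_or_pos (A.relIndex P) with e | e
      · omega
      · rw [← e2, hy] at d'; nlinarith [Nat.mul_le_mul_right y e]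
    by_contra! e
    have : 2 * Q.index < n := by nlinarith
    nlinarith
  have := prime_pow_of_chief (nilMod_of_nilpotent (H9.isNilpotent_of_le h.nil h.PQ) ⊥) h0.bot_lt fun N _ u v =>
    by_contra fun w => by
      rw [sup_bot_eq] at u
      have f1 := (h.fp.mono v).le2 (v.trans h.PQ) h.odde (h.oddP.of_dvd_nat (Subgroup.card_dvd_of_le v)) u.not_ge
      have f2 := h.fp.le2 (M := N) h.PQ h.odde h.oddP fun e => w (v.antisymm e)
      have f3 := (Nat.mul_le_mul f1 f2).trans ((Subgroup.relIndex_mul_relIndex _ _ _ u.le v).le.trans (e3.trans e5))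
      nlinarith
  rwa [Subgroup.relIndex_bot_left] at this

/-- coherence of the characters non-trivial on a central subgroup -/
theorem coh_cent [Z.Normal] {p m : ℕ} (hp : p.Prime) (hm : Nat.card P = p ^ m) (h0 : Z ≠ ⊥) (hZ : Z ≤ P)
    (hd : Z ≤ ⁅Q, Q⁆) (hc : ⁅Z, Q⁆ = ⊥) : Coh (SI Q Z ⊥) τ := by
  have := h.nP; have := h.nQ; have := h.nS
  have ZQ := hZ.trans h.PQ
  have t' := t.mono (SI_mono hZ)
  have hi : ∀ χ ∈ SI Q Z ⊥, IsIrrCharacter L χ := fun _ a => h.irr (SI_mono hZ a)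
  have k := Subgroup.commutator_le_self S
  have cm : ⁅Z ⊔ S, Q⁆ ≤ ⁅S, S⁆ := H9.commutator_sup_le (le_normalizer_of_normal' _ _) (le_normalizer_of_normal' _ _)
    (hc.le.trans bot_le) h.commS
  have pd : p ∣ Nat.card P := hm ▸ dvd_pow_self p fun e => h0 (le_bot_iff.1 (hZ.trans
    (Subgroup.card_eq_one.1 (by rw [hm, e, pow_zero])).le))
  obtain ⟨l, -, hl⟩ := (Nat.dvd_prime_pow hp).1 (show (Z ⊔ S).relIndex Q ∣ p ^ m by
    rw [show Q = (Z ⊔ S) ⊔ P from le_antisymm (h.sup.ge.trans (sup_le_sup_right le_sup_right _))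
      (sup_le (sup_le ZQ h.SQ) h.PQ), Subgroup.relIndex_sup_left, ← hm]
    exact Subgroup.relIndex_dvd_card _ _)
  have c1 : Coh (SI Q Z ⁅S, S⁆) τ := coh_pdeg (t'.mono (SI_anti bot_le)) (fun χ a => hi χ (SI_anti bot_le a)) hp
    (fun e => h.oddP.not_two_dvd_nat (e ▸ pd)) (h.cop.symm.coprime_dvd_right (pd.trans (Subgroup.card_dvd_of_le h.PQ)))
    ZQ (k.trans h.SQ) (hl ▸ Subgroup.relIndex_dvd_of_le_left Q (sup_le_sup_left k Z)) (by
      rintro _ ⟨⟨θ, a, rfl⟩, -, b⟩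
      obtain ⟨d, -, e⟩ := irr_one_nat a
      have : (Z ⊔ S).subgroupOf Q ≤ charCenter θ := fun g u => (mem_charCenter_iff_comm a g).2 fun x =>
        (mem_charKer (irr_char a) _).2 ((kr_ind_iff (k.trans h.SQ) a).1 b _
          (cm (Subgroup.commutator_comm_le _ _ (Subgroup.commutator_mem_commutator x.2 u))))
      obtain ⟨r, -, rfl⟩ := (Nat.dvd_prime_pow hp).1 ((degree_dvd_index_of_le_charCenter a e _ this).trans hl.dvd)
      exact ⟨r, by simp [indFun_one, e], (Nat.pow_le_pow_iff_right hp.one_lt).mp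
        (by rw [pow_mul]; exact (degree_sq_le_index a e _ this).trans hl.le)⟩)
  by_contra hn
  obtain ⟨A, _, a, b, ψ, c, n, d, e, f⟩ := descent t' hi ZQ (k.trans h.SQ) bot_le (nilMod_of_nilpotent h.nil ⊥) c1 hn
  obtain ⟨χ, g, m, r, u, v⟩ := h.exists_base hZ c d
  have AS := b.trans k
  have e1 := e Z ZQ hc.le
  have e2 := f χ (SI_anti AS g) m r u v
  have e3 := AI.degree_sq_le g.1 h.SQ (sup_le ZQ h.SQ) le_rfl
    (fun x u y v => k (cm (Subgroup.commutator_mem_commutator u v))) g.2.2 (d := Q.index * m) (by simp [u])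
  have e0 := Nat.pos_of_ne_zero Q.index_ne_zero_of_finite
  rw [mul_pow] at e3
  have e3 := Nat.le_of_mul_le_mul_left e3 (by positivity)
  have e4 := (h.fp.mono hZ).le2 (M := A) ZQ h.odde (h.oddP.of_dvd_nat (Subgroup.card_dvd_of_le hZ)) fun u =>
    h0 (le_bot_iff.1 ((le_inf (u.trans AS) hZ).trans h.inf.le))
  rw [← Subgroup.relIndex_sup_right] at e4
  have e5 := Subgroup.relIndex_mul_relIndex _ _ _ (le_sup_right (a := Z)) (sup_le ZQ (AS.trans h.SQ))
  have e6 := Subgroup.relIndex_mul_relIndex _ _ _ (sup_le_sup_left AS Z) (sup_le ZQ h.SQ)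
  have e7 : (Z ⊔ A).relIndex (Z ⊔ S) ≠ 1 := fun u => h.not_le (a.trans_le AS).ne' (h.sup.ge.trans (sup_le
    ((le_sup_right.trans (Subgroup.relIndex_eq_one.1 u)).trans ((sup_le hd
      (b.trans (Subgroup.commutator_mono h.SQ h.SQ))).trans le_sup_right)) le_sup_left))
  have e8 : (Z ⊔ A).relIndex Q ≠ 0 := Subgroup.index_ne_zero_of_finite
  rw [sup_comm] at e1
  generalize (Z ⊔ A).relIndex Q = w at *
  generalize (Z ⊔ S).relIndex Q = y at *
  have f1 : w ≤ n * m := Nat.le_of_mul_le_mul_left (c := 2 * Q.index) (by nlinarith [Nat.mul_le_mul_right w e4]) (by omega)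
  have f2 : w ≤ y := Nat.le_of_mul_le_mul_left (c := w) (by
    nlinarith [Nat.mul_le_mul e1 e3, Nat.mul_le_mul f1 f1]) (by omega)
  have : 2 ≤ (Z ⊔ A).relIndex (Z ⊔ S) := by
    have : (Z ⊔ A).relIndex (Z ⊔ S) ≠ 0 := Subgroup.index_ne_zero_of_finite
    omega
  nlinarith [Nat.mul_le_mul_right y this, Nat.pos_of_ne_zero e8]

omit t in
/-- The Feit-Sibley theorem (Peterfalvi, Appendix IV). -/
theorem coh (hj : Function.Injective j) (hti : TIH j Q) : Coh (SI Q P ⊥) (indH j) := by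
  have := h.nP; have := h.nQ; have := h.nS
  have t : IsoOn (SI Q P ⊥) (indH j) := (hti.isTau hj).isoOn_SI (fun _ a b => ⟨a, b⟩) fun _ a => a.1
  by_contra hn
  obtain ⟨a, p, m, hp, hm⟩ := h.pgroup t hn
  have k := Subgroup.commutator_le_self P
  have k' := Subgroup.commutator_mono h.PQ h.PQ
  have h0 : P ≠ ⊥ := fun e => a (by simp [e])
  have z0 := center_der_ne_bot h.nil (k.trans h.PQ) a
  set Z := ⁅P, P⁆ ⊓ Subgroup.centralizer (Q : Set L)
  have ZP : Z ≤ P := inf_le_left.trans k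
  have ZQ := ZP.trans h.PQ
  have hc : ∀ z ∈ Z, ∀ y ∈ Q, z * y = y * z := fun z a y b => (a.2 y b).symm
  have nl : ¬ P ≤ ⁅Q, Q⁆ := fun e => h.not_le' h0 (h.sup.ge.trans (sup_le_sup_left e _))
  obtain ⟨η, b⟩ := SI_nonempty h.PQ (Subgroup.commutator_le_self Q) nl
  obtain ⟨χ, c⟩ := SI_nonempty ZQ bot_le (mt le_bot_iff.1 z0)
  have c1 := coh_union_A (Y := SI Q P ⁅Q, Q⁆) hj (fun z u v => by_contra fun w => by
      obtain ⟨g, v⟩ := isConj_iff.1 v
      have := h.mem_of_sq (h.fp z (ZP u) w (g * g) (by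
        rw [← mul_inv_eq_iff_eq_mul, show g * g * z * (g * g)⁻¹ = g * (g * z * g⁻¹) * g⁻¹ by group, v,
          show g * z⁻¹ * g⁻¹ = (g * z * g⁻¹)⁻¹ by group, v, inv_inv]))
      rw [← hc z u g this, mul_inv_cancel_right] at v
      exact w (congrArg Subtype.val (eq_one_of_isConj_inv h.oddP (g := ⟨z, ZP u⟩) (isConj_iff.2 ⟨1, Subtype.ext (by simpa using v)⟩))))
    h.cop hti (inf_le_left.trans k') hc (fun χ u => ⟨u.1, u.2.2, h.irr (SI_anti bot_le u)⟩) b (SI.conj b)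
    (h.conj_ne (SI_anti bot_le b)) (fun _ u => h.irr (SI_mono ZP u)) ⟨_, SI.conj c, _, c, h.conj_ne (SI_mono ZP c)⟩
    (h.coh_cent t hp hm z0 ZP (inf_le_left.trans k') (Subgroup.commutator_eq_bot_iff_le_centralizer.2 inf_le_right))
  obtain ⟨ψ, d, -, n, e, f⟩ := bound_SI t (fun _ => h.irr) (fun _ u => u.1) ZQ bot_le
    (Set.union_subset (SI_mono ZP) (SI_anti bot_le)) Set.subset_union_left c1 hn
  have e1 := f η (Or.inr b) 1 n (by simp [SI.degree_der b.1 b.2.2]) (by simp)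
  have e2 := AI.degree_sq_le d.1 bot_le ZQ le_rfl (fun x u y v => by simp [hc x u y v]) d.2.2 (d := Q.index * n)
    (by simp [e])
  have e0 := Nat.pos_of_ne_zero Q.index_ne_zero_of_finite
  rw [mul_pow] at e2
  have e2 := Nat.le_of_mul_le_mul_left e2 (by positivity)
  have e3 := (h.fp.mono ZP).le2 (M := ⊥) ZQ h.odde (h.oddP.of_dvd_nat (Subgroup.card_dvd_of_le ZP)) (mt le_bot_iff.1 z0)
  have e4 := Subgroup.relIndex_mul_relIndex _ _ _ bot_le ZQ
  have e5 : Z.relIndex Q ≠ 1 := fun u => nl (h.PQ.trans ((Subgroup.relIndex_eq_one.1 u).trans (inf_le_left.trans k')))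
  have e6 : Z.relIndex Q ≠ 0 := Subgroup.index_ne_zero_of_finite
  rw [sup_bot_eq] at e1
  have f1 : Z.relIndex Q ≤ n := Nat.le_of_mul_le_mul_left (c := 2 * Q.index)
    (by nlinarith [Nat.mul_le_mul_right (Z.relIndex Q) e3]) (by omega)
  have : 2 ≤ n := by omega
  nlinarith

end FS

end H3
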