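import Cfsg.Agent.H3.CycTI
import Cfsg.Agent.H3.Clifford
import Cfsg.Agent.H3.Mackey
import Cfsg.Agent.H5.SL2Cl
import Cfsg.Prelude.Def_ParabolicCharacters
import Mathlib.NumberTheory.MulChar.Lemmas
import Mathlib.NumberTheory.MulChar.Duality

/-!
H3.G2a: principal series `ps α β` of `GL₂(F)`; general induction formulas
(`indFun_transv`, `indFun_comap_transv`, `indFun_isConj`, `indFun_cent`).
-/

set_option autoImplicit false
open Cfsg
open scoped ComplexConjugate

namespace H3

local notation "𝓘" => classInner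
local notation "Cls" => IsClassFunction
local notation "Char" => IsCharacter
local notation "Irr" => IsIrrCharacter
local notation "Gen" => IsGeneralizedCharacter

section
variable {G : Type*} [Group G]

theorem char_mhom (f : G →* ℂ) : Char G f := char_hom f.toHomUnits

theorem irr_mhom (f : G →* ℂ) : Irr G f := isIrr_hom f.toHomUnits

variable [Fintype G]

theorem indFun_transv (H : Subgroup G) {θ : H → ℂ} (hθ : Cls H θ) {ι : Type*} [Fintype ι] (r : ι → G)
    (h1 : ∀ g, ∃ i, (r i)⁻¹ * g ∈ H) (h2 : ∀ i j, (r i)⁻¹ * r j ∈ H → i = j) (g : G) :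
    indFun H θ g = ∑ i, extendByZero H θ ((r i)⁻¹ * g * r i) := by
  classical
  have hb : Function.Bijective (fun x : ι × H => r x.1 * x.2) := by
    constructor
    · rintro ⟨i, a⟩ ⟨j, b⟩ e
      simp only at e
      obtain rfl : i = j := h2 i j (by
        have : (r i)⁻¹ * r j = a * (b : G)⁻¹ := by
          rw [inv_mul_eq_iff_eq_mul, ← mul_assoc, e]; group
        rw [this]; exact H.mul_mem a.2 (H.inv_mem b.2))
      simpa using e
    · intro g
      obtain ⟨i, hi⟩ := h1 g
      exact ⟨⟨i, ⟨_, hi⟩⟩, by simp⟩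
  rw [indFun, ← hb.sum_comp, Fintype.sum_prod_type, Finset.mul_sum]
  refine Finset.sum_congr rfl fun i _ => ?_
  have : ∀ h : H, extendByZero H θ ((r i * h)⁻¹ * g * (r i * h)) = extendByZero H θ ((r i)⁻¹ * g * r i) :=
    fun h => by
      rw [← extendByZero_conj H hθ h.2 ((r i)⁻¹ * g * r i)]; congr 1; group
  simp only [this, Finset.sum_const, Finset.card_univ, nsmul_eq_mul, ← Nat.card_eq_fintype_card]
  rw [← mul_assoc, inv_mul_cancel₀ (card_ne_zero' H), one_mul]

theorem indFun_comap_transv {S : Type*} [Group S] [Fintype S] (j : S →* G) (H : Subgroup G) {θ : H → ℂ}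
    (hθ : Cls H θ) {ι : Type*} [Fintype ι] (r : ι → S)
    (h1 : ∀ g, ∃ i, (j (r i))⁻¹ * g ∈ H) (h2 : ∀ i k, (j (r i))⁻¹ * j (r k) ∈ H → i = k) (s : S) :
    indFun (H.comap j) (fun x => θ ⟨j x, x.2⟩) s = indFun H θ (j s) := by
  rw [indFun_transv H hθ (fun i => j (r i)) h1 h2]
  refine (indFun_transv (H.comap j) (class_comp hθ (j.subgroupComap H)) r
      (fun g => by simpa using h1 (j g)) (fun i k h => h2 i k (by simpa using h)) s).trans
    (Finset.sum_congr rfl fun i _ => ?_)
  have := extendByZero_comap j H θ ((r i)⁻¹ * s * r i)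
  simp only [map_mul, map_inv] at this
  exact this

open Classical in
theorem indFun_isConj (H : Subgroup G) [Fintype H] (θ : H → ℂ) (g : G) :
    indFun H θ g = (Nat.card (Subgroup.centralizer ({g} : Set G)) : ℂ) / Nat.card H *
      ∑ h : H, if IsConj g h then θ h else 0 := by
  have h1 : ∑ x : G, extendByZero H θ (x * g * x⁻¹) =
      ∑ y : G, extendByZero H θ y * ∑ x : G, if x * g * x⁻¹ = y then 1 else 0 := by
    simp only [Finset.mul_sum, mul_ite, mul_one, mul_zero]
    rw [Finset.sum_comm]; simp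
  rw [indFun_apply', h1, sum_extendByZero, div_eq_mul_inv, mul_comm (Nat.card _ : ℂ), mul_assoc]
  congr 1
  rw [Finset.mul_sum]
  refine Finset.sum_congr rfl fun h _ => ?_
  split_ifs with hc
  · obtain ⟨c, hc⟩ := isConj_iff.1 hc
    rw [mul_comm, Finset.sum_boole, Nat.card_eq_fintype_card, Fintype.card_subtype]
    congr 2
    refine Finset.card_bij (fun x _ => c⁻¹ * x) ?_ ?_ ?_
    · intro x hx
      simp only [Finset.mem_filter, Finset.mem_univ, true_and, Subgroup.mem_centralizer_singleton_iff] at hx ⊢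
      rw [← hc] at hx
      calc c⁻¹ * x * g = c⁻¹ * (x * g * x⁻¹) * x := by group
        _ = _ := by rw [hx]; group
    · intro x _ y _ e; simpa using e
    · intro x hx
      simp only [Finset.mem_filter, Finset.mem_univ, true_and, Subgroup.mem_centralizer_singleton_iff] at hx ⊢
      refine ⟨c * x, ?_, by group⟩
      rw [← hc]
      calc c * x * g * (c * x)⁻¹ = c * (x * g) * (c * x)⁻¹ := by group
        _ = _ := by rw [hx]; group
  · rw [Finset.sum_eq_zero, mul_zero, mul_zero]
    intro x _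
    rw [if_neg]; intro e; exact hc (isConj_iff.2 ⟨x, e⟩)

theorem indFun_cent (H : Subgroup G) (θ : H → ℂ) (z : H) (hz : ∀ x : G, x * z = z * x) :
    indFun H θ z = H.index * θ z := by
  rw [indFun_apply']
  simp only [hz, mul_inv_cancel_right, extendByZero_coe, Finset.sum_const, Finset.card_univ, nsmul_eq_mul,
    ← Nat.card_eq_fintype_card, ← H.index_mul_card]
  have := card_ne_zero' H
  push_cast; field_simp

/-- Completeness of a family of class functions by the norm trick. -/
theorem exists_inner_ne_of_reg {ι : Type*} (s : Finset ι) (f : ι → G → ℂ) (k : ℝ) (hk : k ≠ 0)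
    (h1 : (∑ i ∈ s, f i) 1 = k * Nat.card G)
    (h2 : 𝓘 (∑ i ∈ s, f i) (∑ i ∈ s, f i) = k ^ 2 * Nat.card G) {χ : G → ℂ} (hχ : Irr G χ) :
    ∃ i ∈ s, 𝓘 (f i) χ ≠ 0 := by
  by_contra h
  push Not at h
  have e : ∑ i ∈ s, f i = (k : ℂ) • regChar G := by
    rw [← sub_eq_zero]
    apply inner_self_eq_zero
    rw [inner_sub_left, inner_sub_right, inner_sub_right, h2, inner_smul_right, inner_smul_left, inner_smul_left,
      inner_smul_right, inner_regChar_right, inner_regChar_right, inner_regChar_left, h1, regChar_one]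
    simp; ring
  have := inner_sum_left s f χ
  rw [Finset.sum_eq_zero h, e, inner_smul_left, inner_regChar_left] at this
  simp [hk, irr_one_ne_zero hχ] at this

omit [Group G] [Fintype G] in
theorem card_two_to_one {A B : Type*} [Finite A] (f : A → B) (hf : Function.Surjective f) (σ : A → A)
    (hσ : ∀ a, σ a ≠ a) (h : ∀ a b, f a = f b ↔ b = a ∨ b = σ a) : Nat.card A = 2 * Nat.card B := by
  classical
  cases nonempty_fintype A
  have := Finite.of_surjective f hf
  cases nonempty_fintype B
  rw [Nat.card_eq_fintype_card, Nat.card_eq_fintype_card, ← Finset.card_univ,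
    Finset.card_eq_sum_card_fiberwise (f := f) (t := Finset.univ) (fun _ _ => Finset.mem_coe.2 (Finset.mem_univ _)),
    mul_comm, ← smul_eq_mul, ← Finset.card_univ, ← Finset.sum_const]
  refine Finset.sum_congr rfl fun b _ => ?_
  obtain ⟨a, rfl⟩ := hf b
  rw [← Finset.card_pair (hσ a).symm]
  congr 1; ext x
  simp only [Finset.mem_filter, Finset.mem_univ, true_and, Finset.mem_insert, Finset.mem_singleton]
  rw [eq_comm, h]

end

namespace G2
open H5

variable {F : Type*} [Field F]

/-- The Borel subgroup. -/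
abbrev B (F : Type*) [Field F] := upperTriangularGL 2 F

theorem mem_B {g : GL2 F} : g ∈ B F ↔ g.1 1 0 = 0 := by
  refine ⟨fun h => h (show (0 : Fin 2) < 1 by decide), fun h i j hij => ?_⟩
  fin_cases i <;> fin_cases j <;> simp at hij
  exact h

/-- The characteristic polynomial has a root. -/
def Rt (g : Matrix (Fin 2) (Fin 2) F) : Prop := ∃ c, c ^ 2 - g.trace * c + g.det = 0

theorem rt_of_tri {g : Matrix (Fin 2) (Fin 2) F} (h : g 1 0 = 0) : Rt g :=
  ⟨g 0 0, by rw [Matrix.trace_fin_two, Matrix.det_fin_two, h]; ring⟩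

theorem not_rt {g : Matrix (Fin 2) (Fin 2) F} (h : ∀ (c : F) (v : Fin 2 → F), v ≠ 0 → g.mulVec v ≠ c • v) :
    ¬ Rt g := fun ⟨c, hc⟩ => let ⟨v, hv, e⟩ := eigen_of_root hc; h c v hv e

theorem trace_cj (x g : GL2 F) : (x * g * x⁻¹).1.trace = g.1.trace := by
  rw [Units.val_mul, Units.val_mul, Matrix.trace_mul_cycle, ← Units.val_mul, inv_mul_cancel, Units.val_one, one_mul]

theorem det_cj (x g : GL2 F) : (x * g * x⁻¹).1.det = g.1.det := by
  rw [Units.val_mul, Units.val_mul, Matrix.det_mul, Matrix.det_mul, mul_right_comm, ← Matrix.det_mul,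
    ← Units.val_mul, mul_inv_cancel, Units.val_one, Matrix.det_one, one_mul]

theorem rt_cj (x g : GL2 F) : Rt (x * g * x⁻¹).1 ↔ Rt g.1 := by simp only [Rt, trace_cj, det_cj]

/-- Upper triangular matrix. -/
def bm (a d : Fˣ) (x : F) : GL2 F := gl2 a x 0 d (by simp)

@[simp] theorem bm_coe (a d : Fˣ) (x : F) : (bm a d x).1 = !![(a : F), x; 0, d] := rfl

theorem bm_mem (a d : Fˣ) (x : F) : bm a d x ∈ B F := mem_B.2 rfl

theorem exists_bm {g : GL2 F} (h : g.1 1 0 = 0) : ∃ a d x, g = bm a d x := by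
  obtain ⟨a, b, c, d, e, rfl⟩ := exists_gl2 g
  obtain rfl : c = 0 := h
  have e' : a * d ≠ 0 := by simpa using e
  exact ⟨Units.mk0 a (left_ne_zero_of_mul e'), Units.mk0 d (right_ne_zero_of_mul e'), b, rfl⟩

theorem bm_bij : Function.Bijective (fun p : Fˣ × Fˣ × F => (⟨bm p.1 p.2.1 p.2.2, bm_mem ..⟩ : B F)) := by
  constructor
  · rintro ⟨a, d, x⟩ ⟨a', d', x'⟩ e
    have e' : bm a d x = bm a' d' x' := congrArg Subtype.val e
    have := gl2_eq_iff.1 e'
    simp only [Units.val_inj] at this
    simp [this]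
  · rintro ⟨g, hg⟩
    obtain ⟨a, d, x, rfl⟩ := exists_bm (mem_B.1 hg)
    exact ⟨⟨a, d, x⟩, rfl⟩

/-- The linear character `α ⊗ β` of the Borel subgroup. -/
noncomputable def lam (α β : MulChar F ℂ) : B F →* ℂ where
  toFun b := α (b.1.1 0 0) * β (b.1.1 1 1)
  map_one' := by simp
  map_mul' x y := by
    have hx := mem_B.1 x.2
    have hy := mem_B.1 y.2
    simp only [Subgroup.coe_mul, Units.val_mul, Matrix.mul_apply, Fin.sum_univ_two, hx, hy, mul_zero, add_zero,
      zero_mul, zero_add, map_mul]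
    ring

/-- The linear character `α ∘ det`. -/
noncomputable def lin (α : MulChar F ℂ) : GL2 F →* ℂ where
  toFun g := α g.1.det
  map_one' := by simp
  map_mul' x y := by simp

theorem lin_apply (α : MulChar F ℂ) (g : GL2 F) : lin α g = α g.1.det := rfl

theorem lin_bm (α : MulChar F ℂ) (a d : Fˣ) (x : F) : lin α (bm a d x) = α a * α d := by
  simp [lin_apply, Matrix.det_fin_two]

/-- Coset representatives for the Borel subgroup. -/
def rr : Option F → SL2 F
  | none => 1
  | some t => sl2 t (-1) 1 0 (by simp)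

theorem rr_inv (t : F) : (toG (rr (some t)))⁻¹ = gl2 0 1 (-1) t (by simp) := by
  rw [inv_eq_iff_mul_eq_one, rr, toGL_sl2, gl2_mul, one_eq_gl2, gl2_eq_iff]; simp

theorem rr1 (g : GL2 F) : ∃ i, (toG (rr i))⁻¹ * g ∈ B F := by
  obtain ⟨a, b, c, d, e, rfl⟩ := exists_gl2 g
  by_cases h : c = 0
  · exact ⟨none, mem_B.2 (by simpa [rr] using h)⟩
  · refine ⟨some (a / c), mem_B.2 ?_⟩
    rw [rr_inv, gl2_mul]; simp [h]

theorem rr2 (i k : Option F) (h : (toG (rr i))⁻¹ * toG (rr k) ∈ B F) : i = k := by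
  rw [mem_B] at h
  rcases i with _ | s <;> rcases k with _ | t
  · rfl
  · simp [rr] at h
  · rw [rr_inv] at h; simp [rr] at h
  · rw [rr_inv, rr, toGL_sl2, gl2_mul] at h
    simp at h
    congr 1; linear_combination h

variable [Fintype F] [DecidableEq F]

local notation "q" => (Fintype.card F : ℂ)

theorem q_ne : q ≠ 0 := Nat.cast_ne_zero.2 Fintype.card_ne_zero

theorem q1_ne : q - 1 ≠ 0 := sub_ne_zero.2 (by exact_mod_cast Fintype.one_lt_card.ne')

theorem q1_ne' : q + 1 ≠ 0 := by exact_mod_cast Nat.succ_ne_zero (Fintype.card F)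

theorem card_units' : (Fintype.card Fˣ : ℂ) = q - 1 := by
  rw [Fintype.card_units, Nat.cast_sub Fintype.card_pos]; simp

theorem card_GL2 : (Nat.card (GL2 F) : ℂ) = q * (q - 1) ^ 2 * (q + 1) := by
  have h := Fintype.card_pos (α := F)
  rw [Matrix.card_GL_field, Fin.prod_univ_two, Nat.cast_mul,
    Nat.cast_sub (Nat.pow_le_pow_right h (by simp)), Nat.cast_sub (Nat.pow_le_pow_right h (by simp))]
  simp; ring

theorem card_SL2' : (Nat.card (SL2 F) : ℂ) = q * (q - 1) * (q + 1) := by
  rw [card_SL2, Nat.cast_mul, Nat.cast_mul, Nat.cast_sub Fintype.card_pos]; simp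

theorem card_B : (Nat.card (B F) : ℂ) = q * (q - 1) ^ 2 := by
  rw [← Nat.card_eq_of_bijective _ bm_bij, Nat.card_eq_fintype_card, Fintype.card_prod, Fintype.card_prod,
    Nat.cast_mul, Nat.cast_mul, card_units']; ring

theorem inner_B [Fintype (B F)] (f g : B F → ℂ) : 𝓘 f g = (q * (q - 1) ^ 2)⁻¹ *
    ∑ a : Fˣ, ∑ d : Fˣ, ∑ x : F, f ⟨bm a d x, bm_mem ..⟩ * conj (g ⟨bm a d x, bm_mem ..⟩) := by
  rw [classInner, card_B, ← bm_bij.sum_comp, Fintype.sum_prod_type]
  simp only [Fintype.sum_prod_type]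

theorem orth (α β : MulChar F ℂ) [Decidable (α = β)] :
    ∑ a : Fˣ, α a * conj (β a) = if α = β then q - 1 else 0 := by
  have := inner_hom α.toUnitHom β.toUnitHom
  rw [classInner, Nat.card_eq_fintype_card, card_units', inv_mul_eq_iff_eq_mul₀ q1_ne] at this
  simp only [MulChar.coe_toUnitHom] at this
  rw [this]
  have e : α.toUnitHom = β.toUnitHom ↔ α = β := MulChar.equivToUnitHom.injective.eq_iff
  simp only [e]; split_ifs <;> simp

noncomputable instance instFintypeMC : Fintype (MulChar F ℂ) :=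
  Fintype.ofEquiv _ MulChar.equivToUnitHom.symm

theorem card_mc : Nat.card (MulChar F ℂ) = Fintype.card F - 1 := by
  rw [Nat.card_congr MulChar.equivToUnitHom, card_hom_comm, Nat.card_eq_fintype_card, Fintype.card_units]

theorem card_mc' : (Fintype.card (MulChar F ℂ) : ℂ) = q - 1 := by
  rw [← Nat.card_eq_fintype_card, card_mc, Nat.cast_sub Fintype.card_pos]; simp

theorem sum_mc (a : Fˣ) : ∑ α : MulChar F ℂ, α a = if a = 1 then q - 1 else 0 := by
  split_ifs with h
  · simp [h, card_mc']
  · rw [← sum_hom (fun a b => mul_comm a b) h, ← MulChar.equivToUnitHom.sum_comp]; simp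

/-- Principal series. -/
noncomputable def ps (α β : MulChar F ℂ) : GL2 F → ℂ := indFun (B F) (lam α β)

theorem char_ps (α β : MulChar F ℂ) : Char _ (ps α β) := char_indFun _ (char_mhom _)

theorem class_ps (α β : MulChar F ℂ) : Cls _ (ps α β) := class_indFun _ _

theorem ps_not_rt (α β : MulChar F ℂ) {g : GL2 F} (h : ¬ Rt g.1) : ps α β g = 0 :=
  indFun_eq_zero_of_not_conj _ _ _ fun x hx => absurd ((rt_cj x g).1 (rt_of_tri (mem_B.1 hx))) h

/-- Number of fixed points on the affine line. -/
noncomputable def nf (a d : Fˣ) (x : F) : ℂ := if a = d then (if x = 0 then q else 0) else 1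

theorem conj_nf (a d : Fˣ) (x : F) : conj (nf a d x) = nf a d x := by unfold nf; split_ifs <;> simp

theorem sum_nf (a d : Fˣ) : ∑ x, nf a d x = q := by unfold nf; split_ifs <;> simp

theorem ps_bm (α β : MulChar F ℂ) (a d : Fˣ) (x : F) :
    ps α β (bm a d x) = α a * β d + nf a d x * (α d * β a) := by
  rw [ps, indFun_transv _ (char_class (char_mhom _)) _ rr1 rr2, Fintype.sum_option]
  congr 1
  · simp only [rr, map_one, inv_one, one_mul, mul_one]
    rw [extendByZero_of_mem _ _ (bm_mem ..)]; rfl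
  · have : ∀ t : F, extendByZero (B F) (lam α β) ((toG (rr (some t)))⁻¹ * bm a d x * toG (rr (some t))) =
        if t * (d - a) = x then α d * β a else 0 := by
      intro t
      rw [rr_inv, rr, toGL_sl2, bm, gl2_mul, gl2_mul]
      split_ifs with h
      · rw [extendByZero_of_mem _ _ (mem_B.2 (by simp; linear_combination h))]
        simp [lam]
      · exact extendByZero_of_not_mem _ _ fun h' => h (by
          have := mem_B.1 h'; simp at this; linear_combination this)
    simp only [this]
    unfold nf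
    split_ifs with h1 h2
    · simp [h1, h2]
    · simp [h1, Ne.symm h2]
    · have h : (d : F) - a ≠ 0 := sub_ne_zero.2 fun e => h1 (Units.val_inj.1 e).symm
      simp [← eq_div_iff h]

theorem bm_one : bm (1 : Fˣ) 1 0 = 1 := Units.ext (by simp [Matrix.one_fin_two])

theorem ps_one (α β : MulChar F ℂ) : ps α β 1 = q + 1 := by
  rw [← bm_one, ps_bm]; simp [nf, add_comm]

theorem inner_ps (α β : MulChar F ℂ) {f : GL2 F → ℂ} (hf : Cls _ f) : 𝓘 (ps α β) f = (q * (q - 1) ^ 2)⁻¹ *
    ∑ a : Fˣ, ∑ d : Fˣ, α a * β d * conj (∑ x : F, f (bm a d x)) := by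
  classical
  rw [ps, inner_indFun_left _ _ hf, inner_B]
  simp only [map_sum, Finset.mul_sum]; rfl

open Classical in
theorem inner_ps_ps (α β α' β' : MulChar F ℂ) : 𝓘 (ps α β) (ps α' β') =
    (if α = α' ∧ β = β' then 1 else 0) + if α = β' ∧ β = α' then 1 else 0 := by
  rw [inner_ps _ _ (class_ps _ _)]
  have : ∀ a d : Fˣ, α a * β d * conj (∑ x : F, ps α' β' (bm a d x)) =
      q * ((α a * conj (α' a)) * (β d * conj (β' d))) + q * ((α a * conj (β' a)) * (β d * conj (α' d))) := by
    intro a d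
    simp only [ps_bm, Finset.sum_add_distrib, ← Finset.sum_mul, sum_nf]
    simp; ring
  simp only [this, Finset.sum_add_distrib, ← Finset.mul_sum, ← Finset.sum_mul, orth]
  have := q_ne (F := F); have := q1_ne (F := F)
  split_ifs <;> simp_all <;> field_simp <;> norm_num

open Classical in
theorem inner_ps_lin (α β γ : MulChar F ℂ) : 𝓘 (ps α β) (lin γ) = if α = γ ∧ β = γ then 1 else 0 := by
  rw [inner_ps _ _ (char_class (char_mhom _))]
  have : ∀ a d : Fˣ, α a * β d * conj (∑ x : F, lin γ (bm a d x)) =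
      q * ((α a * conj (γ a)) * (β d * conj (γ d))) := by
    intro a d
    simp only [lin_bm]
    simp; ring
  simp only [this, ← Finset.mul_sum, ← Finset.sum_mul, orth]
  have := q_ne (F := F); have := q1_ne (F := F)
  split_ifs <;> simp_all <;> field_simp

theorem irr_ps {α β : MulChar F ℂ} (h : α ≠ β) : Irr _ (ps α β) :=
  isIrr_of_norm_one (char_ps _ _) (by simp [inner_ps_ps, h])

theorem ps_eq_iff {α β α' β' : MulChar F ℂ} : ps α β = ps α' β' ↔ (α = α' ∧ β = β') ∨ (α = β' ∧ β = α') := by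
  classical
  constructor
  · intro e
    by_contra h
    rw [not_or] at h
    have h1 := inner_ps_ps α β α' β'
    rw [← e, inner_ps_ps, if_neg h.1, if_neg h.2, if_pos ⟨rfl, rfl⟩] at h1
    split_ifs at h1 <;> norm_num at h1
  · rintro (⟨rfl, rfl⟩ | ⟨rfl, rfl⟩)
    · rfl
    · rw [← sub_eq_zero]; apply inner_self_eq_zero
      simp only [inner_sub_left, inner_sub_right, inner_ps_ps]
      by_cases h : α = β <;> simp [h, eq_comm]

theorem lin_mul_ps (γ α β : MulChar F ℂ) : ps α β * lin γ = ps (α * γ) (β * γ) := by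
  rw [ps, ← indFun_mul_restrict _ _ (char_class (char_mhom _)), ps]
  congr 1; ext ⟨g, hg⟩
  obtain ⟨a, d, x, rfl⟩ := exists_bm (mem_B.1 hg)
  simp [lin_bm, lam]; ring

theorem lin_inj : Function.Injective (fun α : MulChar F ℂ => (lin α : GL2 F → ℂ)) := fun α β e => by
  ext a
  simpa [lin_bm] using congrFun e (bm a 1 0)

/-- Twisted Steinberg character. -/
noncomputable def st (α : MulChar F ℂ) : GL2 F → ℂ := ps α α - lin α

theorem st_one (α : MulChar F ℂ) : st α 1 = q := by simp [st, ps_one]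

theorem st_bm (α : MulChar F ℂ) (a d : Fˣ) (x : F) : st α (bm a d x) = nf a d x * (α a * α d) := by
  simp [st, ps_bm, lin_bm, mul_comm]

theorem st_not_rt (α : MulChar F ℂ) {g : GL2 F} (h : ¬ Rt g.1) : st α g = -α g.1.det := by
  simp [st, ps_not_rt _ _ h, lin_apply]

open Classical in
theorem inner_lin (α β : MulChar F ℂ) : 𝓘 (lin α : GL2 F → ℂ) (lin β) = if α = β then 1 else 0 := by
  rw [irr_inner (irr_mhom _) (irr_mhom _)]; simp only [lin_inj.eq_iff]

open Classical in
theorem inner_st (α β : MulChar F ℂ) : 𝓘 (st α) (st β) = if α = β then 1 else 0 := by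
  simp only [st, inner_sub_left, inner_sub_right, inner_ps_ps, inner_ps_lin, inner_lin,
    inner_char_symm (char_mhom (lin α)) (char_ps β β)]
  by_cases h : α = β <;> simp [h, eq_comm]

theorem irr_st (α : MulChar F ℂ) : Irr _ (st α) :=
  isIrr_of_gen_norm_one (gen_sub (char_gen (char_ps _ _)) (char_gen (char_mhom _))) (by simp [inner_st])
    (by simp [st_one])

theorem st_inj : Function.Injective (st (F := F)) := fun α β e => by
  by_contra h
  have := inner_st α β
  rw [← e, inner_st] at this; simp [h] at this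

/-- Principal series of `SL₂`. -/
theorem ps_toG (α : MulChar F ℂ) : indFun ((B F).comap toG) (fun b => α ((b : SL2 F).1 0 0)) =
    fun s => ps α 1 (toG s) := by
  ext s
  rw [ps, ← indFun_comap_transv toG _ (char_class (char_mhom _)) _ rr1 rr2]
  congr 1; ext ⟨g, hg⟩
  have h := mem_B.1 hg
  have h1 := g.det_coe
  rw [Matrix.det_fin_two, show g.1 1 0 = 0 from h, mul_zero, sub_zero] at h1
  change _ = α (g.1 0 0) * (1 : MulChar F ℂ) (g.1 1 1)
  rw [MulChar.one_apply (IsUnit.of_mul_eq_one_right _ h1), mul_one]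

/-- Inner product of restrictions to `SL₂`. -/
theorem inner_res (f g : GL2 F → ℂ) :
    𝓘 (fun s => f (toG s)) (fun s => g (toG s)) = ∑ γ : MulChar F ℂ, 𝓘 f (g * lin γ) := by
  simp only [classInner, ← Finset.mul_sum]
  rw [Finset.sum_comm]
  have : ∀ x : GL2 F, ∑ γ : MulChar F ℂ, f x * conj ((g * lin γ) x) =
      (q - 1) * if x.1.det = 1 then f x * conj (g x) else 0 := by
    intro x
    have := sum_mc (Matrix.GeneralLinearGroup.det x)
    simp only [Matrix.GeneralLinearGroup.val_det_apply, ← Units.val_inj, Units.val_one] at this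
    simp only [Pi.mul_apply, map_mul, ← mul_assoc, ← Finset.mul_sum, ← map_sum, lin_apply, this]
    split_ifs <;> simp [mul_comm]
  simp only [this, ← Finset.mul_sum]
  rw [← Finset.sum_filter, Finset.sum_subtype (p := fun x : GL2 F => x.1.det = 1) (F := inferInstance) _ (by simp),
    card_GL2, card_SL2', ← mul_assoc]
  congr 1
  · have := q_ne (F := F); have := q1_ne (F := F); have := q1_ne' (F := F); field_simp
  · refine Fintype.sum_bijective (fun s : SL2 F => (⟨toG s, s.2⟩ : {x : GL2 F // x.1.det = 1})) ⟨?_, ?_⟩ _ _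
      fun _ => rfl
    · intro a b e; exact toG_inj (congrArg Subtype.val e)
    · rintro ⟨x, hx⟩; exact ⟨⟨x.1, hx⟩, Subtype.ext (Units.ext rfl)⟩

end G2
end H3
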