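import Cfsg.Agent.H3.G2a

/-!
H3.G2b: non-split torus `T w` of `GL₂(F)`, cuspidal characters `cusp θ`, the irreducible characters of `GL₂(F)`.
-/

set_option autoImplicit false
open Cfsg
open scoped ComplexConjugate

namespace H3.G2
open H5

local notation "𝓘" => classInner
local notation "Cls" => IsClassFunction
local notation "Char" => IsCharacter
local notation "Irr" => IsIrrCharacter
local notation "Gen" => IsGeneralizedCharacter

variable {F : Type*} [Field F]

/-- The torus through `w`. -/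
abbrev T (w : GL2 F) := Subgroup.centralizer ({w} : Set (GL2 F))

theorem exists_not_rt [Finite F] : ∃ w : GL2 F, ¬ Rt w.1 := by
  have : ¬ Function.Surjective (fun p : F × F => (p.1 + p.2, p.1 * p.2)) := fun h => by
    simpa using Finite.injective_iff_surjective.2 h (a₁ := (0, 1)) (a₂ := (1, 0)) (by simp)
  obtain ⟨⟨t, d⟩, h⟩ := not_forall.1 this
  have hd : d ≠ 0 := by rintro rfl; exact h ⟨(t, 0), by simp⟩
  refine ⟨gl2 0 (-d) 1 t (by simpa using hd), fun ⟨c, hc⟩ => h ⟨(c, t - c), ?_⟩⟩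
  simp [Matrix.trace_fin_two, Matrix.det_fin_two] at hc
  simp only [add_sub_cancel, Prod.mk.injEq, true_and]
  linear_combination -hc

theorem ne_one_of_not_rt {g : GL2 F} (h : ¬ Rt g.1) : mkG g ≠ 1 := fun e =>
  h (rt_of_tri (mkG_eq_one_iff.1 e).2.1)

/-- Scalar matrices. -/
def scG : Fˣ →* GL2 F where
  toFun a := bm a a 0
  map_one' := by simp [bm, one_eq_gl2]
  map_mul' a b := by simp [bm, gl2_mul]

theorem scG_apply (a : Fˣ) : scG a = bm a a 0 := rfl

theorem scG_coe (a : Fˣ) : (scG a).1 = (a : F) • (1 : Matrix (Fin 2) (Fin 2) F) := by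
  ext i j; fin_cases i <;> fin_cases j <;> simp [scG_apply]

theorem scG_comm (a : Fˣ) (x : GL2 F) : x * scG a = scG a * x := Units.ext (by simp [scG_coe])

theorem scG_inj : Function.Injective (scG (F := F)) := fun a b e => Units.ext (congrArg (fun g : GL2 F => g.1 0 0) e)

theorem mkG_eq_one {g : GL2 F} : mkG g = 1 ↔ ∃ a, g = scG a := by
  rw [mkG_eq_one_iff]
  constructor
  · rintro ⟨h1, h2, h3⟩
    obtain ⟨a, d, x, rfl⟩ := exists_bm h2
    obtain rfl : x = 0 := h1
    obtain rfl : a = d := Units.ext h3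
    exact ⟨a, rfl⟩
  · rintro ⟨a, rfl⟩; exact ⟨rfl, rfl, rfl⟩

theorem mkG_bm {a d : Fˣ} {x : F} : mkG (bm a d x) = 1 ↔ a = d ∧ x = 0 := by
  rw [mkG_eq_one_iff]
  exact ⟨fun h => ⟨Units.ext h.2.2, h.1⟩, by rintro ⟨rfl, rfl⟩; exact ⟨rfl, rfl, rfl⟩⟩

theorem det_scG (a : Fˣ) : (scG a).1.det = a ^ 2 := by simp [scG_apply, Matrix.det_fin_two, sq]

/-- Scalars in the torus. -/
def sc (w : GL2 F) : Fˣ →* T w :=
  scG.codRestrict _ fun a => Subgroup.mem_centralizer_singleton_iff.2 (scG_comm a w).symm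

@[simp] theorem sc_coe (w : GL2 F) (a : Fˣ) : (sc w a : GL2 F) = scG a := rfl

/-- Determinant on the torus. -/
def dT (w : GL2 F) : T w →* Fˣ := Matrix.GeneralLinearGroup.det.comp (T w).subtype

@[simp] theorem dT_coe {w : GL2 F} (t : T w) : (dT w t : F) = t.1.1.det := rfl

theorem tr_ne {g : Matrix (Fin 2) (Fin 2) F} [Finite F] (h : ¬ Rt g) : g.trace ^ 2 ≠ 4 * g.det := fun e => by
  by_cases h2 : (2 : F) = 0
  · have : CharP F 2 := CharTwo.of_one_ne_zero_of_two_eq_zero one_ne_zero h2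
    obtain ⟨s, hs⟩ := FiniteField.isSquare_of_char_two (ringChar.eq F 2) g.det
    have : g.trace = 0 := pow_eq_zero_iff two_ne_zero |>.1 (by rw [e]; linear_combination 2 * g.det * h2)
    exact h ⟨s, by rw [this, hs]; linear_combination s ^ 2 * h2⟩
  · exact h ⟨g.trace / 2, by field_simp; linear_combination -e⟩

section
variable {w : GL2 F} (hw : ¬ Rt w.1)
include hw

theorem mem_T {x : GL2 F} : x ∈ T w ↔ ∃ a b : F, x.1 = a • 1 + b • w.1 := by
  rw [Subgroup.mem_centralizer_singleton_iff, ← commute_iff_of_ne (ne_one_of_not_rt hw), Units.ext_iff]; rfl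

theorem det_comb_ne {a b : F} (h : a ^ 2 + w.1.trace * a * b + w.1.det * b ^ 2 = 0) : a = 0 ∧ b = 0 := by
  have hb : b = 0 := by
    by_contra hb
    exact hw ⟨-a / b, by field_simp; linear_combination h⟩
  exact ⟨by simpa [hb] using h, hb⟩

theorem eq_zero_of_det {X : Matrix (Fin 2) (Fin 2) F} (h : X * w.1 = w.1 * X) (h0 : X.det = 0) : X = 0 := by
  obtain ⟨a, b, rfl⟩ := (commute_iff_of_ne (ne_one_of_not_rt hw) X).1 h
  rw [det_comb] at h0
  simp [det_comb_ne hw h0]

theorem T_comm (s t : T w) : s * t = t * s := by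
  obtain ⟨a, b, h⟩ := (mem_T hw).1 s.2
  obtain ⟨c, d, h'⟩ := (mem_T hw).1 t.2
  refine Subtype.ext (Units.ext ?_)
  simp only [Subgroup.coe_mul, Units.val_mul, h, h', add_mul, mul_add, smul_mul_assoc, mul_smul_comm, one_mul, mul_one]
  module

omit hw in
theorem T_mat (t : T w) : t.1.1 * w.1 = w.1 * t.1.1 :=
  congrArg Units.val (Subgroup.mem_centralizer_singleton_iff.1 t.2)

theorem not_rt_T (t : T w) (h : mkG t.1 ≠ 1) : ¬ Rt t.1.1 := fun ⟨c, hc⟩ => by
  have := eq_zero_of_det hw (X := (-c) • 1 + (1 : F) • t.1.1) (by simp [add_mul, mul_add, T_mat])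
    (by rw [det_comb]; linear_combination hc)
  simpa using (eq_zero_of_comb h this).2

theorem cent_T (t : T w) (h : mkG t.1 ≠ 1) : T t.1 = T w := by
  have : ∀ {u v : GL2 F}, ¬ Rt u.1 → u ∈ T v → T u ≤ T v := fun {u v} hu huv x hx =>
    congrArg Subtype.val (T_comm hu ⟨v, Subgroup.mem_centralizer_singleton_iff.2
      (Subgroup.mem_centralizer_singleton_iff.1 huv).symm⟩ ⟨x, hx⟩).symm |> Subgroup.mem_centralizer_singleton_iff.2
  exact le_antisymm (this (not_rt_T hw t h) t.2) (this hw (Subgroup.mem_centralizer_singleton_iff.2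
      (Subgroup.mem_centralizer_singleton_iff.1 t.2).symm))

end

/-- The Galois conjugate (adjugate). -/
def bar {w : GL2 F} (t : T w) : T w := sc w (dT w t) * t⁻¹

theorem bar_coe {w : GL2 F} (t : T w) : (bar t).1.1 = t.1.1.trace • 1 + (-1 : F) • t.1.1 := by
  have h : t.1.1 * (t.1.1.trace • 1 + (-1 : F) • t.1.1) = t.1.1.det • 1 := by
    ext i j; fin_cases i <;> fin_cases j <;>
      simp [Matrix.mul_apply, Matrix.trace_fin_two, Matrix.det_fin_two] <;> ring
  have h2 : (bar t).1.1 = (t.1⁻¹).1 * t.1.1.det • 1 := by simp [bar, scG_coe]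
  rw [h2, ← h, ← mul_assoc, ← Units.val_mul, inv_mul_cancel, Units.val_one, one_mul]

theorem mul_bar {w : GL2 F} (t : T w) : t * bar t = sc w (dT w t) := by
  refine Subtype.ext ?_
  simp only [bar, Subgroup.coe_mul, sc_coe, ← mul_assoc, scG_comm, Subgroup.coe_inv]; group

theorem dT_sc (w : GL2 F) (a : Fˣ) : dT w (sc w a) = a ^ 2 := Units.ext (det_scG a)

theorem dT_bar {w : GL2 F} (t : T w) : dT w (bar t) = dT w t := by simp [bar, dT_sc, sq]

theorem bar_sc (w : GL2 F) (a : Fˣ) : bar (sc w a) = sc w a := by simp [bar, dT_sc, sq]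

/-- The conjugate character. -/
def barH {w : GL2 F} (θ : T w →* ℂˣ) : T w →* ℂˣ := θ.comp ((sc w).comp (dT w)) * θ⁻¹

theorem barH_apply {w : GL2 F} (θ : T w →* ℂˣ) (t : T w) : barH θ t = θ (bar t) := by simp [barH, bar]

theorem barH_barH {w : GL2 F} (θ : T w →* ℂˣ) : barH (barH θ) = θ := by
  ext t; simp [barH, dT_sc, sq]

/-- Central character. -/
noncomputable def om {w : GL2 F} (θ : T w →* ℂˣ) : MulChar F ℂ := MulChar.ofUnitHom (θ.comp (sc w))

theorem om_apply {w : GL2 F} (θ : T w →* ℂˣ) (a : Fˣ) : om θ a = θ (sc w a) := by simp [om]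

/-- Characters through the determinant. -/
noncomputable def dch (w : GL2 F) (γ : MulChar F ℂ) : T w →* ℂˣ := γ.toUnitHom.comp (dT w)

theorem dch_apply {w : GL2 F} (γ : MulChar F ℂ) (t : T w) : (dch w γ t : ℂ) = γ t.1.1.det := by simp [dch]

theorem barH_mul_dch {w : GL2 F} (θ : T w →* ℂˣ) (γ : MulChar F ℂ) : barH (θ * dch w γ) = barH θ * dch w γ := by
  ext t; simp only [barH_apply, MonoidHom.mul_apply, dch, MonoidHom.comp_apply, dT_bar]

section
variable [Finite F] {w : GL2 F} (hw : ¬ Rt w.1)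
include hw

theorem bar_ne (t : T w) (h : mkG t.1 ≠ 1) : bar t ≠ t := fun e => by
  have h1 := bar_coe t
  rw [e] at h1
  have := eq_zero_of_comb h (a := t.1.1.trace) (b := -2) (by linear_combination (norm := module) -h1)
  exact tr_ne (not_rt_T hw t h) (by linear_combination t.1.1.trace * this.1 + 2 * t.1.1.det * this.2)

omit [Finite F] in
theorem isConj_T (t : T w) (h : mkG t.1 ≠ 1) (s : T w) : IsConj t.1 s.1 ↔ s = t ∨ s = bar t := by
  constructor
  · intro hc
    obtain ⟨c, hc⟩ := isConj_iff.1 hc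
    have e1 : s.1.1.trace = t.1.1.trace := hc ▸ trace_cj c t.1
    have e2 : s.1.1.det = t.1.1.det := hc ▸ det_cj c t.1
    have e3 : s.1.1 * t.1.1 = t.1.1 * s.1.1 := congrArg (·.1.1) (T_comm hw s t)
    have : (s.1.1 - t.1.1) * (s.1.1 - (bar t).1.1) = 0 := by
      have a1 := congrArg (·.1.1) (mul_bar s)
      have a2 := congrArg (·.1.1) (mul_bar t)
      simp only [Subgroup.coe_mul, Units.val_mul, bar_coe, sc_coe, scG_coe, dT_coe, mul_add, mul_smul_comm,
        mul_one, e1, e2] at a1 a2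
      simp only [bar_coe, mul_sub, sub_mul, mul_add, mul_smul_comm, mul_one, e3]
      linear_combination (norm := module) a2 - a1
    have := congrArg Matrix.det this
    rw [Matrix.det_mul, Matrix.det_zero] at this
    refine (mul_eq_zero.1 this).imp (fun h => ?_) fun h => ?_ <;>
      exact Subtype.ext (Units.ext (sub_eq_zero.1 (eq_zero_of_det hw (by simp only [sub_mul, mul_sub, T_mat]) h)))
  · rintro (rfl | rfl)
    · exact IsConj.refl _
    · refine isConj_iff.2 (isConj_GL h (fun e => h ?_) ?_ (congrArg Units.val (dT_bar t)).symm)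
      · have : mkG (t * bar t).1 = 1 := by rw [mul_bar]; exact mkG_eq_one.2 ⟨_, rfl⟩
        rwa [Subgroup.coe_mul, map_mul, e, mul_one] at this
      · rw [bar_coe]; simp; ring

theorem dT_surj : Function.Surjective (dT w) := fun a => by
  obtain ⟨z, h1, h2⟩ := exists_comm_det (tr_ne hw) a.ne_zero
  exact ⟨⟨z, Subgroup.mem_centralizer_singleton_iff.2 h1⟩, Units.ext h2⟩

theorem dch_inj : Function.Injective (dch w) := fun α β e => by
  ext a
  obtain ⟨t, rfl⟩ := dT_surj hw a
  rw [dT_coe, ← dch_apply, e, dch_apply]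

theorem exists_dch {θ : T w →* ℂˣ} (h : ∀ t, dT w t = 1 → θ t = 1) : ∃ γ, θ = dch w γ :=
  ⟨MulChar.ofUnitHom ((dT w).liftOfSurjective (dT_surj hw) ⟨θ, h⟩), by ext t; simp [dch]⟩

omit [Finite F] in
theorem barH_eq_iff {θ : T w →* ℂˣ} : barH θ = θ ↔ ∀ t, dT w t = 1 → θ t = 1 := by
  constructor
  · intro h s hs
    have key : ∀ t : T w, bar t * s = t → θ s = 1 := fun t e => by
      have := congrArg θ e
      rwa [map_mul, ← barH_apply, h, mul_eq_left] at this
    have hb := congrArg (·.1.1) (mul_bar s)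
    simp only [hs, map_one, Subgroup.coe_mul, Units.val_mul, bar_coe, mul_add, mul_smul_comm, mul_one,
      OneMemClass.coe_one, Units.val_one] at hb
    by_cases h1 : (1 : Matrix (Fin 2) (Fin 2) F) + s.1.1 = 0
    · have hs' : s.1.1 = -1 := eq_neg_of_add_eq_zero_right h1
      by_cases h2 : (2 : F) = 0
      · refine key 1 (Subtype.ext (Units.ext ?_))
        simp only [Subgroup.coe_mul, Units.val_mul, bar_coe, hs']
        ext i j; fin_cases i <;> fin_cases j <;> simp <;> first | linear_combination -h2 | linear_combination h2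
      · have : ((-w.1.trace) • 1 + (2 : F) • w.1).det ≠ 0 := fun e => by
          rw [det_comb] at e; exact h2 (det_comb_ne hw e).2
        refine key ⟨Matrix.GeneralLinearGroup.mkOfDetNeZero _ this, (mem_T hw).2 ⟨_, _, rfl⟩⟩
          (Subtype.ext (Units.ext ?_))
        simp only [Subgroup.coe_mul, Units.val_mul, bar_coe, hs']
        simp; module
    · have hc : (1 + s.1.1) * w.1 = w.1 * (1 + s.1.1) := by simp [add_mul, mul_add, T_mat]
      refine key ⟨Matrix.GeneralLinearGroup.mkOfDetNeZero _ fun e => h1 (eq_zero_of_det hw hc e),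
        Subgroup.mem_centralizer_singleton_iff.2 (Units.ext hc)⟩ (Subtype.ext (Units.ext ?_))
      simp only [Subgroup.coe_mul, Units.val_mul, bar_coe]
      simp [add_mul]
      linear_combination (norm := module) hb
  · intro h
    ext t
    have := h (bar t * t⁻¹) (by simp [dT_bar])
    rw [map_mul, map_inv, mul_inv_eq_one] at this
    rw [barH_apply, this]

end

variable [Fintype F] [DecidableEq F]

local notation "q" => (Fintype.card F : ℂ)

theorem gen_gam (α β : MulChar F ℂ) : (st 1 - 1) * ps α β =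
    indFun (B F) ((fun b => lam α β b) * fun b : B F => (st 1 - 1 : GL2 F → ℂ) b) := by
  rw [indFun_mul_restrict _ _ (χ := st 1 - 1) (class_sub (irr_class (irr_st 1)) (class_const 1)), mul_comm, ps]

/-- Cuspidal characters. -/
noncomputable def cusp {w : GL2 F} (θ : T w →* ℂˣ) : GL2 F → ℂ :=
  (st 1 - 1) * ps (om θ) 1 - indFun (T w) fun t => θ t

variable {w : GL2 F}

theorem gen_cusp (θ : T w →* ℂˣ) : Gen _ (cusp θ) :=
  gen_sub (gen_mul (gen_sub (irr_gen (irr_st 1)) gen_one) (char_gen (char_ps _ _)))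
    (char_gen (char_indFun _ (char_hom θ)))

theorem gam_congr {α β α' β' : MulChar F ℂ} (h : α * β = α' * β') : (st 1 - 1) * ps α β = (st 1 - 1) * ps α' β' := by
  rw [gen_gam, gen_gam]
  congr 1; ext ⟨g, hg⟩
  obtain ⟨a, d, x, rfl⟩ := exists_bm (mem_B.1 hg)
  by_cases e : a = d
  · subst e
    have := congrArg (fun χ : MulChar F ℂ => χ a) h
    simp only [MulChar.mul_apply] at this
    simp [lam, this]
  · simp [st_bm, nf, e]

theorem cusp_mul_lin (θ : T w →* ℂˣ) (γ : MulChar F ℂ) : cusp θ * lin γ = cusp (θ * dch w γ) := by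
  rw [cusp, sub_mul, mul_assoc, lin_mul_ps, cusp, ← indFun_mul_restrict _ _ (char_class (char_mhom _))]
  congr 1
  · refine gam_congr ?_
    ext a; simp [om_apply, dch_apply, det_scG, sq, mul_assoc]

variable (hw : ¬ Rt w.1)
include hw

theorem card_T : (Nat.card (T w) : ℂ) = (q - 1) * (q + 1) := by
  rw [card_centralizer_GL (ne_one_of_not_rt hw), Nat.card_congr (Equiv.subtypeEquivRight
    fun p : F × F => (⟨fun h e => h (by simp [e]), fun h e => h (Prod.ext (det_comb_ne hw e).1 (det_comb_ne hw e).2)⟩ :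
      p.1 ^ 2 + w.1.trace * p.1 * p.2 + w.1.det * p.2 ^ 2 ≠ 0 ↔ p ≠ 0)),
    Nat.card_eq_fintype_card, Fintype.card_subtype_compl, Nat.cast_sub (by simp [Nat.one_le_iff_ne_zero])]
  simp; ring

theorem index_T : ((T w).index : ℂ) = q * (q - 1) := by
  have := congrArg (Nat.cast : ℕ → ℂ) (T w).index_mul_card
  rw [Nat.cast_mul, card_T hw, card_GL2] at this
  exact mul_right_cancel₀ (mul_ne_zero q1_ne q1_ne') (by linear_combination this)

theorem card_T1 : Nat.card (dT w).ker = Fintype.card F + 1 := by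
  have := congrArg (Nat.cast : ℕ → ℂ) (dT w).ker.index_mul_card
  rw [Nat.cast_mul, card_T hw, Subgroup.index_ker, MonoidHom.range_eq_top.2 (dT_surj hw), Subgroup.card_top,
    Nat.card_eq_fintype_card, card_units'] at this
  exact_mod_cast mul_left_cancel₀ q1_ne this

theorem ind_T (θ : T w → ℂ) (t : T w) (h : mkG t.1 ≠ 1) : indFun (T w) θ t = θ t + θ (bar t) := by
  classical
  rw [indFun_isConj, show Subgroup.centralizer {t.1} = T w from cent_T hw t h, div_self (card_ne_zero' _), one_mul]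
  simp only [isConj_T hw t h]
  rw [← Finset.sum_filter, show Finset.univ.filter (fun s => s = t ∨ s = bar t) = {t, bar t} by ext; simp,
    Finset.sum_pair (bar_ne hw t h).symm]

theorem ind_T_rt (θ : T w → ℂ) {g : GL2 F} (h : mkG g ≠ 1) (hg : Rt g.1) : indFun (T w) θ g = 0 :=
  indFun_eq_zero_of_not_conj _ _ _ fun x hx => absurd ((rt_cj x g).2 hg) (not_rt_T hw ⟨_, hx⟩ fun e => h (by
    simpa [mul_inv_eq_one] using e))

theorem cusp_bm (θ : T w →* ℂˣ) (a d : Fˣ) (x : F) : cusp θ (bm a d x) = (nf a d x - 1) * om θ a := by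
  simp only [cusp, Pi.sub_apply, Pi.mul_apply, st_bm, ps_bm, MulChar.one_apply_coe, Pi.one_apply]
  by_cases h : a = d ∧ x = 0
  · obtain ⟨rfl, rfl⟩ := h
    have := indFun_cent (T w) (fun t => θ t) (sc w a) (scG_comm a)
    rw [index_T hw, ← om_apply] at this
    rw [show bm a a 0 = sc w a from rfl, this]
    simp [nf]; ring
  · rw [ind_T_rt hw _ (mt mkG_bm.1 h) (rt_of_tri rfl)]
    unfold nf
    split_ifs with h1 h2
    · exact absurd ⟨h1, h2⟩ h
    · simp
    · simp

theorem cusp_one (θ : T w →* ℂˣ) : cusp θ 1 = q - 1 := by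
  rw [← bm_one, cusp_bm hw]; simp [nf]

theorem cusp_T (θ : T w →* ℂˣ) (t : T w) (h : mkG t.1 ≠ 1) : cusp θ t = -(θ t + barH θ t) := by
  simp [cusp, ps_not_rt _ _ (not_rt_T hw t h), ind_T hw _ t h, barH_apply]

variable [Fintype (T w)]

omit hw in
theorem inner_cusp (θ : T w →* ℂˣ) {f : GL2 F → ℂ} (hf : Cls _ f) : 𝓘 (cusp θ) f = (q * (q - 1) ^ 2)⁻¹ *
    (∑ a : Fˣ, om θ a * conj (∑ x : F, (nf a a x - 1) * f (bm a a x))) - 𝓘 (fun t => θ t) fun t : T w => f t := by
  cases nonempty_fintype (B F)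
  rw [cusp, inner_sub_left, gen_gam, inner_indFun_left _ _ hf, inner_indFun_left _ _ hf, inner_B]
  congr 2
  refine Finset.sum_congr rfl fun a _ => ?_
  rw [Finset.sum_eq_single a, map_sum, Finset.mul_sum]
  · refine Finset.sum_congr rfl fun x _ => ?_
    simp [st_bm, lam, conj_nf, mul_assoc]
  · intro d _ h; simp [st_bm, nf, h.symm]
  · simp

omit hw [Fintype (T w)] in
theorem sum_nf2 (a : Fˣ) : ∑ x : F, (nf a a x - 1) * (nf a a x - 1) = q * (q - 1) := by
  have : ∀ x : F, (nf a a x - 1) * (nf a a x - 1) = (q - 2) * nf a a x + 1 := fun x => by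
    rw [nf, if_pos rfl]; split_ifs <;> ring
  simp only [this, Finset.sum_add_distrib, ← Finset.mul_sum, sum_nf]
  simp; ring

open Classical in
theorem inner_cusp_cusp (θ θ' : T w →* ℂˣ) :
    𝓘 (cusp θ) (cusp θ') = (if θ = θ' then 1 else 0) + if θ = barH θ' then 1 else 0 := by
  rw [inner_cusp _ (gen_class (gen_cusp _))]
  have h1 : ∀ a : Fˣ, om θ a * conj (∑ x : F, (nf a a x - 1) * cusp θ' (bm a a x)) =
      q * (q - 1) * (om θ a * conj (om θ' a)) := fun a => by
    simp only [cusp_bm hw, ← mul_assoc, ← Finset.sum_mul, sum_nf2]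
    simp; ring
  have h2 : (fun t : T w => cusp θ' t) = (fun t : T w => if mkG t.1 = 1 then (q + 1) * θ' t else 0) -
      (fun t => (θ' t : ℂ)) - fun t => (barH θ' t : ℂ) := by
    ext t
    simp only [Pi.sub_apply]
    split_ifs with h
    · obtain ⟨a, ha⟩ := mkG_eq_one.1 h
      obtain rfl : t = sc w a := Subtype.ext ha
      rw [barH_apply, bar_sc, ← om_apply]
      exact (cusp_bm hw θ' a a 0).trans (by simp [nf]; ring)
    · rw [cusp_T hw _ _ h]; ring
  have h3 : ∑ t : T w, θ t * conj (if mkG t.1 = 1 then (q + 1) * θ' t else 0) =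
      (q + 1) * ∑ a : Fˣ, om θ a * conj (om θ' a) := by
    rw [Finset.mul_sum]
    symm
    refine Finset.sum_of_injOn (sc w) (fun a _ b _ e => scG_inj (congrArg Subtype.val e)) (by simp) ?_ ?_
    · intro t _ h
      rw [if_neg, map_zero, mul_zero]
      intro e
      obtain ⟨a, ha⟩ := mkG_eq_one.1 e
      exact h ⟨a, by simp, Subtype.ext ha.symm⟩
    · intro a _
      rw [sc_coe, if_pos (mkG_eq_one.2 ⟨a, rfl⟩)]
      simp [om_apply]; ring
  rw [h2, inner_sub_right, inner_sub_right, inner_hom, inner_hom, classInner, h3, card_T hw]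
  simp only [h1, ← Finset.mul_sum]
  have := q_ne (F := F); have := q1_ne (F := F); have := q1_ne' (F := F)
  field_simp; ring

omit [Fintype (T w)] in
theorem inner_ps_cusp (α β : MulChar F ℂ) (θ : T w →* ℂˣ) : 𝓘 (ps α β) (cusp θ) = 0 := by
  rw [inner_ps _ _ (gen_class (gen_cusp _))]
  simp [cusp_bm hw, ← Finset.sum_mul, sum_nf]

omit hw in
open Classical in
theorem inner_cusp_lin (θ : T w →* ℂˣ) (γ : MulChar F ℂ) :
    𝓘 (cusp θ) (lin γ) = -if θ = dch w γ then 1 else 0 := by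
  rw [inner_cusp _ (char_class (char_mhom _)), ← inner_hom]
  simp [lin_bm, ← Finset.sum_mul, sum_nf, dch_apply, lin_apply]

omit [Fintype (T w)]

theorem irr_cusp {θ : T w →* ℂˣ} (h : barH θ ≠ θ) : Irr _ (cusp θ) := by
  cases nonempty_fintype (T w)
  refine isIrr_of_gen_norm_one (gen_cusp _) (by simp [inner_cusp_cusp hw, h.symm]) ?_
  simp [cusp_one hw, Nat.one_le_iff_ne_zero]

theorem cusp_eq_iff {θ θ' : T w →* ℂˣ} : cusp θ = cusp θ' ↔ θ' = θ ∨ θ' = barH θ := by
  classical
  cases nonempty_fintype (T w)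
  constructor
  · intro e
    by_contra h
    rw [not_or] at h
    have h1 := inner_cusp_cusp hw θ' θ
    rw [e, inner_cusp_cusp hw, if_neg h.1, if_neg h.2, if_pos rfl] at h1
    split_ifs at h1 <;> norm_num at h1
  · rintro (rfl | rfl)
    · rfl
    · rw [← sub_eq_zero]; apply inner_self_eq_zero
      simp only [inner_sub_left, inner_sub_right, inner_cusp_cusp hw, barH_barH]
      by_cases h : θ = barH θ
      · simp [← h]
      · simp [h, Ne.symm h]

theorem cusp_dch (γ : MulChar F ℂ) : cusp (dch w γ) = st γ - lin γ := by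
  cases nonempty_fintype (T w)
  have hb : barH (dch w γ) = dch w γ := (barH_eq_iff hw).2 fun t h => by simp [dch, h]
  have g1 := gen_cusp (dch w γ)
  have g2 := char_gen (char_ps γ γ)
  have g3 := char_gen (char_mhom (lin γ))
  rw [← sub_eq_zero]; apply inner_self_eq_zero
  simp only [st, inner_sub_left, inner_sub_right, inner_cusp_cusp hw, hb, inner_gen_symm g1 g2,
    inner_gen_symm g3 g1, inner_gen_symm g3 g2, inner_ps_cusp hw, inner_cusp_lin, inner_ps_lin, inner_ps_ps, inner_lin]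
  norm_num

theorem card_hom_T : (Fintype.card (T w →* ℂˣ) : ℂ) = (q - 1) * (q + 1) := by
  rw [← Nat.card_eq_fintype_card, card_hom_of_comm (T_comm hw), card_T hw]

/-- The irreducible characters of `GL₂`. -/
theorem irr_GL2 {χ : GL2 F → ℂ} (hχ : Irr _ χ) : (∃ α, χ = lin α) ∨ (∃ α, χ = st α) ∨
    (∃ α β, α ≠ β ∧ χ = ps α β) ∨ ∃ θ : T w →* ℂˣ, barH θ ≠ θ ∧ χ = cusp θ := by
  classical
  cases nonempty_fintype (T w)
  have key : ∀ α, 𝓘 (st α) χ ≠ 0 ∨ 𝓘 (lin α) χ ≠ 0 → (∃ α, χ = lin α) ∨ (∃ α, χ = st α) := fun α h =>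
    h.elim (fun h => .inr ⟨α, (irr_eq_of_inner_ne_zero (irr_st α) hχ h).symm⟩)
      fun h => .inl ⟨α, (irr_eq_of_inner_ne_zero (irr_mhom _) hχ h).symm⟩
  obtain ⟨i, -, hi⟩ := exists_inner_ne_of_reg Finset.univ
    (Sum.elim (fun p : MulChar F ℂ × MulChar F ℂ => (q + 1) • ps p.1 p.2) fun θ : T w →* ℂˣ => (q - 1) • cusp θ)
    2 two_ne_zero (by
      simp [Fintype.sum_sum_type, Finset.sum_apply, ps_one, cusp_one hw, card_mc', card_hom_T hw, card_GL2,
        -Nat.card_eq_fintype_card]; ring) (by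
      simp only [Fintype.sum_sum_type, Sum.elim_inl, Sum.elim_inr, inner_add_left, inner_add_right, inner_sum_left,
        inner_sum_right, inner_smul_left, inner_smul_right, inner_ps_cusp hw, inner_ps_ps, inner_cusp_cusp hw,
        inner_gen_symm (gen_cusp _) (char_gen (char_ps _ _)), ← Finset.mul_sum, Finset.sum_add_distrib,
        Fintype.sum_prod_type, ite_and, card_GL2]
      simp [card_mc', card_hom_T hw]; ring) hχ
  rcases i with ⟨α, β⟩ | θ
  · have hi : 𝓘 (ps α β) χ ≠ 0 := fun e => hi (by simp [inner_smul_left, e])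
    by_cases h : α = β
    · subst h
      refine (key α ?_).imp_right .inl
      by_contra! h
      rw [st, inner_sub_left, h.2, sub_zero] at h
      exact hi h.1
    · exact .inr (.inr (.inl ⟨α, β, h, (irr_eq_of_inner_ne_zero (irr_ps h) hχ hi).symm⟩))
  · have hi : 𝓘 (cusp θ) χ ≠ 0 := fun e => hi (by simp [inner_smul_left, e])
    by_cases h : barH θ = θ
    · obtain ⟨α, rfl⟩ := exists_dch hw ((barH_eq_iff hw).1 h)
      refine (key α ?_).imp_right .inl
      by_contra! h
      rw [cusp_dch hw, inner_sub_left, h.1, h.2, sub_zero] at hi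
      exact hi rfl
    · exact .inr (.inr (.inr ⟨θ, h, (irr_eq_of_inner_ne_zero (irr_cusp hw h) hχ hi).symm⟩))

omit hw in
theorem q_re : (2 : ℝ) ≤ Fintype.card F := by exact_mod_cast Fintype.one_lt_card

theorem deg_one (hq : 3 ≤ Fintype.card F) {χ : GL2 F → ℂ} (hχ : Irr _ χ) (h : χ 1 = 1) : ∃ α, χ = lin α := by
  have hq' : (3 : ℝ) ≤ Fintype.card F := by exact_mod_cast hq
  rcases irr_GL2 hw hχ with h' | ⟨α, rfl⟩ | ⟨α, β, -, rfl⟩ | ⟨θ, -, rfl⟩
  · exact h'
  all_goals
    have := congrArg Complex.re h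
    simp [st_one, ps_one, cusp_one hw] at this
    try linarith

theorem deg_q {χ : GL2 F → ℂ} (hχ : Irr _ χ) (h : χ 1 = q) : ∃ α, χ = st α := by
  have hq' := q_re (F := F)
  rcases irr_GL2 hw hχ with ⟨α, rfl⟩ | h' | ⟨α, β, -, rfl⟩ | ⟨θ, -, rfl⟩
  rotate_left
  · exact h'
  all_goals
    have := congrArg Complex.re h
    simp [ps_one, cusp_one hw] at this
    try linarith

theorem deg_succ {χ : GL2 F → ℂ} (hχ : Irr _ χ) (h : χ 1 = q + 1) : ∃ α β, α ≠ β ∧ χ = ps α β := by
  have hq' := q_re (F := F)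
  rcases irr_GL2 hw hχ with ⟨α, rfl⟩ | ⟨α, rfl⟩ | h' | ⟨θ, -, rfl⟩
  rotate_left 2
  · exact h'
  all_goals
    have := congrArg Complex.re h
    simp [st_one, cusp_one hw] at this
    try linarith

theorem deg_pred (hq : 3 ≤ Fintype.card F) {χ : GL2 F → ℂ} (hχ : Irr _ χ) (h : χ 1 = q - 1) :
    ∃ θ : T w →* ℂˣ, barH θ ≠ θ ∧ χ = cusp θ := by
  have hq' : (3 : ℝ) ≤ Fintype.card F := by exact_mod_cast hq
  rcases irr_GL2 hw hχ with ⟨α, rfl⟩ | ⟨α, rfl⟩ | ⟨α, β, -, rfl⟩ | h'
  rotate_left 3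
  · exact h'
  all_goals
    have := congrArg Complex.re h
    simp [st_one, ps_one] at this
    linarith

theorem card_bar_ne : Nat.card {θ : T w →* ℂˣ // barH θ ≠ θ} = Fintype.card F * (Fintype.card F - 1) := by
  classical
  have h : Nat.card (MulChar F ℂ) = Nat.card {θ : T w →* ℂˣ // barH θ = θ} :=
    Nat.card_eq_of_bijective (fun γ => ⟨dch w γ, (barH_eq_iff hw).2 fun t h => by simp [dch, h]⟩)
      ⟨fun a b e => dch_inj hw (congrArg Subtype.val e), fun ⟨θ, h⟩ =>
        let ⟨γ, e⟩ := exists_dch hw ((barH_eq_iff hw).1 h); ⟨γ, Subtype.ext e.symm⟩⟩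
  rw [card_mc, Nat.card_eq_fintype_card] at h
  have h2 := card_hom_T hw
  rw [Nat.card_eq_fintype_card, Fintype.card_subtype_compl, ← h]
  obtain ⟨n, hn⟩ := Nat.exists_eq_add_one_of_ne_zero (Fintype.card_ne_zero (α := F))
  rw [hn] at h2 ⊢
  have : Fintype.card (T w →* ℂˣ) = (n + 1) * n + n := by
    apply Nat.cast_injective (R := ℂ); rw [h2]; push_cast; ring
  simp [this]

omit hw in
theorem three_le {a d : Fˣ} (h : a ≠ d) : 3 ≤ Fintype.card F := by
  have : Nontrivial Fˣ := ⟨a, d, h⟩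
  have := Fintype.one_lt_card (α := Fˣ)
  rw [Fintype.card_units] at this; omega

end H3.G2

namespace H3
variable {G : Type*} [Group G] {A : Type*} (f : A → G → ℂ) (P : (G → ℂ) → Prop) (h : ∀ a, IsIrrCharacter G (f a))
  (hP : ∀ a, P (f a)) (hs : ∀ χ, IsIrrCharacter G χ → P χ → ∃ a, χ = f a)
include h hP hs

theorem card_irr_of_inj (hf : Function.Injective f) : Nat.card {χ : IrrCharacter G // P χ.1} = Nat.card A :=
  (Nat.card_eq_of_bijective (fun a => ⟨⟨f a, h a⟩, hP a⟩) ⟨fun _ _ e => hf (congrArg (·.1.1) e), fun χ =>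
    let ⟨a, e⟩ := hs _ χ.1.2 χ.2; ⟨a, Subtype.ext (Subtype.ext e.symm)⟩⟩).symm

theorem card_irr_of_two [Finite A] (σ : A → A) (hσ : ∀ a, σ a ≠ a) (hf : ∀ a b, f a = f b ↔ b = a ∨ b = σ a) :
    Nat.card {χ : IrrCharacter G // P χ.1} = Nat.card A / 2 := by
  rw [card_two_to_one (B := {χ : IrrCharacter G // P χ.1}) (fun a => ⟨⟨f a, h a⟩, hP a⟩) (fun χ =>
    let ⟨a, e⟩ := hs _ χ.1.2 χ.2; ⟨a, Subtype.ext (Subtype.ext e.symm)⟩) σ hσ
    (fun a b => by rw [← hf, Subtype.ext_iff, Subtype.ext_iff])]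
  simp

end H3
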