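import Cfsg.Agent.H3.G2b
import Mathlib.NumberTheory.GaussSum
import Mathlib.NumberTheory.LegendreSymbol.QuadraticChar.Basic

/-!
H3.G2c: the irreducible characters of `SL₂(F)`.
-/

set_option autoImplicit false
open Cfsg
open scoped ComplexConjugate

namespace H3

local notation "𝓘" => classInner
local notation "Cls" => IsClassFunction
local notation "Char" => IsCharacter
local notation "Irr" => IsIrrCharacter
local notation "Gen" => IsGeneralizedCharacter

section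
variable {A : Type*} [Group A] [Finite A]

theorem unit_sq_eq_one (u : ℂˣ) (h : u ^ 2 = 1) : u = 1 ∨ u = -1 := by
  have := congrArg Units.val h
  simp only [Units.val_pow_eq_pow_val, Units.val_one, sq_eq_one_iff] at this
  exact this.imp (fun h => Units.ext h) fun h => Units.ext h

theorem hom_two_apply [IsCyclic A] {η : A →* ℂˣ} (h2 : η ^ 2 = 1) (h1 : η ≠ 1) {m : ℕ} (hm : Nat.card A = 2 * m)
    (t : A) [Decidable (t ^ m = 1)] : (η t : ℂ) = if t ^ m = 1 then 1 else -1 := by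
  obtain ⟨g, hg⟩ := IsCyclic.exists_monoid_generator (α := A)
  have e : η g = -1 := by
    refine (unit_sq_eq_one (η g) (DFunLike.congr_fun h2 g)).resolve_left fun e => h1 ?_
    ext x; obtain ⟨k, rfl⟩ := hg x; simp [e]
  obtain ⟨k, rfl⟩ := hg t
  have h0 : 0 < m := by have := Nat.card_pos (α := A); omega
  simp only [← pow_mul, ← orderOf_dvd_iff_pow_eq_one,
    orderOf_eq_card_of_forall_mem_powers hg, hm, Nat.mul_dvd_mul_iff_right h0, map_pow, e, ← even_iff_two_dvd]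
  rw [neg_one_pow_eq_ite]; split_ifs <;> rfl

theorem hom_two_uniq [IsCyclic A] (hA : Even (Nat.card A)) {η η' : A →* ℂˣ} (h2 : η ^ 2 = 1) (h1 : η ≠ 1)
    (h2' : η' ^ 2 = 1) (h1' : η' ≠ 1) : η = η' := by
  classical
  obtain ⟨m, hm⟩ := even_iff_two_dvd.1 hA
  ext t; rw [hom_two_apply h2 h1 hm, hom_two_apply h2' h1' hm]

theorem exists_hom_two [IsCyclic A] (hA : Even (Nat.card A)) : ∃ η : A →* ℂˣ, η ^ 2 = 1 ∧ η ≠ 1 := by
  obtain ⟨η, h⟩ := exists_prime_orderOf_dvd_card' (G := A →* ℂˣ) 2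
    (by rw [card_hom_of_comm (cyc_comm ‹_›)]; exact even_iff_two_dvd.1 hA)
  exact ⟨η, h ▸ pow_orderOf_eq_one η, by rintro rfl; simp at h⟩

theorem eq_one_of_sq_odd (hA : Odd (Nat.card A)) {η : A →* ℂˣ} (h : η ^ 2 = 1) : η = 1 := by
  ext t
  obtain ⟨m, hm⟩ := hA
  have h1 := hom_pow_card η t
  have h2 : (η t : ℂ) ^ 2 = 1 := congrArg Units.val (DFunLike.congr_fun h t)
  rwa [hm, pow_succ, pow_mul, h2, one_pow, one_mul] at h1

theorem card_sq_ne_even [IsCyclic A] (hA : Even (Nat.card A)) :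
    Nat.card {η : A →* ℂˣ // η ^ 2 ≠ 1} = Nat.card A - 2 := by
  classical
  obtain ⟨η, h2, h1⟩ := exists_hom_two hA
  rw [Nat.card_eq_fintype_card, Fintype.card_subtype_compl, ← Nat.card_eq_fintype_card, card_hom_of_comm (cyc_comm ‹_›),
    Fintype.card_subtype]
  refine congrArg _ ((congrArg Finset.card ?_).trans (Finset.card_pair h1))
  ext x
  simp only [Finset.mem_filter, Finset.mem_univ, true_and, Finset.mem_insert, Finset.mem_singleton]
  exact ⟨fun h => (em (x = 1)).symm.imp_left fun e => hom_two_uniq hA h e h2 h1, by rintro (rfl | rfl); exacts [h2, by ext; simp]⟩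

theorem card_sq_ne_odd [IsCyclic A] (hA : Odd (Nat.card A)) :
    Nat.card {η : A →* ℂˣ // η ^ 2 ≠ 1} = Nat.card A - 1 := by
  classical
  rw [Nat.card_eq_fintype_card, Fintype.card_subtype_compl, ← Nat.card_eq_fintype_card, card_hom_of_comm (cyc_comm ‹_›),
    Fintype.card_subtype]
  refine congrArg _ ((congrArg Finset.card ?_).trans (Finset.card_singleton (1 : A →* ℂˣ)))
  ext x
  simp only [Finset.mem_filter, Finset.mem_univ, true_and, Finset.mem_singleton]
  exact ⟨eq_one_of_sq_odd hA, by rintro rfl; ext; simp⟩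

end

namespace G2
open H5

variable {F : Type*} [Field F]

/-- Restriction to `SL₂`. -/
abbrev res (f : GL2 F → ℂ) : SL2 F → ℂ := fun s => f (toG s)

theorem det_toG (s : SL2 F) : (toG s).1.det = 1 := s.2

theorem res_mul_lin (f : GL2 F → ℂ) (γ : MulChar F ℂ) : res (f * ⇑(lin γ)) = res f := by
  ext s; simp [lin_apply]

theorem cjs_of_det {χ : SL2 F → ℂ} (h : Cls _ χ) {x y : GL2 F} (e : x.1.det = y.1.det) (g : SL2 F) :
    χ (conjSL x g) = χ (conjSL y g) := by
  have : (x * y⁻¹).1.det = 1 := by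
    rw [Units.val_mul, Matrix.det_mul, e, ← Matrix.det_mul, ← Units.val_mul, mul_inv_cancel]; simp
  obtain ⟨s, this⟩ : ∃ s : SL2 F, toG s = x * y⁻¹ := ⟨⟨_, this⟩, Units.ext rfl⟩
  rw [← h (conjSL y g) s]
  congr 1; apply toG_inj
  simp only [toG_conjSL, map_mul, map_inv, this]; group

theorem conjSL_of_comm {x : GL2 F} {g : SL2 F} (h : x * toG g = toG g * x) : conjSL x g = g :=
  toG_inj (by rw [toG_conjSL, h]; group)

theorem conjSL_mul (x y : GL2 F) (g : SL2 F) : conjSL (x * y) g = conjSL x (conjSL y g) :=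
  toG_inj (by simp only [toG_conjSL]; group)

theorem toG_up (b : F) : toG (up b) = bm 1 1 b := Units.ext rfl

theorem conjSL_up (a : Fˣ) (b : F) : conjSL (bm a 1 0) (up b) = up (a * b) := toG_inj (by
  rw [toG_conjSL, mul_inv_eq_iff_eq_mul, toG_up, toG_up]; simp [bm, gl2_mul])

/-- The unipotent subgroup. -/
def upH : Multiplicative F →* SL2 F where
  toFun b := up b.toAdd
  map_one' := up_eq_one.2 rfl
  map_mul' a b := by simp [sl2_mul, add_comm]

/-- The restriction of `Φ` is the sum of two conjugate irreducible characters. -/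
structure Half (Φ : GL2 F → ℂ) (χ χ' : SL2 F → ℂ) : Prop where
  irr : Irr _ χ
  irr' : Irr _ χ'
  ne : χ ≠ χ'
  sum : res Φ = χ + χ'
  cj : ∃ x, ∀ g, χ' g = χ (conjSL x g)
  cls : Cls _ Φ

namespace Half
variable {Φ : GL2 F → ℂ} {χ χ' : SL2 F → ℂ} (h : Half Φ χ χ')
include h

theorem symm : Half Φ χ' χ :=
  ⟨h.irr', h.irr, h.ne.symm, h.sum.trans (add_comm _ _), let ⟨x, hx⟩ := h.cj; ⟨x⁻¹, fun g => by
    rw [hx, ← conjSL_mul, mul_inv_cancel, conjSL_of_comm (by simp)]⟩, h.cls⟩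

theorem add (g : SL2 F) : χ g + χ' g = Φ (toG g) := (congrFun h.sum g).symm

theorem cent {g : SL2 F} (hg : mkG (toG g) = 1) : χ g = Φ (toG g) / 2 := by
  obtain ⟨x, hx⟩ := h.cj
  obtain ⟨a, ha⟩ := mkG_eq_one.1 hg
  rw [← h.add, hx, conjSL_of_comm (ha ▸ scG_comm a x)]; ring

theorem one : χ 1 = Φ 1 / 2 := by simpa using h.cent (g := 1) (by simp)

theorem ss [Finite F] {g : SL2 F} (hg : g.1.trace ^ 2 ≠ 4) : χ g = Φ (toG g) / 2 := by
  obtain ⟨x, hx⟩ := h.cj
  obtain ⟨z, h1, h2⟩ := exists_comm_det (g := toG g) (by rw [det_toG, mul_one]; exact hg) x.det_ne_zero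
  rw [← h.add, hx, cjs_of_det (irr_class h.irr) h2.symm, conjSL_of_comm h1]; ring

theorem cj_sq {x : GL2 F} (hx : IsSquare x.1.det) (g : SL2 F) : χ (conjSL x g) = χ g := by
  obtain ⟨s, hs⟩ := hx
  have h0 : s ≠ 0 := by rintro rfl; exact x.det_ne_zero (by simpa using hs)
  rw [cjs_of_det (irr_class h.irr) (y := scG (Units.mk0 s h0)) (by simp [det_scG, hs, sq]),
    conjSL_of_comm (scG_comm _ _).symm]

theorem not_sq : ∃ x : GL2 F, ¬ IsSquare x.1.det ∧ ∀ g, χ' g = χ (conjSL x g) :=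
  let ⟨x, hx⟩ := h.cj; ⟨x, fun e => h.ne (funext fun g => by rw [hx, h.cj_sq e]), hx⟩

theorem odd [Fintype F] : ringChar F ≠ 2 := fun e =>
  let ⟨_, hx, _⟩ := h.not_sq; hx (FiniteField.isSquare_of_char_two e _)

theorem cj_nsq [Fintype F] {x : GL2 F} (hx : ¬ IsSquare x.1.det) (g : SL2 F) : χ (conjSL x g) = χ' g := by
  classical
  obtain ⟨y, h1, h2⟩ := h.not_sq
  have : IsSquare (x * y⁻¹).1.det := by
    rw [← quadraticChar_neg_one_iff_not_isSquare] at hx h1
    rw [← quadraticChar_one_iff_isSquare (x * y⁻¹).det_ne_zero]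
    have : quadraticChar F (x * y⁻¹).1.det * quadraticChar F y.1.det = quadraticChar F x.1.det := by
      rw [← map_mul, ← Matrix.det_mul, ← Units.val_mul, inv_mul_cancel_right]
    rw [hx, h1] at this; linarith
  rw [h2, ← h.cj_sq this (conjSL y g), ← conjSL_mul, inv_mul_cancel_right]

end Half

variable [Fintype F] [DecidableEq F]

local notation "q" => (Fintype.card F : ℂ)

/-- The quadratic character. -/
noncomputable def qc (F : Type*) [Field F] [Fintype F] [DecidableEq F] : MulChar F ℂ :=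
  (quadraticChar F).ringHomComp (Int.castRingHom ℂ)

theorem qc_sq : qc F ^ 2 = 1 := MulChar.isQuadratic_iff_sq_eq_one.1 ((quadraticChar_isQuadratic F).comp _)

theorem qc_ne (h : ringChar F ≠ 2) : qc F ≠ 1 :=
  (MulChar.ringHomComp_ne_one_iff Int.cast_injective).2 (quadraticChar_ne_one h)

theorem qc_of_sq {a : F} (h0 : a ≠ 0) (h : IsSquare a) : qc F a = 1 := by
  simp [qc, -quadraticChar_apply, (quadraticChar_one_iff_isSquare h0).2 h]

theorem qc_of_nsq {a : F} (h : ¬ IsSquare a) : qc F a = -1 := by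
  simp [qc, -quadraticChar_apply, quadraticChar_neg_one_iff_not_isSquare.2 h]

theorem qc_neg_one (h : ringChar F ≠ 2) : qc F (-1) = (-1) ^ ((Fintype.card F - 1) / 2) := by
  have := FiniteField.odd_card_of_char_ne_two h
  simp [qc, -quadraticChar_apply, quadraticChar_neg_one h, ZMod.χ₄_eq_neg_one_pow this,
    show (Fintype.card F - 1) / 2 = Fintype.card F / 2 by omega]

omit [DecidableEq F] in
theorem odd_iff : Odd (Fintype.card F) ↔ ringChar F ≠ 2 := by
  rw [Ne, FiniteField.even_card_iff_char_two, Nat.odd_iff]; omega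

theorem toUnitHom_sq {α : MulChar F ℂ} : α.toUnitHom ^ 2 = 1 ↔ α ^ 2 = 1 := by
  rw [← MulChar.mulEquivToUnitHom.map_eq_one_iff, map_pow]; rfl

theorem card_units_even (h : Odd (Fintype.card F)) : Even (Nat.card Fˣ) := by
  rw [Nat.card_eq_fintype_card, Fintype.card_units]; exact Nat.Odd.sub_odd h odd_one

theorem card_units_odd (h : ¬ Odd (Fintype.card F)) : Odd (Nat.card Fˣ) := by
  rw [Nat.card_eq_fintype_card, Fintype.card_units]
  exact Nat.Even.sub_odd Fintype.card_pos (Nat.not_odd_iff_even.1 h) odd_one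

theorem odd_of_sq {α : MulChar F ℂ} (h2 : α ^ 2 = 1) (h1 : α ≠ 1) : Odd (Fintype.card F) := by
  by_contra h
  exact h1 (MulChar.mulEquivToUnitHom.map_eq_one_iff.1 (eq_one_of_sq_odd (card_units_odd h) (toUnitHom_sq.2 h2)))

theorem eq_qc {α : MulChar F ℂ} (h2 : α ^ 2 = 1) (h1 : α ≠ 1) : α = qc F :=
  have h := odd_of_sq h2 h1
  MulChar.mulEquivToUnitHom.injective (hom_two_uniq (card_units_even h) (toUnitHom_sq.2 h2)
    (mt MulChar.mulEquivToUnitHom.map_eq_one_iff.1 h1) (toUnitHom_sq.2 qc_sq)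
    (mt MulChar.mulEquivToUnitHom.map_eq_one_iff.1 (qc_ne (odd_iff.1 h))))

theorem card_mc_sq : Nat.card {α : MulChar F ℂ // α ^ 2 ≠ 1} = Nat.card {η : Fˣ →* ℂˣ // η ^ 2 ≠ 1} :=
  Nat.card_congr (MulChar.equivToUnitHom.subtypeEquiv fun _ => toUnitHom_sq.not.symm)

namespace Half
variable {Φ : GL2 F → ℂ} {χ χ' : SL2 F → ℂ} (h : Half Φ χ χ') {ε : ℂ} (h1 : ∀ b, b ≠ 0 → Φ (bm 1 1 b) = ε)
include h h1

theorem unip {b : F} (hb : b ≠ 0) : χ (up b) = (ε + qc F b * (2 * χ (up 1) - ε)) / 2 := by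
  have e := conjSL_up (Units.mk0 b hb) 1
  have e2 := h.add (up 1)
  rw [toG_up, h1 1 one_ne_zero] at e2
  rw [Units.val_mk0, mul_one] at e
  by_cases hs : IsSquare b
  · rw [← e, h.cj_sq (by simpa [Matrix.det_fin_two] using hs), qc_of_sq hb hs]; ring
  · rw [← e, h.cj_nsq (by simpa [Matrix.det_fin_two] using hs), qc_of_nsq hs]; linear_combination e2

theorem sum_up (f : F → ℂ) : ∑ b : F, χ (up b) * f b =
    (Φ 1 - ε) / 2 * f 0 + ε / 2 * ∑ b, f b + (2 * χ (up 1) - ε) / 2 * ∑ b, qc F b * f b := by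
  have : ∀ b : F, χ (up b) * f b = (if b = 0 then (Φ 1 - ε) / 2 * f 0 else 0) + ε / 2 * f b +
      (2 * χ (up 1) - ε) / 2 * (qc F b * f b) := fun b => by
    split_ifs with hb
    · rw [hb, up_eq_one.2 rfl, h.one, MulChar.map_zero]; ring
    · rw [h.unip h1 hb]; ring
  rw [Finset.sum_congr rfl fun b _ => this b]
  simp only [Finset.sum_add_distrib, ← Finset.mul_sum]
  simp

theorem gauss (h0 : Φ 1 = q + ε) : (2 * χ (up 1) - ε) ^ 2 = (-1) ^ ((Fintype.card F - 1) / 2) * q := by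
  obtain ⟨f, hf⟩ := exists_hom_ne_one (G := Multiplicative F) (g := Multiplicative.ofAdd 1)
    (by rw [commutator_eq_bot]; simp)
  let ψ : AddChar F ℂ := ⟨fun b => conj (f (Multiplicative.ofAdd b) : ℂ), by simp, by simp [ofAdd_add]⟩
  have hψ : ψ ≠ 1 := fun e => hf (Units.ext (by simpa [ψ] using congrArg conj (DFunLike.congr_fun e 1)))
  have key : ∀ {χ χ'}, Half Φ χ χ' → ∃ n : ℕ, q * n = q / 2 + (2 * χ (up 1) - ε) / 2 * gaussSum (qc F) ψ := by
    intro χ χ' h
    obtain ⟨n, hn⟩ := inner_char_nat (char_comp (irr_char h.irr) upH) (char_hom f)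
    refine ⟨n, ?_⟩
    have := h.sum_up h1 ψ
    rw [AddChar.sum_eq_zero_of_ne_one hψ, h0, AddChar.map_zero_eq_one] at this
    rw [← hn, classInner, Nat.card_eq_fintype_card, Fintype.card_multiplicative, mul_inv_cancel_left₀ q_ne, gaussSum]
    rw [← Multiplicative.ofAdd.sum_comp]
    refine Eq.trans this ?_
    ring
  obtain ⟨n, hn⟩ := key h
  obtain ⟨m, hm⟩ := key h.symm
  have e2 := h.add (up 1)
  rw [toG_up, h1 1 one_ne_zero] at e2
  have e3 : n + m = 1 := by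
    have : q * (n + m) = q * 1 := by linear_combination hn + hm + gaussSum (qc F) ψ * e2
    exact_mod_cast mul_left_cancel₀ q_ne this
  have e4 : ((2 * n - 1 : ℂ)) ^ 2 = 1 := by
    obtain rfl | rfl : n = 0 ∨ n = 1 := by omega
    all_goals norm_num
  have g := gaussSum_sq (qc_ne h.odd) (MulChar.isQuadratic_iff_sq_eq_one.2 qc_sq) (.of_ne_one hψ)
  rw [qc_neg_one h.odd] at g
  have d : ((-1 : ℂ) ^ ((Fintype.card F - 1) / 2)) ^ 2 = 1 := by rw [← pow_mul, mul_comm, pow_mul]; simp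
  generalize (-1 : ℂ) ^ ((Fintype.card F - 1) / 2) = δ at *
  generalize 2 * χ (up 1) - ε = c at *
  have e5 : c * gaussSum (qc F) ψ = q * (2 * n - 1) := by linear_combination -2 * hn
  apply mul_left_cancel₀ (q_ne (F := F))
  linear_combination δ * (c * gaussSum (qc F) ψ + q * (2 * n - 1)) * e5 + δ * q ^ 2 * e4 - δ * c ^ 2 * g -
    q * c ^ 2 * d

theorem sum_up_one : ∑ b, χ (up b) = (Φ 1 - ε) / 2 + ε / 2 * q := by
  simpa [MulChar.sum_eq_zero_of_ne_one (qc_ne h.odd)] using h.sum_up h1 fun _ => 1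

end Half

/-- `SL₂` as a subgroup. -/
noncomputable abbrev eS : SL2 F ≃* (toG : SL2 F →* GL2 F).range := MonoidHom.ofInjective toG_inj

omit [Fintype F] [DecidableEq F] in
instance : (toG : SL2 F →* GL2 F).range.Normal :=
  ⟨by rintro _ ⟨s, rfl⟩ x; exact ⟨conjSL x s, toG_conjSL x s⟩⟩

theorem inner_eS [Fintype (toG : SL2 F →* GL2 F).range] (Φ : GL2 F → ℂ) (χ : SL2 F → ℂ) :
    𝓘 (fun n : (toG : SL2 F →* GL2 F).range => Φ n) (fun n => χ (eS.symm n)) = 𝓘 (res Φ) χ := by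
  rw [← inner_comp_equiv eS]; simp only [MulEquiv.symm_apply_apply]; rfl

theorem exists_over {χ : SL2 F → ℂ} (hχ : Irr _ χ) : ∃ Φ, Irr _ Φ ∧ 𝓘 (res Φ) χ ≠ 0 := by
  cases nonempty_fintype (toG : SL2 F →* GL2 F).range
  simpa only [inner_eS] using exists_irr_over _ (irr_comp_equiv hχ eS.symm)

theorem exists_half {Φ : GL2 F → ℂ} (hΦ : Irr _ Φ) (h : 𝓘 (res Φ) (res Φ) = 2) : ∃ χ χ', Half Φ χ χ' := by
  cases nonempty_fintype (toG : SL2 F →* GL2 F).range
  have hc := char_comp (irr_char hΦ) toG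
  obtain ⟨χ, χ', h1, h2, h3, h4⟩ := gen_norm_two' (char_gen hc) h
  have h5 : res Φ = χ + χ' := by
    obtain ⟨n, hn⟩ := inner_char_nat hc (irr_char h2)
    rcases h4 with h4 | h4 | h4
    · rw [h4, inner_sub_left, irr_inner_self h2, irr_inner_ne h1 h2 h3] at hn; norm_cast at hn
    · exact h4
    · rw [h4, inner_neg_left, inner_add_left, irr_inner_self h2, irr_inner_ne h1 h2 h3] at hn; norm_cast at hn
  refine ⟨χ, χ', h1, h2, h3, h5, ?_, irr_class hΦ⟩
  obtain ⟨x, hx⟩ := cj_of_inner_ne_zero _ hΦ (irr_comp_equiv h1 eS.symm) (irr_comp_equiv h2 eS.symm)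
    (by simp [inner_eS, h5, inner_add_left, irr_inner_self h1, irr_inner_ne h2 h1 h3.symm])
    (by simp [inner_eS, h5, inner_add_left, irr_inner_self h2, irr_inner_ne h1 h2 h3])
  refine ⟨x, fun g => ?_⟩
  have := congrFun hx (eS g)
  rw [MulEquiv.symm_apply_apply] at this
  rw [this]
  exact congrArg χ (eS.symm_apply_eq.2 (Subtype.ext (toG_conjSL x g).symm))

theorem Half.of_inner {Φ : GL2 F → ℂ} {χ χ' ψ : SL2 F → ℂ} (h : Half Φ χ χ') (hψ : Irr _ ψ)
    (e : 𝓘 (res Φ) ψ ≠ 0) : ψ = χ ∨ ψ = χ' := by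
  by_contra! h'
  rw [h.sum, inner_add_left, irr_inner_ne h.irr hψ h'.1.symm, irr_inner_ne h.irr' hψ h'.2.symm, add_zero] at e
  exact e rfl

theorem Half.uniq {Φ : GL2 F → ℂ} {χ χ' ψ ψ' : SL2 F → ℂ} (h : Half Φ χ χ') (h' : Half Φ ψ ψ') :
    ψ = χ ∨ ψ = χ' :=
  h.of_inner h'.irr (by simp [h'.sum, inner_add_left, irr_inner_self h'.irr, irr_inner_ne h'.irr' h'.irr h'.ne.symm])

/-- Principal series of `SL₂`. -/
noncomputable abbrev rs (α : MulChar F ℂ) : SL2 F → ℂ := res (ps α 1)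

/-- Steinberg character of `SL₂`. -/
noncomputable abbrev St (F : Type*) [Field F] [Fintype F] [DecidableEq F] : SL2 F → ℂ := res (st 1)

theorem res_ps (α β : MulChar F ℂ) : res (ps α β) = rs (α * β⁻¹) := by
  rw [rs, ← res_mul_lin (ps _ 1) β, lin_mul_ps]; simp

theorem st_mul_lin (α γ : MulChar F ℂ) : st α * lin γ = st (α * γ) := by
  rw [st, sub_mul, lin_mul_ps, st]; congr 1

theorem res_st (α : MulChar F ℂ) : res (st α) = St F := by
  rw [St, ← res_mul_lin (st 1) α, st_mul_lin, one_mul]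

open Classical in
theorem inner_rs (α β : MulChar F ℂ) :
    𝓘 (rs α) (rs β) = (if α = β then 1 else 0) + if α = β⁻¹ then 1 else 0 := by
  simp only [inner_res, lin_mul_ps, inner_ps_ps, Finset.sum_add_distrib, one_mul]
  congr 1
  · rw [Finset.sum_eq_single 1] <;> simp +contextual [eq_comm]
  · rw [Finset.sum_eq_single α] <;> simp +contextual [eq_comm, eq_inv_iff_mul_eq_one, mul_comm]

theorem char_rs (α : MulChar F ℂ) : Char _ (rs α) := char_comp (char_ps _ _) toG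

theorem sq_iff {M : Type*} [Group M] {a : M} : a = a⁻¹ ↔ a ^ 2 = 1 := by rw [eq_inv_iff_mul_eq_one, sq]

theorem irr_rs_iff {α : MulChar F ℂ} : Irr _ (rs α) ↔ α ^ 2 ≠ 1 := by
  simp [isIrr_iff_norm_one (char_rs α), inner_rs, sq_iff]

theorem rs_eq_iff {α β : MulChar F ℂ} : rs α = rs β ↔ β = α ∨ β = α⁻¹ := by
  classical
  constructor
  · intro e
    by_contra h
    rw [not_or] at h
    have h1 := inner_rs β α
    rw [e, inner_rs, if_neg h.1, if_neg h.2, if_pos rfl] at h1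
    split_ifs at h1 <;> norm_num at h1
  · rintro (rfl | rfl)
    · rfl
    · rw [← one_mul α⁻¹, ← res_ps, ps_eq_iff.2 (.inr ⟨rfl, rfl⟩)]

theorem irr_St : Irr _ (St F) :=
  isIrr_of_norm_one (char_comp (irr_char (irr_st 1)) toG) (by simp [inner_res, st_mul_lin, inner_st])

theorem exists_half_qc (h : Odd (Fintype.card F)) : ∃ χ χ', Half (ps (qc F) 1) χ χ' :=
  exists_half (irr_ps (qc_ne (odd_iff.1 h))) (by rw [inner_rs, if_pos rfl, if_pos (sq_iff.2 qc_sq)]; norm_num)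

/-- The non-split torus of `SL₂`. -/
abbrev T1 (w : GL2 F) : Subgroup (SL2 F) := (T w).comap toG

/-- Inclusion of tori. -/
abbrev jT (w : GL2 F) : T1 w →* T w := MonoidHom.subgroupComap toG (T w)

variable {w : GL2 F}

omit [Fintype F] [DecidableEq F] in
theorem jT_inj : Function.Injective (jT w) := fun _ _ e => Subtype.ext (toG_inj (congrArg Subtype.val e))

omit [Fintype F] [DecidableEq F] in
theorem range_jT : (jT w).range = (dT w).ker := by
  ext t
  exact ⟨by rintro ⟨s, rfl⟩; exact Units.ext s.1.2, fun h =>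
    ⟨⟨⟨t.1.1, congrArg Units.val h⟩, Subgroup.mem_centralizer_singleton_iff.2 (Units.ext (T_mat t))⟩, Subtype.ext (Units.ext rfl)⟩⟩

omit [Fintype F] [DecidableEq F] in
theorem barH_jT (θ : T w →* ℂˣ) : (barH θ).comp (jT w) = (θ.comp (jT w))⁻¹ := by
  ext t
  have : dT w (jT w t) = 1 := range_jT.le ⟨t, rfl⟩
  simp [barH, this]

omit [Fintype F] [DecidableEq F] in
theorem dch_jT (θ : T w →* ℂˣ) (γ : MulChar F ℂ) : (θ * dch w γ).comp (jT w) = θ.comp (jT w) := by
  ext t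
  have : dT w (jT w t) = 1 := range_jT.le ⟨t, rfl⟩
  simp [dch, this]

variable (hw : ¬ Rt w.1)
include hw

omit [DecidableEq F] in
theorem isCyclic_T : IsCyclic (T w) := by
  let K := Subring.centralizer ({w.1} : Set (Matrix (Fin 2) (Fin 2) F))
  have hK : ∀ x : K, x.1 * w.1 = w.1 * x.1 := fun x => (x.2 _ rfl).symm
  letI : CommRing K := { (inferInstance : Ring K) with
    mul_comm := fun x y => by
      obtain ⟨a, b, h⟩ := (commute_iff_of_ne (ne_one_of_not_rt hw) _).1 (hK x)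
      obtain ⟨c, d, h'⟩ := (commute_iff_of_ne (ne_one_of_not_rt hw) _).1 (hK y)
      refine Subtype.ext (show x.1 * y.1 = y.1 * x.1 from ?_)
      simp only [h, h', add_mul, mul_add, smul_mul_assoc, mul_smul_comm, one_mul, mul_one]
      module }
  have : NoZeroDivisors K := ⟨fun {x y} e => by
    have := congrArg (fun z : K => z.1.det) e
    simp only [Subring.coe_mul, Matrix.det_mul, ZeroMemClass.coe_zero, Matrix.det_zero, mul_eq_zero] at this
    exact this.imp (fun h => Subtype.ext (eq_zero_of_det hw (hK x) h)) fun h => Subtype.ext (eq_zero_of_det hw (hK y) h)⟩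
  have : IsDomain K := NoZeroDivisors.to_isDomain K
  exact isCyclic_of_injective_ringHom (R := K)
    ⟨⟨fun t => ⟨t.1.1, by rintro _ rfl; exact (T_mat t).symm⟩, rfl⟩, fun _ _ => rfl⟩
    fun a b e => Subtype.ext (Units.ext (congrArg Subtype.val e))

omit [DecidableEq F] in
theorem isCyclic_T1 : IsCyclic (T1 w) := have := isCyclic_T hw; isCyclic_of_injective _ jT_inj

theorem card_T1' : Nat.card (T1 w) = Fintype.card F + 1 := by
  rw [← card_T1 hw, ← range_jT]; exact Nat.card_congr (MonoidHom.ofInjective jT_inj).toEquiv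

omit [DecidableEq F] in
theorem exists_ext (η : T1 w →* ℂˣ) : ∃ θ : T w →* ℂˣ, θ.comp (jT w) = η := by
  obtain ⟨θ, h⟩ := exists_hom_extend_comm (T_comm hw) _ (η.comp (MonoidHom.ofInjective jT_inj).symm.toMonoidHom)
  refine ⟨θ, MonoidHom.ext fun t => (h (MonoidHom.ofInjective jT_inj t)).trans ?_⟩
  simp

omit [DecidableEq F] in
theorem jT_eq_iff {θ θ' : T w →* ℂˣ} : θ.comp (jT w) = θ'.comp (jT w) ↔ ∃ γ, θ = θ' * dch w γ := by
  refine ⟨fun h => ?_, by rintro ⟨γ, rfl⟩; exact dch_jT _ _⟩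
  obtain ⟨γ, e⟩ := exists_dch hw (θ := θ'⁻¹ * θ) fun t ht => by
    obtain ⟨s, rfl⟩ := range_jT.ge ht
    exact inv_mul_eq_one.2 (DFunLike.congr_fun h s).symm
  exact ⟨γ, by rw [← e]; ext; simp⟩

omit [DecidableEq F] in
theorem barH_ne_iff {θ : T w →* ℂˣ} : barH θ ≠ θ ↔ θ.comp (jT w) ≠ 1 := by
  rw [Ne, barH_eq_iff hw, not_iff_not]
  exact ⟨fun h => MonoidHom.ext fun t => h _ (range_jT.le ⟨t, rfl⟩), fun h t ht => by
    obtain ⟨s, rfl⟩ := range_jT.ge ht; exact DFunLike.congr_fun h s⟩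

open Classical in
theorem sum_dch (θ θ' : T w →* ℂˣ) : ∑ γ : MulChar F ℂ, (if θ = θ' * dch w γ then (1 : ℂ) else 0) =
    if θ.comp (jT w) = θ'.comp (jT w) then 1 else 0 := by
  split_ifs with h
  · obtain ⟨γ, rfl⟩ := (jT_eq_iff hw).1 h
    simp [(dch_inj hw).eq_iff]
  · exact Finset.sum_eq_zero fun γ _ => if_neg fun e => h ((jT_eq_iff hw).2 ⟨γ, e⟩)

open Classical in
theorem inner_res_cusp (θ θ' : T w →* ℂˣ) : 𝓘 (res (cusp θ)) (res (cusp θ')) =
    (if θ.comp (jT w) = θ'.comp (jT w) then 1 else 0) + if θ.comp (jT w) = (θ'.comp (jT w))⁻¹ then 1 else 0 := by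
  cases nonempty_fintype (T w)
  simp only [inner_res, cusp_mul_lin, inner_cusp_cusp hw, Finset.sum_add_distrib, barH_mul_dch]
  rw [← barH_jT]
  convert congrArg₂ (· + ·) (sum_dch hw θ θ') (sum_dch hw θ (barH θ'))

/-- Extension of characters from the torus of `SL₂`. -/
noncomputable def ext (η : T1 w →* ℂˣ) : T w →* ℂˣ := (exists_ext hw η).choose

omit [DecidableEq F] in
theorem ext_jT (η : T1 w →* ℂˣ) : (ext hw η).comp (jT w) = η := (exists_ext hw η).choose_spec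

/-- Cuspidal characters of `SL₂`. -/
noncomputable abbrev cs (η : T1 w →* ℂˣ) : SL2 F → ℂ := res (cusp (ext hw η))

theorem res_cusp (θ : T w →* ℂˣ) : res (cusp θ) = cs hw (θ.comp (jT w)) := by
  obtain ⟨γ, e⟩ := (jT_eq_iff hw).1 (ext_jT hw (θ.comp (jT w)))
  rw [cs, e, ← cusp_mul_lin, res_mul_lin]

open Classical in
theorem inner_cs (η η' : T1 w →* ℂˣ) :
    𝓘 (cs hw η) (cs hw η') = (if η = η' then 1 else 0) + if η = η'⁻¹ then 1 else 0 := by
  simp only [inner_res_cusp hw, ext_jT]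

theorem irr_cusp_ext {η : T1 w →* ℂˣ} (h : η ≠ 1) : Irr _ (cusp (ext hw η)) :=
  irr_cusp hw ((barH_ne_iff hw).2 (by rwa [ext_jT]))

theorem irr_cs {η : T1 w →* ℂˣ} (h : η ^ 2 ≠ 1) : Irr _ (cs hw η) :=
  isIrr_of_norm_one (char_comp (irr_char (irr_cusp_ext hw (by rintro rfl; exact h (by ext; simp)))) toG)
    (by rw [inner_cs, if_pos rfl, if_neg (mt sq_iff.1 h), add_zero])

theorem cs_eq_iff {η η' : T1 w →* ℂˣ} : cs hw η = cs hw η' ↔ η' = η ∨ η' = η⁻¹ := by
  classical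
  constructor
  · intro e
    by_contra h
    rw [not_or] at h
    have h1 := inner_cs hw η' η
    rw [e, inner_cs, if_neg h.1, if_neg h.2, if_pos rfl] at h1
    split_ifs at h1 <;> norm_num at h1
  · rintro (rfl | rfl)
    · rfl
    · rw [cs, (cusp_eq_iff hw).2 (.inr rfl), res_cusp hw, barH_jT, ext_jT]

theorem exists_half_cs {η : T1 w →* ℂˣ} (h2 : η ^ 2 = 1) (h1 : η ≠ 1) : ∃ χ χ', Half (cusp (ext hw η)) χ χ' :=
  exists_half (irr_cusp_ext hw h1) (by rw [inner_cs, if_pos rfl, if_pos (sq_iff.2 h2)]; norm_num)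

theorem cs_T (η : T1 w →* ℂˣ) (t : T1 w) (h : mkG (toG t.1) ≠ 1) : cs hw η t = -(η t + (η t)⁻¹.val) := by
  have h1 := DFunLike.congr_fun (ext_jT hw η) t
  have h2 := DFunLike.congr_fun (barH_jT (ext hw η)) t
  rw [ext_jT] at h2
  exact (cusp_T hw _ (jT w t) h).trans (by rw [← h1]; congr 3; exact h2.trans (by simp [h1]))

theorem T1_even (h : Odd (Fintype.card F)) : Even (Nat.card (T1 w)) := by rw [card_T1' hw]; exact h.add_one

theorem T1_odd (h : ¬ Odd (Fintype.card F)) : Odd (Nat.card (T1 w)) := by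
  rw [card_T1' hw]; exact (Nat.not_odd_iff_even.1 h).add_one

/-- The irreducible characters of `SL₂`. -/
theorem irr_SL2 {χ : SL2 F → ℂ} (hχ : Irr _ χ) : χ = (fun _ => 1) ∨ χ = St F ∨ (∃ α, α ^ 2 ≠ 1 ∧ χ = rs α) ∨
    (∃ η, η ^ 2 ≠ 1 ∧ χ = cs hw η) ∨ (Odd (Fintype.card F) ∧ ∃ χ', Half (ps (qc F) 1) χ χ') ∨
    (Odd (Fintype.card F) ∧ ∃ η χ', η ^ 2 = 1 ∧ η ≠ 1 ∧ Half (cusp (ext hw η)) χ χ') := by
  obtain ⟨Φ, h1, h2⟩ := exists_over hχ
  rcases irr_GL2 hw h1 with ⟨α, rfl⟩ | ⟨α, rfl⟩ | ⟨α, β, h, rfl⟩ | ⟨θ, h, rfl⟩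
  · refine .inl (irr_eq_of_inner_ne_zero isIrr_one hχ ?_).symm
    rwa [show res (lin α) = fun _ => 1 by ext; simp [lin_apply]] at h2
  · exact .inr (.inl (irr_eq_of_inner_ne_zero irr_St hχ (by rwa [res_st] at h2)).symm)
  · rw [res_ps] at h2
    by_cases e : (α * β⁻¹) ^ 2 = 1
    · have h' : α * β⁻¹ ≠ 1 := mt mul_inv_eq_one.1 h
      rw [eq_qc e h'] at h2
      obtain ⟨a, b, hab⟩ := exists_half_qc (odd_of_sq e h')
      refine .inr (.inr (.inr (.inr (.inl ⟨odd_of_sq e h', ?_⟩))))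
      rcases hab.of_inner hχ h2 with rfl | rfl
      exacts [⟨_, hab⟩, ⟨_, hab.symm⟩]
    · exact .inr (.inr (.inl ⟨_, e, (irr_eq_of_inner_ne_zero (irr_rs_iff.2 e) hχ h2).symm⟩))
  · rw [res_cusp hw] at h2
    rw [barH_ne_iff hw] at h
    by_cases e : θ.comp (jT w) ^ 2 = 1
    · obtain ⟨a, b, hab⟩ := exists_half_cs hw e h
      refine .inr (.inr (.inr (.inr (.inr ⟨odd_iff.2 hab.odd, θ.comp (jT w), ?_⟩))))
      rcases hab.of_inner hχ h2 with rfl | rfl
      exacts [⟨_, e, h, hab⟩, ⟨_, e, h, hab.symm⟩]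
    · exact .inr (.inr (.inr (.inl ⟨_, e, (irr_eq_of_inner_ne_zero (irr_cs hw e) hχ h2).symm⟩)))

end G2
end H3
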