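import Cfsg.Agent.H3.G2c

/-!
H3.G2d: irreducible characters of `SL₂(F)` by degree; values.
-/

set_option autoImplicit false
open Cfsg
open scoped ComplexConjugate

namespace H3.G2
open H5

local notation "𝓘" => classInner
local notation "Cls" => IsClassFunction
local notation "Char" => IsCharacter
local notation "Irr" => IsIrrCharacter

variable {F : Type*} [Field F]

theorem exists_bmS {g : SL2 F} (h : g.1 1 0 = 0) : ∃ (a : Fˣ) (x : F), toG g = bm a a⁻¹ x ∧ g.1 0 0 = a ∧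
    g.1 0 1 = x ∧ g.1 1 1 = (a⁻¹ : Fˣ) := by
  obtain ⟨a, d, x, e⟩ := exists_bm (g := toG g) h
  have := det_toG g
  rw [e] at this
  obtain rfl : d = a⁻¹ := eq_inv_of_mul_eq_one_right (Units.ext (by simpa [Matrix.det_fin_two] using this))
  exact ⟨a, x, e, congrArg (·.1 0 0) e, congrArg (·.1 0 1) e, congrArg (·.1 1 1) e⟩

theorem ne_inv_of_sq {a : Fˣ} (h : (a : F) ^ 2 ≠ 1) : a ≠ a⁻¹ := fun e =>
  h (by simpa using congrArg Units.val (sq_iff.1 e))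

theorem tr_ne_four {g : SL2 F} {a : Fˣ} {x : F} (e : toG g = bm a a⁻¹ x) (h : a ≠ a⁻¹) : g.1.trace ^ 2 ≠ 4 := by
  rw [show g.1 = (bm a a⁻¹ x).1 from congrArg Units.val e]
  intro h'
  simp only [bm_coe, Matrix.trace_fin_two_of] at h'
  refine h (Units.ext (sub_eq_zero.1 (pow_eq_zero_iff two_ne_zero |>.1 ?_)))
  linear_combination h' - 4 * a.mul_inv

theorem tr_ne_four' [Finite F] {g : SL2 F} (h : ¬ Rt g.1) : g.1.trace ^ 2 ≠ 4 := by simpa using tr_ne h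

theorem mkG_toG_iff {g : SL2 F} : mkG (toG g) = 1 ↔ g ∈ Subgroup.center (SL2 F) := by
  rw [mkG_toG, mkS_eq_one_iff, mem_center_SL2]

variable [Fintype F] [DecidableEq F]

local notation "q" => (Fintype.card F : ℂ)

omit [Field F] [DecidableEq F] in
theorem cast_hs (h : Odd (Fintype.card F)) : (((Fintype.card F + 1) / 2 : ℕ) : ℂ) = (q + 1) / 2 := by
  obtain ⟨k, hk⟩ := h
  rw [hk, show (2 * k + 1 + 1) / 2 = k + 1 by omega]; push_cast; ring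

omit [Field F] [DecidableEq F] in
theorem cast_hp (h : Odd (Fintype.card F)) : (((Fintype.card F - 1) / 2 : ℕ) : ℂ) = (q - 1) / 2 := by
  obtain ⟨k, hk⟩ := h
  rw [hk, show (2 * k + 1 - 1) / 2 = k by omega]; push_cast; ring

theorem St_one : St F 1 = q := by simp [St, res, st_one]

theorem rs_one (α : MulChar F ℂ) : rs α 1 = q + 1 := by simp [rs, res, ps_one]

theorem five_le {a : Fˣ} (h : a ≠ a⁻¹) : 4 ≤ Fintype.card F := by
  have h1 : a ≠ 1 := by rintro rfl; simp at h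
  have h2 : a⁻¹ ≠ 1 := by simpa using h1
  have := Finset.card_le_univ {1, a, a⁻¹}
  rw [Finset.card_eq_three.2 ⟨_, _, _, h1.symm, h2.symm, h, rfl⟩, Fintype.card_units] at this; omega

theorem not_rt_of_order {g : SL2 F} (h : orderOf g = Fintype.card F + 1) : ¬ Rt (toG g).1 := fun ⟨c, hc⟩ => by
  have : ∃ i, (rr i)⁻¹ * g * rr i ∈ (B F).comap toG := by
    obtain ⟨a, b, c', d, e, rfl⟩ := exists_sl2 g
    by_cases h : c' = 0
    · exact ⟨none, mem_B.2 (by simpa [rr] using h)⟩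
    · refine ⟨some ((c - d) / c'), mem_B.2 ?_⟩
      rw [map_mul, map_mul, map_inv, rr_inv, rr, toGL_sl2, toGL_sl2, gl2_mul, gl2_mul]
      simp [toGL_sl2, Matrix.trace_fin_two, Matrix.det_fin_two] at hc ⊢
      field_simp; linear_combination hc
  obtain ⟨i, hi⟩ := this
  have h1 := orderOf_dvd_natCard (⟨_, hi⟩ : (B F).comap toG)
  rw [Subgroup.orderOf_mk, ← inv_inv (rr i), inv_inv (rr i)⁻¹, ← MulAut.conj_apply, MulEquiv.orderOf_eq, h] at h1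
  have h2 := indFun_one ((B F).comap toG) (fun b => (1 : MulChar F ℂ) ((b : SL2 F).1 0 0))
  rw [ps_toG] at h2
  replace h2 := (rs_one 1).symm.trans h2
  have h3 := congrArg (Nat.cast : ℕ → ℂ) ((B F).comap toG).index_mul_card
  simp only [Nat.cast_mul, card_SL2', OneMemClass.coe_one, Matrix.SpecialLinearGroup.coe_one, Matrix.one_apply_eq,
    map_one, mul_one] at h2 h3
  rw [← h2] at h3
  obtain ⟨n, hn⟩ := Nat.exists_eq_add_of_le (Fintype.one_lt_card (α := F))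
  have h4 : Nat.card ((B F).comap toG) = (Fintype.card F + 1) * n + 2 := by
    apply Nat.cast_injective (R := ℂ)
    apply mul_left_cancel₀ (q1_ne' (F := F))
    rw [h3, hn]; push_cast; ring
  rw [h4, Nat.dvd_add_right (dvd_mul_right _ _)] at h1
  have := Nat.le_of_dvd two_pos h1; omega

variable {w : GL2 F} (hw : ¬ Rt w.1)
include hw

theorem cs_one (η : T1 w →* ℂˣ) : cs hw η 1 = q - 1 := by simp [cs, res, cusp_one hw]

theorem sdeg {χ : SL2 F → ℂ} (hχ : Irr _ χ) : (χ 1 = 1 ∧ χ = fun _ => 1) ∨ (χ 1 = q ∧ χ = St F) ∨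
    (χ 1 = q + 1 ∧ ∃ α, α ^ 2 ≠ 1 ∧ χ = rs α) ∨ (χ 1 = q - 1 ∧ ∃ η, η ^ 2 ≠ 1 ∧ χ = cs hw η) ∨
    (χ 1 = (q + 1) / 2 ∧ Odd (Fintype.card F) ∧ ∃ χ', Half (ps (qc F) 1) χ χ') ∨
    (χ 1 = (q - 1) / 2 ∧ Odd (Fintype.card F) ∧ ∃ η χ', η ^ 2 = 1 ∧ η ≠ 1 ∧ Half (cusp (ext hw η)) χ χ') := by
  refine (irr_SL2 hw hχ).imp (fun h => ⟨by rw [h], h⟩) (.imp (fun h => ⟨by rw [h, St_one], h⟩) (.imp (fun h => ⟨?_, h⟩)
    (.imp (fun h => ⟨?_, h⟩) (.imp (fun h => ⟨?_, h⟩) fun h => ⟨?_, h⟩))))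
  · obtain ⟨_, -, rfl⟩ := h; exact rs_one _
  · obtain ⟨_, -, rfl⟩ := h; exact cs_one hw _
  · obtain ⟨-, _, h⟩ := h; rw [h.one, ps_one]
  · obtain ⟨-, _, _, -, -, h⟩ := h; rw [h.one, cusp_one hw]

variable {χ : SL2 F → ℂ} (hχ : Irr _ χ)
include hχ

theorem sdeg_q (h : χ 1 = q) : χ = St F := by
  have hq' := q_re (F := F)
  have := Fintype.one_lt_card (α := F)
  rcases sdeg hw hχ with ⟨e, h'⟩ | ⟨e, h'⟩ | ⟨e, h'⟩ | ⟨e, h'⟩ | ⟨e, h'⟩ | ⟨e, h'⟩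
  rotate_left
  · exact h'
  all_goals
    have := congrArg Complex.re (h.symm.trans e)
    simp at this
    try linarith

theorem sdeg_succ (h : χ 1 = q + 1) : ∃ α, α ^ 2 ≠ 1 ∧ χ = rs α := by
  have hq' := q_re (F := F)
  rcases sdeg hw hχ with ⟨e, h'⟩ | ⟨e, h'⟩ | ⟨e, h'⟩ | ⟨e, h'⟩ | ⟨e, h'⟩ | ⟨e, h'⟩
  rotate_left 2
  · exact h'
  all_goals
    have := congrArg Complex.re (h.symm.trans e)
    simp at this
    try linarith

theorem sdeg_one (hq : 4 ≤ Fintype.card F) (h : χ 1 = 1) : χ = fun _ => 1 := by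
  have hq' : (4 : ℝ) ≤ Fintype.card F := by exact_mod_cast hq
  rcases sdeg hw hχ with ⟨e, h'⟩ | ⟨e, h'⟩ | ⟨e, h'⟩ | ⟨e, h'⟩ | ⟨e, h'⟩ | ⟨e, h'⟩
  · exact h'
  all_goals
    have := congrArg Complex.re (h.symm.trans e)
    simp at this
    try linarith

theorem sdeg_pred' (hq : 3 ≤ Fintype.card F) (h : χ 1 = q - 1) : (∃ η, η ^ 2 ≠ 1 ∧ χ = cs hw η) ∨
    (Fintype.card F = 3 ∧ ∃ χ', Half (ps (qc F) 1) χ χ') := by
  have hq' : (3 : ℝ) ≤ Fintype.card F := by exact_mod_cast hq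
  rcases sdeg hw hχ with ⟨e, h'⟩ | ⟨e, h'⟩ | ⟨e, h'⟩ | ⟨e, h'⟩ | ⟨e, h'⟩ | ⟨e, h'⟩
  rotate_left 3
  · exact .inl h'
  · exact .inr ⟨by exact_mod_cast (by linear_combination 2 * (h.symm.trans e) : q = 3), h'.2⟩
  all_goals
    have := congrArg Complex.re (h.symm.trans e)
    simp at this
    try linarith

theorem sdeg_pred (hq : 4 ≤ Fintype.card F) (h : χ 1 = q - 1) : ∃ η, η ^ 2 ≠ 1 ∧ χ = cs hw η :=
  (sdeg_pred' hw hχ (by omega) h).resolve_right fun h => by omega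

theorem sdeg_hs' (h : χ 1 = (q + 1) / 2) : (∃ χ', Half (ps (qc F) 1) χ χ') ∨
    (Fintype.card F = 3 ∧ ∃ η, η ^ 2 ≠ 1 ∧ χ = cs hw η) := by
  have hq' := q_re (F := F)
  rcases sdeg hw hχ with ⟨e, h'⟩ | ⟨e, h'⟩ | ⟨e, h'⟩ | ⟨e, h'⟩ | ⟨e, h'⟩ | ⟨e, h'⟩
  rotate_left 3
  · exact .inr ⟨by exact_mod_cast (by linear_combination -2 * (h.symm.trans e) : q = 3), h'⟩
  · exact .inl h'.2
  all_goals
    have := congrArg Complex.re (h.symm.trans e)
    simp at this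
    try linarith

theorem sdeg_hs (hq : 4 ≤ Fintype.card F) (h : χ 1 = (q + 1) / 2) : ∃ χ', Half (ps (qc F) 1) χ χ' :=
  (sdeg_hs' hw hχ h).resolve_right fun h => by omega

theorem sdeg_hp (hq : 4 ≤ Fintype.card F) (h : χ 1 = (q - 1) / 2) :
    ∃ η χ', η ^ 2 = 1 ∧ η ≠ 1 ∧ Half (cusp (ext hw η)) χ χ' := by
  have hq' : (4 : ℝ) ≤ Fintype.card F := by exact_mod_cast hq
  rcases sdeg hw hχ with ⟨e, h'⟩ | ⟨e, h'⟩ | ⟨e, h'⟩ | ⟨e, h'⟩ | ⟨e, h'⟩ | ⟨e, h'⟩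
  rotate_left 5
  · exact h'.2
  all_goals
    have := congrArg Complex.re (h.symm.trans e)
    simp at this
    try linarith

omit hχ

theorem cs_three (h : Fintype.card F = 3) {η : T1 w →* ℂˣ} (hη : η ^ 2 ≠ 1) (t : T1 w) (ht : mkG (toG t.1) ≠ 1) :
    (η t : ℂ) + (η t)⁻¹.val = 0 := by
  have hc := card_T1' hw
  rw [h] at hc
  have h2 : ¬ t ^ 2 = 1 := fun e => ht (mkS_eq_one_iff.2 (sl2_sq_eq_one (two_ne_of_odd (by rw [h]; decide))
    (by simpa [sq] using congrArg Subtype.val e)))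
  have h4 : orderOf t = 2 ^ (1 + 1) := orderOf_eq_prime_pow (by simpa using h2) (by have := pow_card_eq_one' (x := t); rwa [hc] at this)
  have h5 := (Subgroup.card_eq_iff_eq_top (Subgroup.zpowers t)).1 (by rw [Nat.card_zpowers, h4, hc]; rfl)
  have h6 : (η t : ℂ) ^ 2 - 1 ≠ 0 := fun e => hη (by
    ext x
    obtain ⟨k, rfl⟩ := h5.ge (Subgroup.mem_top x)
    have : η t ^ 2 = 1 := Units.ext (sub_eq_zero.1 e)
    change ((η (t ^ k) ^ 2 : ℂˣ) : ℂ) = 1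
    rw [map_zpow, ← zpow_natCast, ← zpow_mul, mul_comm k, zpow_mul, zpow_natCast, this]; simp)
  have h7 := hom_pow_card η t
  rw [hc] at h7
  have h8 : (η t : ℂ) ^ 2 + 1 = 0 := mul_left_cancel₀ h6 (by linear_combination h7)
  rw [Units.val_inv_eq_inv_val]
  field_simp; linear_combination h8

omit hw in
theorem card_half {Φ : GL2 F → ℂ} {a b : SL2 F → ℂ} (h : Half Φ a b) {d : ℂ} (hd : Φ 1 / 2 = d)
    (hs : ∀ χ, Irr _ χ → χ 1 = d → ∃ χ', Half Φ χ χ') : Nat.card {χ : IrrCharacter (SL2 F) // χ.1 1 = d} = 2 := by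
  refine (card_irr_of_inj (fun i : Bool => if i then a else b) (· 1 = d) ?_ ?_ (fun χ h1 h2 => ?_) ?_).trans (by simp)
  · rintro (_ | _); exacts [h.irr', h.irr]
  · rintro (_ | _); exacts [h.symm.one.trans hd, h.one.trans hd]
  · obtain ⟨χ', h'⟩ := hs χ h1 h2
    rcases h.uniq h' with rfl | rfl
    exacts [⟨true, rfl⟩, ⟨false, rfl⟩]
  · rintro (_ | _) (_ | _) e
    exacts [rfl, absurd e.symm h.ne, absurd e h.ne, rfl]

theorem card_succ : Nat.card {χ : IrrCharacter (SL2 F) // χ.1 1 = q + 1} =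
    Nat.card {η : Fˣ →* ℂˣ // η ^ 2 ≠ 1} / 2 := by
  rw [← card_mc_sq]
  refine card_irr_of_two (fun α : {α : MulChar F ℂ // α ^ 2 ≠ 1} => rs α.1) (· 1 = _) (fun α => irr_rs_iff.2 α.2)
    (fun _ => rs_one _) (fun χ h1 h2 => ?_) (fun α => ⟨α.1⁻¹, by simpa using α.2⟩)
    (fun α e => α.2 (sq_iff.1 (congrArg Subtype.val e).symm)) fun a b => by simp only [rs_eq_iff, Subtype.ext_iff]
  obtain ⟨α, h, e⟩ := sdeg_succ hw h1 h2
  exact ⟨⟨α, h⟩, e⟩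

theorem card_pred (hq : 4 ≤ Fintype.card F) : Nat.card {χ : IrrCharacter (SL2 F) // χ.1 1 = q - 1} =
    Nat.card {η : T1 w →* ℂˣ // η ^ 2 ≠ 1} / 2 := by
  refine card_irr_of_two (fun α : {η : T1 w →* ℂˣ // η ^ 2 ≠ 1} => cs hw α.1) (· 1 = _) (fun α => irr_cs hw α.2)
    (fun _ => cs_one hw _) (fun χ h1 h2 => ?_) (fun α => ⟨α.1⁻¹, fun e => α.2 (MonoidHom.ext fun t => by simpa using DFunLike.congr_fun e t)⟩)
    (fun α e => α.2 (sq_iff.1 (congrArg Subtype.val e).symm)) fun a b => by simp only [cs_eq_iff, Subtype.ext_iff]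
  obtain ⟨α, h, e⟩ := sdeg_pred hw h1 hq h2
  exact ⟨⟨α, h⟩, e⟩

theorem card_sone (hq : 4 ≤ Fintype.card F) : Nat.card {χ : IrrCharacter (SL2 F) // χ.1 1 = 1} = 1 :=
  (card_irr_of_inj (fun _ : Unit => fun _ => 1) (· 1 = 1) (fun _ => isIrr_one) (fun _ => rfl)
    (fun _ h1 h2 => ⟨(), sdeg_one hw h1 hq h2⟩) fun _ _ _ => rfl).trans (by simp)

theorem card_sq : Nat.card {χ : IrrCharacter (SL2 F) // χ.1 1 = q} = 1 :=
  (card_irr_of_inj (fun _ : Unit => St F) (· 1 = q) (fun _ => irr_St) (fun _ => St_one)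
    (fun _ h1 h2 => ⟨(), sdeg_q hw h1 h2⟩) fun _ _ _ => rfl).trans (by simp)

theorem cusp_up (θ : T w →* ℂˣ) (b : F) (hb : b ≠ 0) : cusp θ (bm 1 1 b) = -1 := by simp [cusp_bm hw, nf, hb]

omit hw in
theorem ps_up (α β : MulChar F ℂ) (b : F) (hb : b ≠ 0) : ps α β (bm 1 1 b) = 1 := by simp [ps_bm, nf, hb]

theorem cusp_scG_mul {θ : T w →* ℂˣ} (h : barH θ ≠ θ) (a : Fˣ) (x : GL2 F) :
    cusp θ (scG a * x) = θ (sc w a) * cusp θ x := by
  have hi := irr_cusp hw h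
  obtain ⟨f, hf⟩ := exists_hom_charCenter (irr_one_ne_zero hi)
  have hz := center_le_charCenter hi (Subgroup.mem_center_iff.2 (scG_comm a))
  have h1 : cusp θ (1 * bm a a 0) = _ := hf ⟨_, hz⟩ 1
  rw [one_mul, cusp_one hw, cusp_bm hw, om_apply, nf, if_pos rfl, if_pos rfl, mul_comm] at h1
  rw [← scG_comm, hf ⟨_, hz⟩, mul_right_cancel₀ q1_ne h1]

end H3.G2
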