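import Cfsg.Agent.H3.G2d
import Cfsg.Prelude.Def_DegreeGraph

/-!
H3.G2e: character degrees of `SL₂(F)` and `PSL₂(F)`.
-/

set_option autoImplicit false
open Cfsg

namespace H3.G2
open H5

local notation "Irr" => IsIrrCharacter

theorem exists_hom_four {A : Type*} [Group A] [Finite A] [IsCyclic A] (h : ¬ Nat.card A ∣ 4) :
    ∃ η : A →* ℂˣ, η ^ 2 ≠ 1 ∧ ∀ z, z ^ 2 = 1 → η z = 1 := by
  obtain ⟨g, hg⟩ := IsCyclic.exists_generator (α := A)
  rw [← orderOf_eq_card_of_forall_mem_zpowers hg, orderOf_dvd_iff_pow_eq_one] at h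
  obtain ⟨f, hf⟩ := exists_hom_ne_one (g := g ^ 4) (by
    rwa [(commutator_eq_bot_iff _).mpr ⟨⟨cyc_comm ‹_›⟩⟩, Subgroup.mem_bot])
  refine ⟨f ^ 2, fun e => hf ?_, fun z hz => ?_⟩
  · simpa [← pow_mul] using DFunLike.congr_fun e g
  · rw [MonoidHom.pow_apply, ← map_pow, hz, map_one]

theorem chdeg {G : Type*} [Group G] {χ : G → ℂ} {n : ℕ} (h : χ 1 = n) : charDegree χ = n := by simp [charDegree, h]

variable {F : Type*} [Field F] [Fintype F] {S : Type*} [Group S] [Finite S]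

local notation "q" => (Fintype.card F : ℂ)

omit [Fintype F] [Finite S] in
theorem exists_surj (hS : Nonempty (S ≃* PSL2 F) ∨ Nonempty (S ≃* SL2 F)) :
    ∃ f : SL2 F →* S, Function.Surjective f ∧ ∀ g, f g = 1 → g = 1 ∨ g = -1 := by
  rcases hS with ⟨⟨e⟩⟩ | ⟨⟨e⟩⟩
  · exact ⟨e.symm.toMonoidHom.comp (QuotientGroup.mk' _), e.symm.surjective.comp (QuotientGroup.mk'_surjective _),
      fun g h => mem_center_SL2.1 ((QuotientGroup.eq_one_iff g).1 (e.symm.map_eq_one_iff.1 h))⟩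
  · exact ⟨e.symm.toMonoidHom, e.symm.surjective, fun g h => .inl (e.symm.map_eq_one_iff.1 h)⟩

variable {f : SL2 F →* S} (hf : Function.Surjective f)
include hf

omit [Finite S] in
theorem degs_le {d : ℕ} (h : d ∈ charDegrees S) : d = 1 ∨ d = Fintype.card F ∨ d = Fintype.card F + 1 ∨
    d = Fintype.card F - 1 ∨ (Odd (Fintype.card F) ∧ (d = (Fintype.card F + 1) / 2 ∨ d = (Fintype.card F - 1) / 2)) := by
  classical
  obtain ⟨w, hw⟩ := exists_not_rt (F := F)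
  obtain ⟨χ, rfl⟩ := h
  rcases sdeg hw (irr_comp_surj χ.2 f hf) with ⟨e, h'⟩ | ⟨e, h'⟩ | ⟨e, h'⟩ | ⟨e, h'⟩ | ⟨e, h', -⟩ | ⟨e, h', -⟩ <;>
    rw [map_one] at e
  · exact .inl (chdeg (by simpa using e))
  · exact .inr (.inl (chdeg e))
  · exact .inr (.inr (.inl (chdeg (by simpa using e))))
  · exact .inr (.inr (.inr (.inl (chdeg (by rw [e, Nat.cast_sub Fintype.card_pos, Nat.cast_one])))))
  · exact .inr (.inr (.inr (.inr ⟨h', .inl (chdeg (e.trans (cast_hs h').symm))⟩)))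
  · exact .inr (.inr (.inr (.inr ⟨h', .inr (chdeg (e.trans (cast_hp h').symm))⟩)))

variable (hk : ∀ g, f g = 1 → g = 1 ∨ g = -1)
include hk

omit [Finite S] in
theorem deflate {χ : SL2 F → ℂ} (hχ : Irr _ χ) (h : χ (-1) = χ 1) : ∃ ψ : S → ℂ, Irr S ψ ∧ ∀ g, ψ (f g) = χ g :=
  exists_deflate_irr f hf hχ fun g hg => by rcases hk g hg with rfl | rfl; exacts [rfl, h]

omit [Finite S] in
theorem mem_degs {χ : SL2 F → ℂ} (hχ : Irr _ χ) (h : χ (-1) = χ 1) {d : ℕ} (hd : χ 1 = d) : d ∈ charDegrees S :=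
  let ⟨ψ, h1, h2⟩ := deflate hf hk hχ h
  ⟨⟨ψ, h1⟩, chdeg (by rw [← hd, ← h2, map_one])⟩

omit hf hk [Fintype F] in
theorem toG_neg : toG (-1 : SL2 F) = bm (-1) (-1) 0 :=
  Units.ext (by ext i j; fin_cases i <;> fin_cases j <;> simp)

omit hf hk in
theorem St_neg [DecidableEq F] : St F (-1) = St F 1 := by
  rw [St_one, St, res, toG_neg, st_bm, MulChar.one_apply_coe]; simp [nf]

omit [Finite S] in
theorem degs_ge (h1 : 4 ≤ Fintype.card F) (h2 : Fintype.card F ≠ 5) : Fintype.card F ∈ charDegrees S ∧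
    Fintype.card F + 1 ∈ charDegrees S ∧ Fintype.card F - 1 ∈ charDegrees S := by
  classical
  obtain ⟨w, hw⟩ := exists_not_rt (F := F)
  have := isCyclic_T1 hw
  refine ⟨mem_degs hf hk irr_St St_neg St_one, ?_, ?_⟩
  · obtain ⟨η, e1, e2⟩ := exists_hom_four (A := Fˣ) (by
      rw [Nat.card_eq_fintype_card, Fintype.card_units]
      intro h
      have := Nat.le_of_dvd four_pos h
      obtain h' : Fintype.card F = 4 := by omega
      simp [h'] at h)
    obtain ⟨α, rfl⟩ := MulChar.equivToUnitHom.surjective η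
    have e3 : α (-1 : Fˣ) = 1 := congrArg Units.val (e2 (-1) (by simp))
    refine mem_degs hf hk (irr_rs_iff.2 (mt toUnitHom_sq.2 e1)) ?_ (by rw [rs_one]; simp)
    rw [rs_one, rs, res, toG_neg, ps_bm, e3, MulChar.one_apply_coe]; simp [nf, add_comm]
  · obtain ⟨η, e1, e2⟩ := exists_hom_four (A := T1 w) (by
      rw [card_T1' hw]; intro h; have := Nat.le_of_dvd four_pos h; omega)
    refine mem_degs hf hk (irr_cs hw e1) ?_ (by rw [cs_one, Nat.cast_sub Fintype.card_pos, Nat.cast_one])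
    have hm : (-1 : SL2 F) ∈ T1 w := Subgroup.mem_comap.2 (by rw [toG_neg]; exact (sc w (-1)).2)
    rw [cs_one, cs, res, toG_neg, cusp_bm hw, om_apply, show sc w (-1) = jT w ⟨-1, hm⟩ from Subtype.ext toG_neg.symm,
      ← MonoidHom.comp_apply, ext_jT, e2 _ (Subtype.ext (by simp))]
    simp [nf]

end H3.G2
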