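import Mathlib

/-!
H3.L0: the finite check behind the recognition of `PSL(3, 3)` on 13 points.
-/

set_option autoImplicit false

namespace H3
namespace L33

/-- the map which commutes with multiplication by 3 modulo 13 and multiplies `1, 2, 4, 7` by `a, b, c, d` -/
def gN (a b c d x : ℕ) : ℕ :=
  x * (bif Nat.beq (x * x * x % 13) 1 then a else bif Nat.beq (x * x * x % 13) 8 then b else bif Nat.beq (x * x * x % 13) 12 then c else d) % 13

/-- the test -/
def chk (γ : ℕ → ℕ) : Bool :=
  !([1, 2, 4, 7].all fun x => Nat.beq (γ^[9] x) x) ||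
  (([1, 2, 4, 7].any fun m => (List.range 3).any fun i => (List.range 3).any fun j => (List.range 13).all fun x =>
    Nat.beq (γ^[j] (3 ^ i * (m * x) % 13)) (m * gN 1 4 11 8 x % 13)) ||
  (((List.range 3).any fun i => (List.range 13).all fun x => Nat.beq (γ x) (3 ^ i * x % 13)) ||
  (List.range 13).any fun k => (List.range 13).any fun x => [7, 10, 11].any fun n =>
    Nat.beq ((fun y => (γ ((γ y + 1) % 13) + k) % 13)^[n] x) x && !Nat.beq ((fun y => (γ ((γ y + 1) % 13) + k) % 13)^[2] x) x))

theorem chk_all : ((List.range 13).all fun a => (List.range 13).all fun b => (List.range 13).all fun c => (List.range 13).all fun d =>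
    chk (gN a b c d)) = true := by
  decide +kernel

theorem eq_gN {γ : ℕ → ℕ} (h0 : ∀ x, γ x < 13) (h : ∀ x, γ (3 * x % 13) = 3 * γ x % 13) :
    ∃ a < 13, ∃ b < 13, ∃ c < 13, ∃ d < 13, ∀ x < 13, γ x = gN a b c d x := by
  refine ⟨γ 1, h0 1, 7 * γ 2 % 13, by omega, 10 * γ 4 % 13, by omega, 2 * γ 7 % 13, by omega, fun x a => ?_⟩
  have := h 0; have := h 1; have := h 3; have := h 2; have := h 6; have := h 4; have := h 12; have := h 7; have := h 8
  have := h0 0; have := h0 1; have := h0 2; have := h0 4; have := h0 7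
  interval_cases x <;> simp only [gN, Nat.reduceMul, Nat.reduceMod, Nat.reduceBEq, Nat.beq, cond_true, cond_false] at * <;> omega

end L33

end H3
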