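import Cfsg.Agent.H3.M5

/-!
H3.L1: groups of order 5616 with the local data of `PSL(3, 3)`.
-/

set_option autoImplicit false
open Cfsg Subgroup Finset

namespace H3
open H4

variable {G : Type*} [Group G] [Finite G]

namespace L33

theorem le_norm {a b : G} (ha : Nat.card (C1 a) = 54) (hE : Nat.card (C1 a ⊓ C1 b : Subgroup G) = 9)
    (hc : ∀ x ∈ C1 a ⊓ C1 b, ∀ y ∈ C1 a ⊓ C1 b, x * y = y * x) (hab : a * b = b * a) (a1 : a ≠ 1) : C1 a ≤ NS (C1 a ⊓ C1 b) := by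
  haveI : Fact (Nat.Prime 3) := ⟨Nat.prime_three⟩
  set E := C1 a ⊓ C1 b
  have m := @mem_centralizer_singleton_iff G _
  have aE : a ∈ E := ⟨m.2 rfl, m.2 hab⟩
  have bE : b ∈ E := ⟨m.2 hab.symm, m.2 rfl⟩
  obtain ⟨S, s1, s2⟩ := H1.exists_isSylowIn_ge (p := 3) (IsPGroup.of_card (n := 2) hE) (inf_le_left : E ≤ C1 a)
  have cS : Nat.card S = 27 := by rw [s1.card_eq, ha]; decide +kernel
  have n1 : S ≤ NS E := (normal_subgroupOf_iff_le_normalizer s2).1 (normal_of_index_eq_minFac_card (by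
    have := H1.card_mul_relIndex s2
    rw [hE, cS] at this
    rw [cS, show (E.subgroupOf S).index = 3 by rw [relIndex] at this; omega]; norm_num))
  have n2 : C1 a ≤ NS S := (normal_subgroupOf_iff_le_normalizer s1.le).1 (normal_of_index_eq_two (by
    have := H1.card_mul_relIndex s1.le
    rw [ha, cS, relIndex] at this; omega))
  obtain ⟨⟨t, t1⟩, t2⟩ := exists_prime_orderOf_dvd_card' (G := C1 a) 2 (by rw [ha]; norm_num)
  rw [Subgroup.orderOf_mk] at t2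
  have tt : t * t = 1 := by rw [← sq, ← t2, pow_orderOf_eq_one]
  have ti : t⁻¹ = t := inv_eq_of_mul_eq_one_right tt
  have cj : ∀ x y : G, x * y = y * x → t * x * t⁻¹ * (t * y * t⁻¹) = t * y * t⁻¹ * (t * x * t⁻¹) := fun x y e => by
    simp only [conj_mul, e]
  have bb : t * (t * b * t⁻¹) * t⁻¹ = b := by rw [ti, ← mul_assoc, ← mul_assoc, tt, one_mul, mul_assoc, tt, mul_one]
  have bS := (mem_normalizer_iff.1 (n2 t1) b).1 (s2 bE)
  have bE' : t * b * t⁻¹ ∈ E := by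
    generalize hb' : t * b * t⁻¹ = c at *
    by_contra n
    have kE : b * (c * b⁻¹ * c⁻¹) ∈ E := E.mul_mem bE ((mem_normalizer_iff.1 (n1 bS) _).1 (E.inv_mem bE))
    have k1 : t * (b * (c * b⁻¹ * c⁻¹)) * t⁻¹ = (b * (c * b⁻¹ * c⁻¹))⁻¹ := by
      rw [← conj_mul, ← conj_mul, ← conj_mul, ← conj_inv, ← conj_inv, bb, hb']; group
    have k2 := cj _ _ (hc _ kE b bE)
    rw [k1, hb'] at k2
    have z : zpowers a = E ⊓ C1 c := eq_of_le_of_card_ge (zpowers_le.2 ⟨aE, m.2 (m.1 (s1.le bS)).symm⟩) (by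
      obtain ⟨i, i1, i2⟩ := (Nat.dvd_prime_pow Nat.prime_three (m := 2)).1 (hE ▸ card_dvd_of_le (inf_le_left : E ⊓ C1 c ≤ E))
      obtain ⟨j, -, j2⟩ := (Nat.dvd_prime_pow Nat.prime_three (m := 2)).1 (hE ▸ Subgroup.orderOf_dvd_natCard E aE)
      have i3 : i ≠ 2 := fun e => n ⟨s1.le bS, m.2 (m.1 ((eq_of_le_of_card_ge (inf_le_left : E ⊓ C1 c ≤ E)
        (by rw [i2, hE, e]; rfl)).ge bE).2).symm⟩
      have j3 : j ≠ 0 := fun e => a1 (orderOf_eq_one_iff.1 (by rw [j2, e]; rfl))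
      rw [i2, Nat.card_zpowers, j2]
      exact Nat.pow_le_pow_right (by norm_num) (by omega))
    obtain ⟨i, hi⟩ := z.ge ⟨kE, m.2 (Commute.inv_left_iff.1 k2)⟩
    have k3 : t * (b * (c * b⁻¹ * c⁻¹)) * t⁻¹ = b * (c * b⁻¹ * c⁻¹) := by
      rw [← hi, mul_inv_eq_iff_eq_mul]; exact (Commute.zpow_right (m.1 t1) i).eq
    have k4 : orderOf (b * (c * b⁻¹ * c⁻¹)) ∣ Nat.gcd 2 9 := Nat.dvd_gcd (orderOf_dvd_of_pow_eq_one (by
      rw [sq, ← eq_inv_iff_mul_eq_one, ← k1, k3])) (hE ▸ Subgroup.orderOf_dvd_natCard E kE)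
    have k5 := orderOf_eq_one_iff.1 (Nat.dvd_one.1 k4)
    exact n ⟨s1.le bS, m.2 (by rw [eq_comm, ← mul_inv_eq_one, ← k5]; group)⟩
  have tN : t ∈ NS E := mem_normalizer_fintype fun x c => ⟨(C1 a).mul_mem ((C1 a).mul_mem t1 c.1) ((C1 a).inv_mem t1), m.2 (by
    have := cj _ _ (hc x c _ bE')
    rwa [bb] at this)⟩
  exact inf_eq_left.1 (eq_of_le_of_card_ge inf_le_left (ha.trans_le (Nat.le_of_dvd Nat.card_pos
    (Nat.Coprime.mul_dvd_of_dvd_of_dvd (m := 2) (n := 27) (by norm_num) (t2 ▸ Subgroup.orderOf_dvd_natCard _ (mem_inf.2 ⟨t1, tN⟩))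
      (cS ▸ card_dvd_of_le (le_inf s1.le n1))))))

variable (hG : Nat.card G = 5616) (h13 : ∀ x : G, x ≠ 1 → 13 ∣ Nat.card (C1 x) → Nat.card (C1 x) = 13)
include hG h13

theorem c13 {X : Subgroup G} (h : Nat.card X = 13) : Nat.card (CS X) = 13 := by
  haveI : Fact (Nat.Prime 13) := ⟨by norm_num⟩
  obtain ⟨⟨x, x1⟩, x2⟩ := exists_prime_orderOf_dvd_card' (G := X) 13 h.symm.dvd
  have x3 : x ≠ 1 := by rintro rfl; simp [Subgroup.orderOf_mk] at x2
  rw [← C1_eq_prime h x1 x3]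
  exact h13 x x3 (by rw [C1_eq_prime h x1 x3]; exact h ▸ card_dvd_of_le (le_CS_prime h))

theorem index13 {a b : G} (ha : Nat.card (C1 a) = 54) (hb : Nat.card (C1 b) = 54) (hE : Nat.card (C1 a ⊓ C1 b : Subgroup G) = 9)
    (hc : ∀ x ∈ C1 a ⊓ C1 b, ∀ y ∈ C1 a ⊓ C1 b, x * y = y * x) (hab : a * b = b * a) : (NS (C1 a ⊓ C1 b)).index = 13 := by
  haveI : Fact (Nat.Prime 13) := ⟨by norm_num⟩
  have o : ∀ a : G, Nat.card (C1 a) = 54 → a ≠ 1 := by
    rintro _ e rfl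
    rw [show C1 (1 : G) = ⊤ from eq_top_iff.2 fun x _ => mem_centralizer_singleton_iff.2 (by simp), card_top, hG] at e
    omega
  have a1 := le_norm ha hE hc hab (o a ha)
  have b1 := le_norm hb (inf_comm (C1 a) _ ▸ hE) (inf_comm (C1 a) _ ▸ hc) hab.symm (o b hb)
  rw [inf_comm] at b1
  have r1 := H1.card_mul_relIndex (inf_le_left : C1 a ⊓ C1 b ≤ C1 a)
  have r2 := H1.card_mul_relIndex b1
  have r3 := relIndex_le_of_le_right (H := C1 b) a1 (fun e => Nat.card_pos.ne' (by rw [← r2, e, mul_zero]))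
  have r4 := card_mul_index (NS (C1 a ⊓ C1 b))
  rw [inf_relIndex_left, ha, hE] at r1
  have r5 : ¬ 13 ∣ Nat.card (NS (C1 a ⊓ C1 b)) := fun d => by
    obtain ⟨⟨s, s1⟩, s2⟩ := exists_prime_orderOf_dvd_card' 13 d
    rw [Subgroup.orderOf_mk, ← Nat.card_zpowers] at s2
    obtain ⟨j, k, -, k1, k2, k3, k4⟩ := fix_sylow Nat.prime_three Fact.out s2 (zpowers_le.2 s1) (by rw [hE]; norm_num)
    rw [c13 hG h13 s2] at k4
    rw [hE] at k1 k2
    obtain rfl : k = 2 := le_antisymm ((Nat.pow_dvd_pow_iff_le_right (by norm_num)).1 (show 3 ^ k ∣ 3 ^ 2 from k1))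
      (by_contra fun c => k2 (pow_dvd_pow 3 (show k + 1 ≤ 2 by omega)))
    obtain rfl : j = 0 := by_contra fun c => absurd ((dvd_pow_self 3 c).trans k4) (by norm_num)
    norm_num at k3
  rw [← r2, hb] at r4 r5
  rw [hG] at r4
  generalize (C1 b).relIndex (NS (C1 a ⊓ C1 b)) = r at *
  have r6 : r ∣ 104 := ⟨(NS (C1 a ⊓ C1 b)).index, by nlinarith⟩
  obtain rfl := (show ∀ r < 105, r ∣ 104 → 6 ≤ r → ¬ 13 ∣ 54 * r → r = 8 by decide +kernel) r
    (Nat.lt_succ_of_le (Nat.le_of_dvd (by norm_num) r6)) r6 (by omega) r5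
  omega

end L33

end H3
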