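import Cfsg.Agent.H3.L1
import Cfsg.Agent.H3.L0

/-!
H3.L2: recognition of `PSL(3, 3)` from an action on 13 points.
-/

set_option autoImplicit false
open Cfsg Subgroup Finset

namespace H3
open H4

variable {G : Type*} [Group G] [Finite G]

namespace L33

theorem emb (hG : Nat.card G = 5616) (h13 : ∀ x : G, x ≠ 1 → 13 ∣ Nat.card (C1 x) → Nat.card (C1 x) = 13) {H : Subgroup G}
    (iH : H.index = 13) : ∃ (ψ : G →* Equiv.Perm (Fin 13)) (t s g : G), Function.Injective ψ ∧ closure {t, s, g} = ⊤ ∧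
      (∀ x, (ψ t x).1 = (x + 1) % 13) ∧ (∀ x, (ψ s x).1 = 3 * x % 13) ∧ ∀ x, (ψ g x).1 = gN 1 4 11 8 x := by
  classical
  haveI : Fact (Nat.Prime 13) := ⟨by norm_num⟩
  haveI : Fact (Nat.Prime 3) := ⟨Nat.prime_three⟩
  obtain ⟨P⟩ : Nonempty (Sylow 13 G) := inferInstance
  have cP : Nat.card P = 13 := card_sylow_of P hG (k := 1) (by norm_num) (by norm_num)
  have cC := c13 hG h13 cP
  have eC : (P : Subgroup G) = CS P := eq_of_le_of_card_ge (le_CS_prime cP) (cC.trans cP.symm).le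
  have cA : Nat.card (NS (P : Subgroup G)) = 13 * 3 := by
    have n1 := H1.card_sylow_mul P
    have n2 := card_sylow_mod (p := 13) G
    have n4 := H1.card_mul_relIndex (CS_le_NS (P : Subgroup G))
    have n5 := H1.relIndex_cent_dvd cP
    have := Nat.le_of_dvd (by norm_num) n5
    rw [cC] at n4
    simp only [CS, NS] at *
    rw [← n4, hG] at n1
    rw [← n4]
    generalize (centralizer ((P : Subgroup G) : Set G)).relIndex (normalizer ((P : Subgroup G) : Set G)) = r at *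
    interval_cases r <;> omega
  obtain ⟨⟨t, t1⟩, t0⟩ := exists_prime_orderOf_dvd_card' (G := (P : Subgroup G)) 13 cP.symm.dvd
  rw [Subgroup.orderOf_mk] at t0
  have t2 : t ≠ 1 := by rintro rfl; simp at t0
  obtain ⟨⟨s0, s1⟩, s2⟩ := exists_prime_orderOf_dvd_card' (G := NS (P : Subgroup G)) 3 (by rw [cA]; norm_num)
  rw [Subgroup.orderOf_mk] at s2
  obtain ⟨k, k1, k2, k3⟩ := conj_pick t0 (s2 ▸ pow_orderOf_eq_one s0)
    (by rw [eq_zpowers_prime cP t1 t2]; exact (mem_normalizer_iff.1 s1 t).1 t1)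
  obtain ⟨i, i1, i2, i3⟩ := (show ∀ k < 13, k ^ 3 % 13 = 1 % 13 → k ≠ 1 → ∃ i < 3, Nat.gcd 3 i = 1 ∧ k ^ i % 13 = 3 by decide) k k1 k2 (by
    rintro rfl
    have := Subgroup.orderOf_dvd_natCard _ ((C1_eq_prime cP t1 t2).le (mem_centralizer_singleton_iff.2
      (show s0 * t = t * s0 by simpa [mul_inv_eq_iff_eq_mul] using k3 1)))
    rw [s2, cC] at this
    omega)
  have st := k3 i
  rw [i3] at st
  have sA : s0 ^ i ∈ NS (P : Subgroup G) := pow_mem s1 i
  have s3 : orderOf (s0 ^ i) = 3 := (Nat.Coprime.orderOf_pow (s2 ▸ i2)).trans s2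
  generalize s0 ^ i = s at *
  clear k1 k2 k3 i1 i2 i3 s1 s2 s0 i k
  have cZ : Nat.card (zpowers s) = 3 ^ 1 := (Nat.card_zpowers s).trans s3
  obtain ⟨Y, y1, y2⟩ := Sylow.exists_subgroup_card_pow_succ (p := 3) (n := 1) (by rw [hG]; norm_num) cZ
  obtain ⟨g, g1, g2⟩ := SetLike.exists_of_lt (lt_of_le_of_ne y2 fun e => by rw [← e, cZ] at y1; omega)
  have gs : g * s = s * g := congrArg Subtype.val ((IsPGroup.commutative_of_card_eq_prime_sq y1) ⟨g, g1⟩ ⟨s, y2 (mem_zpowers s)⟩)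
  have gen : ∀ M : Subgroup G, t ∈ M → s ∈ M → ∀ y ∈ M, y ∈ Y → y ∉ zpowers s → M = ⊤ := fun M m1 m2 y m3 m4 m5 => by
    have l := le_of_orders t0 s3 (by norm_num) cA (le_normalizer t1) m1 sA m2
    have r1 := ((H1.isSylowIn_top P).of_le (le_normalizer.trans l) le_top).relIndex_normalizer_modEq
    have r2 := H1.card_mul_relIndex l
    rw [cA] at r2
    have r6 : (NS (P : Subgroup G)).relIndex M ∣ 144 := (Nat.mul_dvd_mul_iff_left (by norm_num : 0 < 13 * 3)).1
      (r2 ▸ (card_subgroup_dvd_card M).trans hG.dvd)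
    rcases (show ∀ r < 145, r ∣ 144 → r % 13 = 1 % 13 → r = 1 ∨ r = 144 by decide +kernel) _
      (Nat.lt_succ_of_le (Nat.le_of_dvd (by norm_num) r6)) r6 r1 with e | e <;> rw [e] at r2
    · refine (m5 ((eq_of_le_of_card_ge (le_inf (zpowers_le.2 m2) y2) ?_).ge ⟨m3, m4⟩)).elim
      exact cZ ▸ Nat.le_of_dvd (by norm_num) (Nat.dvd_gcd (r2 ▸ card_dvd_of_le inf_le_left) (y1 ▸ card_dvd_of_le inf_le_right))
    · exact eq_top_of_card_eq _ (by omega)
  have cQ : Nat.card (G ⧸ H) = 13 := (index_eq_card H).symm.trans iH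
  obtain ⟨o, so⟩ := (IsPGroup.of_card cZ).nonempty_fixed_point_of_prime_not_dvd_card (G ⧸ H) (by rw [cQ]; norm_num)
  replace so : s • o = o := so ⟨s, mem_zpowers s⟩
  let E : ℕ → G ⧸ H := fun n => t ^ n • o
  have tp : ∀ n : ℕ, t ^ (n % 13) = t ^ n := fun n => t0 ▸ pow_mod_orderOf t n
  have ta : ∀ k n, t ^ k • E n = E ((n + k) % 13) := fun k n => by simp only [E, tp, ← mul_smul, ← pow_add, add_comm]
  have sa : ∀ n, s • E n = E (3 * n % 13) := fun n => by
    simp only [E, tp]; rw [pow_mul, ← st, conj_pow, mul_smul, mul_smul, inv_smul_eq_iff.2 so.symm]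
  have inj : ∀ x < 13, ∀ y < 13, E x = E y → x = y := fun x a y b e => by
    have c : t ^ (x + (13 - y)) ∈ MulAction.stabilizer G o := by
      have := congrArg (t ^ (13 - y) • ·) e
      simp only [ta, show (y + (13 - y)) % 13 = 0 by omega] at this
      simpa [E, tp] using this
    have d := Subgroup.orderOf_dvd_natCard _ c
    have f := card_mul_index (MulAction.stabilizer G o)
    rw [MulAction.index_stabilizer_of_transitive, cQ, hG] at f
    have : t ^ (x + (13 - y)) = 1 := orderOf_eq_one_iff.1 (((Nat.dvd_prime (by norm_num)).1 (t0 ▸ orderOf_pow_dvd _)).resolve_right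
      fun i => by rw [i] at d; omega)
    have := t0 ▸ orderOf_dvd_of_pow_eq_one this
    omega
  letI := Fintype.ofFinite (G ⧸ H)
  have mk : ∀ m ∈ [1, 2, 4, 7], ∃ ψ : G →* Equiv.Perm (Fin 13), ∀ x p, x • E (m * p.1 % 13) = E (m * (ψ x p).1 % 13) := fun m a => by
    let e := Equiv.ofBijective (fun p : Fin 13 => E (m * p.1 % 13)) ((Fintype.bijective_iff_injective_and_card _).2 ⟨fun p q b =>
      (show ∀ m ∈ [1, 2, 4, 7], ∀ p q : Fin 13, m * p.1 % 13 = m * q.1 % 13 → p = q by decide +kernel) m a p q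
        (inj _ (by omega) _ (by omega) b), by rw [← Nat.card_eq_fintype_card (α := G ⧸ H), cQ]; rfl⟩)
    exact ⟨e.symm.permCongrHom.toMonoidHom.comp (MulAction.toPermHom G (G ⧸ H)), fun x p => (e.apply_symm_apply (x • e p)).symm⟩
  have fa : ∀ x : G, (∀ n < 13, x • E n = E n) → x = 1 := fun x hx => by
    obtain ⟨ψ, hψ⟩ := mk 1 (by simp)
    have k : ∀ x, x ∈ ψ.ker ↔ ∀ n < 13, x • E n = E n := fun x => ⟨fun a n b => by
      simpa [MonoidHom.mem_ker.1 a, Nat.mod_eq_of_lt b] using hψ x ⟨n, b⟩, fun a => Equiv.ext fun p => Fin.ext (inj _ (ψ x p).2 _ p.2 (by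
        simpa [Nat.mod_eq_of_lt, a p.1 p.2] using (hψ x p).symm))⟩
    have k2 : ∀ (y : G) (p : ℕ), orderOf y ∣ p → p.Prime → ¬ p ∣ ψ.ker.index → y ∈ ψ.ker := fun y p a b c =>
      mem_of_cop (Nat.Coprime.coprime_dvd_right a ((Nat.Prime.coprime_iff_not_dvd b).2 c).symm)
    have m := hG ▸ card_mul_index ψ.ker
    have n : ¬ 13 ∣ Nat.card ψ.ker := fun a => absurd (inj ((0 + 1) % 13) (by norm_num) 0 (by norm_num) ((ta 1 0).symm.trans (by
      rw [pow_one]; exact (k t).1 (k2 t 13 t0.dvd (by norm_num) fun b => absurd (m ▸ mul_dvd_mul a b) (by norm_num)) 0 (by norm_num))))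
        (by norm_num)
    refine mem_bot.1 ((Subgroup.card_eq_one.1 (Nat.eq_one_iff_not_exists_prime_dvd.2 fun p a b => ?_)).le ((k x).2 hx))
    obtain ⟨j, l, -, l1, l2, l3, l4⟩ := fix_sylow (K := ψ.ker) a (by norm_num) cP (fun x _ => mem_NS_of_normal _ x) n
    rw [cC] at l4
    obtain rfl : j = 0 := by_contra fun c => n (((Nat.prime_dvd_prime_iff_eq a (by norm_num)).1 ((dvd_pow_self p c).trans l4)) ▸ b)
    have l5 : p ^ l ∣ 432 := l1.trans (Nat.Coprime.dvd_of_dvd_mul_left (m := 13) ((Nat.Prime.coprime_iff_not_dvd (by norm_num)).2 n).symm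
      (Dvd.intro _ m))
    have l6 : l ≠ 0 := by rintro rfl; exact l2 (by simpa using b)
    have l7 : p ^ l = 27 := (show ∀ n < 433, n ∣ 432 → n % 13 = 1 % 13 → n = 1 ∨ n = 27 ∨ n = 144 by decide +kernel) _
      (Nat.lt_succ_of_le (Nat.le_of_dvd (by norm_num) l5)) l5 l3 |>.elim (fun e => absurd ((dvd_pow_self p l6).trans e.dvd) a.not_dvd_one)
        fun e => e.resolve_right fun e => by
          have := (Nat.prime_dvd_prime_iff_eq Nat.prime_two a).1 (Nat.prime_two.dvd_of_dvd_pow (n := l) (by omega))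
          have := (Nat.prime_dvd_prime_iff_eq Nat.prime_three a).1 (Nat.prime_three.dvd_of_dvd_pow (n := l) (by omega))
          omega
    exact absurd (inj _ (by norm_num) _ (by norm_num) ((sa 1).symm.trans ((k s).1 (k2 s 3 s3.dvd Nat.prime_three fun c =>
      absurd (m ▸ mul_dvd_mul (l7 ▸ l1) c) (by norm_num)) 1 (by norm_num)))) (by norm_num)
  have si : ∀ i n, s ^ i • E n = E (3 ^ i * n % 13) := fun i n => by
    induction i with
    | zero => simp [E, tp]
    | succ i ih => rw [pow_succ', mul_smul, ih, sa, Nat.mul_mod_mod, pow_succ', mul_assoc]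
  obtain ⟨ψ0, h0⟩ := mk 1 (by simp)
  obtain ⟨a, a1, b, b1, c, c1, d, d1, hγ⟩ := eq_gN (γ := fun n => (ψ0 g ⟨n % 13, Nat.mod_lt _ (by norm_num)⟩).1) (fun _ => Fin.is_lt _)
    fun x => inj _ (Fin.is_lt _) _ (by omega) (by
      have u := h0 g ⟨x % 13, Nat.mod_lt _ (by norm_num)⟩
      have v := h0 g ⟨3 * x % 13 % 13, Nat.mod_lt _ (by norm_num)⟩
      simp only [one_mul, Nat.mod_eq_of_lt (Fin.is_lt _), Nat.mod_mod] at u v
      rw [← sa, ← u, ← mul_smul, ← gs, mul_smul, sa, Nat.mul_mod_mod, v]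
      simp only [Nat.mod_mod])
  have lt : ∀ x, gN a b c d x < 13 := fun x => Nat.mod_lt _ (by norm_num)
  have ga : ∀ n < 13, g • E n = E (gN a b c d n) := fun n e => by
    simpa [← hγ n e, Nat.mod_eq_of_lt e, Nat.mod_eq_of_lt (Fin.is_lt _)] using h0 g ⟨n, e⟩
  have it : ∀ (w : G) (f : ℕ → ℕ), (∀ n < 13, f n < 13 ∧ w • E n = E (f n)) → ∀ i, ∀ n < 13, f^[i] n < 13 ∧ w ^ i • E n = E (f^[i] n) :=
    fun w f e i => by
      induction i with
      | zero => exact fun n a => ⟨a, by simp⟩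
      | succ i ih => exact fun n a => by rw [pow_succ, mul_smul, (e n a).2]; exact ih _ (e n a).1
  have gi := it g _ fun n e => ⟨lt n, ga n e⟩
  have := List.all_eq_true.1 (List.all_eq_true.1 (List.all_eq_true.1 (List.all_eq_true.1 chk_all a (List.mem_range.2 a1)) b
    (List.mem_range.2 b1)) c (List.mem_range.2 c1)) d (List.mem_range.2 d1)
  simp only [chk, Bool.or_eq_true, Bool.not_eq_true', List.any_eq_true, List.all_eq_true, Nat.beq_eq, List.mem_range,
    Bool.and_eq_true, ← Bool.not_eq_true] at this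
  rcases this with x2 | ⟨m, m1, i, -, j, -, e⟩ | ⟨i, -, e⟩ | ⟨k, -, x, x1, n, n1, e1, e2⟩
  · refine (x2 fun x x1 => ?_).elim
    have x3 : x < 13 := by simp at x1; omega
    refine inj _ (gi 9 x x3).1 _ x3 ?_
    rw [← (gi 9 x x3).2, orderOf_dvd_iff_pow_eq_one.1 (show orderOf g ∣ 9 from (Subgroup.orderOf_dvd_natCard Y g1).trans y1.dvd), one_smul]
  · obtain ⟨ψ, hψ⟩ := mk m m1
    have key : ∀ (x : G) (p : Fin 13) q, q < 13 → x • E (m * p.1 % 13) = E (m * q % 13) → (ψ x p).1 = q := fun x p q a b =>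
      congrArg Fin.val ((show ∀ m ∈ [1, 2, 4, 7], ∀ p q : Fin 13, m * p.1 % 13 = m * q.1 % 13 → p = q by decide +kernel) m m1 _ ⟨q, a⟩
        (inj _ (by omega) _ (by omega) ((hψ x p).symm.trans b)))
    have kg : ∀ p, (ψ (g ^ j * s ^ i) p).1 = gN 1 4 11 8 p := fun p => key _ _ _ (Nat.mod_lt _ (by norm_num)) (by
      rw [mul_smul, si, Nat.mul_mod_mod, (gi j _ (by omega)).2, e p p.2])
    have ks : ∀ i p, (ψ (s ^ i) p).1 = 3 ^ i * p % 13 := fun i p => key _ _ _ (by omega) (by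
      rw [si, Nat.mul_mod_mod, Nat.mul_mod_mod, mul_left_comm])
    refine ⟨ψ, t ^ m, s, g ^ j * s ^ i, (injective_iff_map_eq_one ψ).2 fun x a => fa x fun n b => ?_,
      gen _ ?_ (subset_closure (by simp)) _ (subset_closure (by simp)) (mul_mem (pow_mem g1 j) (pow_mem (y2 (mem_zpowers s)) i)) fun a => ?_,
      fun p => key _ _ _ (by omega) (by rw [ta, Nat.mul_mod_mod, Nat.mod_add_mod, mul_add_one]), fun p => by simpa using ks 1 p, kg⟩
    · obtain ⟨p, rfl⟩ := (show ∀ m ∈ [1, 2, 4, 7], ∀ n < 13, ∃ p : Fin 13, m * p.1 % 13 = n by decide +kernel) m m1 n b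
      rw [hψ, a]; rfl
    · obtain ⟨l, hi⟩ := (show ∀ m ∈ [1, 2, 4, 7], ∃ i < 13, m * i % 13 = 1 by decide) m m1
      have := pow_mem (Subgroup.subset_closure (k := {t ^ m, s, g ^ j * s ^ i}) (Set.mem_insert _ _)) l
      rwa [← pow_mul, ← tp (m * l), hi.2, pow_one] at this
    · obtain ⟨l, l1⟩ := (mem_powers_iff_mem_zpowers.2 a : _ ∈ Submonoid.powers s)
      have u := kg 1; have v := kg 2
      rw [← show s ^ l = _ from l1, ks] at u v
      change 3 ^ l * 1 % 13 = 1 at u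
      change 3 ^ l * 2 % 13 = 8 at v
      omega
  · refine (g2 (mul_inv_eq_one.1 (fa (g * (s ^ i)⁻¹) fun n b => ?_) ▸ pow_mem (mem_zpowers s) i)).elim

    rw [(Commute.inv_right_iff.2 (Commute.pow_right gs i)).eq, mul_smul, ga n b, e n b, ← si, inv_smul_smul]
  · have w := it (t ^ k * g * t * g) (fun y => (gN a b c d ((gN a b c d y + 1) % 13) + k) % 13) fun n e => ⟨by omega, by
      rw [mul_smul, mul_smul, mul_smul, ga n e, ← pow_one t, ← pow_mul, ta, ga _ (by omega), ta, one_mul]⟩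
    refine (e2 (inj _ (w 2 x x1).1 _ x1 ?_)).elim
    obtain ⟨u, v, z⟩ := (show ∀ n ∈ [7, 10, 11], ∃ u ∈ [4814, 1685, 3574], n * u % 5616 = 2 by decide +kernel) n n1
    have := pow_mem (show _ ∈ MulAction.stabilizer G (E x) from (w n x x1).2.trans (congrArg E e1)) u
    rw [← pow_mul, ← pow_mod_natCard, hG, z] at this
    exact (w 2 x x1).2.symm.trans this

theorem unique {G' : Type*} [Group G'] [Finite G'] (hG : Nat.card G = 5616) (hG' : Nat.card G' = 5616)
    (h : ∀ x : G, x ≠ 1 → 13 ∣ Nat.card (C1 x) → Nat.card (C1 x) = 13) (h' : ∀ x : G', x ≠ 1 → 13 ∣ Nat.card (C1 x) → Nat.card (C1 x) = 13)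
    {H : Subgroup G} {H' : Subgroup G'} (i : H.index = 13) (i' : H'.index = 13) : Nonempty (G ≃* G') := by
  obtain ⟨ψ, t, s, g, a, b, c1, c2, c3⟩ := emb hG h i
  obtain ⟨ψ', t', s', g', a', b', d1, d2, d3⟩ := emb hG' h' i'
  have : ψ.range = ψ'.range := by
    rw [MonoidHom.range_eq_map, MonoidHom.range_eq_map, ← b, ← b', MonoidHom.map_closure, MonoidHom.map_closure]
    simp only [Set.image_insert_eq, Set.image_singleton, Equiv.ext fun x => Fin.ext ((c1 x).trans (d1 x).symm),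
      Equiv.ext fun x => Fin.ext ((c2 x).trans (d2 x).symm), Equiv.ext fun x => Fin.ext ((c3 x).trans (d3 x).symm)]
  exact ⟨((MonoidHom.ofInjective a).trans (MulEquiv.subgroupCongr this)).trans (MonoidHom.ofInjective a').symm⟩

end L33

end H3
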