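import Cfsg.Agent.H3.L2
import Cfsg.Agent.H5.SL
import Cfsg.Agent.S0243

/-!
H3.L3: the local data of `SL(3, 3)`.
-/

set_option autoImplicit false
open Cfsg Subgroup

namespace H3
open H4

namespace L33

/-- the group `SL(3, 3)` -/
abbrev S := Matrix.SpecialLinearGroup (Fin 3) (ZMod 3)

/-- the field with three elements -/
abbrev Z := ZMod 3

/-- a transvection -/
def x1 : S := ⟨!![1, 1, 0; 0, 1, 0; 0, 0, 1], by decide⟩

/-- a second transvection -/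
def x2 : S := ⟨!![1, 0, 1; 0, 1, 0; 0, 0, 1], by decide⟩

theorem m1 (A : S) : A ∈ C1 x1 ↔ A.1 1 0 = 0 ∧ A.1 2 0 = 0 ∧ A.1 1 2 = 0 ∧ A.1 1 1 = A.1 0 0 := by
  refine mem_centralizer_singleton_iff.trans (Subtype.ext_iff.trans ?_)
  rw [Matrix.SpecialLinearGroup.coe_mul, Matrix.SpecialLinearGroup.coe_mul]
  simp only [x1, ← Matrix.ext_iff, Fin.forall_fin_succ, Matrix.mul_apply, Fin.sum_univ_three]
  simp
  grind

theorem m2 (A : S) : A ∈ C1 x2 ↔ A.1 1 0 = 0 ∧ A.1 2 0 = 0 ∧ A.1 2 1 = 0 ∧ A.1 2 2 = A.1 0 0 := by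
  refine mem_centralizer_singleton_iff.trans (Subtype.ext_iff.trans ?_)
  rw [Matrix.SpecialLinearGroup.coe_mul, Matrix.SpecialLinearGroup.coe_mul]
  simp only [x2, ← Matrix.ext_iff, Fin.forall_fin_succ, Matrix.mul_apply, Fin.sum_univ_three]
  simp
  grind

theorem cardK (K : Subgroup S) {T : Type} (g : T → Matrix (Fin 3) (Fin 3) Z) (i : Function.Injective g)
    (h : ∀ A : S, A ∈ K ↔ ∃ t, g t = A.1) : Nat.card K = Nat.card {t // (g t).det = 1} :=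
  (Nat.card_congr (Equiv.ofBijective (fun t : {t // (g t).det = 1} => (⟨⟨g t, t.2⟩, (h _).2 ⟨t, rfl⟩⟩ : K))
    ⟨fun _ _ e => Subtype.ext (i (congrArg (·.1.1) e)), fun A => by
      obtain ⟨t, e⟩ := (h A).1 A.2
      exact ⟨⟨t, e ▸ A.1.2⟩, Subtype.ext (Subtype.ext e)⟩⟩)).symm

theorem c1 : Nat.card (C1 x1) = 54 := by
  rw [cardK _ (fun t : Z × Z × Z × Z × Z => !![t.1, t.2.1, t.2.2.1; 0, t.1, 0; 0, t.2.2.2.1, t.2.2.2.2])
    (fun ⟨_, _, _, _, _⟩ ⟨_, _, _, _, _⟩ e => by simp [← Matrix.ext_iff, Fin.forall_fin_succ] at e; simp [e]) fun A => (m1 A).trans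
      ⟨fun ⟨a, b, c, d⟩ => ⟨(A.1 0 0, A.1 0 1, A.1 0 2, A.1 2 1, A.1 2 2), by rw [Matrix.eta_fin_three A.1, a, b, c, d]; simp⟩,
      fun ⟨_, e⟩ => by simp [← e]⟩, Nat.card_eq_fintype_card]
  simp only [Matrix.det_fin_three]
  decide +kernel

theorem c2 : Nat.card (C1 x2) = 54 := by
  rw [cardK _ (fun t : Z × Z × Z × Z × Z => !![t.1, t.2.1, t.2.2.1; 0, t.2.2.2.1, t.2.2.2.2; 0, 0, t.1])
    (fun ⟨_, _, _, _, _⟩ ⟨_, _, _, _, _⟩ e => by simp [← Matrix.ext_iff, Fin.forall_fin_succ] at e; simp [e]) fun A => (m2 A).trans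
      ⟨fun ⟨a, b, c, d⟩ => ⟨(A.1 0 0, A.1 0 1, A.1 0 2, A.1 1 1, A.1 1 2), by rw [Matrix.eta_fin_three A.1, a, b, c, d]; simp⟩,
      fun ⟨_, e⟩ => by simp [← e]⟩, Nat.card_eq_fintype_card]
  simp only [Matrix.det_fin_three]
  decide +kernel

theorem m3 (A : S) : A ∈ C1 x1 ⊓ C1 x2 ↔ ∃ t : Z × Z × Z, !![t.1, t.2.1, t.2.2; 0, t.1, 0; 0, 0, t.1] = A.1 := by
  rw [mem_inf, m1, m2]
  exact ⟨fun ⟨⟨a, b, c, d⟩, _, _, e, f⟩ => ⟨(A.1 0 0, A.1 0 1, A.1 0 2), by rw [Matrix.eta_fin_three A.1, a, b, c, d, e, f]; simp⟩,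
    fun ⟨_, e⟩ => by simp [← e]⟩

theorem c3 : Nat.card (C1 x1 ⊓ C1 x2 : Subgroup S) = 9 := by
  rw [cardK _ _ (fun ⟨_, _, _⟩ ⟨_, _, _⟩ e => by simp [← Matrix.ext_iff, Fin.forall_fin_succ] at e; simp [e]) m3,
    Nat.card_eq_fintype_card]
  simp only [Matrix.det_fin_three]
  decide +kernel

theorem c4 : ∀ x ∈ C1 x1 ⊓ C1 x2, ∀ y ∈ C1 x1 ⊓ C1 x2, x * y = y * x := fun x a y b => by
  obtain ⟨s, e⟩ := (m3 x).1 a
  obtain ⟨t, f⟩ := (m3 y).1 b
  refine Subtype.ext ?_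
  rw [Matrix.SpecialLinearGroup.coe_mul, Matrix.SpecialLinearGroup.coe_mul, ← e, ← f]
  simp [Matrix.mul_fin_three, mul_comm, add_comm]

theorem iso : Nonempty (Matrix.ProjectiveSpecialLinearGroup (Fin 3) Z ≃* S) := by
  have : center S = ⊥ := eq_bot_iff.2 fun A h => by
    obtain ⟨r, a, b⟩ := Matrix.SpecialLinearGroup.mem_center_iff.1 h
    obtain rfl : r = 1 := (show ∀ r : Z, r ^ 3 = 1 → r = 1 by decide) r a
    exact Subtype.ext (by simpa using b.symm)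
  exact ⟨(QuotientGroup.quotientMulEquivOfEq this).trans QuotientGroup.quotientBot⟩

theorem cardS : Nat.card S = 5616 := by
  obtain ⟨e⟩ := iso
  have := Cfsg.Agent.S0243.result (F := Z) (ZMod.card 3) 3 (by norm_num)
  rw [Nat.card_congr e.toEquiv, Fin.prod_univ_three] at this
  change 1 * (2 * Nat.card S) = 26 * 24 * 18 at this
  omega

theorem h13S (x : S) (h1 : x ≠ 1) (h : 13 ∣ Nat.card (C1 x)) : Nat.card (C1 x) = 13 := by
  obtain ⟨e⟩ := iso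
  haveI : Fact (Nat.Prime 13) := ⟨by norm_num⟩
  haveI := H5.PSL_simple (ι := Fin 3) (F := Z) (by simp)
  haveI := e.symm.isSimpleGroup
  obtain ⟨⟨t, t1⟩, t2⟩ := exists_prime_orderOf_dvd_card' 13 h
  rw [Subgroup.orderOf_mk] at t2
  have c := (Nat.card_zpowers t).trans t2
  have a := cen_eq_of_card (a := 4) (b := 3) Nat.prime_two Nat.prime_three (by norm_num) (by norm_num) (cardS.trans (by norm_num)) c
  have b := (C1_eq_prime c (mem_zpowers t) (by rintro rfl; simp at t2)).trans a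
  rw [C1_eq_prime c (b.le (mem_centralizer_singleton_iff.2 (mem_centralizer_singleton_iff.1 t1).symm)) h1, a, c]

theorem card_ne {G : Type*} [Group G] [Finite G] (K : Subgroup G) : Nat.card K = Nat.card {y : {h : G // h ≠ 1} // y.1 ∈ K} + 1 := by
  classical
  rw [← Nat.card_congr (Equiv.optionSubtypeNe (1 : K)), Finite.card_option]
  exact congrArg (· + 1) (Nat.card_congr ⟨fun y => ⟨⟨y.1.1, fun e => y.2 (Subtype.ext e)⟩, y.1.2⟩,
    fun y => ⟨⟨y.1.1, y.2⟩, fun e => y.1.2 (congrArg Subtype.val e)⟩, fun _ => rfl, fun _ => rfl⟩)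

theorem transfer {H : Type*} [Group H] [Finite H] (f : {h : H // h ≠ 1} ≃ {g : S // g ≠ 1})
    (hf : ∀ x y : {h : H // h ≠ 1}, (x : H) * y = y * x ↔ (f x : S) * f y = f y * f x) :
    Nat.card H = 5616 ∧ (∀ x : H, x ≠ 1 → 13 ∣ Nat.card (C1 x) → Nat.card (C1 x) = 13) ∧ ∃ K : Subgroup H, K.index = 13 := by
  have c : Nat.card H = 5616 := by
    classical
    rw [← cardS, ← Nat.card_congr (Equiv.optionSubtypeNe (1 : H)), ← Nat.card_congr (Equiv.optionSubtypeNe (1 : S)),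
      Finite.card_option, Finite.card_option, Nat.card_congr f]
  have k : ∀ x y : {h : H // h ≠ 1}, y.1 ∈ C1 x.1 ↔ (f y).1 ∈ C1 (f x).1 := fun x y =>
    mem_centralizer_singleton_iff.trans ((hf y x).trans mem_centralizer_singleton_iff.symm)
  have a : ∀ x : {h : H // h ≠ 1}, Nat.card (C1 x.1) = Nat.card (C1 (f x).1) := fun x => by
    rw [card_ne, card_ne]
    exact congrArg (· + 1) (Nat.card_congr (f.subtypeEquiv (k x)))
  have h : ∀ x : H, x ≠ 1 → 13 ∣ Nat.card (C1 x) → Nat.card (C1 x) = 13 := fun x b d => by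
    rw [a ⟨x, b⟩] at d ⊢
    exact h13S _ (f _).2 d
  obtain ⟨u, hu⟩ := f.surjective ⟨x1, by decide⟩
  obtain ⟨v, hv⟩ := f.surjective ⟨x2, by decide⟩
  have k2 : ∀ y : {h : H // h ≠ 1}, y.1 ∈ C1 u.1 ⊓ C1 v.1 ↔ (f y).1 ∈ C1 x1 ⊓ C1 x2 := fun y => by
    rw [mem_inf, mem_inf, k, k, hu, hv]
  refine ⟨c, h, _, index13 c h (a := u.1) (b := v.1) (by rw [a, hu, c1]) (by rw [a, hv, c2]) ?_ (fun x p y q => ?_)
    ((hf u v).2 (by rw [hu, hv]; decide))⟩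
  · rw [← c3, card_ne, card_ne]
    exact congrArg (· + 1) (Nat.card_congr (f.subtypeEquiv k2))
  · by_cases x1 : x = 1
    · simp [x1]
    by_cases y1 : y = 1
    · simp [y1]
    exact (hf ⟨x, x1⟩ ⟨y, y1⟩).2 (c4 _ ((k2 _).1 p) _ ((k2 _).1 q))

end L33

end H3
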