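import Cfsg.Agent.H3.Ord5
import Cfsg.Agent.H3.Cw

/-!
H3.M1: the character degrees of a simple group of order 7920.
-/

set_option autoImplicit false
open Cfsg Subgroup Finset
open scoped Classical

namespace H3
open H4

variable {G : Type*} [Group G] [Fintype G] {p : ℕ} {P : Subgroup G}
variable {e t : ℕ} {B V : Finset (IrrCharacter G)} {r : IrrCharacter G → IrrCharacter G} {σ : IrrCharacter G → ℤ}
  {T : IrrCharacter G → ℕ} {v w φ : IrrCharacter G}

theorem avg_char {χ : G → ℂ} (h : IsCharacter G χ) (P : Subgroup G) :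
    IsCharacter (NS P) fun x => (Nat.card P : ℂ)⁻¹ * (∑ y ∈ nz P, χ (x * y) + χ x) := by
  obtain ⟨n, ρ, rfl⟩ := h
  have k : ∀ z : P, ρ z * ∑ y : P, ρ y = ∑ y : P, ρ y := fun z => by
    rw [mul_sum]; exact Fintype.sum_equiv (Equiv.mulLeft z) _ _ fun y => by simp
  have := isCharacter_proj (ρ.comp (NS P).subtype) ((Nat.card P : ℂ)⁻¹ • ∑ y : P, ρ y) (by
    simp only [smul_mul_assoc, mul_smul_comm, sum_mul, k, sum_const, card_univ, ← Nat.card_eq_fintype_card]
    rw [← Nat.cast_smul_eq_nsmul ℂ, inv_smul_smul₀ (card_ne_zero' _)]) fun x => by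
      rw [smul_mul_assoc, mul_smul_comm, mul_sum, sum_mul]
      refine congrArg _ (Fintype.sum_equiv ⟨fun y => ⟨x * y * x⁻¹, (mem_normalizer_iff.1 x.2 y).1 y.2⟩,
        fun y => ⟨x⁻¹ * y * x, (mem_normalizer_iff''.1 x.2 y).1 y.2⟩, fun y => Subtype.ext (by simp [mul_assoc]),
        fun y => Subtype.ext (by simp [mul_assoc])⟩ _ _ fun y => ?_)
      simp [← map_mul]
  convert this using 2 with x
  have := sum_nz P fun y => ρ.character (x * y)
  rw [mul_one] at this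
  rw [this]
  simp [Representation.character, mul_sum]

namespace BD
variable [hp : Fact p.Prime] (h : BD p P e t B V r σ T)
include h

theorem zero_dvd (hd : p ∣ charDegree φ.1) {g : G} (hg : p ∣ orderOf g) : φ.1 g = 0 :=
  eq_zero_of_nu hp.out φ.2 ((nu_eq_iff_not_dvd hp.out φ.2).2 fun a => h.syl.not_dvd (by
    rw [relIndex_top_right]
    refine (Nat.mul_dvd_mul_iff_left hp.out.pos).1 ?_
    rw [← h.card, card_mul_index, h.card, ← Nat.mul_div_cancel' (charDegree_dvd_card φ.2)]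
    exact mul_dvd_mul hd a)) hg

theorem ord_nz {y : G} (hy : y ∈ P) (h1 : y ≠ 1) : orderOf y = p :=
  ((Nat.dvd_prime hp.out).1 (h.card ▸ Subgroup.orderOf_dvd_natCard P hy)).resolve_left (mt orderOf_eq_one_iff.1 h1)

theorem cen_of_deg [IsSimpleGroup G] (hG : ¬ IsMulCommutative G) (hd : charDegree φ.1 = p) : CS P = P := by
  refine le_antisymm (fun g a => h.mem_of_pelt (CS_le_NS P a) ((pq_eq_one_iff hp.out).1 ?_)) (le_CS_prime h.card)
  have h2 := not_dvd_orderOf_pq hp.out g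
  have h3 : pq p g ∈ CS P := pq_mem a
  generalize pq p g = z at *
  have k : ∀ z ∈ CS P, ¬ p ∣ orderOf z → ∑ y ∈ nz P, φ.1 (z * y) = 0 := fun z a b => sum_eq_zero fun y c => by
    obtain ⟨c, d⟩ := mem_nz.1 c
    refine h.zero_dvd hd.symm.dvd ?_
    rw [(show Commute z y from (a y c).symm).orderOf_mul_eq_mul_orderOf_of_coprime, h.ord_nz c d]
    · exact dvd_mul_left _ _
    · rw [h.ord_nz c d]; exact ((Nat.Prime.coprime_iff_not_dvd hp.out).2 b).symm
  have p0 : (p : ℂ) ≠ 0 := Nat.cast_ne_zero.2 hp.out.ne_zero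
  obtain ⟨f, hf⟩ := exists_hom_of_degree_one (avg_char (irr_char φ.2) P) (by
    simp only [OneMemClass.coe_one]
    rw [k 1 (one_mem _) (not_dvd_orderOf_one hp.out), ideg, hd, h.card, zero_add, inv_mul_cancel₀ p0])
  have := congrArg Norm.norm (congrFun hf ⟨z, CS_le_NS P h3⟩)
  simp only [k z h3 h2, norm_hom, h.card, zero_add, norm_mul, norm_inv] at this
  have c := (mem_charCenter (irr_char φ.2) z).2 (by rw [ideg, hd]; rwa [inv_mul_eq_one₀ (norm_ne_zero_iff.2 p0), eq_comm] at this)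
  rw [charCenter_eq_center φ.2 (BD.ker_bot fun e => hp.out.ne_one (by rw [← hd, e, deg_triv]))] at c
  exact mem_bot.1 (((Normal.eq_bot_or_eq_top inferInstance).resolve_right fun e => hG ⟨⟨fun a b =>
    mem_center_iff.1 (e.ge (mem_top b)) a⟩⟩).le c)

theorem sum_B {R : Type*} [AddCommMonoid R] (hw : w ∈ V) (hT : ∀ v ∈ V, v ≠ w → T v = 1) (F : IrrCharacter G → R) :
    ∑ φ ∈ B, F φ = ∑ φ ∈ B with r φ = w, F φ + ∑ v ∈ V.erase w, F v := by
  rw [← sum_fiberwise_of_maps_to h.rV, ← add_sum_erase _ _ hw]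
  refine congrArg _ (sum_congr rfl fun v a => ?_)
  obtain ⟨a, b⟩ := mem_erase.1 a
  obtain ⟨x, hx⟩ := card_eq_one.1 ((h.fib v b).trans (hT v b a))
  rw [hx, sum_singleton, ← mem_singleton.1 (hx.le (mem_filter.2 ⟨h.sub b, h.rr v b⟩))]

theorem mem_of_not_dvd (hC : CS P = P) (hd : ¬ p ∣ charDegree φ.1) : φ ∈ B := by
  obtain ⟨y, y1, y2⟩ := h.exists_ne
  by_contra a
  exact ne_zero_of_pelt hp.out (irr_char φ.2) hd (k := 1)
    (by rw [pow_one, ← h.card]; exact orderOf_dvd_iff_pow_eq_one.1 (Subgroup.orderOf_dvd_natCard P y1)) (h.vanish hC a y1 y2)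

end BD

namespace M11
variable [IsSimpleGroup G] (hG : Nat.card G = 7920)
include hG

theorem nc : ¬ IsMulCommutative G := fun c => absurd (hG ▸ H1.prime_card_of_comm c.1.1) (by norm_num)

instance : Fact (Nat.Prime 11) := ⟨by norm_num⟩
instance : Fact (Nat.Prime 5) := ⟨by norm_num⟩

theorem c11 (P : Sylow 11 G) : Nat.card P = 11 := card_sylow_of P hG (k := 1) (by norm_num) (by norm_num)
theorem c5 (P : Sylow 5 G) : Nat.card P = 5 := card_sylow_of P hG (k := 1) (by norm_num) (by norm_num)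

theorem e11 (P : Sylow 11 G) (h : BD 11 (P : Subgroup G) e t B V r σ T) : e = 5 ∧ CS (P : Subgroup G) = P := by
  by_contra a
  have := ochk_of (nc hG) P (c11 hG P) (by rw [hG]; norm_num) (three := false) (by simp)
    (F := fun m e c => !(e == 5 && c == 1) && ofeas (Nat.card G) 11 m e c 2 0 89 fun _ => true) fun e' t B V r σ T c h' hc => by
      rw [h'.ofeas_of (nc hG) hc Nat.prime_two (by norm_num) (by simp) (by rw [hG]; norm_num) fun _ _ _ => rfl]
      obtain rfl : e = e' := h.he.symm.trans h'.he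
      simp only [Bool.and_true, Bool.not_eq_true', Bool.and_eq_false_iff, beq_eq_false_iff_ne]
      by_contra! b
      exact a ⟨b.1, (eq_of_le_of_card_ge (le_CS_prime h.card) (by rw [hc, b.2, h.card])).symm⟩
  rw [hG] at this
  exact absurd this (by decide +kernel)

theorem b11 (P : Sylow 11 G) : ∃ (B : Finset (IrrCharacter G)) (y z a b c d : IrrCharacter G), (∀ φ ∉ B, 11 ∣ charDegree φ.1) ∧
    (∀ (R : Type) [AddCommMonoid R] (F : IrrCharacter G → R), ∑ φ ∈ B, F φ = F (triv G) + F y + F z + F a + F b + F c + F d) ∧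
    y ≠ z ∧ charDegree z.1 = charDegree y.1 ∧ charDegree a.1 = 10 ∧ charDegree b.1 = 10 ∧
    (charDegree y.1 = 5 ∧ charDegree c.1 = 12 ∧ charDegree d.1 = 12 ∨ charDegree y.1 = 16 ∧ charDegree c.1 = 10 ∧
      charDegree d.1 = 45 ∧ ∀ g, ¬ 11 ∣ orderOf g → 1 + d.1 g = a.1 g + b.1 g + c.1 g + y.1 g) := by
  obtain ⟨e, t, B, V, r, σ, T, h⟩ := exists_bd P (c11 hG P)
  obtain ⟨rfl, hC⟩ := e11 hG P h
  obtain rfl : t = 2 := by have := h.et; omega
  obtain ⟨w, w1, w2, w3⟩ := h.exists_exc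
  have T1 : ∀ v ∈ V, v ≠ w → T v = 1 := fun v a b => h.T_one w1 (by omega) a b
  obtain ⟨y, z, yz, f⟩ := card_eq_two.1 ((h.fib w w1).trans w3)
  have y1 := mem_filter.1 (f.ge (mem_insert_self _ _))
  have z1 := mem_filter.1 (f.ge (mem_insert_of_mem (mem_singleton_self _)))
  have dy := h.deg y1.1; have dz := h.deg z1.1
  rw [y1.2] at dy; rw [z1.2] at dz
  have t1 : triv G ∈ V.erase w := mem_erase.2 ⟨w2.symm, h.one⟩
  have sq := h.sum_sq_le
  have dv : ∀ v ∈ V, v ≠ triv G → charDegree v.1 ∣ 720 ∧ 2 ≤ charDegree v.1 ∧ charDegree v.1 < 89 := fun v a b => by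
    refine ⟨?_, lt_of_le_of_ne (deg_pos v.2) fun a => b (eq_triv_of_perfect (ord_perfect (nc hG)) a.symm), ?_⟩
    · have := h.dvd v a
      have k := card_mul_index (P : Subgroup G)
      rw [h.card, hG] at k
      rwa [hC, show (P : Subgroup G).index = 720 by omega] at this
    · have := (single_le_sum (f := fun v => T v * charDegree v.1 ^ 2) (fun _ _ => Nat.zero_le _) a).trans sq
      have := (h.T_pos a).1
      nlinarith
  have d1 : ∀ v ∈ (V.erase w).erase (triv G), σ v = -1 ∧ charDegree v.1 = 10 ∨ σ v = 1 ∧ charDegree v.1 = 12 ∨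
      σ v = 1 ∧ charDegree v.1 = 45 := fun v a => by
    obtain ⟨a, b⟩ := mem_erase.1 a
    obtain ⟨b, c⟩ := mem_erase.1 b
    obtain ⟨d1, d2, d3⟩ := dv v c a
    have m := h.mod c
    rw [T1 v c b, one_mul] at m
    have := (show ∀ d < 89, d ∣ 720 → 2 ≤ d → (d % 11 = 1 → d = 12 ∨ d = 45) ∧ (11 ∣ d + 1 → d = 10) by decide +kernel) _ d3 d1 d2
    rcases h.sg v c with s | s
    · exact Or.inr ((this.1 (m.1 s)).imp (⟨s, ·⟩) (⟨s, ·⟩))
    · exact Or.inl ⟨s, this.2 (m.2 s)⟩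
  have d2 : σ w = -1 ∧ (charDegree w.1 = 5 ∨ charDegree w.1 = 16 ∨ charDegree w.1 = 60) ∨
      σ w = 1 ∧ (charDegree w.1 = 6 ∨ charDegree w.1 = 72) := by
    obtain ⟨d1, d2, d3⟩ := dv w w1 w2
    have m := h.mod w1
    rw [w3] at m
    rcases h.sg w w1 with s | s
    · exact Or.inr ⟨s, (show ∀ d < 89, d ∣ 720 → 2 * d % 11 = 1 → d = 6 ∨ d = 72 by decide +kernel) _ d3 d1 (m.1 s)⟩
    · exact Or.inl ⟨s, (show ∀ d < 89, d ∣ 720 → 11 ∣ 2 * d + 1 → d = 5 ∨ d = 16 ∨ d = 60 by decide +kernel) _ d3 d1 (m.2 s)⟩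
  set S := (V.erase w).erase (triv G)
  have sS : ∀ (R : Type) [AddCommMonoid R] (F : IrrCharacter G → R), ∑ φ ∈ S, F φ = ∑ φ ∈ S with charDegree φ.1 = 10, F φ +
      ∑ φ ∈ S with charDegree φ.1 = 12, F φ + ∑ φ ∈ S with charDegree φ.1 = 45, F φ := fun R _ F => by
    simp only [sum_filter, ← sum_add_distrib]
    exact sum_congr rfl fun v a => by rcases d1 v a with ⟨-, a⟩ | ⟨-, a⟩ | ⟨-, a⟩ <;> simp [a]
  have sV : ∀ (R : Type) [AddCommMonoid R] (F : IrrCharacter G → R), ∑ φ ∈ V, F φ = F w + (F (triv G) + ∑ φ ∈ S, F φ) :=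
    fun R _ F => by rw [← add_sum_erase _ _ w1, ← add_sum_erase _ _ t1]
  have sB : ∀ (R : Type) [AddCommMonoid R] (F : IrrCharacter G → R), ∑ φ ∈ B, F φ = F y + F z + (F (triv G) + ∑ φ ∈ S, F φ) :=
    fun R _ F => by rw [h.sum_B w1 T1, f, sum_pair yz, ← add_sum_erase _ _ t1]
  have c1 : ∀ (n : ℕ) (s : ℤ), (∀ v ∈ S, charDegree v.1 = n → σ v = s) → (∑ φ ∈ S with charDegree φ.1 = n, σ φ * charDegree φ.1 =
      #{φ ∈ S | charDegree φ.1 = n} * (s * n)) ∧ ∑ φ ∈ S with charDegree φ.1 = n, T φ * charDegree φ.1 ^ 2 =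
      #{φ ∈ S | charDegree φ.1 = n} * n ^ 2 := fun n s a => by
    constructor
    · rw [← nsmul_eq_mul, ← sum_const]
      exact sum_congr rfl fun v b => by rw [a v (mem_filter.1 b).1 (mem_filter.1 b).2, (mem_filter.1 b).2]
    · rw [← smul_eq_mul, ← sum_const]
      exact sum_congr rfl fun v b => by
        have c := mem_erase.1 (mem_erase.1 (mem_filter.1 b).1).2
        rw [T1 v c.2 c.1, one_mul, (mem_filter.1 b).2]
  have s10 : ∀ v ∈ S, charDegree v.1 = 10 → σ v = -1 := fun v a b => by have := d1 v a; omega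
  have s45 : ∀ v ∈ S, charDegree v.1 = 45 → σ v = 1 := fun v a b => by have := d1 v a; omega
  have k1 := c1 10 _ s10
  have k2 := c1 12 1 fun v a b => by have := d1 v a; omega
  have k3 := c1 45 _ s45
  have r1 := h.rel_one
  rw [sV, sS, k1.1, k2.1, k3.1, h.triv_sign.1, deg_triv] at r1
  rw [sV, sS, k1.2, k2.2, k3.2, hG, w3] at sq
  have n4 := sS ℕ fun _ => 1
  simp only [sum_const, smul_eq_mul, mul_one] at n4
  rw [card_erase_of_mem t1, card_erase_of_mem w1, h.cV] at n4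
  have o : ∀ φ ∉ B, 11 ∣ charDegree φ.1 := fun φ a => by_contra fun b => a (h.mem_of_not_dvd hC b)
  have : charDegree w.1 = 5 ∧ #{φ ∈ S | charDegree φ.1 = 10} = 2 ∧ #{φ ∈ S | charDegree φ.1 = 12} = 2 ∧
      #{φ ∈ S | charDegree φ.1 = 45} = 0 ∨ σ w = -1 ∧ charDegree w.1 = 16 ∧ #{φ ∈ S | charDegree φ.1 = 10} = 3 ∧
      #{φ ∈ S | charDegree φ.1 = 12} = 0 ∧ #{φ ∈ S | charDegree φ.1 = 45} = 1 := by
    rcases d2 with ⟨s, a | a | a⟩ | ⟨s, a | a⟩ <;> rw [s, a] at r1 <;> rw [a] at sq <;> omega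
  rcases this with ⟨a, m1, m2, m3⟩ | ⟨s, a, m1, m2, m3⟩
  · obtain ⟨x1, x2, x, e1⟩ := card_eq_two.1 m1
    obtain ⟨x3, x4, x', e2⟩ := card_eq_two.1 m2
    refine ⟨B, y, z, x1, x2, x3, x4, o, fun R _ F => ?_, yz, dz.trans dy.symm, (mem_filter.1 (e1.ge (by simp))).2,
      (mem_filter.1 (e1.ge (by simp))).2, Or.inl ⟨dy.trans a, (mem_filter.1 (e2.ge (by simp))).2, (mem_filter.1 (e2.ge (by simp))).2⟩⟩
    rw [sB, sS, e1, e2, card_eq_zero.1 m3, sum_pair x, sum_pair x', sum_empty]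
    abel
  · obtain ⟨x1, x2, x3, u1, u2, u3, e1⟩ := card_eq_three.1 m1
    obtain ⟨x4, e2⟩ := card_eq_one.1 m3
    have f1 := mem_filter.1 (e1.ge (show x1 ∈ _ by simp))
    have f2 := mem_filter.1 (e1.ge (show x2 ∈ _ by simp))
    have f3 := mem_filter.1 (e1.ge (show x3 ∈ _ by simp))
    have f4 := mem_filter.1 (e2.ge (show x4 ∈ _ by simp))
    have sS' : ∀ (R : Type) [AddCommMonoid R] (F : IrrCharacter G → R), ∑ φ ∈ S, F φ = F x1 + F x2 + F x3 + F x4 := fun R _ F => by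
      rw [sS, e1, e2, card_eq_zero.1 m2, sum_insert (by simp [u1, u2]), sum_pair u3, sum_empty, sum_singleton]
      abel
    refine ⟨B, y, z, x1, x2, x3, x4, o, fun R _ F => ?_, yz, dz.trans dy.symm, f1.2, f2.2, Or.inr ⟨dy.trans a, f3.2, f4.2, fun g hg => ?_⟩⟩
    · rw [sB, sS']; abel
    · have := h.rel g hg
      rw [sV, sS', s, h.triv_sign.1, s10 _ f1.1 f1.2, s10 _ f2.1 f2.2, s10 _ f3.1 f3.2, s45 _ f4.1 f4.2, ← y1.2, ← h.reg y y1.1 g hg,
        triv_apply] at this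
      push_cast at this
      linear_combination this

omit hG [IsSimpleGroup G] in
variable (G) in
/-- the irreducible characters -/
structure Tab (a b c u y z f v w : IrrCharacter G) : Prop where
  sum : ∀ (R : Type) [AddCommMonoid R] (F : IrrCharacter G → R),
    ∑ φ, F φ = F (triv G) + F a + F b + F c + F u + F y + F z + F f + F v + F w
  da : charDegree a.1 = 10
  db : charDegree b.1 = 10
  dc : charDegree c.1 = 10
  du : charDegree u.1 = 11
  dy : charDegree y.1 = 16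
  dz : charDegree z.1 = 16
  df : charDegree f.1 = 44
  dv : charDegree v.1 = 45
  dw : charDegree w.1 = 55
  r11 : ∀ g, ¬ 11 ∣ orderOf g → 1 + v.1 g = a.1 g + b.1 g + c.1 g + y.1 g
  r5 : ∀ g, ¬ 5 ∣ orderOf g → 1 + u.1 g + y.1 g + z.1 g = f.1 g

theorem tab (P : Sylow 5 G) : ∃ (a b c u y z f v w : IrrCharacter G), Tab G a b c u y z f v w ∧
    (∀ x ∈ (P : Subgroup G), x ≠ 1 → u.1 x = 1) ∧ CS (P : Subgroup G) = P ∧ ∃ B V r σ T, BD 5 (P : Subgroup G) 4 1 B V r σ T := by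
  obtain ⟨Q⟩ : Nonempty (Sylow 11 G) := inferInstance
  obtain ⟨A, y, z, a, b, c, d, o, sA, yz, dz, da, db, k⟩ := b11 hG Q
  have mA : ∀ φ ∈ A, φ = triv G ∨ φ = y ∨ φ = z ∨ φ = a ∨ φ = b ∨ φ = c ∨ φ = d := fun φ m => by
    by_contra! n
    have := sA ℕ fun ψ => if φ = ψ then 1 else 0
    rw [sum_ite_eq, if_pos m] at this
    simp [n] at this
  obtain ⟨e, t, B, V, r, σ, T, h⟩ := exists_bd P (c5 hG P)
  have hC : CS (P : Subgroup G) = P := by
    rcases k with ⟨k, -⟩ | ⟨k1, k2, k3, -⟩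
    · exact h.cen_of_deg (nc hG) k
    by_contra n
    have := ochk_of (nc hG) P (c5 hG P) (by rw [hG]; norm_num) (three := false) (by simp)
      (F := fun m e c => !(c == 1) && ofeas (Nat.card G) 5 m e c 2 0 89 fun d => d == 10 || d == 16 || d == 45 || d % 11 == 0)
      fun e' t B V r σ T c h' hc => by
        rw [h'.ofeas_of (nc hG) hc Nat.prime_two (by norm_num) (by simp) (by rw [hG]; norm_num) fun φ _ m => by
          by_cases i : φ ∈ A
          · rcases mA φ i with i | i | i | i | i | i | i <;> simp [i, *] at m ⊢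
          · simp [Nat.mod_eq_zero_of_dvd (o φ i)]]
        simp only [Bool.and_true, Bool.not_eq_true', beq_eq_false_iff_ne]
        exact fun b => n (eq_of_le_of_card_ge (le_CS_prime h.card) (by rw [hc, b, h.card])).symm
    rw [hG] at this
    exact absurd this (by decide +kernel)
  obtain ⟨rfl, rfl⟩ : e = 4 ∧ t = 1 := by
    have a1 := card_mul_index (NS (P : Subgroup G))
    have a2 := card_sylow_mod (p := 5) G
    have a3 := h.et
    have a4 := h.two_le_e (ord_perfect (nc hG))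
    have : e ≤ 4 := Nat.le_of_dvd (by norm_num) ⟨t, by omega⟩
    rw [h.card_N hC, ← card_sylow_eq, hG] at a1
    interval_cases e <;> omega
  have T1 : ∀ v ∈ V, T v = 1 := fun v a => (h.hT v a).elim id id
  have mV : ∀ φ : IrrCharacter G, ¬ 5 ∣ charDegree φ.1 → φ ∈ V := fun φ n => by
    have m := h.mem_of_not_dvd hC n
    have := card_le_one.1 ((h.fib _ (h.rV φ m)).trans (T1 _ (h.rV φ m))).le φ (mem_filter.2 ⟨m, rfl⟩) (r φ)
      (mem_filter.2 ⟨h.sub (h.rV φ m), h.rr _ (h.rV φ m)⟩)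
    exact this ▸ h.rV φ m
  have md : ∀ φ ∈ V, σ φ = 1 ∧ charDegree φ.1 % 5 = 1 ∨ σ φ = -1 ∧ charDegree φ.1 % 5 = 4 := fun φ m => by
    have := h.mod m
    rw [T1 φ m] at this
    rcases h.sg φ m with s | s
    · exact Or.inl ⟨s, by simpa using this.1 s⟩
    · exact Or.inr ⟨s, by have := this.2 s; omega⟩
  obtain ⟨dy, dc, dd, r11⟩ := k.resolve_left fun k => by have := md c (mV c (by omega)); omega
  rw [dy] at dz
  have y1 : y ∈ V.erase (triv G) := mem_erase.2 ⟨fun e => by rw [e, deg_triv] at dy; omega, mV y (by omega)⟩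
  have z1 : z ∈ (V.erase (triv G)).erase y :=
    mem_erase.2 ⟨yz.symm, mem_erase.2 ⟨fun e => by rw [e, deg_triv] at dz; omega, mV z (by omega)⟩⟩
  obtain ⟨u', f', uf', e'⟩ := card_eq_two.1 (show #(((V.erase (triv G)).erase y).erase z) = 2 by
    rw [card_erase_of_mem z1, card_erase_of_mem y1, card_erase_of_mem h.one, h.cV])
  have sq := sum_deg_sq (G := G)
  have dv : ∀ φ ∈ ((V.erase (triv G)).erase y).erase z, φ ∉ A ∧ φ ∈ V ∧ (σ φ = 1 ∧ (charDegree φ.1 = 11 ∨ charDegree φ.1 = 66) ∨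
      σ φ = -1 ∧ charDegree φ.1 = 44) := fun φ m => by
    simp only [mem_erase] at m
    have m1 := md φ m.2.2.2
    have m2 : φ ∉ A := fun i => by rcases mA φ i with i | i | i | i | i | i | i <;> simp [i, *] at m m1
    have m3 := o φ m2
    have m4 := (single_le_sum (f := fun v : IrrCharacter G => charDegree v.1 ^ 2) (fun _ _ => Nat.zero_le _) (mem_univ φ)).trans sq.le
    have m5 : charDegree φ.1 < 89 := by nlinarith
    exact ⟨m2, m.2.2.2, by omega⟩
  have sy : σ y = 1 := by have := md y (mem_erase.1 y1).2; omega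
  have sz : σ z = 1 := by have := md z (mV z (by omega)); omega
  have sV : ∀ (R : Type) [AddCommMonoid R] (F : IrrCharacter G → R), ∑ φ ∈ V, F φ = F (triv G) + (F y + (F z + (F u' + F f'))) :=
    fun R _ F => by rw [← add_sum_erase _ _ h.one, ← add_sum_erase _ _ y1, ← add_sum_erase _ _ z1, e', sum_pair uf']
  have r1 := h.rel_one
  rw [sV, sy, sz, dy, dz, deg_triv, h.triv_sign.1] at r1
  obtain ⟨u, f, e1, ua, fa, uV, su, sf, du, df⟩ : ∃ u f : IrrCharacter G, ((V.erase (triv G)).erase y).erase z = {u, f} ∧ u ∉ A ∧ f ∉ A ∧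
      u ∈ V ∧ σ u = 1 ∧ σ f = -1 ∧ charDegree u.1 = 11 ∧ charDegree f.1 = 44 := by
    obtain ⟨a1, a2, a3⟩ := dv u' (e'.ge (by simp))
    obtain ⟨b1, b2, b3⟩ := dv f' (e'.ge (by simp))
    rcases a3 with ⟨a3, a4 | a4⟩ | ⟨a3, a4⟩ <;> rcases b3 with ⟨b3, b4 | b4⟩ | ⟨b3, b4⟩ <;> rw [a3, a4, b3, b4] at r1 <;>
      first | omega | exact ⟨u', f', e', a1, b1, a2, a3, b3, a4, b4⟩ | exact ⟨f', u', e'.trans (pair_comm _ _), b1, a1, b2, b3, a3, b4, a4⟩
  have uf : u ≠ f := fun e => by rw [e] at du; omega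
  have u1 : u ∈ Aᶜ := mem_compl.2 ua
  have f1 : f ∈ Aᶜ.erase u := mem_erase.2 ⟨uf.symm, mem_compl.2 fa⟩
  have sU : ∀ (R : Type) [AddCommMonoid R] (F : IrrCharacter G → R), ∑ φ, F φ = ∑ φ ∈ A, F φ + (F u + (F f +
    ∑ φ ∈ (Aᶜ.erase u).erase f, F φ)) := fun R _ F => by rw [← sum_add_sum_compl A, ← add_sum_erase _ _ u1, ← add_sum_erase _ _ f1]
  rw [sU, sA, deg_triv, dy, dz, da, db, dc, dd, du, df, hG] at sq
  have dR : ∀ φ ∈ (Aᶜ.erase u).erase f, 3025 ≤ charDegree φ.1 ^ 2 := fun φ m => by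
    simp only [mem_erase, mem_compl] at m
    have m1 := o φ m.2.2
    have m2 : 5 ∣ charDegree φ.1 := by_contra fun n => by
      have : φ ∈ ((V.erase (triv G)).erase y).erase z := by
        simp only [mem_erase]
        refine ⟨?_, ?_, ?_, mV φ n⟩ <;> rintro rfl <;> simp [deg_triv, *] at m1
      simp [e1, m.1, m.2.1] at this
    have := deg_pos φ.2
    have : 55 ≤ charDegree φ.1 := by omega
    nlinarith
  have cR := card_nsmul_le_sum _ _ _ dR
  obtain ⟨w, e2⟩ := card_eq_one.1 (show #((Aᶜ.erase u).erase f) = 1 by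
    have : #((Aᶜ.erase u).erase f) ≠ 0 := fun e => by rw [card_eq_zero.1 e, sum_empty] at sq; omega
    rw [smul_eq_mul] at cR; omega)
  rw [e2, sum_singleton] at sq
  refine ⟨a, b, c, u, y, z, f, d, w, ⟨fun R _ F => by rw [sU, sA, e2, sum_singleton]; abel, da, db, dc, du, dy, dz, df, dd,
    (pow_left_inj₀ (Nat.zero_le _) (Nat.zero_le _) two_ne_zero).1 (by omega), r11, fun g hg => ?_⟩, fun x x1 x2 => ?_, hC, _, _, _, _, _, h⟩
  · have := h.rel g hg
    rw [← add_sum_erase _ _ h.one, ← add_sum_erase _ _ y1, ← add_sum_erase _ _ z1, e1, sum_pair uf, sy, sz, su, sf, h.triv_sign.1,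
      triv_apply] at this
    push_cast at this
    linear_combination this
  · rw [h.val u (h.sub uV) (by rw [h.rr u uV, T1 u uV]) x x1 x2, h.rr u uV, su, Int.cast_one]

end M11

end H3
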