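import Cfsg.Agent.H3.Ord3
import Cfsg.Agent.H1.Schmidt
import Cfsg.Agent.H1.Sol2
import Cfsg.Agent.H5.SmallGp
import Cfsg.Agent.S0144
import Cfsg.Agent.S0499
import Cfsg.Agent.S0985
import Cfsg.Agent.S4343
import Cfsg.Agent.S4345

/-!
H3.Ord4: orders of small simple groups (`omaster`).
-/

set_option autoImplicit false
open Cfsg Subgroup Finset
open scoped Classical Pointwise

namespace H3
open H4

variable {G : Type*} [Group G] [Finite G] [IsSimpleGroup G]

theorem sylow_num {p k n : ℕ} [hp : Fact p.Prime] (hG : Nat.card G = n) (hn : ¬ n.Prime) (P : Sylow p G) (hP : Nat.card P = p ^ k)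
    (hk : 2 ≤ k) : p ^ 2 ≤ Nat.card (Sylow p G) ∧ Nat.card (Sylow p G) % p = 1 ∧ Nat.card (Sylow p G) ∣ n / p ^ k := by
  have a := card_mul_index (P : Subgroup G)
  rw [hP, hG] at a
  refine ⟨not_lt.1 fun b => ?_, card_sylow_mod G, ?_⟩
  · have := Cfsg.Agent.S4343.result (S := G) (fun e => hn (hG ▸ H1.prime_card_of_comm e.1.1)) p
      (hG ▸ a ▸ (dvd_pow_self p (by omega)).mul_right _) b P
    rw [hP] at this
    have := Nat.pow_right_injective hp.out.two_le (this.trans (pow_one p).symm)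
    omega
  · rw [← a, Nat.mul_div_cancel_left _ (pow_pos hp.out.pos k)]; exact P.card_dvd_index

theorem not_self_norm {p : ℕ} [hp : Fact p.Prime] (hn : ¬ (Nat.card G).Prime) (P : Sylow p G) (hP : Nat.card P = p ^ 2) :
    Nat.card (NS (P : Subgroup G)) ≠ p ^ 2 := fun e => by
  have := IsPGroup.isMulCommutative_of_card_eq_prime_sq hP
  refine H1.not_norm_le_cent hn ((dvd_pow_self p two_ne_zero).trans (hP ▸ card_subgroup_dvd_card _)) P ?_
  exact (eq_of_le_of_card_ge le_normalizer (e.trans hP.symm).le).ge.trans (le_centralizer _)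

theorem ne_900 : Nat.card G ≠ 900 := fun h => by
  have : Fact (Nat.Prime 5) := ⟨by norm_num⟩
  obtain ⟨P⟩ : Nonempty (Sylow 5 G) := inferInstance
  have hP := card_sylow_of P h (k := 2) (by norm_num) (by norm_num)
  obtain ⟨a, b, c⟩ := sylow_num h (by norm_num) P hP le_rfl
  have d := H1.card_sylow_mul P
  refine not_self_norm (by rw [h]; norm_num) P hP ?_
  have := Nat.le_of_dvd (by norm_num) c
  generalize Nat.card (Sylow 5 G) = n at *
  obtain rfl : n = 36 := by interval_cases n <;> omega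
  unfold NS; omega

omit [IsSimpleGroup G] in
theorem rel_norm {p : ℕ} [hp : Fact p.Prime] {P R : Sylow p G} (h : P ≠ R) {M : Subgroup G} (h1 : (P : Subgroup G) ≤ M)
    (h2 : (R : Subgroup G) ≤ M) : (NS (P : Subgroup G)).relIndex M % p = 1 ∧ (NS (P : Subgroup G)).relIndex M ≠ 1 :=
  ⟨Eq.trans ((H1.isSylowIn_top P).of_le h1 le_top).relIndex_normalizer_modEq (Nat.mod_eq_of_lt hp.out.one_lt), fun e =>
    h (Sylow.ext (R.is_maximal' P.isPGroup' ((H1.isSylowIn_top P).le_of_le_normalizer R.isPGroup' le_top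
      (h2.trans (relIndex_eq_one.1 e)))))⟩

theorem norm_ne_top {D : Subgroup G} (h1 : D ≠ ⊥) (h2 : D ≠ ⊤) : NS D ≠ ⊤ := fun e =>
  (normalizer_eq_top_iff.1 e).eq_bot_or_eq_top.elim h1 h2

theorem ne_4500 : Nat.card G ≠ 4500 := fun h => by
  have : Fact (Nat.Prime 5) := ⟨by norm_num⟩
  have hP := fun P : Sylow 5 G => card_sylow_of P h (k := 3) (by norm_num) (by norm_num)
  obtain ⟨P0⟩ : Nonempty (Sylow 5 G) := inferInstance
  obtain ⟨a, b, c⟩ := sylow_num h (by norm_num) P0 (hP _) (by norm_num)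
  have : Nat.card (Sylow 5 G) = 36 := by
    have := Nat.le_of_dvd (by norm_num) c
    generalize Nat.card (Sylow 5 G) = n at *
    interval_cases n <;> omega
  obtain ⟨P, R, k1, k2⟩ := Cfsg.Agent.S0985.result (G := G) 5 2 (by rw [this]; decide)
  have d := H1.card_sylow_mul P
  have e : (P : Subgroup G) = NS (P : Subgroup G) := eq_of_le_of_card_ge le_normalizer (by rw [hP]; rw [this, h] at d; unfold NS; omega)
  have k3 : ((P : Subgroup G) ⊓ R).relIndex P = 5 := by
    rw [inf_relIndex_left]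
    exact L.relIndex_eq_of_le P.isPGroup' (fun e => k1 (Sylow.ext (P.is_maximal' R.isPGroup' e).symm)) k2
  have k4 := H1.card_mul_relIndex (inf_le_left : (P : Subgroup G) ⊓ R ≤ P)
  have k5 := H1.card_mul_relIndex (inf_le_right : (P : Subgroup G) ⊓ R ≤ R)
  rw [hP] at k4 k5
  rw [k3] at k4
  have k6 : Nat.card ((P : Subgroup G) ⊓ R : Subgroup G) = 25 := by omega
  have m1 := L.le_normalizer_of_relIndex_prime P.isPGroup' inf_le_left (by rw [k3]; norm_num)
  have m2 := L.le_normalizer_of_relIndex_prime R.isPGroup' (inf_le_right : (P : Subgroup G) ⊓ R ≤ R) (by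
    rw [show relIndex _ _ = 5 by rw [k6] at k5; omega]; norm_num)
  obtain ⟨m3, m4⟩ := rel_norm k1 m1 m2
  have m5 := relIndex_mul_index (e.ge.trans m1 : NS (P : Subgroup G) ≤ _)
  rw [← card_sylow_eq, this] at m5
  have m6 := H1.card_dvd_factorial (norm_ne_top (D := (P : Subgroup G) ⊓ R) (fun e => by simp [e] at k6) fun e => by
    rw [e, card_top] at k6; omega)
  rw [h] at m6
  have : ∀ i ∈ Nat.divisors 36, ∀ j ∈ Nat.divisors 36, i * j = 36 → i % 5 = 1 → i ≠ 1 → ¬ 4500 ∣ j.factorial := by decide +kernel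
  exact this _ (Nat.mem_divisors.2 ⟨Dvd.intro _ m5, by norm_num⟩) _ (Nat.mem_divisors.2 ⟨Dvd.intro_left _ m5, by norm_num⟩) m5 m3 m4 m6

theorem ne_5400 : Nat.card G ≠ 5400 := fun h => by
  have : Fact (Nat.Prime 5) := ⟨by norm_num⟩
  have : Fact (Nat.Prime 3) := ⟨by norm_num⟩
  have : Fact (Nat.Prime 2) := ⟨by norm_num⟩
  have hP := fun P : Sylow 5 G => card_sylow_of P h (k := 2) (by norm_num) (by norm_num)
  obtain ⟨P⟩ : Nonempty (Sylow 5 G) := inferInstance
  obtain ⟨a, b, c⟩ := sylow_num h (by norm_num) P (hP _) le_rfl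
  have d := H1.card_sylow_mul P
  have d2 := not_self_norm (by rw [h]; norm_num) P (hP P)
  have c36 : Nat.card (Sylow 5 G) = 36 := by
    have : ∀ n ∈ Nat.divisors 216, 25 ≤ n → n % 5 = 1 → n = 36 ∨ n = 216 := by decide +kernel
    refine (this _ (Nat.mem_divisors.2 ⟨c, by norm_num⟩) a b).resolve_right fun e => d2 ?_
    unfold NS; rw [e] at d; omega
  have cN : Nat.card (NS (P : Subgroup G)) = 150 := by unfold NS; rw [c36] at d; omega
  have := Fintype.ofFinite (Sylow 5 G)
  obtain ⟨U, hU⟩ := Sylow.exists_subgroup_card_pow_prime 3 (G := NS (P : Subgroup G)) (n := 1) (by rw [cN]; norm_num)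
  have sm : ∀ g ∈ NS (P : Subgroup G), ∀ R : Sylow 5 G, (P : Subgroup G) ⊓ (g • R : Sylow 5 G) = MulAut.conj g • ((P : Subgroup G) ⊓ R) :=
    fun g a R => by
      rw [smul_inf, ← Sylow.coe_subgroup_smul, ← Sylow.coe_subgroup_smul, Sylow.smul_eq_iff_mem_normalizer.2 a]
  have sm' : ∀ g ∈ NS (P : Subgroup G), ∀ R : Sylow 5 G, (P : Subgroup G) ⊓ (g • R : Sylow 5 G) = ⊥ ↔ (P : Subgroup G) ⊓ R = ⊥ :=
    fun g a R => by rw [sm g a, ← Subgroup.card_eq_one, ← Subgroup.card_eq_one, Nat.card_congr (equivSMul _ _).toEquiv.symm]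
  have k1 := H5.card_dvd_of_free (P : Subgroup G) {R : Sylow 5 G | (P : Subgroup G) ⊓ R = ⊥}
    (fun g a R b => mem_filter.2 ⟨mem_univ _, (sm' g (le_normalizer a) R).2 (mem_filter.1 b).2⟩) fun g a R b c => by
      have := P.isPGroup'.inf_normalizer_sylow R
      rw [(mem_filter.1 b).2] at this
      exact this.le ⟨a, Sylow.smul_eq_iff_mem_normalizer.1 c⟩
  have k2 := H5.card_dvd_of_free (U.map (Subgroup.subtype _)) {R : Sylow 5 G | ¬ (P : Subgroup G) ⊓ R = ⊥ ∧ R ≠ P}
    (fun g a R b => mem_filter.2 ⟨mem_univ _, mt (sm' g (map_subtype_le _ a) R).1 (mem_filter.1 b).2.1, fun e => (mem_filter.1 b).2.2 (by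
      rw [← Sylow.smul_eq_iff_mem_normalizer.2 (map_subtype_le _ a)] at e; exact MulAction.injective g e)⟩) fun g a R b c => by
      by_contra g1
      have g2 := map_subtype_le _ a
      obtain ⟨b1, b2⟩ := (mem_filter.1 b).2
      have g3 : orderOf g = 3 := by
        have := Subgroup.orderOf_dvd_natCard _ a
        rw [card_map_of_injective (subtype_injective _), hU, pow_one] at this
        exact ((Nat.dvd_prime Nat.prime_three).1 this).resolve_left (mt orderOf_eq_one_iff.1 g1)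
      set D := (P : Subgroup G) ⊓ R
      have m1 : (P : Subgroup G) ≤ NS D := H1.le_normalizer_of_abelian (IsPGroup.isMulCommutative_of_card_eq_prime_sq (hP P)) inf_le_left
      have m2 : (R : Subgroup G) ≤ NS D := H1.le_normalizer_of_abelian (IsPGroup.isMulCommutative_of_card_eq_prime_sq (hP R)) inf_le_right
      have m3 : g ∈ NS D := by
        have := sm g g2 R
        rw [c] at this
        refine mem_normalizer_fintype fun y b => ?_
        have k := smul_mem_pointwise_smul y (MulAut.conj g) D b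
        rwa [← this] at k
      obtain ⟨m4, m5⟩ := rel_norm b2.symm m1 m2
      have m6 := H1.card_dvd_factorial (norm_ne_top b1 fun e => by
        have := card_dvd_of_le (e.ge.trans inf_le_left); rw [card_top, h, hP] at this; norm_num at this)
      have m7 : 75 ∣ Nat.card (NS D ⊓ NS (P : Subgroup G) : Subgroup G) :=
        Nat.Coprime.mul_dvd_of_dvd_of_dvd (m := 25) (n := 3) (by norm_num)
          ((dvd_of_eq (hP P).symm).trans (card_dvd_of_le (le_inf m1 le_normalizer)))
          (g3 ▸ Subgroup.orderOf_dvd_natCard _ (⟨m3, g2⟩ : g ∈ NS D ⊓ NS (P : Subgroup G)))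
      have m8 := H1.relIndex_mul_card_inf (NS (P : Subgroup G)) (NS D)
      have m9 := card_mul_index (NS D)
      obtain ⟨f, hf⟩ := m7
      rw [← m8, hf, h] at m9
      rw [h] at m6
      have : ∀ i ∈ Nat.divisors 72, ∀ j ∈ Nat.divisors 72, ∀ l ∈ Nat.divisors 72, i * (75 * j) * l = 5400 → i % 5 = 1 → i ≠ 1 →
          5400 ∣ l.factorial → i = 6 ∧ j = 1 := by decide +kernel
      obtain ⟨n1, n2⟩ := this _ (Nat.mem_divisors.2 ⟨Dvd.intro (f * (NS D).index) (by linarith), by norm_num⟩) _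
        (Nat.mem_divisors.2 ⟨Dvd.intro ((NS (P : Subgroup G)).relIndex (NS D) * (NS D).index) (by linarith), by norm_num⟩) _
        (Nat.mem_divisors.2 ⟨Dvd.intro ((NS (P : Subgroup G)).relIndex (NS D) * f) (by linarith), by norm_num⟩) m9 m4 m5 m6
      rw [n1, hf, n2] at m8
      obtain ⟨T⟩ : Nonempty (Sylow 2 (NS D)) := inferInstance
      have := Cfsg.Agent.S4345.result (H1.solvable_of_cyclic_sylow_two T (isCyclic_of_prime_card
        (card_sylow_of T m8.symm (k := 1) (by norm_num) (by norm_num)))) 5 2 Nat.prime_two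
      rw [relIndex, subgroupOf_normalizer_eq m1] at n1
      rw [((H1.isSylowIn_top P).of_le m1 le_top).toSylow.card_eq_index_normalizer.trans n1] at this
      revert this; decide +kernel
  have k3 := card_filter_add_card_filter_not (s := (univ : Finset (Sylow 5 G))) fun R => (P : Subgroup G) ⊓ R = ⊥
  have k4 : ({R : Sylow 5 G | ¬ (P : Subgroup G) ⊓ R = ⊥} : Finset (Sylow 5 G)) =
      insert P ({R : Sylow 5 G | ¬ (P : Subgroup G) ⊓ R = ⊥ ∧ R ≠ P} : Finset (Sylow 5 G)) :=
    Finset.ext fun R => by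
      by_cases e : R = P
      · have : (P : Subgroup G) ≠ ⊥ := fun e => by simpa [e] using hP P
        simp [e, this]
      · simp [e]
  rw [k4, card_insert_of_notMem (by simp), card_univ, ← Nat.card_eq_fintype_card, c36] at k3
  rw [hP] at k1
  rw [card_map_of_injective (subtype_injective _), hU] at k2
  omega

def oprime (p : ℕ) : Bool := Nat.ble 2 p && (List.range p).all fun k => Nat.ble k 1 || p % k != 0

theorem prime_of_oprime {p : ℕ} (h : oprime p = true) : p.Prime := by
  simp only [oprime, Bool.and_eq_true, Nat.ble_eq, List.all_eq_true, List.mem_range, Bool.or_eq_true, bne_iff_ne] at h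
  exact Nat.prime_def_lt'.2 ⟨h.1, fun m a b c => (h.2 m b).elim (by omega) fun d => d (Nat.mod_eq_zero_of_dvd c)⟩

def omaster (L : List (ℕ × ℕ × ℕ × ℕ × ℕ)) (n : ℕ) : Bool :=
  !(n % 12 == 0 || n % 16 == 0 || n % 56 == 0) || n == 900 || n == 4500 || n == 5400 ||
  ((List.range 520).any fun p => n % p == 0 && Nat.blt n (p ^ 3) && oprime p && 2 * n != p * (p - 1) * (p + 1) &&
    n != (p - 1) * (p - 2) * p) ||
  ((List.range 18).any fun q => oprime q && (List.range 13).any fun a => (List.range 8).any fun b => n == 2 ^ a * q ^ b) ||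
  ((List.range 14).any fun p => n % p ^ 2 == 0 && oprime p &&
    (List.range (n / p ^ 2 / p + 1)).all fun u => Nat.blt (1 + u * p) (p ^ 2) || n % (1 + u * p) != 0) ||
  L.any fun c => n == c.1 && oprime c.2.1 && oprime c.2.2.1 && oprime c.2.2.2.2 && okill n c.2.1 c.2.2.1 c.2.2.2.1 c.2.2.2.2 79

theorem not_omaster (hG : ¬ IsMulCommutative G) (L : List (ℕ × ℕ × ℕ × ℕ × ℕ)) : omaster L (Nat.card G) = false := by
  have hn : ¬ (Nat.card G).Prime := fun e => by
    have := Fact.mk e
    exact hG (isCyclic_of_prime_card (α := G) rfl).isMulCommutative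
  have ns : ¬ Group.IsSolvable G := fun e => hn (H1.prime_card_of_solvable e)
  simp only [omaster, Bool.or_eq_false_iff, Bool.not_eq_false', Bool.or_eq_true, beq_iff_eq, beq_eq_false_iff_ne, List.any_eq_false,
    Bool.and_eq_true, Nat.blt_eq, bne_iff_ne, List.any_eq_true, List.all_eq_true, List.mem_range]
  refine ⟨⟨⟨⟨⟨⟨⟨?_, ne_900⟩, ne_4500⟩, ne_5400⟩, ?_⟩, ?_⟩, ?_⟩, ?_⟩
  · have := Cfsg.Agent.S0499.result hG (Nat.not_odd_iff_even.1 fun e => ns (FT.feit_thompson G e))
    omega
  · rintro p - ⟨⟨⟨⟨a, b⟩, c⟩, d⟩, e⟩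
    exact (ord_big.{_, 0, 0} hn p (prime_of_oprime c) (Nat.dvd_of_mod_eq_zero a) b).elim (fun f => d f.1) fun f => e f.1
  · rintro q - ⟨a, i, -, j, -, e⟩
    exact ns (Cfsg.Agent.S0144.result 2 q i j Nat.prime_two (prime_of_oprime a) e)
  · rintro p - ⟨⟨a, b⟩, c⟩
    have := Fact.mk (prime_of_oprime b)
    obtain ⟨P⟩ : Nonempty (Sylow p G) := inferInstance
    have k := (this.out.pow_dvd_iff_le_factorization Nat.card_pos.ne').1 (Nat.dvd_of_mod_eq_zero a)
    obtain ⟨d, e, f⟩ := sylow_num rfl hn P P.card_eq_multiplicity k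
    obtain ⟨u, hu⟩ := exists_eq_one_add e
    have g := Nat.div_dvd_of_dvd (Nat.ordProj_dvd (Nat.card G) p)
    have l := (Nat.le_of_dvd (Nat.ordCompl_pos p Nat.card_pos.ne') f).trans
      (Nat.div_le_div_left (Nat.pow_le_pow_right this.out.pos k) (pow_pos this.out.pos 2))
    rw [hu] at d f l
    exact (c u (Nat.lt_succ_of_le ((Nat.le_div_iff_mul_le this.out.pos).2 (by omega)))).elim (by omega)
      fun i => i (Nat.mod_eq_zero_of_dvd (f.trans g))
  · rintro c - ⟨⟨⟨⟨-, a⟩, b⟩, d⟩, e⟩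
    rw [not_okill hn (prime_of_oprime a) (prime_of_oprime b) (prime_of_oprime d)] at e
    exact absurd e (by simp)

end H3
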