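import Cfsg.Agent.H3.M1
import Cfsg.Agent.H3.Ord4

/-!
H3.M2: a simple group of order 7920 has a subgroup of index 12.
-/

set_option autoImplicit false
open Cfsg Subgroup Finset
open scoped Classical ComplexConjugate

namespace H3
open H4

variable {G : Type*} [Group G] [Fintype G] {p : ℕ} {P : Subgroup G}
variable {e t : ℕ} {B V : Finset (IrrCharacter G)} {r : IrrCharacter G → IrrCharacter G} {σ : IrrCharacter G → ℤ}
  {T : IrrCharacter G → ℕ} {χ : G → ℂ}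

theorem eig4_aux {ι : Type*} (s : Finset ι) (z : ι → ℂ) (c : ι → ℕ) (h : ∀ i, z i ^ 4 = 1) : ∃ m0 m1 m2 m3 : ℕ,
    ∑ i ∈ s, (c i : ℂ) = m0 + m1 + m2 + m3 ∧ ∑ i ∈ s, c i * z i = m0 - m2 + (m1 - m3) * Complex.I ∧
      ∑ i ∈ s, c i * z i ^ 2 = m0 + m2 - m1 - m3 ∧ ∏ i ∈ s, z i ^ c i = Complex.I ^ (m1 + 2 * m2 + 3 * m3) := by
  induction s using Finset.induction_on with
  | empty => exact ⟨0, 0, 0, 0, by simp⟩
  | insert i s hi ih =>
    obtain ⟨m0, m1, m2, m3, a, b, d, f⟩ := ih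
    simp only [sum_insert hi, prod_insert hi, a, b, d, f]
    have : (z i - 1) * ((z i - Complex.I) * ((z i + 1) * (z i + Complex.I))) = 0 := by
      linear_combination h i - (z i ^ 2 - 1) * Complex.I_sq
    simp only [mul_eq_zero, sub_eq_zero, add_eq_zero_iff_eq_neg] at this
    rcases this with k | k | k | k <;> rw [k]
    · exact ⟨m0 + c i, m1, m2, m3, by push_cast; ring, by push_cast; ring, by push_cast; ring, by simp⟩
    · exact ⟨m0, m1 + c i, m2, m3, by push_cast; ring, by push_cast; ring, by rw [Complex.I_sq]; push_cast; ring, by ring⟩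
    · exact ⟨m0, m1, m2 + c i, m3, by push_cast; ring, by push_cast; ring, by push_cast; ring, by rw [← Complex.I_sq]; ring⟩
    · exact ⟨m0, m1, m2, m3 + c i, by push_cast; ring, by push_cast; ring, by rw [neg_sq, Complex.I_sq]; push_cast; ring,
        by rw [← Complex.I_pow_three]; ring⟩

theorem eig4 (hG : commutator G = ⊤) (φ : IrrCharacter G) {g : G} (hg : g ^ 4 = 1) : ∃ m0 m1 m2 m3 : ℕ,
    charDegree φ.1 = m0 + m1 + m2 + m3 ∧ φ.1 g = m0 - m2 + (m1 - m3) * Complex.I ∧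
      φ.1 (g ^ 2) = ((m0 + m2 - m1 - m3 : ℤ) : ℂ) ∧ (m1 + 2 * m2 + 3 * m3) % 4 = 0 := by
  letI : Fintype (zpowers g) := Fintype.ofFinite _
  have hc : ∀ a b : zpowers g, a * b = b * a := zpowers_comm g
  obtain ⟨c, -, b⟩ := char_decomp (char_restrict (irr_char φ.2) (zpowers g))
  let x : zpowers g := ⟨g, mem_zpowers g⟩
  have k : ∀ (μ : IrrCharacter (zpowers g)) (n : ℕ), μ.1 (x ^ n) = μ.1 x ^ n := fun μ n => by
    obtain ⟨f, hf⟩ := irr_exists_hom_of_comm μ.2 hc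
    simp [hf]
  have k1 : ∀ μ : IrrCharacter (zpowers g), μ.1 1 = 1 := fun μ => irr_degree_one_of_comm μ.2 hc
  obtain ⟨m0, m1, m2, m3, a1, a2, a3, a4⟩ := eig4_aux univ (fun μ : IrrCharacter (zpowers g) => μ.1 x) c fun μ => by
    rw [← k, show x ^ 4 = 1 from Subtype.ext hg, k1]
  refine ⟨m0, m1, m2, m3, ?_, (b x).trans a2, ?_, ?_⟩
  · have := b 1
    simp only [OneMemClass.coe_one, ideg φ, k1, mul_one, a1] at this
    exact_mod_cast this
  · have := b (x ^ 2)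
    simp only [k, a3] at this
    push_cast
    exact this
  · rw [det_irr hG (irr_char φ.2) _ hc b x, ← Nat.div_add_mod (m1 + 2 * m2 + 3 * m3) 4, pow_add, pow_mul,
      Complex.I_pow_four, one_pow, one_mul] at a4
    have : (m1 + 2 * m2 + 3 * m3) % 4 < 4 := Nat.mod_lt _ (by norm_num)
    generalize (m1 + 2 * m2 + 3 * m3) % 4 = n at *
    interval_cases n <;> simp [Complex.ext_iff] at a4 ⊢ <;> norm_num at a4

/-- a common fixed vector -/
theorem sup_ne_top (φ : IrrCharacter G) (h1 : φ ≠ triv G) {A : Subgroup G} (hA : P ≤ A) {j : G} (hj : j ∈ NS P) (h2 : j * j = 1)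
    (h3 : ∑ y ∈ nz P, φ.1 (j * y) + φ.1 j = ∑ y ∈ nz P, φ.1 y + φ.1 1) (h4 : ∑ y ∈ nz A, φ.1 y + φ.1 1 ≠ 0) :
    A ⊔ zpowers j ≠ ⊤ := fun h5 => by
  have h0 : ∑ g, φ.1 g = 0 := by
    have := irr_inner_ne φ.2 (triv G).2 fun e => h1 (Subtype.ext e)
    simpa [classInner] using this
  obtain ⟨χ, hχ⟩ := φ
  obtain ⟨n, ρ, rfl⟩ := irr_char hχ
  have k : ∀ (P : Subgroup G) (z : P), ρ z * ∑ y : P, ρ y = ∑ y : P, ρ y := fun P z => by
    rw [mul_sum]; exact Fintype.sum_equiv (Equiv.mulLeft z) _ _ fun y => by simp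
  set E := (Nat.card P : ℂ)⁻¹ • ∑ y : P, ρ y with hE
  have e1 : E * E = E := by
    simp only [E, smul_mul_assoc, mul_smul_comm, sum_mul, k, sum_const, card_univ, ← Nat.card_eq_fintype_card]
    rw [← Nat.cast_smul_eq_nsmul ℂ, inv_smul_smul₀ (card_ne_zero' _)]
  have e2 : E * ρ j = ρ j * E := by
    rw [hE, smul_mul_assoc, mul_smul_comm, mul_sum, sum_mul]
    refine congrArg _ (Fintype.sum_equiv ⟨fun y => ⟨j * y * j⁻¹, (mem_normalizer_iff.1 hj y).1 y.2⟩,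
      fun y => ⟨j⁻¹ * y * j, (mem_normalizer_iff''.1 hj y).1 y.2⟩, fun y => Subtype.ext (by simp [mul_assoc]),
      fun y => Subtype.ext (by simp [mul_assoc])⟩ _ _ fun y => ?_).symm
    simp [← map_mul]
  have e3 : ρ j * ρ j = 1 := by rw [← map_mul, h2, map_one]
  have i : IsIdempotentElem ((2 : ℂ)⁻¹ • (E - ρ j * E)) := by
    have a : E * (ρ j * E) = ρ j * E := by rw [← mul_assoc, e2, mul_assoc, e1]
    have b : ρ j * E * (ρ j * E) = E := by rw [mul_assoc, a, ← mul_assoc, e3, one_mul]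
    simp only [IsIdempotentElem, smul_mul_assoc, mul_smul_comm, mul_sub, sub_mul, e1, a, b, mul_assoc (ρ j) E E]
    module
  have z : ρ j * E = E := (sub_eq_zero.1 ((smul_eq_zero.1 (LinearMap.IsIdempotentElem.eq_zero_of_trace_eq_zero i (by
    have := sum_nz P fun y => ρ.character (j * y)
    rw [mul_one, h3, sum_nz] at this
    simp only [Representation.character, map_mul] at this
    simp only [E, map_smul, map_sub, map_sum, mul_smul_comm, mul_sum, this, sub_self, smul_zero]))).resolve_left (by norm_num))).symm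
  set S := ∑ y : A, ρ y with hS
  have s1 : E * S = S := by
    rw [hE, smul_mul_assoc, sum_mul, sum_congr rfl fun (y : P) _ => k A ⟨y, hA y.2⟩, sum_const, card_univ, ← Nat.card_eq_fintype_card,
      ← Nat.cast_smul_eq_nsmul ℂ, inv_smul_smul₀ (card_ne_zero' _)]
  let H : Subgroup G := ⟨⟨⟨{x | ρ x * S = S}, fun {a b} (x : _ = _) (y : _ = _) => show _ = _ by rw [map_mul, mul_assoc, y, x]⟩,
    show _ = _ by simp⟩, fun {a} (x : _ = _) => show _ = _ by conv_lhs => rw [← x, ← mul_assoc, ← map_mul, inv_mul_cancel, map_one, one_mul]⟩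
  have : ∀ x, ρ x * S = S := fun x => (sup_le (fun y a => k A ⟨y, a⟩) (zpowers_le.2 (show ρ j * S = S by
    rw [← s1, ← mul_assoc, z])) : A ⊔ zpowers j ≤ H) (h5.ge (mem_top x))
  have b := sum_congr rfl fun x (_ : x ∈ univ) => congrArg (LinearMap.trace ℂ _) (this x)
  simp only [hS, mul_sum, map_sum, ← map_mul] at b
  rw [sum_comm, sum_eq_zero fun (y : A) _ => (Fintype.sum_equiv (Equiv.mulRight (y : G))
    (fun x => LinearMap.trace ℂ _ (ρ (x * y))) _ fun _ => rfl).trans h0, sum_const, eq_comm, smul_eq_zero] at b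
  rw [sum_nz] at h4
  exact b.elim (card_ne_zero.2 univ_nonempty) h4

namespace BD
variable [hp : Fact p.Prime] (h : BD p P e t B V r σ T) (hC : CS P = P) (hχ : IsCharacter G χ)
include h hC hχ

theorem avg_eq {x : G} (h1 : x ∈ NS P) (h2 : x ∉ P) : ∑ y ∈ nz P, χ (x * y) + χ x = p * χ x := by
  rw [sum_nz_const P (c := χ x) fun y a _ => by
    obtain ⟨z, -, b⟩ := frob_conj P (fun k c => (mem_normalizer_iff.1 h1 k).1 c) (h.fpf hC h2) a
    rw [class_mul_comm (char_class hχ), b, class_conj' (char_class hχ)], h.card]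
  ring

theorem avg_le {n : ℕ} (hn : ∑ y ∈ nz P, χ y + χ 1 = p * n) {x : G} (h1 : x ∈ NS P) (h2 : x ∉ P) :
    ‖χ x‖ ≤ n ∧ ∀ j ∈ NS P, j ∉ P → x * j ∉ P → χ j = n → χ (x * j) = χ x := by
  have p0 : (p : ℂ) ≠ 0 := Nat.cast_ne_zero.2 hp.out.ne_zero
  have a := avg_char hχ P
  refine ⟨?_, fun j j1 j2 j3 j4 => ?_⟩
  · simpa only [OneMemClass.coe_one, one_mul, hn, h.avg_eq hC hχ h1 h2, h.card, inv_mul_cancel_left₀ p0, Complex.natCast_re]
      using norm_char_le a ⟨x, h1⟩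
  · have := char_mul_ker a (k := ⟨j, j1⟩) (by
      simp only [OneMemClass.coe_one, one_mul, hn, h.avg_eq hC hχ j1 j2]
      rw [j4]) ⟨x, h1⟩
    simpa only [Subgroup.coe_mul, h.avg_eq hC hχ h1 h2, h.avg_eq hC hχ (mul_mem h1 j1) j3, h.card, inv_mul_cancel_left₀ p0] using this

end BD

namespace M11
variable {a b c u y z f v w : IrrCharacter G} (tb : Tab G a b c u y z f v w)
include tb

theorem Tab.mem (φ : IrrCharacter G) :
    φ = triv G ∨ φ = a ∨ φ = b ∨ φ = c ∨ φ = u ∨ φ = y ∨ φ = z ∨ φ = f ∨ φ = v ∨ φ = w := by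
  by_contra! n
  have := tb.sum ℕ fun ψ => if φ = ψ then 1 else 0
  rw [sum_ite_eq, if_pos (mem_univ _)] at this
  simp [n] at this

theorem Tab.u_inv (g : G) : u.1 g⁻¹ = u.1 g := by
  have k : charDegree (fun g => conj (u.1 g)) = 11 := charDegree_of_eq (by rw [ideg, tb.du, map_natCast])
  have := tb.da; have := tb.db; have := tb.dc; have := tb.dy; have := tb.dz; have := tb.df; have := tb.dv; have := tb.dw
  have := deg_triv (G := G)
  rw [char_inv (irr_char u.2)]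
  rcases tb.mem ⟨_, irr_conj u.2⟩ with e | e | e | e | e | e | e | e | e | e <;>
    first | exact congrFun (congrArg Subtype.val e) g | (rw [show (fun g => conj (u.1 g)) = _ from congrArg Subtype.val e] at k; omega)

variable (hG : Nat.card G = 7920)
include hG

theorem Tab.ev {g : G} (h2 : 2 ∣ orderOf g) (h4 : orderOf g ∣ 4) : y.1 g = 0 ∧ z.1 g = 0 ∧ f.1 g = 1 + u.1 g ∧
    v.1 g = a.1 g + b.1 g + c.1 g - 1 ∧ w.1 g = -u.1 g - (a.1 g + b.1 g + c.1 g) := by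
  have y0 := eq_zero_of_nu Nat.prime_two y.2 (by rw [nu, tb.dy, hG]; decide +kernel) h2
  have z0 := eq_zero_of_nu Nat.prime_two z.2 (by rw [nu, tb.dz, hG]; decide +kernel) h2
  have r1 := tb.r11 g fun e => by have := e.trans h4; omega
  have r2 := tb.r5 g fun e => by have := e.trans h4; omega
  have r3 := sum_degree_mul (g := g) (by rintro rfl; simp at h2)
  rw [tb.sum] at r3
  simp only [ideg, tb.da, tb.db, tb.dc, tb.du, tb.dy, tb.dz, tb.df, tb.dv, tb.dw, triv_apply, y0, z0] at r1 r2 r3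
  push_cast at r3
  exact ⟨y0, z0, by linear_combination -r2, by linear_combination r1, by linear_combination r3 / 55 + 44 / 55 * r2 - 45 / 55 * r1⟩

omit tb hG in
theorem nP (h : BD 5 P 4 1 B V r σ T) {g : G} (g4 : orderOf g = 4) (k : ℕ) (a : ¬ 4 ∣ k) : g ^ k ∉ P := fun b => by
  have := orderOf_pow_dvd (x := g) k
  rw [h.ord_nz b fun e => a (g4 ▸ orderOf_dvd_of_pow_eq_one e), g4] at this
  omega

omit tb hG in
theorem nb (k : ℤ) (n : ℕ) (a : ‖(k : ℂ)‖ ≤ n) : -(n : ℤ) ≤ k ∧ k ≤ n := abs_le.1 (by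
  rw [Complex.norm_intCast] at a; exact_mod_cast a)

omit tb hG in
theorem t10_aux {m0 m1 m2 m3 : ℕ} {A C : ℤ} (a1 : 10 = m0 + m1 + m2 + m3) (a4 : (m1 + 2 * m2 + 3 * m3) % 4 = 0) (hA : A = m0 - m2)
    (hC : C = m1 - m3) (b3 : -((2 : ℕ) : ℤ) ≤ (m0 + m2 - m1 - m3 : ℤ) ∧ (m0 + m2 - m1 - m3 : ℤ) ≤ (2 : ℕ)) (b5 : A ^ 2 + C ^ 2 ≤ 4) :
    (m0 + m2 - m1 - m3 : ℤ) = 2 ∧ 4 ≤ A ^ 2 + C ^ 2 ∨ (m0 + m2 - m1 - m3 : ℤ) = -2 ∧ A = 0 ∧ C = 0 := by
  have c1 : -2 ≤ A ∧ A ≤ 2 := ⟨by nlinarith only [b5, sq_nonneg C], by nlinarith only [b5, sq_nonneg C]⟩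
  have c2 : -2 ≤ C ∧ C ≤ 2 := ⟨by nlinarith only [b5, sq_nonneg A], by nlinarith only [b5, sq_nonneg A]⟩
  have : (A = 0 ∨ A = 2 ∨ A = -2) ∧ (C = 0 ∨ C = 2 ∨ C = -2) := by omega
  rcases this with ⟨e | e | e, i | i | i⟩ <;> rw [e, i] at b5 ⊢ <;> omega

omit tb in
theorem t10 [IsSimpleGroup G] (h : BD 5 P 4 1 B V r σ T) (hC : CS P = P) {g : G} (g1 : g ∈ NS P)
    (g4 : orderOf g = 4) (φ : IrrCharacter G) (d : charDegree φ.1 = 10) : φ.1 g⁻¹ = φ.1 g ∧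
      (φ.1 (g ^ 2) = 2 ∧ 4 ≤ ‖φ.1 g‖ ^ 2 ∨ φ.1 (g ^ 2) = -2) := by
  have pf := ord_perfect (nc hG)
  have g0 : g ^ 4 = 1 := g4 ▸ pow_orderOf_eq_one g
  have nP := nP h g4
  have n1 : g ∉ P := by simpa using nP 1 (by norm_num)
  have g3 : g * g ^ 2 = g⁻¹ := eq_inv_of_mul_eq_one_left (by rw [← g0]; group)
  obtain ⟨m0, m1, m2, m3, a1, a2, a3, a4⟩ := eig4 pf φ g0
  have hn : ∑ y ∈ nz P, φ.1 y + φ.1 1 = (5 : ℕ) * (2 : ℕ) := by
    rw [sum_eq_zero fun y a => h.zero_dvd (by omega) (h.ord_nz (mem_nz.1 a).1 (mem_nz.1 a).2).symm.dvd, ideg, d]; norm_num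
  obtain ⟨b1, b2⟩ := h.avg_le hC (irr_char φ.2) hn g1 n1
  have b3 := nb _ _ (a3 ▸ (h.avg_le hC (irr_char φ.2) hn (pow_mem g1 2) (nP 2 (by norm_num))).1)
  obtain ⟨A, hA⟩ : ∃ A : ℤ, A = m0 - m2 := ⟨_, rfl⟩
  obtain ⟨C, hC⟩ : ∃ C : ℤ, C = m1 - m3 := ⟨_, rfl⟩
  have a5 : φ.1 g = A + C * Complex.I := by rw [a2, hA, hC]; push_cast; rfl
  have b4 : ‖φ.1 g‖ ^ 2 = ((A ^ 2 + C ^ 2 : ℤ) : ℝ) := by
    rw [Complex.sq_norm, a5, Complex.normSq_apply]; simp [sq]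
  have b5 : A ^ 2 + C ^ 2 ≤ 4 := by
    have : ‖φ.1 g‖ ^ 2 ≤ 2 ^ 2 := pow_le_pow_left₀ (norm_nonneg _) (by simpa using b1) 2
    rw [b4] at this; exact_mod_cast this
  rcases t10_aux (d.symm.trans a1) a4 hA hC b3 b5 with ⟨k, l⟩ | ⟨k, rfl, rfl⟩ <;> rw [k] at a3
  · refine ⟨g3 ▸ b2 _ (pow_mem g1 2) (nP 2 (by norm_num)) (by rw [← pow_succ']; exact nP 3 (by norm_num)) (by rw [a3]; norm_num),
      Or.inl ⟨by rw [a3]; norm_num, ?_⟩⟩
    rw [b4]
    exact_mod_cast l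
  · exact ⟨by rw [char_inv (irr_char φ.2), a5]; simp, Or.inr (by rw [a3]; norm_num)⟩

theorem Tab.uj [IsSimpleGroup G] (h : BD 5 P 4 1 B V r σ T) (hC : CS P = P) (hu : ∀ x ∈ P, x ≠ 1 → u.1 x = 1) {g : G} (g1 : g ∈ NS P)
    (g4 : orderOf g = 4) : u.1 (g ^ 2) = 3 := by
  have pf := ord_perfect (nc hG)
  have g0 : g ^ 4 = 1 := g4 ▸ pow_orderOf_eq_one g
  have nP := nP h g4
  have t10 := t10 hG h hC g1 g4
  obtain ⟨m0, m1, m2, m3, a1, -, a3, a4⟩ := eig4 pf u g0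
  have b3 := nb _ 3 (a3 ▸ (h.avg_le hC (irr_char u.2) (by
    rw [sum_nz_const P hu, ideg, tb.du, h.card]; norm_num) (pow_mem g1 2) (nP 2 (by norm_num))).1)
  rw [tb.du] at a1
  rcases (show (m0 + m2 - m1 - m3 : ℤ) = 3 ∨ (m0 + m2 - m1 - m3 : ℤ) = -1 by omega) with k | k <;> rw [k] at a3
  · rw [a3]; norm_num
  exfalso
  have o2 : orderOf (g ^ 2) = 2 := by rw [orderOf_pow_of_dvd two_ne_zero (by omega), g4]
  obtain ⟨y2, z2, f2, v2, w2⟩ := tb.ev hG o2.symm.dvd (by rw [o2]; norm_num)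
  obtain ⟨y1, z1, f1, v1, w1⟩ := tb.ev hG (g := g) (by omega) g4.dvd
  obtain ⟨y3, z3, f3, v3, w3⟩ := tb.ev hG (g := g⁻¹) (by rw [orderOf_inv]; omega) (by rw [orderOf_inv, g4])
  obtain ⟨ia, ta⟩ := t10 a tb.da
  obtain ⟨ib, tb'⟩ := t10 b tb.db
  obtain ⟨ic, tc⟩ := t10 c tb.dc
  have s2 := sum_norm_sq_char (g ^ 2)
  have s1 := sum_norm_sq_char g
  rw [tb.sum] at s1 s2
  have d2 := hG ▸ card_subgroup_dvd_card (C1 (g ^ 2))
  have key : Nat.card (C1 (g ^ 2)) = 16 ∧ 8 ≤ ‖a.1 g‖ ^ 2 + ‖b.1 g‖ ^ 2 + ‖c.1 g‖ ^ 2 := by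
    rw [y2, z2, f2, v2, w2, a3] at s2
    generalize Nat.card (C1 (g ^ 2)) = n at *
    have := sq_nonneg ‖a.1 g‖; have := sq_nonneg ‖b.1 g‖; have := sq_nonneg ‖c.1 g‖
    rcases ta with ⟨ta, _⟩ | ta <;> rcases tb' with ⟨tb', _⟩ | tb' <;> rcases tc with ⟨tc, _⟩ | tc <;> rw [ta, tb', tc] at s2 <;>
      norm_num at s2 <;> norm_cast at s2 <;> first | (subst s2; omega) | exact ⟨s2.symm, by linarith⟩
  have le : C1 g ≤ C1 (g ^ 2) := fun x a => mem_centralizer_singleton_iff.2 (Commute.pow_right (mem_centralizer_singleton_iff.1 a) 2)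
  have d1 := key.1 ▸ card_dvd_of_le le
  have d3 : 9 ≤ Nat.card (C1 g) := by
    have : (9 : ℝ) ≤ Nat.card (C1 g) := by
      rw [← s1, triv_apply, norm_one]
      nlinarith [key.2, sq_nonneg ‖u.1 g‖, sq_nonneg ‖y.1 g‖, sq_nonneg ‖z.1 g‖, sq_nonneg ‖f.1 g‖, sq_nonneg ‖v.1 g‖, sq_nonneg ‖w.1 g‖]
    exact_mod_cast this
  have eq := eq_of_le_of_card_ge le (by
    have := Nat.le_of_dvd (by norm_num) d1
    rw [key.1]
    generalize Nat.card (C1 g) = n at *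
    interval_cases n <;> omega)
  obtain ⟨x, hx⟩ := isConj_iff.1 (isConj_of_irr_eq (g := g) (h := g⁻¹) fun χ i => by
    rcases tb.mem ⟨χ, i⟩ with e | e | e | e | e | e | e | e | e | e <;> rw [show χ = _ from congrArg Subtype.val e] <;>
      simp only [triv_apply, y1, z1, f1, v1, w1, y3, z3, f3, v3, w3, ia, ib, ic, tb.u_inv])
  have : x ∈ C1 (g ^ 2) := mem_centralizer_singleton_iff.2 (by
    rw [← mul_inv_eq_iff_eq_mul, ← conj_pow, hx, inv_pow, inv_eq_iff_mul_eq_one, ← pow_add, g0])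
  rw [mem_centralizer_singleton_iff.1 (eq.ge this), mul_inv_cancel_right, eq_inv_iff_mul_eq_one, ← sq] at hx
  rw [hx, orderOf_one] at o2
  omega

end M11

end H3
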