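import Cfsg.Agent.H3.M2

/-!
H3.M3: a simple group of order 7920 is determined up to isomorphism.
-/

set_option autoImplicit false
open Cfsg Subgroup Finset

namespace H3
open H4

variable {G : Type*} [Group G]

theorem conj_pick [Finite G] {s t : G} {n m : ℕ} (ht : orderOf t = n) (hs : s ^ m = 1) (hc : s * t * s⁻¹ ∈ zpowers t) :
    ∃ k < n, k ^ m % n = 1 % n ∧ ∀ i, s ^ i * t * (s ^ i)⁻¹ = t ^ (k ^ i % n) := by
  classical
  obtain ⟨k, a, b⟩ := mem_image.1 (mem_zpowers_iff_mem_range_orderOf.1 hc)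
  have c : ∀ i, s ^ i * t * (s ^ i)⁻¹ = t ^ k ^ i := fun i => by
    induction i with
    | zero => simp
    | succ i ih => rw [pow_succ' k, pow_mul, b, conj_pow, ← ih]; group
  refine ⟨k, ht ▸ mem_range.1 a, ?_, fun i => by rw [c, ← ht, pow_mod_orderOf]⟩
  have := c m
  rw [hs, one_mul, inv_one, mul_one, eq_comm, ← pow_one t, ← pow_mul, one_mul, pow_eq_pow_iff_modEq, ht] at this
  exact this

theorem le_of_orders [Finite G] {A M : Subgroup G} {x y : G} {m n : ℕ} (hx : orderOf x = m) (hy : orderOf y = n) (h : m.Coprime n)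
    (hA : Nat.card A = m * n) (x1 : x ∈ A) (x2 : x ∈ M) (y1 : y ∈ A) (y2 : y ∈ M) : A ≤ M :=
  inf_eq_left.1 (eq_of_le_of_card_ge inf_le_left (hA.trans_le (Nat.le_of_dvd Nat.card_pos (h.mul_dvd_of_dvd_of_dvd
    (hx ▸ Subgroup.orderOf_dvd_natCard _ ⟨x1, x2⟩) (hy ▸ Subgroup.orderOf_dvd_natCard _ ⟨y1, y2⟩)))))

namespace M11

theorem setup [Finite G] [IsSimpleGroup G] (hG : Nat.card G = 7920) : ∃ (t s g : G) (H : Subgroup G), orderOf t = 11 ∧
    s * t * s⁻¹ = t ^ 3 ∧ g * s * g⁻¹ = s ^ 2 ∧ s ^ 5 = 1 ∧ t ∈ H ∧ s ∈ H ∧ g ^ 2 ∈ H ∧ H.index = 12 ∧ g⁻¹ * t * g ∉ H ∧ g ∉ H ∧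
      ∀ M : Subgroup G, t ∈ M → s ∈ M → g ∈ M → M = ⊤ := by
  classical
  letI := Fintype.ofFinite G
  obtain ⟨Q⟩ : Nonempty (Sylow 11 G) := inferInstance
  obtain ⟨e, _, _, _, _, _, _, hq⟩ := exists_bd Q (c11 hG Q)
  obtain ⟨rfl, cq⟩ := e11 hG Q hq
  have cA := hq.card_N cq
  obtain ⟨t, t1, t2⟩ := hq.exists_ne
  have t3 := hq.ord_nz t1 t2
  obtain ⟨⟨s0, s1⟩, s2⟩ := exists_prime_orderOf_dvd_card' (G := NS (Q : Subgroup G)) 5 (by rw [cA]; norm_num)
  rw [Subgroup.orderOf_mk] at s2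
  obtain ⟨k, k1, k2, k3⟩ := conj_pick t3 (s2 ▸ pow_orderOf_eq_one s0)
    (by rw [eq_zpowers_prime hq.card t1 t2]; exact (mem_normalizer_iff.1 s1 t).1 t1)
  obtain ⟨i, i1, i2, i3⟩ := (show ∀ k < 11, k ^ 5 % 11 = 1 % 11 → k ≠ 1 → ∃ i < 5, Nat.gcd 5 i = 1 ∧ k ^ i % 11 = 3 by decide) k k1 k2 (by
    rintro rfl
    refine t2 (hq.fpf cq (g := s0) (fun a => ?_) t t1 (by simpa [mul_inv_eq_iff_eq_mul] using k3 1))
    have := hq.ord_nz a (by rintro rfl; simp at s2)
    omega)
  have st := k3 i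
  rw [i3] at st
  have sA : s0 ^ i ∈ NS (Q : Subgroup G) := pow_mem s1 i
  have s5 : orderOf (s0 ^ i) = 5 := (Nat.Coprime.orderOf_pow (s2 ▸ i2)).trans s2
  generalize s0 ^ i = s at *
  clear k1 k2 k3 i1 i2 i3 s1 s2 s0 i k
  obtain ⟨P, hP⟩ := (IsPGroup.of_card (n := 1) (by rw [Nat.card_zpowers, s5, pow_one]) : IsPGroup 5 (zpowers s)).exists_le_sylow
  obtain ⟨a, b, c, u, y, z, f, v, w, tb, hu, hC, B, V, r, σ, T, h⟩ := tab hG P
  have sP := hP (mem_zpowers s)
  have s1 : s ≠ 1 := by rintro rfl; simp at s5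
  have eP := eq_zpowers_prime h.card sP s1
  have cN := h.card_N hC
  obtain ⟨K, K1, K2, K3, -⟩ := h.exists_compl hC
  obtain ⟨⟨g0, g1⟩, g2⟩ := isCyclic_iff_exists_orderOf_eq_natCard.1 K2
  rw [Subgroup.orderOf_mk, K3] at g2
  obtain ⟨k, k1, k2, k3⟩ := conj_pick s5 (g2 ▸ pow_orderOf_eq_one g0) (by rw [eP]; exact (mem_normalizer_iff.1 (K1 g1) s).1 sP)
  obtain ⟨i, i1, i2, i3⟩ := (show ∀ k < 5, k ^ 4 % 5 = 1 % 5 → k ^ 2 % 5 ≠ 1 → ∃ i < 4, Nat.gcd 4 i = 1 ∧ k ^ i % 5 = 2 by decide) k k1 k2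
    fun a => s1 (h.fpf hC (nP h g2 2 (by norm_num)) s sP (by simpa [mul_inv_eq_iff_eq_mul, a] using k3 2))
  have gs := k3 i
  rw [i3] at gs
  have gN : g0 ^ i ∈ NS (P : Subgroup G) := pow_mem (K1 g1) i
  have g4 : orderOf (g0 ^ i) = 4 := (Nat.Coprime.orderOf_pow (g2 ▸ i2)).trans g2
  generalize g0 ^ i = g at *
  clear k1 k2 k3 i1 i2 i3 g1 g2 g0 i k K1 K2 K3 K
  have tA : t ∈ NS (Q : Subgroup G) := le_normalizer t1
  have o2 : orderOf (g ^ 2) = 2 := by rw [orderOf_pow_of_dvd two_ne_zero (by omega), g4]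
  have big : ∀ M : Subgroup G, NS (Q : Subgroup G) ≤ M → g ^ 2 ∈ M → M ≠ ⊤ → Nat.card M = 660 := fun M m1 m2 m3 => by
    have r1 := ((H1.isSylowIn_top Q).of_le (le_normalizer.trans m1) le_top).relIndex_normalizer_modEq
    have r2 := H1.card_mul_relIndex m1
    have r3 := hG ▸ card_subgroup_dvd_card M
    have r4 := o2 ▸ Subgroup.orderOf_dvd_natCard M m2
    have r5 : Nat.card M ≠ 7920 := fun e => m3 (eq_top_of_card_eq _ (e.trans hG.symm))
    rw [cA] at r2
    have r6 : (NS (Q : Subgroup G)).relIndex M ∣ 144 := (Nat.mul_dvd_mul_iff_left (by norm_num : 0 < 11 * 5)).1 (r2 ▸ r3)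
    have := (show ∀ r < 145, r ∣ 144 → r % 11 = 1 % 11 → r = 1 ∨ r = 12 ∨ r = 144 by decide +kernel) _
      (Nat.lt_succ_of_le (Nat.le_of_dvd (by norm_num) r6)) r6 r1
    omega
  have gen : ∀ M : Subgroup G, t ∈ M → s ∈ M → g ∈ M → M = ⊤ := fun M m1 m2 m3 => by_contra fun m4 => by
    have r0 := big M (le_of_orders t3 s5 (by norm_num) cA tA m1 sA m2) (pow_mem m3 2) m4
    have m5 := le_of_orders s5 g4 (by norm_num) cN (le_normalizer sP) m2 gN m3
    have r1 : _ % 5 = _ := ((H1.isSylowIn_top P).of_le (le_normalizer.trans m5) le_top).relIndex_normalizer_modEq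
    have r2 := H1.card_mul_relIndex m5
    rw [cN, r0] at r2
    simp only [NS] at r2
    omega
  have ne := sup_ne_top u (fun e => by have := tb.du; rw [e, deg_triv] at this; omega) (A := NS (Q : Subgroup G))
    (eP.ge.trans (zpowers_le.2 sA)) (pow_mem gN 2) (by rw [← pow_add]; exact orderOf_dvd_iff_pow_eq_one.1 g4.dvd) (by
      rw [h.avg_eq hC (irr_char u.2) (pow_mem gN 2) (nP h g4 2 (by norm_num)), tb.uj hG h hC hu gN g4, sum_nz_const _ hu, ideg, tb.du,
        h.card]
      norm_num) fun e => by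
        have := congrArg Complex.re e
        rw [Complex.add_re, Complex.re_sum, ideg, tb.du] at this
        refine absurd this (add_pos_of_nonneg_of_pos (sum_nonneg fun x m => ?_) (by norm_num)).ne'
        obtain ⟨m1, m2⟩ := mem_nz.1 m
        by_cases i : 11 ∣ orderOf x
        · rw [hq.zero_dvd tb.du.symm.dvd i]; rfl
        have i2 := cA ▸ Subgroup.orderOf_dvd_natCard _ m1
        obtain ⟨x', hx⟩ := h.conj_mem hC (g := x) (by
          have := mt orderOf_eq_one_iff.1 m2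
          have := Nat.le_of_dvd (by norm_num) i2
          generalize orderOf x = n at *
          interval_cases n <;> omega)
        rw [← class_conj' (irr_class u.2) x x', hu _ hx fun e => m2 (H1.conj_eq_one_iff'.1 e)]
        norm_num
  have cH := big _ le_sup_left (mem_sup_right (mem_zpowers _)) ne
  set H := NS (Q : Subgroup G) ⊔ zpowers (g ^ 2)
  have gH : g ∉ H := fun a => ne (gen H (mem_sup_left tA) (mem_sup_left sA) a)
  refine ⟨t, s, g, H, t3, st, gs, s5 ▸ pow_orderOf_eq_one s, mem_sup_left tA, mem_sup_left sA, mem_sup_right (mem_zpowers _), ?_,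
    fun a => gH ?_, gH, gen⟩
  · have := card_mul_index H
    rw [cH, hG] at this
    omega
  · obtain ⟨x, x1, x2⟩ := (hq.syl.mono (le_normalizer.trans le_sup_left : (Q : Subgroup G) ≤ H) le_top).exists_le_cj
      (IsPGroup.of_card (n := 1) (by rw [Nat.card_zpowers, show g⁻¹ * t * g = g⁻¹ * t * g⁻¹⁻¹ by rw [inv_inv], orderOf_conj, t3, pow_one]))
      (zpowers_le.2 a)
    have := H9.mem_cj.1 (x2 (mem_zpowers _))
    have := (hq.mem_NS_iff (x := g * x) t1 t2).2.1 (by simpa [mul_assoc] using this)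
    simpa using H.mul_mem (mem_sup_left this) (H.inv_mem x1)

/-- the points -/
abbrev Pt := Option (ZMod 11)

/-- multiplication by `k` -/
def ml (k : ZMod 11) : Pt → Pt := Option.map (k * ·)

/-- addition of `k` -/
def ad (k : ZMod 11) : Pt → Pt := Option.map (· + k)

/-- the map with `0 ↔ ∞`, `1 ↦ a`, `2 ↦ b` which turns multiplication by 3 into multiplication by 9 -/
def gm (a b : Pt) : Pt → Pt
  | none => some 0
  | some x => if x = 0 then none else if x = 1 then a else if x = 3 then ml 9 a else if x = 9 then ml 4 a else if x = 5 then ml 3 a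
      else if x = 4 then ml 5 a else if x = 2 then b else if x = 6 then ml 9 b else if x = 7 then ml 4 b else if x = 10 then ml 3 b
      else ml 5 b

theorem gm_cases : ∀ a b : Pt, (∀ p q, gm a b p = gm a b q → p = q) →
    (∀ k p, (ad k ∘ gm a b)^[7] p = p → ad k (gm a b p) = p) → ∃ m, m ≠ 0 ∧ ∀ p, gm a b (ml m p) = ml m (gm (some 2) (some 4) p) := by
  decide +kernel

theorem eq_gm {γ : Pt → Pt} (h0 : γ none = some 0) (h1 : γ (some 0) = none) (h : ∀ p, γ (ml 3 p) = ml 9 (γ p)) :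
    γ = gm (γ (some 1)) (γ (some 2)) := by
  have k : ∀ (i j : ZMod 11) p, ml i (ml j p) = ml (i * j) p := fun i j p => by cases p <;> simp [ml, mul_assoc]
  have a1 : γ (some 3) = _ := h (some 1)
  have a2 : γ (some 9) = _ := h (some 3)
  have a3 : γ (some 5) = _ := h (some 9)
  have a4 : γ (some 4) = _ := h (some 5)
  have b1 : γ (some 6) = _ := h (some 2)
  have b2 : γ (some 7) = _ := h (some 6)
  have b3 : γ (some 10) = _ := h (some 7)
  have b4 : γ (some 8) = _ := h (some 10)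
  rw [a1, k] at a2; rw [a2, k] at a3; rw [a3, k] at a4; rw [b1, k] at b2; rw [b2, k] at b3; rw [b3, k] at b4
  funext p
  rcases p with _ | p
  · exact h0
  · fin_cases p
    exacts [h1, rfl, rfl, a1, a4, a3, b1, b2, b4, a2, b3]

theorem emb [Finite G] [IsSimpleGroup G] (hG : Nat.card G = 7920) : ∃ (ψ : G →* Equiv.Perm Pt) (t s g : G), Function.Injective ψ ∧
    closure {t, s, g} = ⊤ ∧ ⇑(ψ t) = ad 1 ∧ ⇑(ψ s) = ml 3 ∧ ⇑(ψ g) = gm (some 2) (some 4) := by
  classical
  obtain ⟨t, s, g, H, t0, st, gs, s5, tH, sH, jH, iH, n1, n2, gen⟩ := setup hG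
  let o : G ⧸ H := (1 : G)
  have fx : ∀ x : G, x • o = o ↔ x ∈ H := fun x => by rw [← MulAction.mem_stabilizer_iff, MulAction.stabilizer_quotient]
  let E : Pt → G ⧸ H := fun p => p.elim o fun x => t ^ x.val • g • o
  have tp : ∀ n : ℕ, t ^ (n % 11) = t ^ n := fun n => t0 ▸ pow_mod_orderOf t n
  have ta : ∀ (k : ZMod 11) p, t ^ k.val • E p = E (ad k p) := fun k p => by
    rcases p with _ | x
    · exact (fx _).2 (pow_mem tH _)
    · show _ = t ^ (x + k).val • g • o
      rw [ZMod.val_add, tp, add_comm, pow_add, mul_smul]; rfl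
  have so : s • g • o = g • o := by
    have : s * g = g * s ^ 3 := by
      rw [← mul_inv_eq_iff_eq_mul.1 (show g * s ^ 3 * g⁻¹ = s by rw [← conj_pow, gs, ← pow_mul, pow_succ, s5, one_mul])]
    rw [← mul_smul, this, mul_smul, (fx _).2 (pow_mem sH 3)]
  have sa : ∀ p, s • E p = E (ml 3 p) := fun p => by
    rcases p with _ | x
    · exact (fx _).2 sH
    · show s • t ^ x.val • g • o = t ^ (3 * x).val • g • o
      rw [ZMod.val_mul, tp, show ZMod.val (3 : ZMod 11) = 3 from rfl, pow_mul, ← st, conj_pow, mul_smul, mul_smul, inv_smul_eq_iff.2 so.symm]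
  have no : ∀ x, E (some x) ≠ E none := fun x e => n2 ((fx g).1 (by
    have : t ^ x.val • g • o = t ^ x.val • o := e.trans ((fx _).2 (pow_mem tH _)).symm
    exact smul_left_cancel _ this))
  have inj : Function.Injective E := by
    rintro (_ | x) (_ | y) e
    · rfl
    · exact (no _ e.symm).elim
    · exact (no _ e).elim
    by_contra a
    have b := congrArg (t ^ (-y).val • ·) e
    simp only [ta] at b
    have c : t ^ (x + -y).val ∈ MulAction.stabilizer G (g • o) := by simpa [E, ad] using b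
    have d : x + -y ≠ 0 := fun i => a (congrArg some (by linear_combination i))
    obtain ⟨m, hm⟩ := (show ∀ z : ZMod 11, z ≠ 0 → ∃ m < 11, z.val * m % 11 = 1 by decide) _ d
    have := pow_mem c m
    rw [← pow_mul, ← tp, hm.2, pow_one, MulAction.mem_stabilizer_iff] at this
    exact n1 ((fx _).1 (by rw [mul_smul, mul_smul, this, inv_smul_smul]))
  letI := Fintype.ofFinite (G ⧸ H)
  let e := Equiv.ofBijective E ((Fintype.bijective_iff_injective_and_card E).2 ⟨inj, by
    rw [← Nat.card_eq_fintype_card (α := G ⧸ H), ← index_eq_card, iH]; rfl⟩)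
  let γ : Pt → Pt := fun p => e.symm (g • E p)
  have ga : ∀ p, g • E p = E (γ p) := fun p => (e.apply_symm_apply _).symm
  have hγ := eq_gm (γ := γ) (inj ((ga _).symm.trans (by simp [E, o]))) (inj ((ga _).symm.trans (by
    simpa [E, ← mul_smul, ← sq] using (fx _).2 jH))) fun p => inj (by
      rw [← ga, ← sa, ← mul_smul, mul_inv_eq_iff_eq_mul.1 gs, sq, mul_smul, mul_smul, ga, sa, sa]
      generalize γ p = q
      revert q; exact fun q => congrArg E (by revert q; decide))
  obtain ⟨m, m0, hm⟩ := gm_cases (γ (some 1)) (γ (some 2)) (hγ ▸ fun p q a => inj (smul_left_cancel g (by rw [ga, ga, a]))) (hγ ▸ fun k p a => by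
    have b : ∀ n p, (t ^ k.val * g) ^ n • E p = E ((ad k ∘ γ)^[n] p) := fun n => by
      induction n with
      | zero => simp
      | succ n ih => intro p; rw [pow_succ, mul_smul, mul_smul, ga, ta, ih]; rfl
    have c : (t ^ k.val * g) ^ 7 ∈ MulAction.stabilizer G (E p) := (b 7 p).trans (congrArg E a)
    have d := pow_mem c 2263
    rw [← pow_mul, show 7 * 2263 = Nat.card G * 2 + 1 by rw [hG], pow_succ, pow_mul, pow_card_eq_one', one_pow, one_mul] at d
    exact inj (by rw [← ta, ← ga, ← mul_smul]; exact d))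
  rw [← hγ] at hm
  have bm : Function.Bijective (ml m) := (show ∀ m : ZMod 11, m ≠ 0 → Function.Bijective (ml m) by decide) m m0
  let e' := (Equiv.ofBijective _ bm).trans e
  let ψ : G →* Equiv.Perm Pt := e'.symm.permCongrHom.toMonoidHom.comp (MulAction.toPermHom G (G ⧸ H))
  have key : ∀ x p q, x • E (ml m p) = E (ml m q) → ψ x p = q := fun x p q a => e'.symm_apply_eq.2 a
  have kt : ⇑(ψ (t ^ m.val)) = ad 1 := funext fun p => key _ _ _ (by
    rw [ta]; exact congrArg E (by cases p <;> simp [ml, ad, mul_add]))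
  refine ⟨ψ, t ^ m.val, s, g, (MonoidHom.ker_eq_bot_iff ψ).1 ((Normal.eq_bot_or_eq_top inferInstance).resolve_right fun a => ?_),
    gen _ ?_ (subset_closure (by simp)) (subset_closure (by simp)), kt, funext fun p => key _ _ _ (by
      rw [sa]; exact congrArg E (by cases p <;> simp [ml, mul_left_comm])), funext fun p => key _ _ _ (by rw [ga, hm])⟩
  · rw [MonoidHom.mem_ker.1 (a.ge (mem_top _))] at kt
    exact absurd (congrFun kt (some 0)) (by decide)
  · obtain ⟨i, hi⟩ := (show ∀ z : ZMod 11, z ≠ 0 → ∃ m < 11, z.val * m % 11 = 1 by decide) _ m0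
    have := pow_mem (Subgroup.subset_closure (k := {t ^ m.val, s, g}) (Set.mem_insert _ _)) i
    rwa [← pow_mul, ← tp (m.val * i), hi.2, pow_one] at this

theorem unique {G' : Type*} [Group G'] [Finite G] [IsSimpleGroup G] [Finite G'] [IsSimpleGroup G'] (hG : Nat.card G = 7920)
    (hG' : Nat.card G' = 7920) : Nonempty (G ≃* G') := by
  obtain ⟨ψ, t, s, g, a, b, c1, c2, c3⟩ := emb hG
  obtain ⟨ψ', t', s', g', a', b', d1, d2, d3⟩ := emb hG'
  have : ψ.range = ψ'.range := by
    rw [MonoidHom.range_eq_map, MonoidHom.range_eq_map, ← b, ← b', MonoidHom.map_closure, MonoidHom.map_closure]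
    simp only [Set.image_insert_eq, Set.image_singleton, DFunLike.coe_injective (c1.trans d1.symm),
      DFunLike.coe_injective (c2.trans d2.symm), DFunLike.coe_injective (c3.trans d3.symm)]
  exact ⟨((MonoidHom.ofInjective a).trans (MulEquiv.subgroupCongr this)).trans (MonoidHom.ofInjective a').symm⟩

end M11

end H3
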