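import Cfsg.Agent.H3.M3
import Cfsg.Agent.H1.Coprime
import Cfsg.Agent.H1.Primitive

/-!
H3.M4: a group of order 7920 is simple or has a connected prime graph.
-/

set_option autoImplicit false
open Cfsg Subgroup Finset

namespace H3
open H4

variable {G : Type*} [Group G] [Finite G]

theorem adj_of_dvd {x : G} {p q : ℕ} (hp : p.Prime) (hq : q.Prime) (h : q ≠ p) (hx : orderOf x = p) (hd : q ∣ Nat.card (C1 x)) :
    ∃ g : G, orderOf g = q * p := by
  haveI := Fact.mk hq
  obtain ⟨y, hy⟩ := exists_prime_orderOf_dvd_card' q hd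
  rw [← Subgroup.orderOf_coe] at hy
  refine ⟨y * x, ?_⟩
  rw [(show Commute (y : G) x from mem_centralizer_singleton_iff.1 y.2).orderOf_mul_eq_mul_orderOf_of_coprime, hx, hy]
  rw [hx, hy]
  exact (Nat.coprime_primes hq hp).2 h

theorem fix_sylow {X K : Subgroup G} {p q : ℕ} (hp : p.Prime) (hq : q.Prime) (hX : Nat.card X = q) (h1 : X ≤ NS K)
    (h2 : ¬ q ∣ Nat.card K) : ∃ j k, p ^ j ∣ p ^ k ∧ p ^ k ∣ Nat.card K ∧ ¬ p ^ (k + 1) ∣ Nat.card K ∧ p ^ k % q = p ^ j % q ∧
      p ^ j ∣ Nat.card (CS X) := by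
  haveI := Fact.mk hp
  haveI := Fact.mk hq
  obtain ⟨R, a, b⟩ := H1.exists_invariant_sylow (p := p) h1 (hX ▸ (Nat.Prime.coprime_iff_not_dvd hq).2 h2)
    (Or.inl (solvable_of_prime_card (hX ▸ hq)))
  have c := H1.card_modEq_card_inf_centralizer (q := q) (IsPGroup.of_card (n := 1) (hX.trans (pow_one q).symm)) b
  obtain ⟨j, -, d⟩ := (Nat.dvd_prime_pow hp).1 (a.card_eq ▸ card_dvd_of_le (inf_le_left : R ⊓ CS X ≤ R))
  refine ⟨j, _, d ▸ a.card_eq ▸ card_dvd_of_le inf_le_left, Nat.ordProj_dvd _ _, Nat.pow_succ_factorization_not_dvd Nat.card_pos.ne' hp,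
    by rw [← a.card_eq, ← d]; exact c, d ▸ card_dvd_of_le inf_le_right⟩

theorem mem_of_cop {L : Subgroup G} [L.Normal] {a : G} (h : L.index.Coprime (orderOf a)) : a ∈ L :=
  zpowers_le.2 (L.pow_index_mem a) (mem_zpowers_pow_iff.2 h)

namespace M11

theorem pp {p k : ℕ} (hp : p.Prime) (h : p ^ k ∣ 720) : p ^ k ∈ [1, 2, 4, 8, 16, 3, 9, 5] := by
  rcases Nat.eq_zero_or_pos k with rfl | k0
  · simp
  have a : p ∣ 2 ^ 4 * 3 ^ 2 * 5 := (dvd_pow_self p k0.ne').trans h
  have b : ∀ n, n ≤ k → p ^ n ∣ 720 := fun n c => (pow_dvd_pow p c).trans h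
  replace a : (p = 2 ∨ p = 3) ∨ p = 5 := (hp.dvd_mul.1 a).imp (fun a => (hp.dvd_mul.1 a).imp
    (fun a => (Nat.prime_dvd_prime_iff_eq hp Nat.prime_two).1 (hp.dvd_of_dvd_pow a))
    fun a => (Nat.prime_dvd_prime_iff_eq hp Nat.prime_three).1 (hp.dvd_of_dvd_pow a)) (Nat.prime_dvd_prime_iff_eq hp Nat.prime_five).1
  have : k < 5 := by_contra fun c => by rcases a with (rfl | rfl) | rfl <;> exact absurd (b 5 (by omega)) (by norm_num)
  rcases a with (rfl | rfl) | rfl <;> interval_cases k <;> simp_all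

theorem simple_or (hG : Nat.card G = 7920) : IsSimpleGroup G ∨ (∃ g : G, orderOf g = 2 * 11) ∧
    ((∃ g : G, orderOf g = 3 * 11) ∧ ((∃ g : G, orderOf g = 5 * 11) ∨ ∃ g : G, orderOf g = 3 * 5) ∨
      (∃ g : G, orderOf g = 2 * 5) ∧ ∃ g : G, orderOf g = 3 * 2) := by
  obtain ⟨P⟩ : Nonempty (Sylow 11 G) := inferInstance
  have cP : Nat.card P = 11 := card_sylow_of P hG (k := 1) (by norm_num) (by norm_num)
  obtain ⟨⟨t, t1⟩, t2⟩ := exists_prime_orderOf_dvd_card' (G := (P : Subgroup G)) 11 cP.symm.dvd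
  rw [Subgroup.orderOf_mk] at t2
  have t3 : t ≠ 1 := by rintro rfl; simp at t2
  have aC : ∀ q : ℕ, q.Prime → q ≠ 11 → q ∣ Nat.card (CS (P : Subgroup G)) → ∃ g : G, orderOf g = q * 11 := fun q a b c =>
    adj_of_dvd (by norm_num) a b t2 (C1_eq_prime cP t1 t3 ▸ c)
  have a5 : ∀ (K : Subgroup G) (s : G) (p : ℕ), orderOf s = 5 → s ∈ NS K → ¬ 5 ∣ Nat.card K → p.Prime → p ≠ 5 → p ∣ Nat.card K →
      (∀ k, p ^ k ∣ Nat.card K → p ^ k % 5 = 1 → k = 0) → ∃ g : G, orderOf g = p * 5 := fun K s p s1 s2 a b c d e => by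
    obtain ⟨j, k, -, k1, k2, k3, k4⟩ := fix_sylow b Nat.prime_five ((Nat.card_zpowers s).trans s1) (zpowers_le.2 s2) a
    refine adj_of_dvd Nat.prime_five b c s1 ((dvd_pow_self p ?_).trans (by rwa [CS, H4.centralizer_zpowers s] at k4))
    rintro rfl
    obtain rfl := e k k1 k3
    exact k2 (by simpa using d)
  have n1 := H1.card_sylow_mul P
  have n2 := card_sylow_mod (p := 11) G
  have n3 : 11 ∣ Nat.card (CS (P : Subgroup G)) := cP.symm.dvd.trans (card_dvd_of_le (le_CS_prime cP))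
  have n4 := H1.card_mul_relIndex (CS_le_NS (P : Subgroup G))
  have n5 := H1.relIndex_cent_dvd cP
  have n6 : Nat.card (Sylow 11 G) ∣ 720 := by
    obtain ⟨c, hc⟩ := n3.trans (Dvd.intro _ n4)
    exact ⟨c, by rw [hc, hG] at n1; nlinarith⟩
  have n7 := (show ∀ r < 721, r ∣ 720 → r % 11 = 1 → (r = 1 ∨ r = 12) ∨ r = 45 ∨ r = 144 by decide +kernel) _
    (Nat.lt_succ_of_le (Nat.le_of_dvd (by norm_num) n6)) n6 n2
  have n8 := (show ∀ r < 11, r ∣ 11 - 1 → r = 1 ∨ r = 2 ∨ r = 5 ∨ r = 10 by decide) _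
    (Nat.lt_succ_of_le (Nat.le_of_dvd (by norm_num) n5)) n5
  rw [hG] at n1
  simp only [CS, NS] at *
  rcases n7 with n7 | n7
  · have m : (Nat.card (normalizer ((P : Subgroup G) : Set G)) = 7920 ∨ Nat.card (normalizer ((P : Subgroup G) : Set G)) = 660) := by
      rcases n7 with a | a <;> rw [a] at n1 <;> omega
    have m2 : 2 ∣ Nat.card (centralizer ((P : Subgroup G) : Set G)) ∧ 3 ∣ Nat.card (centralizer ((P : Subgroup G) : Set G)) := by
      rcases n8 with a | a | a | a <;> rw [a] at n4 <;> omega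
    refine Or.inr ⟨aC 2 Nat.prime_two (by norm_num) m2.1, Or.inl ⟨aC 3 Nat.prime_three (by norm_num) m2.2, ?_⟩⟩
    by_cases i : 5 ∣ Nat.card (centralizer ((P : Subgroup G) : Set G))
    · exact Or.inl (aC 5 Nat.prime_five (by norm_num) i)
    obtain ⟨⟨s, s1⟩, s2⟩ := exists_prime_orderOf_dvd_card' (G := normalizer ((P : Subgroup G) : Set G)) 5 (by omega)
    rw [Subgroup.orderOf_mk] at s2
    refine Or.inr (a5 _ s 3 s2 (NS_le_NS_CS _ s1) i Nat.prime_three (by norm_num) m2.2 fun k a b => ?_)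
    have := a.trans (hG ▸ card_subgroup_dvd_card _)
    have : k < 3 := by_contra fun c => absurd ((pow_dvd_pow 3 (not_lt.1 c)).trans this) (by norm_num)
    interval_cases k <;> simp_all
  have m : (Nat.card (normalizer ((P : Subgroup G) : Set G)) = 176 ∨ Nat.card (normalizer ((P : Subgroup G) : Set G)) = 55) := by
    rcases n7 with a | a <;> rw [a] at n1 <;> omega
  have nD : ∀ D : Subgroup G, D.Normal → ¬ 11 ∣ Nat.card D → Nat.card D ∣ Nat.card (centralizer ((P : Subgroup G) : Set G)) :=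
    fun D _ a => (Nat.dvd_iff_prime_pow_dvd_dvd _ _).2 fun p i b c => by
      obtain ⟨j, k, k0, k1, k2, k3, k4⟩ := fix_sylow (K := D) b (by norm_num) cP (fun x _ => mem_NS_of_normal D x) a
      have d := pp b (k1.trans (Nat.Coprime.dvd_of_dvd_mul_left (k := Nat.card D) (m := 11) (n := 720)
        ((Nat.Prime.coprime_iff_not_dvd (by norm_num)).2 a).symm ((card_subgroup_dvd_card D).trans hG.dvd)))
      have : p ^ j = p ^ k := (show ∀ a ∈ [1, 2, 4, 8, 16, 3, 9, 5], ∀ b < 17, b ∣ a → a % 11 = b % 11 → b = a by decide) _ d _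
        ((Nat.le_of_dvd (pow_pos b.pos _) k0).trans_lt (by revert d; generalize p ^ k = a; revert a; decide)) k0 k3
      exact (pow_dvd_pow p (by_contra fun e => k2 ((pow_dvd_pow p (by omega)).trans c))).trans (this ▸ k4)
  have m2 : Nat.card (centralizer ((P : Subgroup G) : Set G)) = 88 ∨ Nat.card (centralizer ((P : Subgroup G) : Set G)) = 11 := by
    rcases n8 with a | a | a | a <;> rw [a] at n4 <;> try omega
    have b := relIndex_eq_one.1 a
    have c := (MonoidHom.ker_transferSylow_isComplement' P b).card_mul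
    rw [cP, hG] at c
    have := Nat.le_of_dvd Nat.card_pos (nD (MonoidHom.transferSylow P b).ker inferInstance (by omega))
    omega
  by_cases h : ∃ D : Subgroup G, D.Normal ∧ D ≠ ⊥ ∧ ¬ 11 ∣ Nat.card D
  · obtain ⟨D, _, d1, d2⟩ := h
    have d3 := nD D ‹_› d2
    have d4 := mt Subgroup.card_eq_one.1 d1
    have d5 : Nat.card (centralizer ((P : Subgroup G) : Set G)) = 88 ∧ (Nat.card D = 2 ∨ Nat.card D = 4 ∨ Nat.card D = 8) := by
      rcases m2 with a | a <;> rw [a] at d3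
      · exact ⟨a, (show ∀ n < 89, n ∣ 88 → n ≠ 1 → ¬ 11 ∣ n → n = 2 ∨ n = 4 ∨ n = 8 by decide +kernel) _
          (Nat.lt_succ_of_le (Nat.le_of_dvd (by norm_num) d3)) d3 d4 d2⟩
      · exact (((Nat.dvd_prime (by norm_num)).1 d3).elim d4 fun a => d2 a.symm.dvd).elim
    obtain ⟨s, s2⟩ := exists_prime_orderOf_dvd_card' (G := G) 5 (by omega)
    obtain ⟨⟨x, x1⟩, x2⟩ := exists_prime_orderOf_dvd_card' (G := D) 2 (by omega)
    rw [Subgroup.orderOf_mk] at x2
    refine Or.inr ⟨aC 2 Nat.prime_two (by norm_num) (by omega), Or.inr ⟨a5 D s 2 s2 (mem_NS_of_normal D s) (by omega) Nat.prime_two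
      (by norm_num) (by omega) fun k a b => ?_, adj_of_dvd Nat.prime_two Nat.prime_three (by norm_num) x2 ?_⟩⟩
    · have : k < 4 := by_contra fun c => by have := (pow_dvd_pow 2 (not_lt.1 c)).trans a; omega
      interval_cases k <;> simp_all
    · have a := card_mul_index (C1 x)
      have b : (C1 x).index ≤ Nat.card D := card_class_eq_index x ▸ Nat.card_le_card_of_injective
        (fun y : {y // IsConj x y} => (⟨y.1, by obtain ⟨c, hc⟩ := isConj_iff.1 y.2; exact hc ▸ Normal.conj_mem ‹_› x x1 c⟩ : D))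
        fun _ _ e => Subtype.ext (congrArg Subtype.val e :)
      have : (C1 x).index < 9 := by omega
      rw [hG] at a
      generalize (C1 x).index = n at *
      interval_cases n <;> omega
  left
  set M := normalClosure ((P : Subgroup G) : Set G)
  have PM : (P : Subgroup G) ≤ M := le_normalClosure
  have sM : IsSimpleGroup M := by
    haveI : Nontrivial M := ⟨⟨⟨t, PM t1⟩, 1, fun e => t3 (congrArg Subtype.val e)⟩⟩
    refine ⟨fun L _ => or_iff_not_imp_left.2 fun l => ?_⟩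
    have l1 : 11 ∣ Nat.card L := by_contra fun a => h ⟨H9.Op' 11 M, normalizer_eq_top_iff.1 (top_le_iff.1 (H9.normalizer_Op'
      (NS_eq_top M).ge)), fun e => l (le_bot_iff.1 ((H9.le_pPrimeCore ((Nat.Prime.coprime_iff_not_dvd (by norm_num)).2 a).symm).trans
        (H9.Op'_eq_bot_iff.1 e).le)), (Nat.Prime.coprime_iff_not_dvd (by norm_num)).1 (H9.Op'_cop 11 M).symm⟩
    have l2 : ¬ 11 ∣ L.index := fun a => absurd (((card_mul_index L ▸ mul_dvd_mul l1 a).trans (card_subgroup_dvd_card M)).trans hG.dvd)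
      (by norm_num)
    have l3 : M ≤ L.map M.subtype := (closure_le _).2 fun a b => by
      obtain ⟨c, c1, c2⟩ := Group.mem_conjugatesOfSet_iff.1 b
      refine ⟨⟨a, subset_closure b⟩, mem_of_cop (Nat.Coprime.coprime_dvd_right (m := 11) ?_
        ((Nat.Prime.coprime_iff_not_dvd (by norm_num)).2 l2).symm), rfl⟩
      rw [← Subgroup.orderOf_coe, ← orderOf_isConj c2]
      exact cP ▸ Subgroup.orderOf_dvd_natCard _ c1
    exact eq_top_iff.2 fun a _ => by obtain ⟨b, c, d⟩ := l3 a.2; exact Subtype.ext d ▸ c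
  by_cases e : M = ⊤
  · exact ((MulEquiv.subgroupCongr e).trans topEquiv).symm.isSimpleGroup
  have i1 := relIndex_sup_right (normalizer ((P : Subgroup G) : Set G)) M
  rw [show normalizer ((P : Subgroup G) : Set G) ⊔ M = ⊤ from P.normalizer_sup_eq_top' PM, relIndex_top_right,
    ← inf_relIndex_right] at i1
  have i2 := H1.card_mul_relIndex (inf_le_right : M ⊓ normalizer ((P : Subgroup G) : Set G) ≤ _)
  obtain ⟨c, hc⟩ := cP ▸ card_dvd_of_le (le_inf PM le_normalizer : (P : Subgroup G) ≤ M ⊓ normalizer _)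
  have i3 := card_mul_index M
  have i4 := mt index_eq_one.1 e
  rw [hc, ← i1] at i2
  have i5 : M.index ∣ 16 ∨ M.index ∣ 5 := m.imp (fun a => ⟨c, by rw [a] at i2; nlinarith⟩) fun a => ⟨c, by rw [a] at i2; nlinarith⟩
  have i6 : Nat.card M ∈ [3960, 1980, 990, 495, 1584] := by
    rw [hG] at i3
    rcases i5 with a | a <;> have := Nat.le_of_dvd (by norm_num) a <;> generalize M.index = n at * <;> interval_cases n <;>
      simp <;> omega
  have := not_omaster (G := M) (fun c => absurd (H1.prime_card_of_comm c.1.1) (by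
    revert i6; generalize Nat.card M = n; revert n; simp; norm_num)) [(3960, 11, 2, 0, 3), (1980, 11, 2, 0, 3), (1584, 11, 2, 0, 3)]
  exact absurd this ((show ∀ n ∈ [3960, 1980, 990, 495, 1584],
    omaster [(3960, 11, 2, 0, 3), (1980, 11, 2, 0, 3), (1584, 11, 2, 0, 3)] n ≠ false by decide +kernel) _ i6)

end M11

end H3
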