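import Cfsg.Agent.H3.M4

/-!
H3.M5: local data of a simple group of order 7920.
-/

set_option autoImplicit false
open Cfsg Subgroup Finset

namespace H3
open H4

variable {G : Type*} [Group G] [Finite G]

theorem dvd_card_order {n d : ℕ} (h : ∀ x : G, orderOf x = n → d ∣ (C1 x).index) : d ∣ Nat.card {g : G // orderOf g = n} := by
  classical
  letI := Fintype.ofFinite G
  rw [Nat.card_eq_fintype_card, Fintype.card_subtype, card_eq_sum_card_image ConjClasses.mk]
  refine dvd_sum fun c hc => ?_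
  obtain ⟨x, hx, rfl⟩ := mem_image.1 hc
  have a := (mem_filter.1 hx).2
  refine (h x a).trans (dvd_of_eq (Eq.symm ?_))
  rw [← card_class_eq_index, Nat.card_eq_fintype_card, Fintype.card_subtype]
  congr 1
  ext y
  simp only [mem_filter, mem_univ, true_and, ConjClasses.mk_eq_mk_iff_isConj]
  exact ⟨fun b => b.2.symm, fun b => ⟨(orderOf_isConj b).symm.trans a, b.symm⟩⟩

theorem card_C1_eq (g : G) : Nat.card (C1 g) = Nat.card {y : {h : G // h ≠ 1} // g * y = y * g} + 1 := by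
  classical
  rw [← Nat.card_congr (Equiv.optionSubtypeNe (1 : C1 g)), Finite.card_option]
  exact congrArg (· + 1) (Nat.card_congr ⟨fun y => ⟨⟨y.1, fun e => y.2 (Subtype.ext e)⟩, (mem_centralizer_singleton_iff.1 y.1.2).symm⟩,
    fun y => ⟨⟨y.1, mem_centralizer_singleton_iff.2 y.2.symm⟩, fun e => y.1.2 (congrArg Subtype.val e)⟩, fun _ => rfl, fun _ => rfl⟩)

theorem card_C1_equiv {H : Type*} [Group H] (e : G ≃* H) (g : G) : Nat.card (C1 g) = Nat.card (C1 (e g)) :=
  Nat.card_congr (e.toEquiv.subtypeEquiv fun y => by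
    simp only [mem_centralizer_singleton_iff, MulEquiv.toEquiv_eq_coe, EquivLike.coe_coe, ← map_mul, e.injective.eq_iff])

namespace M11
variable (hG : Nat.card G = 7920)
include hG

theorem simple_of (h : ∀ g : G, orderOf g ≠ 22) : IsSimpleGroup G := (simple_or hG).resolve_right fun ⟨⟨g, a⟩, _⟩ => h g a

variable [IsSimpleGroup G]

theorem n11 (P : Sylow 11 G) : CS (P : Subgroup G) = P ∧ Nat.card (Sylow 11 G) = 144 := by
  letI := Fintype.ofFinite G
  obtain ⟨e, _, _, _, _, _, _, h⟩ := exists_bd P (c11 hG P)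
  obtain ⟨rfl, c⟩ := e11 hG P h
  have := H1.card_sylow_mul P
  rw [h.card_N c, hG] at this
  exact ⟨c, by omega⟩

theorem cen11 {x : G} (h1 : x ≠ 1) (h : 11 ∣ Nat.card (C1 x)) : Nat.card (C1 x) = 11 := by
  letI := Fintype.ofFinite G
  obtain ⟨⟨t, t1⟩, t2⟩ := exists_prime_orderOf_dvd_card' 11 h
  rw [Subgroup.orderOf_mk] at t2
  obtain ⟨P, hP⟩ := (IsPGroup.of_card (n := 1) (by rw [Nat.card_zpowers, t2, pow_one]) : IsPGroup 11 (zpowers t)).exists_le_sylow
  have a := (n11 hG P).1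
  have b := (C1_eq_prime (c11 hG P) (hP (mem_zpowers t)) (by rintro rfl; simp at t2)).trans a
  rw [C1_eq_prime (c11 hG P) (b.le (mem_centralizer_singleton_iff.2 (mem_centralizer_singleton_iff.1 t1).symm)) h1, a, c11 hG P]

theorem cen5 {s : G} (h : orderOf s = 5) : Nat.card (C1 s) = 5 := by
  letI := Fintype.ofFinite G
  obtain ⟨P, hP⟩ := (IsPGroup.of_card (n := 1) (by rw [Nat.card_zpowers, h, pow_one]) : IsPGroup 5 (zpowers s)).exists_le_sylow
  obtain ⟨_, _, _, _, _, _, _, _, _, -, -, a, -⟩ := tab hG P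
  rw [C1_eq_prime (c5 hG P) (hP (mem_zpowers s)) (by rintro rfl; simp at h), a, c5 hG P]

theorem nse (n : ℕ) : Nat.card {g : G // orderOf g = n} = 1 ∨ Nat.card {g : G // orderOf g = n} = 1440 ∨
    11 ∣ Nat.card {g : G // orderOf g = n} := by
  letI := Fintype.ofFinite G
  by_cases a : n = 1
  · exact Or.inl (by simp [a])
  by_cases b : n = 11
  · obtain ⟨P⟩ : Nonempty (Sylow 11 G) := inferInstance
    exact Or.inr (Or.inl (by rw [b, H1.card_order_p P (c11 hG P), (n11 hG P).2]))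
  refine Or.inr (Or.inr (dvd_card_order fun x c => ?_))
  refine ((show Nat.Prime 11 by norm_num).dvd_mul.1 (by rw [card_mul_index (C1 x), hG]; norm_num)).resolve_left fun d => ?_
  have := cen11 hG (by rintro rfl; exact a (by simpa using c.symm)) d ▸
    Subgroup.orderOf_dvd_natCard (C1 x) (mem_centralizer_singleton_iff.2 rfl)
  exact ((Nat.dvd_prime (by norm_num)).1 (c ▸ this)).elim a b

omit hG in
/-- evaluation of a word -/
def ev (w : List (Fin 3)) : Pt → Pt := w.foldr (fun i f => ![ad 1, ml 3, gm (some 2) (some 4)] i ∘ f) id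

theorem words : ∃ W : List (Fin 3) → G, W [] = 1 ∧ (∀ u v, W (u ++ v) = W u * W v) ∧ ∀ u v, W u = W v ↔ ∀ p, ev u p = ev v p := by
  obtain ⟨ψ, t, s, g, a, -, c1, c2, c3⟩ := emb hG
  have k : ∀ w : List (Fin 3), ⇑(ψ (w.map ![t, s, g]).prod) = ev w := fun w => by
    induction w with
    | nil => simp [ev]
    | cons i w ih =>
      rw [List.map_cons, List.prod_cons, map_mul, Equiv.Perm.coe_mul, ih]
      fin_cases i
      exacts [congrArg (· ∘ ev w) c1, congrArg (· ∘ ev w) c2, congrArg (· ∘ ev w) c3]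
  exact ⟨fun w => (w.map ![t, s, g]).prod, rfl, fun u v => by simp, fun u v => by
    rw [← a.eq_iff, ← k, ← k]; exact Equiv.ext_iff⟩

theorem n3 (P : Sylow 3 G) : Nat.card (NS (P : Subgroup G)) = 144 := by
  haveI : Fact (Nat.Prime 3) := ⟨Nat.prime_three⟩
  obtain ⟨W, w1, w2, w3⟩ := words hG
  obtain ⟨a, b, h, a3, b3, ab, ha, hb, h8, h4, a1, b1, b2, b4⟩ : ∃ a b h : G, a * a * a = 1 ∧ b * b * b = 1 ∧ a * b = b * a ∧
      h * a = b * h ∧ h * b = a * b * h ∧ h * h * h * h * h * h * h * h = 1 ∧ h * h * h * h ≠ 1 ∧ a ≠ 1 ∧ b ≠ 1 ∧ b ≠ a ∧ b ≠ a * a := by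
    refine ⟨W [0, 1, 2, 1, 2], W [0, 0, 1, 2, 0, 2, 0, 1, 1, 1], W [0, 0, 1, 2], ?_⟩
    simp only [← w1, ← w2, ne_eq, w3]
    decide +kernel
  have oa : orderOf a = 3 := orderOf_eq_prime (by rw [← a3]; simp [pow_succ]) a1
  have ob : orderOf b = 3 := orderOf_eq_prime (by rw [← b3]; simp [pow_succ]) b1
  have oh : orderOf h = 2 ^ 3 := orderOf_eq_prime_pow (p := 2) (n := 2) (by simpa [pow_succ] using h4) (by simpa [pow_succ] using h8)
  have pa : ∀ a : G, orderOf a = 3 → IsPGroup 3 (zpowers a) := fun a e => IsPGroup.of_card (n := 1) (by rw [Nat.card_zpowers, e, pow_one])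
  obtain ⟨Q, hQ⟩ := ((pa a oa).to_sup_of_normal_left' (pa b ob) (zpowers_le.2 (CS_le_NS _ (by
    rw [CS, H4.centralizer_zpowers]; exact mem_centralizer_singleton_iff.2 ab.symm)))).exists_le_sylow
  have cP : ∀ Q : Sylow 3 G, Nat.card Q = 3 ^ 2 := fun Q => card_sylow_of Q hG (by norm_num) (by norm_num)
  have e : zpowers a ⊔ zpowers b = Q := eq_of_le_of_card_ge hQ (by
    obtain ⟨k, k1, k2⟩ := (Nat.dvd_prime_pow Nat.prime_three).1 (cP Q ▸ card_dvd_of_le hQ)
    rw [cP, k2]
    refine Nat.pow_le_pow_right (by norm_num) (by_contra fun c => ?_)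
    have := (eq_of_le_of_card_ge (le_sup_left : zpowers a ≤ zpowers a ⊔ zpowers b) (by
      rw [k2, Nat.card_zpowers, oa]; interval_cases k <;> simp_all)).ge (mem_sup_right (mem_zpowers b))
    classical
    obtain ⟨i, i1, i2⟩ := mem_image.1 (mem_zpowers_iff_mem_range_orderOf.1 this)
    rw [oa, mem_range] at i1
    interval_cases i
    exacts [b1 (by rw [← i2, pow_zero]), b2 (by rw [← i2, pow_one]), b4 (by rw [← i2, sq])])
  have hN : h ∈ NS (Q : Subgroup G) := e ▸ mem_normalizer_fintype fun x m => by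
    refine (sup_le (zpowers_le.2 ?_) (zpowers_le.2 ?_) : _ ≤ (zpowers a ⊔ zpowers b).comap (MulAut.conj h).toMonoidHom) m
    · show h * a * h⁻¹ ∈ zpowers a ⊔ zpowers b
      rw [ha, mul_inv_cancel_right]; exact mem_sup_right (mem_zpowers b)
    · show h * b * h⁻¹ ∈ zpowers a ⊔ zpowers b
      rw [hb, mul_inv_cancel_right]; exact mul_mem_sup (mem_zpowers a) (mem_zpowers b)
  have d1 := oh ▸ Subgroup.orderOf_dvd_natCard _ hN
  have d2 := cP Q ▸ card_dvd_of_le (le_normalizer : (Q : Subgroup G) ≤ _)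
  obtain ⟨c, hc⟩ := Nat.Coprime.mul_dvd_of_dvd_of_dvd (by norm_num) d1 d2
  have m1 := H1.card_sylow_mul Q
  have m2 := H1.card_sylow_mul P
  have m3 := card_sylow_mod (p := 3) G
  have m4 : Nat.card (Sylow 3 G) ∣ 110 := ⟨c, by simp only [NS] at hc; rw [hc, hG] at m1; nlinarith⟩
  rw [hG] at m1 m2
  rcases (show ∀ n < 111, n ∣ 110 → n % 3 = 1 → n = 1 ∨ n = 10 ∨ n = 22 ∨ n = 55 by decide +kernel) _
    (Nat.lt_succ_of_le (Nat.le_of_dvd (by norm_num) m4)) m4 m3 with i | i | i | i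
  · exact absurd i (H1.card_sylow_ne_one' (by rw [hG]; norm_num) (by rw [hG]; norm_num))
  · have := H1.card_dvd_factorial (H := NS (P : Subgroup G)) fun e => by rw [NS] at e; rw [e, card_top, hG, i] at m2; omega
    rw [← card_sylow_eq, i, hG] at this
    exact absurd this (by decide)
  · obtain ⟨⟨s, s1⟩, s2⟩ := exists_prime_orderOf_dvd_card' (G := normalizer ((P : Subgroup G) : Set G)) 5 (by rw [i] at m2; omega)
    rw [Subgroup.orderOf_mk] at s2
    obtain ⟨j, k, -, k1, k2, k3, k4⟩ := fix_sylow Nat.prime_three Nat.prime_five ((Nat.card_zpowers s).trans s2) (zpowers_le.2 s1)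
      (by rw [cP]; norm_num)
    rw [CS, H4.centralizer_zpowers, cen5 hG s2] at k4
    rw [cP] at k1 k2
    obtain rfl : k = 2 := le_antisymm ((Nat.pow_dvd_pow_iff_le_right (by norm_num)).1 k1)
      (by_contra fun c => k2 (pow_dvd_pow 3 (by omega)))
    obtain rfl : j = 0 := by_contra fun c => absurd ((dvd_pow_self 3 c).trans k4) (by norm_num)
    norm_num at k3
  · rw [i] at m2; simp only [NS]; omega

end M11

end H3
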