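import Cfsg.Agent.H4.Frob3

/-!
# Modular input for a Sylow subgroup of prime order
`orbit_sum`, `green` (fixed points modulo norms form a simple module for the normalizer), `wedderburn`.
-/

set_option autoImplicit false
set_option linter.unusedSectionVars false

namespace H3
open MonoidAlgebra Cfsg H1 H4
open scoped Pointwise

theorem orbit_sum {P Ω V : Type*} [Group P] [Fintype P] [Fintype Ω] [MulAction P Ω] [AddCommGroup V] {p : ℕ}
    (hp : p.Prime) (hP : Nat.card P = p) (ρ : P → V →+ V) (F : Ω → V) (hF : ∀ z ω, F (z • ω) = ρ z (F ω))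
    [DecidablePred fun ω : Ω => ∀ z : P, z • ω = ω] :
    ∃ w, ∑ ω, F ω = ∑ ω with (∀ z : P, z • ω = ω), F ω + ∑ z, ρ z w := by
  classical
  haveI : Fact (Nat.card P).Prime := ⟨hP ▸ hp⟩
  let r : Ω → Ω := fun ω => (Quotient.mk (MulAction.orbitRel P Ω) ω).out
  have hr : ∀ ω, ∃ z : P, z • r ω = ω := fun ω =>
    (MulAction.orbitRel P Ω).symm (Quotient.mk_out (s := MulAction.orbitRel P Ω) ω)
  have hr2 : ∀ (z : P) ω, r (z • ω) = r ω := fun z ω =>
    congrArg Quotient.out (Quotient.sound (s := MulAction.orbitRel P Ω) ⟨z, rfl⟩)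
  have hfix : ∀ (z : P) (ω : Ω), (∀ y : P, y • z • ω = z • ω) → ∀ y : P, y • ω = ω := fun z ω h y => by
    have := h (z * y * z⁻¹)
    rw [mul_smul, mul_smul, inv_smul_smul] at this
    exact MulAction.injective z this
  refine ⟨∑ ω with (¬ (∀ z : P, z • ω = ω) ∧ r ω = ω), F ω, ?_⟩
  rw [← Finset.sum_filter_add_sum_filter_not Finset.univ (fun ω : Ω => ∀ z : P, z • ω = ω)]
  congr 1
  simp only [map_sum, ← hF]
  rw [← Finset.sum_product']
  symm
  refine Finset.sum_bij (fun a _ => a.1 • a.2) (fun a ha => ?_) (fun a ha b hb e => ?_) (fun ω hω => ?_) fun _ _ => rfl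
  · simp only [Finset.mem_product, Finset.mem_filter, Finset.mem_univ, true_and] at ha ⊢
    exact fun h => ha.1 (hfix _ _ h)
  · simp only [Finset.mem_product, Finset.mem_filter, Finset.mem_univ, true_and] at ha hb
    have e1 : a.2 = b.2 := by rw [← ha.2, ← hb.2, ← hr2 a.1, ← hr2 b.1 b.2]; exact congrArg r e
    refine Prod.ext ?_ e1
    have e2 : b.1⁻¹ * a.1 ∈ MulAction.stabilizer P a.2 := by
      rw [MulAction.mem_stabilizer_iff, mul_smul, inv_smul_eq_iff, e1]; exact e1 ▸ e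
    rcases (MulAction.stabilizer P a.2).eq_bot_or_eq_top_of_prime_card with h | h
    · rw [h, Subgroup.mem_bot, inv_mul_eq_one] at e2; exact e2.symm
    · exact absurd (fun z => show z ∈ MulAction.stabilizer P a.2 from h ▸ Subgroup.mem_top z) ha.1
  · obtain ⟨z, hz⟩ := hr ω
    simp only [Finset.mem_filter, Finset.mem_univ, true_and] at hω
    refine ⟨(z, r ω), ?_, hz⟩
    simp only [Finset.mem_product, Finset.mem_filter, Finset.mem_univ, true_and]
    refine ⟨fun h => hω fun y => ?_, by rw [← hr2 z, hz]⟩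
    rw [← hz, h z, h y]

variable {G : Type*} [Group G] [Finite G] {p : ℕ} [hp : Fact p.Prime]

theorem exists_gen_prime {P : Subgroup G} (hP : Nat.card P = p) : ∃ x, orderOf x = p ∧ P = Subgroup.zpowers x := by
  obtain ⟨x, hx⟩ := exists_prime_orderOf_dvd_card' (G := P) p hP.symm.dvd
  refine ⟨x, by rw [Subgroup.orderOf_coe, hx], (Subgroup.eq_of_le_of_card_ge (Subgroup.zpowers_le.2 x.2) ?_).symm⟩
  rw [Nat.card_zpowers, Subgroup.orderOf_coe, hx, hP]

theorem sum_zpowers {A : Type*} [AddCommMonoid A] (x : G) [Fintype (Subgroup.zpowers x)] (F : G → A) :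
    ∑ z : Subgroup.zpowers x, F z = ∑ j ∈ Finset.range (orderOf x), F (x ^ j) := by
  rw [Finset.sum_range]
  exact (Fintype.sum_equiv (finEquivZPowers (isOfFinOrder_of_finite x)) _ _ fun j => by
    rw [finEquivZPowers_apply]).symm

theorem geom_char {F A : Type*} [Field F] [CharP F p] [Ring A] [Algebra F A] (a : A) :
    ∑ j ∈ Finset.range p, a ^ j = (a - 1) ^ (p - 1) := by
  have h := Polynomial.cyclotomic_mul_prime_eq_pow_of_not_dvd F (p := p) (n := 1) hp.out.not_dvd_one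
  rw [one_mul, Polynomial.cyclotomic_prime, Polynomial.cyclotomic_one] at h
  simpa using congrArg (Polynomial.aeval a) h

variable {F V : Type*} [Field F] [AddCommGroup V] [Module F V]

theorem exists_jordan (Y : Module.End F V) {u : V} {n : ℕ} (h0 : Y u = 0) (h : u ∉ LinearMap.range (Y ^ n)) :
    ∃ (f : V →ₗ[F] F) (φ : Module.End F V), f u ≠ 0 ∧ (∀ w, f ((Y ^ n) w) = 0) ∧ φ * Y = Y * φ ∧
      ∀ v, Y v = 0 → φ v = f v • u := by
  classical
  have ex : ∃ n, u ∉ LinearMap.range (Y ^ n) := ⟨n, h⟩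
  obtain ⟨i, hi⟩ : ∃ i, Nat.find ex = i + 1 := Nat.exists_eq_succ_of_ne_zero fun e => by
    have := Nat.find_spec ex
    rw [e] at this; exact this ⟨u, rfl⟩
  obtain ⟨w, hw⟩ : u ∈ LinearMap.range (Y ^ i) := not_not.1 (Nat.find_min ex (by omega))
  obtain ⟨f, h1, h2⟩ := Submodule.exists_le_ker_of_notMem (hi ▸ Nat.find_spec ex)
  have h3 : ∀ v, f ((Y ^ (i + 1)) v) = 0 := fun v => h2 ⟨v, rfl⟩
  refine ⟨f, ∑ j ∈ Finset.range (i + 1), (f ∘ₗ Y ^ j).smulRight ((Y ^ (i - j)) w), h1, fun v => ?_, ?_, fun v hv => ?_⟩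
  · obtain ⟨m, rfl⟩ := Nat.exists_eq_add_of_le (hi ▸ Nat.find_min' ex h : i + 1 ≤ n)
    rw [pow_add]; exact h3 _
  · ext v
    simp only [Module.End.mul_apply, LinearMap.sum_apply, LinearMap.smulRight_apply, LinearMap.comp_apply, map_sum,
      map_smul]
    rw [Finset.sum_range_succ, Finset.sum_range_succ', ← Module.End.mul_apply (Y ^ i), ← pow_succ, h3, zero_smul,
      Nat.sub_zero, hw, h0, smul_zero]
    refine congrArg (· + 0) (Finset.sum_congr rfl fun j hj => ?_)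
    rw [← Module.End.mul_apply (Y ^ j), ← pow_succ, ← Module.End.mul_apply Y, ← pow_succ']
    congr 3
    have := Finset.mem_range.1 hj; omega
  · simp only [LinearMap.sum_apply, LinearMap.smulRight_apply, LinearMap.comp_apply]
    rw [Finset.sum_range_succ', Finset.sum_eq_zero fun j _ => by rw [pow_succ, Module.End.mul_apply, hv]; simp]
    simp [hw]

theorem mem_NS_of_fixed (P : Subgroup G) {q : G ⧸ P} (h : ∀ z : P, z • q = q) : q.out ∈ NS P := by
  have h1 : ∀ z ∈ P, q.out⁻¹ * z * q.out ∈ P := fun z hz => by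
    have := h ⟨z⁻¹, inv_mem hz⟩
    rw [← QuotientGroup.out_eq' q] at this
    have h2 := QuotientGroup.eq.1 (show (((z⁻¹ * q.out : G)) : G ⧸ P) = q.out from this)
    simpa [mul_assoc] using h2
  refine inv_mem_iff.1 (Subgroup.mem_normalizer_fintype fun z hz => ?_)
  simpa using h1 z hz

theorem fixed_of_mem_NS {P : Subgroup G} (ρ : G →* Module.End F V) {n : G} (hn : n ∈ NS P) {v : V}
    (hv : ∀ z ∈ P, ρ z v = v) : ∀ z ∈ P, ρ z (ρ n v) = ρ n v := fun z hz => by
  have := hv _ ((Subgroup.mem_normalizer_iff''.1 hn z).1 hz)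
  rw [← Module.End.mul_apply, ← map_mul, show z * n = n * (n⁻¹ * z * n) by group, map_mul, Module.End.mul_apply, this]

theorem norm_comm {A : Type*} [Semiring A] {P : Subgroup G} [Fintype P] (ρ : G →* A) {n : G} (hn : n ∈ NS P) :
    ρ n * ∑ z : P, ρ z = (∑ z : P, ρ z) * ρ n := by
  rw [Finset.mul_sum, Finset.sum_mul]
  refine Fintype.sum_equiv (P.normalizerMonoidHom ⟨n, hn⟩).toEquiv _ _ fun z => ?_
  rw [← map_mul, ← map_mul]; congr 1
  exact (inv_mul_cancel_right _ n).symm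

/-- transfer of an endomorphism commuting with `P` -/
theorem exists_transfer (P : Subgroup G) [Fintype P] [Fintype (G ⧸ P)] (hP : Nat.card P = p) (ρ : G →* Module.End F V)
    {φ : Module.End F V} (hφ : ∀ z ∈ P, φ * ρ z = ρ z * φ) [DecidablePred fun q : G ⧸ P => ∀ z : P, z • q = q] :
    ∃ Φ : Module.End F V, (∀ g, Φ * ρ g = ρ g * Φ) ∧ (∃ ψ, Φ = ∑ q : G ⧸ P with (∀ z : P, z • q = q),
      ρ q.out * φ * ρ q.out⁻¹ + ∑ z : P, ρ z * ψ * ρ (z : G)⁻¹) := by
  let T : G ⧸ P → Module.End F V := fun q => ρ q.out * φ * ρ q.out⁻¹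
  have h1 : ∀ g : G, T g = ρ g * φ * ρ g⁻¹ := fun g => by
    obtain ⟨t, ht, e⟩ := exists_out_eq P g
    simp only [T]
    rw [e, map_mul, mul_assoc (ρ g), ← hφ t ht, mul_assoc, mul_assoc, ← map_mul, mul_inv_rev, mul_inv_cancel_left,
      mul_assoc]
  have h2 : ∀ (g : G) q, T (g • q) = ρ g * T q * ρ g⁻¹ := fun g q => by
    rw [smul_eq_mk, h1]; simp only [T, map_mul, mul_inv_rev, mul_assoc]
  refine ⟨∑ q, T q, fun g => ?_, ?_⟩
  · rw [Finset.mul_sum, Finset.sum_mul]
    refine (Fintype.sum_equiv (MulAction.toPerm g) _ _ fun q => ?_).symm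
    rw [MulAction.toPerm_apply, h2, mul_assoc, ← map_mul, inv_mul_cancel, map_one, mul_one]
  · exact orbit_sum hp.out hP (fun z => (AddMonoidHom.mulRight (ρ (z : G)⁻¹)).comp (AddMonoidHom.mulLeft (ρ z))) T
      fun z q => h2 z q

theorem card_fixed_ne (F : Type*) [Field F] [CharP F p] (P : Sylow p G) [Fintype (G ⧸ (P : Subgroup G))]
    [DecidablePred fun q : G ⧸ (P : Subgroup G) => ∀ z : P, z • q = q] :
    ((Finset.univ.filter fun q : G ⧸ (P : Subgroup G) => ∀ z : P, z • q = q).card : F) ≠ 0 := by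
  rw [Ne, CharP.cast_eq_zero_iff F p]
  intro h
  have h1 := P.isPGroup'.card_modEq_card_fixedPoints (G ⧸ (P : Subgroup G))
  refine P.not_dvd_index ((Nat.modEq_zero_iff_dvd.1 (h1.trans (Nat.modEq_zero_iff_dvd.2 ?_))))
  convert h using 1
  rw [← Fintype.card_coe, ← Nat.card_eq_fintype_card]
  exact Nat.card_congr (Equiv.subtypeEquivRight fun q => by
    rw [Finset.mem_filter, MulAction.mem_fixedPoints]; exact ⟨fun h => ⟨Finset.mem_univ _, h⟩, fun h => h.2⟩)

theorem green [CharP F p] [FiniteDimensional F V] (P : Sylow p G) [Fintype P] (hP : Nat.card P = p)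
    (ρ : G →* Module.End F V) (hc : ∀ Φ : Module.End F V, (∀ g, Φ * ρ g = ρ g * Φ) → ∃ c : F, ∀ v, Φ v = c • v)
    {u v : V} (hu : ∀ z ∈ (P : Subgroup G), ρ z u = u) (hu' : ∀ w, (∑ z : P, ρ z) w ≠ u)
    (hv : ∀ z ∈ (P : Subgroup G), ρ z v = v) :
    ∃ w, v - (∑ z : P, ρ z) w ∈ Submodule.span F {y | ∃ n ∈ NS (P : Subgroup G), ρ n u = y} := by
  classical
  haveI := Fintype.ofFinite (G ⧸ (P : Subgroup G))
  obtain ⟨x, hx, hPx⟩ := exists_gen_prime (P := (P : Subgroup G)) hP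
  have hS : ∑ z : P, ρ z = (ρ x - 1) ^ (p - 1) := by
    have : ∀ (Q : Subgroup G) [Fintype Q], Q = Subgroup.zpowers x → ∑ z : Q, ρ z = (ρ x - 1) ^ (p - 1) := by
      rintro _ _ rfl
      rw [sum_zpowers x ρ, hx, ← geom_char (F := F)]; simp only [map_pow]
    exact this _ hPx
  have hxP : x ∈ (P : Subgroup G) := hPx ▸ Subgroup.mem_zpowers x
  have hY : ∀ v, (∀ z ∈ (P : Subgroup G), ρ z v = v) → (ρ x - 1) v = 0 := fun v h => by simp [h x hxP]
  obtain ⟨f, φ, h1, h2, h3, h4⟩ := exists_jordan (ρ x - 1) (hY u hu) (n := p - 1) fun ⟨w, e⟩ => hu' w (hS ▸ e)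
  have h5 : ∀ z ∈ (P : Subgroup G), φ * ρ z = ρ z * φ := fun z hz => by
    obtain ⟨j, rfl⟩ := (mem_zpowers_iff_mem_range_orderOf.1 (hPx ▸ hz) |> Finset.mem_image.1).imp fun _ h => h.2
    have : Commute φ (ρ x) := by simpa [mul_sub, sub_mul, Commute, SemiconjBy] using h3
    rw [map_pow]; exact this.pow_right j
  obtain ⟨Φ, h6, ψ, h7⟩ := exists_transfer (P : Subgroup G) hP ρ h5
  obtain ⟨c, hc⟩ := hc Φ h6
  set s := Finset.univ.filter fun q : G ⧸ (P : Subgroup G) => ∀ z : (P : Subgroup G), z • q = q with hs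
  have hn : ∀ q ∈ s, q.out ∈ NS (P : Subgroup G) := fun q hq => mem_NS_of_fixed _ (Finset.mem_filter.1 hq).2
  let R : Module.End F V := ∑ q ∈ s, (f ∘ₗ ρ q.out⁻¹).smulRight (ρ q.out u)
  have hR : ∀ v, R v = ∑ q ∈ s, f (ρ q.out⁻¹ v) • ρ q.out u := fun v => by simp [R]
  have h8 : ∀ v, (∀ z ∈ (P : Subgroup G), ρ z v = v) → c • v = R v + (∑ z : P, ρ z) (ψ v) := fun v h => by
    rw [← hc, h7, hR]
    simp only [LinearMap.add_apply, LinearMap.sum_apply, Module.End.mul_apply]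
    congr 1
    · exact Finset.sum_congr rfl fun q hq => by
        rw [h4 _ (hY _ (fixed_of_mem_NS ρ (inv_mem (hn q hq)) h)), map_smul]
    · exact Finset.sum_congr rfl fun z _ => by rw [h _ (inv_mem z.2)]
  have h9 : c ≠ 0 := by
    rintro rfl
    have e1 : ∀ w, R ((∑ z : P, ρ z) w) = 0 := fun w => by
      rw [hR]
      refine Finset.sum_eq_zero fun q hq => ?_
      rw [← Module.End.mul_apply, norm_comm ρ (inv_mem (hn q hq)), Module.End.mul_apply, hS, h2, zero_smul]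
    have e2 : R ^ 3 = 0 := LinearMap.ext fun w => by
      have := h8 (R w) fun z hz => by
        rw [hR, map_sum]
        exact Finset.sum_congr rfl fun q hq => by rw [map_smul, fixed_of_mem_NS ρ (hn q hq) hu z hz]
      rw [zero_smul, eq_comm, add_eq_zero_iff_eq_neg] at this
      show R (R (R w)) = 0
      rw [this, map_neg, e1, neg_zero]
    have e3 := (LinearMap.isNilpotent_trace_of_isNilpotent ⟨3, e2⟩).eq_zero
    simp only [R, map_sum, LinearMap.trace_smulRight, LinearMap.comp_apply, ← Module.End.mul_apply, ← map_mul,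
      inv_mul_cancel, map_one, Module.End.one_apply, Finset.sum_const, nsmul_eq_mul] at e3
    exact mul_ne_zero (card_fixed_ne F P) h1 e3
  refine ⟨c⁻¹ • ψ v, ?_⟩
  rw [map_smul, show v - _ = c⁻¹ • R v by
    rw [sub_eq_iff_eq_add, ← smul_add, ← h8 v hv, smul_smul, inv_mul_cancel₀ h9, one_smul], hR]
  exact Submodule.smul_mem _ _ (Submodule.sum_mem _ fun q hq =>
    Submodule.smul_mem _ _ (Submodule.subset_span ⟨_, hn q hq, rfl⟩))

theorem wedderburn (F A : Type*) [Field F] [IsAlgClosed F] [Ring A] [Algebra F A] [FiniteDimensional F A] :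
    ∃ (n : ℕ) (d : Fin n → ℕ) (ρ : ∀ i, A →ₐ[F] Module.End F (Fin (d i) → F)), (∀ i, d i ≠ 0) ∧
      (∀ f : ∀ i, Module.End F (Fin (d i) → F), ∃ a, ∀ i, ρ i a = f i) ∧ ∀ a, (∀ i, ρ i a = 0) → IsNilpotent a := by
  haveI : IsArtinianRing A := IsArtinianRing.of_finite F A
  haveI : FiniteDimensional F (A ⧸ Ring.jacobson A) :=
    Module.Finite.of_surjective (Ideal.Quotient.mkₐ F (Ring.jacobson A)).toLinearMap Ideal.Quotient.mk_surjective
  obtain ⟨n, d, hd, ⟨e⟩⟩ := IsSemisimpleRing.exists_algEquiv_pi_matrix_of_isAlgClosed F (A ⧸ Ring.jacobson A)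
  refine ⟨n, d, fun i => (Matrix.toLinAlgEquiv'.toAlgHom.comp (Pi.evalAlgHom F _ i)).comp
    (e.toAlgHom.comp (Ideal.Quotient.mkₐ F _)), fun i => (hd i).out, fun f => ?_, fun a h => ?_⟩
  · obtain ⟨a, ha⟩ := Ideal.Quotient.mk_surjective (e.symm fun i => Matrix.toLinAlgEquiv'.symm (f i))
    exact ⟨a, fun i => by simp [ha]⟩
  · have h1 : a ∈ Ring.jacobson A := Ideal.Quotient.eq_zero_iff_mem.1 (e.injective (by
      rw [map_zero]; funext i
      exact Matrix.toLinAlgEquiv'.injective (by rw [Pi.zero_apply, map_zero]; exact h i)))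
    obtain ⟨m, hm⟩ := IsSemiprimaryRing.isNilpotent (R := A)
    exact ⟨m, by simpa [hm] using Ideal.pow_mem_pow h1 m⟩

theorem exists_ginv (Y : Module.End F V) : ∃ Z, Y * Z * Y = Y := by
  obtain ⟨g, hg⟩ := Y.rangeRestrict.exists_rightInverse_of_surjective Y.range_rangeRestrict
  obtain ⟨q, hq⟩ := (LinearMap.range Y).subtype.exists_leftInverse_of_injective (Submodule.ker_subtype _)
  refine ⟨g ∘ₗ q, LinearMap.ext fun v => ?_⟩
  have h1 : q (Y v) = ⟨Y v, v, rfl⟩ := LinearMap.congr_fun hq ⟨Y v, v, rfl⟩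
  show Y (g (q (Y v))) = Y v
  rw [h1]; exact congrArg Subtype.val (LinearMap.congr_fun hg ⟨Y v, v, rfl⟩)

theorem devissage {A ι : Type*} [Ring A] [Algebra F A] {W : ι → Type*} [∀ i, AddCommGroup (W i)] [∀ i, Module F (W i)]
    (ρ : ∀ i, A →ₐ[F] Module.End F (W i)) (h1 : ∀ f : ∀ i, Module.End F (W i), ∃ a, ∀ i, ρ i a = f i)
    (h2 : ∀ a, (∀ i, ρ i a = 0) → IsNilpotent a) {E y S : A} (hE : E * E = E) (hS : E * S = S * E) (hy : y * S = 0)
    (hyE : ∀ m, y * m = 0 → y * (E * m) = 0) (h : ∀ i v, ρ i y v = 0 → ∃ w, ρ i E v = ρ i S w) :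
    ∃ a, E * S = S * a * S := by
  choose Z hZ using fun i => exists_ginv (ρ i y)
  choose S' hS' using fun i => exists_ginv (ρ i S)
  obtain ⟨z, hz⟩ := h1 Z
  obtain ⟨b, hb⟩ := h1 fun i => S' i * (ρ i E * (1 - Z i * ρ i y))
  obtain ⟨n, hn⟩ := h2 (E * (1 - z * y) - S * b) fun i => by
    simp only [map_sub, map_mul, map_one, hz, hb]
    refine sub_eq_zero.2 (LinearMap.ext fun v => ?_)
    obtain ⟨w, hw⟩ := h i ((1 - Z i * ρ i y) v) (by
      rw [← Module.End.mul_apply, mul_sub, ← mul_assoc, hZ, mul_one, sub_self]; rfl)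
    simp only [Module.End.mul_apply] at hw ⊢
    rw [hw]; exact (LinearMap.congr_fun (hS' i) w).symm
  set j := E * (1 - z * y) - S * b with hj
  have key : ∀ n, y * (j ^ n * S) = 0 ∧ ∃ a, E * S = E * (j ^ n * S) + S * a * S := fun n => by
    induction n with
    | zero => exact ⟨by simpa using hy, 0, by simp⟩
    | succ n ih =>
      obtain ⟨e1, a, e2⟩ := ih
      have e3 : j ^ (n + 1) * S = E * (j ^ n * S) - S * (b * j ^ n * S) := by
        rw [pow_succ', mul_assoc]; nth_rw 1 [hj]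
        rw [sub_mul, mul_assoc, sub_mul, mul_assoc z, e1, mul_zero, sub_zero, one_mul, mul_assoc, mul_assoc]
      refine ⟨by rw [e3, mul_sub, hyE _ e1, ← mul_assoc, hy, zero_mul, sub_zero], E * (b * j ^ n) + a, ?_⟩
      have e4 : E * (S * (b * j ^ n * S)) = S * (E * (b * j ^ n)) * S := by rw [← mul_assoc, hS]; noncomm_ring
      rw [e3, mul_sub, ← mul_assoc E E, hE, e4, e2]; noncomm_ring
  obtain ⟨-, a, ha⟩ := key n
  exact ⟨a, by rw [ha, hn, zero_mul, mul_zero, zero_add]⟩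

theorem indep_of_red {ι X : Type*} [Fintype ι] {M : Ideal AlgInt} {f : ι → X → ℂ} (h : ∀ i x, f i x ∈ O M)
    (h' : ∀ c : ι → k M, (∀ x, ∑ i, c i * red M (f i x) = 0) → ∀ i, c i = 0) : LinearIndependent ℂ f := by
  refine Fintype.linearIndependent_iff.2 fun c hc i => by_contra fun hi => ?_
  obtain ⟨j, -, hj⟩ := Finset.univ.exists_max_image (fun i => v M (c i)) ⟨i, Finset.mem_univ i⟩
  have h0 : c j ≠ 0 := fun e => hi (by simpa [e] using hj i (Finset.mem_univ i))
  have h1 : ∀ i, c i / c j ∈ O M := fun i => mem_O_iff.2 (by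
    rw [map_div₀]; exact div_le_one_of_le₀ (hj i (Finset.mem_univ i)) zero_le')
  have := h' (fun i => red M (c i / c j)) (fun x => by
    have e : ∑ i, c i / c j * f i x = 0 := by
      simp only [div_mul_eq_mul_div, ← Finset.sum_div]
      rw [show ∑ i, c i * f i x = 0 by simpa using congrFun hc x, zero_div]
    rw [← red_zero (M := M), ← e, red_sum _ _ fun i _ => mul_mem (h1 i) (h i x)]
    exact Finset.sum_congr rfl fun i _ => (red_mul (h1 i) (h i x)).symm) j
  simp [div_self h0] at this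

/-- the representation attached to an algebra map -/
noncomputable def repA {A : Type*} [Semiring A] [Algebra F A] (ρ : F[G] →ₐ[F] A) : G →* A := (ρ : F[G] →* A).comp (of F G)

theorem repA_apply {A : Type*} [Semiring A] [Algebra F A] (ρ : F[G] →ₐ[F] A) (g : G) : repA ρ g = ρ (single g 1) := rfl

theorem map_eq_sum {A : Type*} [Semiring A] [Algebra F A] [Fintype G] (ρ : F[G] →ₐ[F] A) (a : F[G]) :
    ρ a = ∑ g, a.coeff g • repA ρ g := by
  conv_lhs => rw [eq_sum_single a]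
  simp only [map_sum, map_smul, repA_apply]

theorem map_sig {A : Type*} [Semiring A] [Algebra F A] (ρ : F[G] →ₐ[F] A) (P : Subgroup G) [Fintype P] :
    ρ (sig F P) = ∑ z : P, repA ρ z := by rw [sig_eq_sum, map_sum]; rfl

theorem scalar_of_surj [FiniteDimensional F V] (ρ : F[G] →ₐ[F] Module.End F V) (h : Function.Surjective ρ)
    (Φ : Module.End F V) (hΦ : ∀ g, Φ * repA ρ g = repA ρ g * Φ) : ∃ c : F, ∀ v, Φ v = c • v := by
  haveI := Fintype.ofFinite G
  have : Φ ∈ Subalgebra.center F (Module.End F V) := Subalgebra.mem_center_iff.2 fun b => by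
    obtain ⟨a, rfl⟩ := h b
    rw [map_eq_sum, Finset.sum_mul, Finset.mul_sum]
    exact Finset.sum_congr rfl fun g _ => by rw [smul_mul_assoc, mul_smul_comm, hΦ]
  rw [Algebra.IsCentral.center_eq_bot, Algebra.mem_bot] at this
  obtain ⟨c, rfl⟩ := this
  exact ⟨c, fun v => rfl⟩

theorem fixed_of_Sup {P : Subgroup G} (ρ : F[G] →ₐ[F] Module.End F V) {a : F[G]} (ha : a ∈ Sup F (NS P : Set G)) {v : V}
    (hv : ∀ z ∈ P, repA ρ z v = v) : ∀ z ∈ P, repA ρ z (ρ a v) = ρ a v := fun z hz => by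
  haveI := Fintype.ofFinite G
  rw [map_eq_sum, LinearMap.sum_apply, map_sum]
  refine Finset.sum_congr rfl fun g _ => ?_
  by_cases h : a.coeff g = 0
  · simp [h]
  · rw [LinearMap.smul_apply, map_smul, fixed_of_mem_NS _ (mem_of_coeff_ne_zero ha h) hv z hz]

theorem fixed_iff {P : Subgroup G} {x : G} (hPx : P = Subgroup.zpowers x) (ρ : F[G] →ₐ[F] Module.End F V) (v : V) :
    ρ (single x 1 - 1) v = 0 ↔ ∀ z ∈ P, repA ρ z v = v := by
  classical
  rw [map_sub, map_one, LinearMap.sub_apply, sub_eq_zero]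
  refine ⟨fun h z hz => ?_, fun h => h x (hPx ▸ Subgroup.mem_zpowers x)⟩
  obtain ⟨j, rfl⟩ := (mem_zpowers_iff_mem_range_orderOf.1 (hPx ▸ hz) |> Finset.mem_image.1).imp fun _ h => h.2
  rw [map_pow, Module.End.pow_apply]; exact Function.iterate_fixed h j

theorem norm_of_Br {P : Subgroup G} [Fintype P] (hP : Nat.card P = p) (ρ : F[G] →ₐ[F] Module.End F V) {a : F[G]}
    (ha : a ∈ Fix F P) {v : V} (hv : ∀ z ∈ P, repA ρ z v = v) : ∃ w, ρ a v = ρ (Br P a) v + ρ (sig F P) w := by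
  classical
  haveI := Fintype.ofFinite G
  letI : MulAction P G := MulAction.compHom G (MulAut.conj.comp P.subtype)
  obtain ⟨w, hw⟩ := orbit_sum (Ω := G) hp.out hP (fun z => (repA ρ z).toAddMonoidHom)
    (fun g => a.coeff g • repA ρ g v) fun z g => by
      show a.coeff (z * g * (z : G)⁻¹) • repA ρ (z * g * (z : G)⁻¹) v = repA ρ z (a.coeff g • repA ρ g v)
      rw [mem_Fix_coeff.1 ha z z.2, map_mul, map_mul, Module.End.mul_apply, hv _ (inv_mem z.2), map_smul]; rfl
  refine ⟨w, ?_⟩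
  rw [map_eq_sum ρ a, map_eq_sum ρ (Br P a), map_sig]
  simp only [LinearMap.sum_apply, LinearMap.smul_apply]
  rw [hw, Finset.sum_filter]
  refine congrArg₂ _ (Finset.sum_congr rfl fun g _ => ?_) rfl
  rw [coeff_trunc, ite_smul, zero_smul]
  refine if_congr ⟨fun h z hz => ?_, fun h z => ?_⟩ rfl rfl
  · exact mul_inv_eq_iff_eq_mul.1 (h ⟨z, hz⟩)
  · exact mul_inv_eq_iff_eq_mul.2 (h z z.2)

theorem eq_zero_of_mul_sig [CharP F p] {P H : Subgroup G} (hP : Nat.card P = p) (hH : H ≤ NS P) (hPH : P ⊓ H = ⊥)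
    {E a : F[G]} (hE : E ∈ Sup F (H : Set G)) (h : E * sig F P = sig F P * a * sig F P) : E = 0 := by
  classical
  haveI := Fintype.ofFinite P
  refine ext_coeff fun g => by_contra fun hg => hg ?_
  have h1 : g ∈ H := mem_of_coeff_ne_zero hE hg
  have h2 : (E * sig F P).coeff g = E.coeff g := by
    rw [sig_eq_sum, Finset.mul_sum, coeff_sum', Finset.sum_eq_single 1, coeff_mul_single]
    · simp
    · intro z _ hz
      rw [coeff_mul_single]
      refine mem_Sup.1 hE _ fun h3 => hz (Subtype.ext ?_)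
      have : (z : G) ∈ P ⊓ H := ⟨z.2, by simpa using H.mul_mem (H.inv_mem h3) h1⟩
      rwa [hPH] at this
    · simp
  rw [← h2, h, mul_assoc]
  nth_rw 1 [sig_eq_sum]
  rw [Finset.sum_mul, coeff_sum', Finset.sum_congr rfl (g := fun _ => (a * sig F P).coeff g) fun z _ => ?_]
  · simp [← Nat.card_eq_fintype_card, hP]
  · have h3 := (Subgroup.mem_normalizer_iff''.1 (hH h1) _).1 z.2
    rw [coeff_single_mul, show (z : G)⁻¹ * g = g * (g⁻¹ * z * g)⁻¹ by group, ← coeff_mul_single, mul_assoc,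
      sig_mul_single h3]

theorem trace_pq [CharP F p] [FiniteDimensional F V] (ρ : G →* Module.End F V) (g : G) :
    LinearMap.trace F V (ρ g) = LinearMap.trace F V (ρ (pq p g)) := by
  obtain ⟨n, hn⟩ := (isPElt_iff hp.out).1 (isPElt_pp hp.out g)
  have h1 : IsNilpotent (ρ (pp p g) - 1) := by
    simpa using (isNilpotent_single_sub_one (F := F) hn).map (MonoidAlgebra.lift F _ G ρ)
  have h2 : Commute (ρ (pp p g) - 1) (ρ (pq p g)) := ((commute_pp_pq g).map ρ).sub_left (Commute.one_left _)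
  have := (LinearMap.isNilpotent_trace_of_isNilpotent (h2.isNilpotent_mul_right h1)).eq_zero
  rwa [sub_mul, ← map_mul, pp_mul_pq, one_mul, map_sub, sub_eq_zero] at this

theorem ev_trace [FiniteDimensional F V] (ρ : F[G] →ₐ[F] Module.End F V) (a : F[G]) :
    ev (fun g => LinearMap.trace F V (repA ρ g)) a = LinearMap.trace F V (ρ a) := by
  haveI := Fintype.ofFinite G
  rw [ev_apply, map_eq_sum, map_sum]; simp

theorem trace_indep [CharP F p] {ι κ : Type*} [Fintype ι] {d : κ → ℕ}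
    (ρ : ∀ i, F[G] →ₐ[F] Module.End F (Fin (d i) → F)) (h0 : ∀ i, d i ≠ 0)
    (h1 : ∀ f : ∀ i, Module.End F (Fin (d i) → F), ∃ a, ∀ i, ρ i a = f i) {σ : ι → κ} (hσ : σ.Injective) {c : ι → F}
    (hc : ∀ g, ¬ p ∣ orderOf g → ∑ j, c j * LinearMap.trace F _ (repA (ρ (σ j)) g) = 0) (j : ι) : c j = 0 := by
  classical
  haveI := Fintype.ofFinite G
  have e1 : ∀ g, ∑ j, c j * LinearMap.trace F _ (repA (ρ (σ j)) g) = 0 := fun g => by
    rw [← hc (pq p g) (not_dvd_orderOf_pq hp.out g)]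
    exact Finset.sum_congr rfl fun j _ => congrArg _ (trace_pq _ g)
  let i0 : Fin (d (σ j)) := ⟨0, Nat.pos_of_ne_zero (h0 _)⟩
  obtain ⟨a, ha⟩ := h1 (Pi.single (σ j) ((LinearMap.proj i0).smulRight (Pi.single i0 1)))
  have e2 : ∑ j, c j * LinearMap.trace F _ (ρ (σ j) a) = 0 := by
    simp only [← ev_trace, ev_apply, Finset.mul_sum]
    rw [Finset.sum_comm]
    refine Finset.sum_eq_zero fun g _ => ?_
    rw [← mul_zero (a.coeff g), ← e1 g, Finset.mul_sum]
    exact Finset.sum_congr rfl fun _ _ => mul_left_comm _ _ _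
  rw [Finset.sum_eq_single j (fun i _ hi => by rw [ha, Pi.single_eq_of_ne (hσ.ne hi)]; simp) (by simp), ha,
    Pi.single_eq_same, LinearMap.trace_smulRight] at e2
  simpa using e2

theorem exists_sigma [CharP F p] {κ : Type*} {W : κ → Type*} [∀ i, AddCommGroup (W i)] [∀ i, Module F (W i)]
    [∀ i, FiniteDimensional F (W i)] (ρ : ∀ i, F[G] →ₐ[F] Module.End F (W i))
    (a1 : ∀ f : ∀ i, Module.End F (W i), ∃ a, ∀ i, ρ i a = f i) (a2 : ∀ a, (∀ i, ρ i a = 0) → IsNilpotent a)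
    (P : Sylow p G) (hP : Nat.card P = p) {H : Subgroup G}
    (hH : H ≤ NS (P : Subgroup G)) (hPH : (P : Subgroup G) ⊓ H = ⊥)
    (hN : ∀ n ∈ NS (P : Subgroup G), ∃ h ∈ H, ∃ z ∈ (P : Subgroup G), n = h * z) {e : F[G]} (he : e ∈ Z F G)
    (hee : e * e = e) {ι : Type*} (E : ι → F[G]) (h1 : ∀ i, E i ∈ ZA F H) (h2 : ∀ i, E i * E i = E i)
    (h3 : ∀ i, E i ≠ 0) (h4 : ∀ i j, i ≠ j → E i * E j = 0) (h5 : ∀ i, E i * Br (P : Subgroup G) e = E i) :
    ∃ σ : ι → κ, σ.Injective ∧ ∀ j, ρ (σ j) e = 1 := by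
  classical
  haveI := Fintype.ofFinite P
  obtain ⟨x, hx, hPx⟩ := exists_gen_prime (P := (P : Subgroup G)) hP
  have hxP : x ∈ (P : Subgroup G) := hPx ▸ Subgroup.mem_zpowers x
  have hs : ∀ i, E i ∈ Sup F (NS (P : Subgroup G) : Set G) := fun i => Sup_mono hH (mem_ZA.1 (h1 i)).2
  have hS : ∀ i, E i * sig F (P : Subgroup G) = sig F (P : Subgroup G) * E i := fun i =>
    (commute_of_Fix_Sup (sig_mem_Fix _) (hs i)).symm
  have hsurj : ∀ i, Function.Surjective (ρ i) := fun i f =>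
    let ⟨a, ha⟩ := a1 (Pi.single i f); ⟨a, by rw [ha, Pi.single_eq_same]⟩
  have key : ∀ j, ∃ i v, (∀ z ∈ (P : Subgroup G), repA (ρ i) z v = v) ∧
      ∀ w, ρ i (E j) v ≠ ρ i (sig F (P : Subgroup G)) w := fun j => by
    by_contra! hc
    obtain ⟨a, ha⟩ := devissage ρ a1 a2 (y := single x 1 - 1) (h2 j) (hS j)
      (by rw [sub_mul, single_mul_sig hxP, one_mul, sub_self])
      (fun m hm => (fixed_iff hPx (Algebra.lmul F F[G]) _).2
        (fixed_of_Sup (Algebra.lmul F F[G]) (hs j) ((fixed_iff hPx _ _).1 hm)))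
      fun i v hv => hc i v ((fixed_iff hPx _ _).1 hv)
    exact h3 j (eq_zero_of_mul_sig hP hH hPH (mem_ZA.1 (h1 j)).2 ha)
  choose σ v hv hv' using key
  refine ⟨σ, fun i j e => by_contra fun hij => ?_, fun j => ?_⟩
  · have : ∀ (l : κ) (u : W l), l = σ i → (∀ z ∈ (P : Subgroup G), repA (ρ l) z u = u) →
        ∃ w, ρ l (E j) u = ρ l (sig F (P : Subgroup G)) w := by
      rintro _ u rfl hu
      obtain ⟨w, hw⟩ := green P hP (repA (ρ (σ i))) (scalar_of_surj _ (hsurj _)) (fixed_of_Sup _ (hs i) (hv i))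
        (fun w => by rw [← map_sig]; exact (hv' i w).symm) hu
      refine ⟨ρ _ (E j) w, ?_⟩
      have e1 : ρ _ (E j) (u - (∑ z : P, repA (ρ (σ i)) z) w) = 0 := by
        refine (Submodule.span_le (p := LinearMap.ker (ρ _ (E j)))).2 ?_ hw
        rintro _ ⟨m, hm, rfl⟩
        obtain ⟨h, hh, z, hz, rfl⟩ := hN m hm
        rw [SetLike.mem_coe, LinearMap.mem_ker, map_mul, Module.End.mul_apply, fixed_of_Sup _ (hs i) (hv i) z hz,
          repA_apply, ← Module.End.mul_apply, ← Module.End.mul_apply, ← map_mul, ← map_mul,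
          ZA_comm_Sup (h1 j) (single_mem_Sup hh 1), mul_assoc, h4 j i (Ne.symm hij), mul_zero, map_zero]; rfl
      rw [map_sub, sub_eq_zero, ← map_sig] at e1
      rw [e1, ← Module.End.mul_apply, ← map_mul, hS, map_mul]; rfl
    obtain ⟨w, hw⟩ := this _ (v j) e.symm (hv j)
    exact hv' j w hw
  · obtain ⟨c, hc⟩ := scalar_of_surj _ (hsurj (σ j)) (ρ _ e) fun g => by
      rw [repA_apply, ← map_mul, ← map_mul, Z_comm he]
    have e1 : c ≠ 0 := by
      rintro rfl
      obtain ⟨w, hw⟩ := norm_of_Br hP (ρ (σ j)) (Z_le_Fix _ he) (hv j)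
      rw [hc, zero_smul, eq_comm, add_eq_zero_iff_eq_neg] at hw
      refine hv' j (-ρ _ (E j) w) ?_
      nth_rw 1 [← h5]
      rw [map_mul, Module.End.mul_apply, hw, map_neg, map_neg, ← Module.End.mul_apply, ← map_mul, hS, map_mul]
      rfl
    refine LinearMap.ext fun u => smul_right_injective _ e1 ?_
    show c • ρ _ e u = c • u
    rw [← hc, ← hc, ← Module.End.mul_apply, ← map_mul, hee]

variable {M : Ideal AlgInt} {B : Set (IrrCharacter G)}

theorem card_le_rank_of (hM : IsPModular p M) (hB : IsPBlock M B) {ι : Type*} [Fintype ι] (t : ι → G → k M)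
    (h1 : ∀ j g x, t j (x * g * x⁻¹) = t j g) (h2 : ∀ j g, ev (t j) (eB M B * single g 1) = t j g)
    (h3 : ∀ c : ι → k M, (∀ g, ¬ p ∣ orderOf g → ∑ j, c j * t j g = 0) → ∀ j, c j = 0) :
    Fintype.card ι ≤ blockRank p B := by
  have hc : ∀ j, IsClassFunction G fun g => sec M (t j g) := fun j g x => congrArg _ (h1 j _ _)
  have hO : ∀ j g, blockPart B (fun g => sec M (t j g)) g ∈ O M ∧
      red M (blockPart B (fun g => sec M (t j g)) g) = t j g := fun j g => by
    have e := mul_mem (fI_mem_IntA hM hB) (single_mem_IntA g (one_mem (O M)))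
    rw [blockPart_eq_ev (hc j)]
    refine ⟨ev_mem_O (fun _ => sec_mem _) e, ?_⟩
    rw [red_ev (fun _ => sec_mem _) e, redA_mul (fI_mem_IntA hM hB) (single_mem_IntA g (one_mem (O M))), redA_fI]
    simp only [red_sec, redA_single, red_one]
    exact h2 j g
  have hi : LinearIndependent ℂ fun j => reg p (blockPart B fun g => sec M (t j g)) := by
    refine indep_of_red (M := M) (fun j g => ?_) fun c hc => h3 c fun g hg => ?_
    · by_cases hg : p ∣ orderOf g
      · rw [reg_of_dvd _ hg]; exact zero_mem _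
      · rw [reg_of_not_dvd _ hg]; exact (hO j g).1
    · rw [← hc g]
      exact Finset.sum_congr rfl fun j _ => by rw [reg_of_not_dvd _ hg, (hO j _).2]
  rw [blockRank_eq, ← finrank_span_eq_card hi]
  exact Submodule.finrank_mono (Submodule.span_le.2 (Set.range_subset_iff.2 fun j => reg_blockPart_mem B _))

theorem card_le_rank (hM : IsPModular p M) (hB : IsPBlock M B) (P : Sylow p G) (hP : Nat.card P = p) {H : Subgroup G}
    (hH : H ≤ NS (P : Subgroup G)) (hPH : (P : Subgroup G) ⊓ H = ⊥)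
    (hN : ∀ n ∈ NS (P : Subgroup G), ∃ h ∈ H, ∃ z ∈ (P : Subgroup G), n = h * z) {ι : Type*} [Fintype ι]
    (E : ι → (k M)[G]) (h1 : ∀ i, E i ∈ ZA (k M) H) (h2 : ∀ i, E i * E i = E i) (h3 : ∀ i, E i ≠ 0)
    (h4 : ∀ i j, i ≠ j → E i * E j = 0) (h5 : ∀ i, E i * Br (P : Subgroup G) (eB M B) = E i) :
    Fintype.card ι ≤ blockRank p B := by
  haveI := charP_k hM
  obtain ⟨n, d, ρ, a0, a1, a2⟩ := wedderburn (k M) (k M)[G]
  obtain ⟨σ, hσ, h⟩ := exists_sigma ρ a1 a2 P hP hH hPH hN (eB_mem_Z B) (eB_mul_self hM hB) E h1 h2 h3 h4 h5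
  refine card_le_rank_of hM hB (fun j g => LinearMap.trace _ _ (repA (ρ (σ j)) g)) (fun j g x => ?_) (fun j g => ?_)
    fun c hc => trace_indep ρ a0 a1 hσ hc
  · rw [map_mul, LinearMap.trace_mul_comm, ← map_mul, inv_mul_cancel_left]
  · rw [ev_trace, map_mul, h, one_mul, repA_apply]

end H3
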