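import Cfsg.Agent.H3.Ord6
import Cfsg.Agent.H3.Ord4
import Cfsg.Agent.H1.Lin3
import Cfsg.Agent.H1.Primitive
import Cfsg.Agent.S2475
import Cfsg.Agent.S1012
import Cfsg.Agent.S0495

/-!
H3.O168: the local structure of a simple group of order 168.
-/

set_option autoImplicit false
open Cfsg Subgroup
open scoped Classical

namespace H3.O168
open H4

variable {G : Type*} [Group G] [Finite G] {S : Sylow 2 G} {a b x y t : G} {U W M : Subgroup G}

theorem conj_of_card {n : ℕ} (hx : orderOf x = n) (hy : orderOf y = n) (h : Nat.card {g : G // orderOf g = n} = (C1 x).index) :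
    IsConj x y := by
  have a : {g | IsConj x g} ⊆ {g : G | orderOf g = n} := fun g c => by
    obtain ⟨c, rfl⟩ := isConj_iff.1 c; exact (orderOf_conj _ _).trans hx
  exact (Set.eq_of_subset_of_ncard_le a (h.trans (card_class_eq_index x).symm).le).ge hy

theorem card_of_conj {n : ℕ} (hx : orderOf x = n) (h : ∀ y, orderOf y = n → IsConj x y) :
    Nat.card {g : G // orderOf g = n} * Nat.card (C1 x) = Nat.card G := by
  rw [← card_class_mul_card_centralizer x]
  exact congrArg (· * _) (Nat.card_congr (Equiv.subtypeEquivRight fun g => ⟨h g, fun c => by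
    obtain ⟨c, rfl⟩ := isConj_iff.1 c; exact (orderOf_conj _ _).trans hx⟩))

theorem klein_eq (d : H1.DI (S : Subgroup G) 1 a b) (hU : U ≤ S) (hk : IsKleinFour U) :
    U = zpowers (a ^ 2 ^ 1) ⊔ zpowers b ∨ U = zpowers (a ^ 2 ^ 1) ⊔ zpowers (a * b) := by
  obtain ⟨c, hc, e | e⟩ := d.klein_cj hU hk
  · exact Or.inl (e.symm.trans (H2.cj_eq_iff.2 (d.norm_of_le le_sup_left (d.sup_le' d.hb _) hc)))
  · exact Or.inr (e.symm.trans (H2.cj_eq_iff.2 (d.norm_of_le le_sup_left (d.sup_le' d.ab_mem _) hc)))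

theorem klein_ne (d : H1.DI (S : Subgroup G) 1 a b) : zpowers (a ^ 2 ^ 1) ⊔ zpowers b ≠ zpowers (a ^ 2 ^ 1) ⊔ zpowers (a * b) :=
  fun e => d.a_notMem_M d.hb d.nb (by
    have := mul_mem (e.ge (mem_sup_right (mem_zpowers _))) (inv_mem (mem_sup_right (mem_zpowers b)))
    rwa [mul_inv_cancel_right] at this)

theorem le_norm (d : H1.DI (S : Subgroup G) 1 a b) (hU : U ≤ S) (hk : IsKleinFour U) : (S : Subgroup G) ≤ NS U :=
  d.norm_of_le (zpowers_le.2 (d.klein hU hk).1) hU

theorem not_fuse (d : H1.DI (S : Subgroup G) 1 a b) (hU : U ≤ S) (hW : W ≤ S) (hk : IsKleinFour U) (g : G) (e : H2.cj g U = W) :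
    U = W := by
  obtain ⟨s, hs, f⟩ := d.klein_fusion hU (e ▸ hW) hk
  rw [← e, ← f, H2.cj_eq_iff.2 (le_norm d hU hk hs)]

variable [IsSimpleGroup G] (h : Nat.card G = 168)
include h

theorem np : ¬ (Nat.card G).Prime := by rw [h]; norm_num

theorem nc : ¬ IsMulCommutative G := fun c => np h (H1.prime_card_of_comm c.1.1)

theorem ord (g : G) : orderOf g = 1 ∨ orderOf g = 2 ∨ orderOf g = 3 ∨ orderOf g = 4 ∨ orderOf g = 7 := by
  haveI : Fact (Nat.Prime 7) := ⟨by norm_num⟩
  obtain ⟨e⟩ := Cfsg.Agent.S0495.result h (F := ZMod 7) (ZMod.card 7)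
  have := (Cfsg.Agent.S2475.result (F := ZMod 7) 7 (by simp)).le ⟨e g, rfl⟩
  rw [e.orderOf_eq, ZMod.card] at this
  generalize orderOf g = n at *
  have k : n ∣ 7 ∨ n ∣ 3 ∨ n ∣ 4 := this
  have : n ≤ 7 := by rcases k with k | k | k <;> have := Nat.le_of_dvd (by norm_num) k <;> omega
  interval_cases n <;> omega

theorem c2 (ht : orderOf t = 2) : IsPGroup 2 (C1 t) := cent_pgroup ht fun q a b g c => by
  have := a.two_le; have := ord h g; omega

theorem card_S (S : Sylow 2 G) : Nat.card S = 8 :=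
  have : Fact (Nat.Prime 2) := ⟨Nat.prime_two⟩; card_sylow_of S h (k := 3) (by norm_num) (by norm_num)

theorem c3 {P : Subgroup G} (hP : Nat.card P = 3) : CS P = P :=
  have : Fact (Nat.Prime 3) := ⟨Nat.prime_three⟩
  cen_eq_of_card (p := 2) (q := 7) (a := 3) (b := 1) Nat.prime_two (by norm_num) (by norm_num) (by norm_num) h hP

theorem c7 {P : Subgroup G} (hP : Nat.card P = 7) : CS P = P :=
  have : Fact (Nat.Prime 7) := ⟨by norm_num⟩
  cen_eq_of_card (p := 2) (q := 3) (a := 3) (b := 1) Nat.prime_two (by norm_num) (by norm_num) (by norm_num) h hP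

theorem n7 : Nat.card (Sylow 7 G) = 8 := by
  haveI : Fact (Nat.Prime 7) := ⟨by norm_num⟩
  obtain ⟨P⟩ : Nonempty (Sylow 7 G) := inferInstance
  have a := card_sylow_mod (p := 7) G
  have b := H1.card_sylow_ne_one' (p := 7) (np h) (by rw [h]; norm_num)
  have c := P.card_dvd_index
  have d := card_mul_index (P : Subgroup G)
  rw [card_sylow_of P h (k := 1) (by norm_num) (by norm_num), h] at d
  rw [show (P : Subgroup G).index = 24 by omega] at c
  have := Nat.le_of_dvd (by norm_num) c
  generalize Nat.card (Sylow 7 G) = n at *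
  interval_cases n <;> omega

theorem N7 {P : Subgroup G} (hP : Nat.card P = 7) : Nat.card (NS P) = 21 := by
  haveI : Fact (Nat.Prime 7) := ⟨by norm_num⟩
  obtain ⟨R, hR⟩ := (IsPGroup.of_card (p := 7) (n := 1) hP).exists_le_sylow
  obtain rfl := eq_of_le_of_card_ge hR ((card_sylow_of R h (k := 1) (by norm_num) (by norm_num)).trans hP.symm).le
  have := H1.card_sylow_mul R
  rw [n7 h, h] at this
  change 8 * Nat.card (NS _) = _ at this
  omega

theorem N3 {P : Subgroup G} (hP : Nat.card P = 3) : Nat.card (NS P) = 6 ∧ Nat.card (Sylow 3 G) = 28 := by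
  haveI : Fact (Nat.Prime 3) := ⟨Nat.prime_three⟩
  obtain ⟨R, hR⟩ := (IsPGroup.of_card (p := 3) (n := 1) hP).exists_le_sylow
  obtain rfl := eq_of_le_of_card_ge hR ((card_sylow_of R h (k := 1) (by norm_num) (by norm_num)).trans hP.symm).le
  have a := H1.card_sylow_mul R
  have b := H1.card_mul_relIndex (CS_le_NS (R : Subgroup G))
  rw [((Nat.dvd_prime Nat.prime_two).1 (H1.relIndex_cent_dvd hP)).resolve_left fun e =>
    H1.not_norm_le_cent (np h) (by rw [h]; norm_num) R (relIndex_eq_one.1 e), c3 h hP, hP] at b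
  rw [h, ← b] at a
  exact ⟨b.symm, by omega⟩

theorem di (S : Sylow 2 G) : ∃ a b, H1.DI (S : Subgroup G) 1 a b := by
  haveI : Fact (Nat.Prime 2) := ⟨Nat.prime_two⟩
  haveI : Fact (Nat.Prime 3) := ⟨Nat.prime_three⟩
  refine cit8_di (nc h) S (card_S h S) fun hc => ?_
  have hS : Nat.card (S : Subgroup G) = 8 := card_S h S
  obtain ⟨t, ht⟩ := exists_prime_orderOf_dvd_card' (G := (S : Subgroup G)) 2 (by rw [hS]; norm_num)
  rw [← Subgroup.orderOf_coe] at ht
  have c : CS (S : Subgroup G) = S := S.is_maximal' ((c2 h ht).to_le (centralizer_le (by simp))) (le_centralizer _)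
  have n := H1.not_norm_le_cent (np h) (by rw [h]; norm_num) S
  have a := H1.card_mul_relIndex (CS_le_NS (S : Subgroup G))
  have b := card_mul_index (NS (S : Subgroup G))
  have f := H1.card_dvd_factorial (norm_ne_top (D := (S : Subgroup G)) (fun e => by simp [e] at hS) fun e => by
    rw [e, card_top] at hS; omega)
  rw [← relIndex_eq_one, show centralizer _ = _ from c] at n
  change ¬ (S : Subgroup G).relIndex (NS (S : Subgroup G)) = 1 at n
  rw [c, hS] at a
  rw [← a, h] at b
  rw [h] at f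
  have r : 3 ∣ Nat.card (NS (S : Subgroup G)) := by
    rw [← a]
    generalize (S : Subgroup G).relIndex (NS (S : Subgroup G)) = r at *
    generalize (NS (S : Subgroup G)).index = i at *
    have : r ≤ 21 := Nat.le_of_dvd (by norm_num) ⟨i, by linarith⟩
    have : i ≤ 21 := Nat.le_of_dvd (by norm_num) ⟨r, by linarith⟩
    interval_cases r <;> first | omega | (obtain rfl : i = 3 := by omega); norm_num at f
  obtain ⟨g, hg⟩ := exists_prime_orderOf_dvd_card' 3 r
  rw [← Subgroup.orderOf_coe] at hg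
  have k : Nat.card (zpowers (g : G)) = 3 := (Nat.card_zpowers _).trans hg
  have := H1.card_modEq_card_inf_centralizer (IsPGroup.of_card (p := 3) (n := 1) k) (zpowers_le.2 g.2)
  rw [show centralizer _ = _ from c3 h k, hS, inf_eq_bot_of_coprime (by rw [hS, k]; norm_num), card_bot] at this
  exact absurd this (by decide)

theorem cz (d : H1.DI (S : Subgroup G) 1 a b) : C1 (a ^ 2 ^ 1) = S :=
  S.is_maximal' (c2 h d.oz) fun _ hx => mem_centralizer_singleton_iff.2 (d.z_comm hx)

theorem ni (H : Subgroup G) : H.index ≠ 2 := no_index_two (by omega) H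

theorem cj2 (hx : orderOf x = 2) (hy : orderOf y = 2) : IsConj x y := by
  haveI : Fact (Nat.Prime 2) := ⟨Nat.prime_two⟩
  obtain ⟨S⟩ : Nonempty (Sylow 2 G) := inferInstance
  obtain ⟨a, b, d⟩ := di h S
  exact Dh.cj_all (H9.syl_top_of_sylow S) (Or.inr ⟨_, _, _, d⟩) (ni h) hx hy

theorem card_c2 (ht : orderOf t = 2) : Nat.card (C1 t) = 8 := by
  haveI : Fact (Nat.Prime 2) := ⟨Nat.prime_two⟩
  obtain ⟨S⟩ : Nonempty (Sylow 2 G) := inferInstance
  obtain ⟨a, b, d⟩ := di h S
  rw [← card_C1_isConj (cj2 h d.oz ht), cz h d, card_S h]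

theorem N2 (S : Sylow 2 G) : NS (S : Subgroup G) = S := by
  obtain ⟨a, b, d⟩ := di h S
  refine le_antisymm (fun g hg => (cz h d).le (mem_centralizer_singleton_iff.2 (mul_inv_eq_iff_eq_mul.1 ?_))) le_normalizer
  have k := H2.le_normalizer_inf (L := NS (S : Subgroup G)) le_rfl (H2.normalizer_le_normalizer_centralizer _) hg
  rw [d.center] at k
  exact (d.mem_z.1 ((mem_normalizer_iff.1 k _).1 (mem_zpowers _))).resolve_left (H1.two_ne ((orderOf_conj _ _).trans d.oz))

theorem c4 (d : H1.DI (S : Subgroup G) 1 a b) : C1 a = zpowers a := by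
  refine le_antisymm (fun g hg => by_contra fun c => d.a_not_sq ?_) (zpowers_le.2 (mem_centralizer_singleton_iff.2 rfl))
  have k : Commute g a := mem_centralizer_singleton_iff.1 hg
  exact (d.comm_iff ((cz h d).le (mem_centralizer_singleton_iff.2 (k.pow_right _))) c (mem_zpowers a)).1 k

theorem cj4 (d : H1.DI (S : Subgroup G) 1 a b) (hx : orderOf x = 4) : IsConj a x := by
  haveI : Fact (Nat.Prime 2) := ⟨Nat.prime_two⟩
  obtain ⟨g, -, e⟩ := (H2.isSylowIn_top S).exists_cj_le (IsPGroup.of_card (n := 2) ((Nat.card_zpowers x).trans hx)) le_top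
  have m := e (H2.conj_mem_cj.2 (mem_zpowers x))
  have o := (orderOf_conj x g).trans hx
  refine IsConj.trans ?_ (isConj_iff.2 ⟨g, rfl⟩ : IsConj x _).symm
  generalize g * x * g⁻¹ = y at *
  have k : y ∈ zpowers a := by_contra fun c => by rw [d.out_two m c] at o; omega
  obtain ⟨i, i1, rfl⟩ := Finset.mem_image.1 (mem_zpowers_iff_mem_range_orderOf.1 k)
  rw [Finset.mem_range, d.ord] at i1
  have z := d.oz
  interval_cases i
  · simp at o
  · rw [pow_one]
  · exact absurd (o.symm.trans z) (by norm_num)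
  · refine isConj_iff.2 ⟨b, d.conj.trans (inv_eq_of_mul_eq_one_right ?_)⟩
    rw [← pow_succ', ← orderOf_dvd_iff_pow_eq_one, d.ord]; norm_num

theorem CU (hk : IsKleinFour U) : CS U = U ∧ Nat.card (NS U) = 24 := by
  haveI : Fact (Nat.Prime 2) := ⟨Nat.prime_two⟩
  obtain ⟨S, hU⟩ := (H1.klein_pg hk).exists_le_sylow
  obtain ⟨a, b, d⟩ := di h S
  have c : CS U = U := by
    rw [← d.cent_klein hU hk, eq_comm, d.cent_klein hU hk, ← d.cent_klein hU hk, d.cent_klein hU hk]
    refine (d.cent_klein hU hk).symm.trans (inf_eq_right.2 ?_)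
    rw [← cz h d]
    exact centralizer_le (by simpa using (d.klein hU hk).1)
  obtain ⟨g, g1, g2, g3⟩ : H1.Od U := by
    rcases klein_eq d hU hk with e | e <;> rw [e]
    exacts [(d.od_of_no_index (ni h)).1, (d.od_of_no_index (ni h)).2]
  have k1 := H1.card_mul_relIndex (CS_le_NS U)
  have k2 := H1.klein_relIndex_dvd hk
  have k3 : Nat.card (S : Subgroup G) ∣ Nat.card (NS U) := card_dvd_of_le (le_norm d hU hk)
  have k4 := Subgroup.orderOf_dvd_natCard _ g1
  have k5 : orderOf g ≠ 1 := fun e => g3 (orderOf_eq_one_iff.1 e ▸ one_mem _)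
  have k6 := ord h g
  rw [c, hk.card_four] at k1
  rw [show centralizer _ = _ from c] at k2
  rw [card_S h] at k3
  refine ⟨c, ?_⟩
  change _ ∣ Nat.card (NS U) at k4
  rw [← k1] at *
  have := Nat.le_of_dvd (by norm_num) k2
  change U.relIndex (NS U) ≤ _ at this
  change U.relIndex (NS U) ∣ _ at k2
  generalize U.relIndex (NS U) = r at *
  rw [Nat.coprime_two_right, Nat.odd_iff] at g2
  obtain e | e : orderOf g = 3 ∨ orderOf g = 7 := by omega
  all_goals rw [e] at k4; interval_cases r <;> omega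

theorem NU (hk : IsKleinFour U) : Nonempty (NS U ≃* Equiv.Perm (Fin 4)) :=
  Cfsg.Agent.S1012.result (CU h hk).2 fun g e => by have := ord h g; rw [Subgroup.orderOf_coe] at this; omega

theorem eq_of_norm (hU : IsKleinFour U) (hW : IsKleinFour W) (e : NS U = NS W) : U = W := by
  haveI : Fact (Nat.Prime 2) := ⟨Nat.prime_two⟩
  obtain ⟨S, h1⟩ := ((H1.klein_pg hW).to_sup_of_normal_right' (H1.klein_pg hU) (le_normalizer.trans e.ge)).exists_le_sylow
  obtain ⟨a, b, d⟩ := di h S
  have z1 := (d.klein (le_sup_right.trans h1) hU).1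
  have z2 := (d.klein (le_sup_left.trans h1) hW).1
  by_contra c
  rcases H1.klein_sub hU (inf_le_left : U ⊓ W ≤ U) with k | k
  · obtain ⟨u, hu⟩ := H5.exists_zpowers_eq (U ⊓ W)
    have k1 : u ∈ U ⊓ W := hu.le (mem_zpowers u)
    have ou : orderOf u = 2 := H1.two_of (H1.klein_sq hU k1.1) fun f => H1.two_ne d.oz (by
      simpa [f] using hu.ge ⟨z1, z2⟩)
    have k2 : NS U ≤ C1 u := fun g hg => by
      have m := H2.le_normalizer_inf (L := NS U) le_rfl e.le hg
      rw [← hu] at m
      have := (mem_normalizer_iff.1 m _).1 (mem_zpowers u)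
      exact mem_centralizer_singleton_iff.2 (mul_inv_eq_iff_eq_mul.1
        ((H1.mem_zpowers_two ou).1 this |>.resolve_left (H1.two_ne ((orderOf_conj _ _).trans ou))))
    have := card_le_of_le k2
    rw [(CU h hU).2, card_c2 h ou] at this
    omega
  · exact c (H1.klein_eq_of_le hU hW (inf_eq_left.1 k))

theorem coatom (hM : Nat.card M = 24) : IsCoatom M := by
  have a := card_mul_index M
  rw [hM, h] at a
  refine ⟨fun e => by rw [e, card_top] at hM; omega, fun K hK => index_eq_one.1 ?_⟩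
  refine ((Nat.dvd_prime (by norm_num : Nat.Prime 7)).1 (show M.index = 7 by omega ▸ index_dvd_of_le hK.le)).resolve_right fun e => ?_
  have b := card_mul_index K
  rw [e, h] at b
  exact hK.ne (eq_of_le_of_card_ge hK.le (by omega))

theorem max (hM : IsCoatom M) : (∃ U : Subgroup G, IsKleinFour U ∧ M = NS U) ∨ ∃ P : Subgroup G, Nat.card P = 7 ∧ M = NS P := by
  haveI : Fact (Nat.Prime 2) := ⟨Nat.prime_two⟩
  haveI : Fact (Nat.Prime 3) := ⟨Nat.prime_three⟩
  haveI : Fact (Nat.Prime 7) := ⟨by norm_num⟩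
  have nm : ∀ K : Subgroup G, M ≤ K → Nat.card K = 24 → Nat.card M = 24 := fun K a b =>
    (hM.le_iff.1 a).elim (fun e => by rw [e, card_top] at b; omega) fun e => e ▸ b
  obtain ⟨S⟩ : Nonempty (Sylow 2 G) := inferInstance
  obtain ⟨a, b, d⟩ := di h S
  have s : Group.IsSolvable M := by
    have a := card_mul_index M
    have b := H1.card_dvd_factorial hM.1
    rw [h] at a b
    have : ¬ 42 ∣ Nat.card M := by
      rintro ⟨k, e⟩
      rw [e] at a
      have : M.index ≤ 4 := Nat.le_of_dvd (by norm_num) ⟨k, by linarith⟩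
      exact absurd (b.trans (Nat.factorial_dvd_factorial this)) (by norm_num)
    have c : Nat.card M ∣ 168 := ⟨_, a.symm⟩
    by_cases e7 : 7 ∣ Nat.card M
    · by_cases e3 : 3 ∣ Nat.card M
      · exact burnside_paqb (a := 1) (b := 1) Nat.prime_three (by norm_num : Nat.Prime 7)
          ((Nat.coprime_two_right.2 (Nat.odd_iff.2 (by omega))).pow_right 3 |>.dvd_of_dvd_mul_left c)
      · exact burnside_paqb (a := 3) (b := 1) Nat.prime_two (by norm_num : Nat.Prime 7)
          ((Nat.prime_three.coprime_iff_not_dvd.2 e3).symm.dvd_of_dvd_mul_left c)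
    · exact burnside_paqb (a := 3) (b := 1) Nat.prime_two Nat.prime_three
        (((by norm_num : Nat.Prime 7).coprime_iff_not_dvd.2 e7).symm.dvd_of_dvd_mul_left c)
  have M0 : M ≠ ⊥ := fun e => by have := nm _ (e.le.trans bot_le) (CU h d.klein1).2; simp [e] at this
  obtain ⟨A, A1, A2, A3, l, hl, A4, A5⟩ := H1.exists_elem_normal (A := ⊥) bot_le s M0
  have e : M = NS A := ((hM.le_iff.1 (le_sup_right.trans A3)).resolve_left
    (norm_ne_top A2 fun e => hM.1 (top_le_iff.1 (e.ge.trans A1)))).symm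
  haveI := Fact.mk hl
  have pA : IsPGroup l A := fun x => ⟨1, Subtype.ext (by simpa using A5 x x.2)⟩
  obtain ⟨u, u1, u2⟩ := (A.bot_or_exists_ne_one).resolve_left A2
  have ou : orderOf u = l := orderOf_eq_prime (A5 u u1) u2
  have cu : A ≤ C1 u := fun x hx => mem_centralizer_singleton_iff.2 (congrArg Subtype.val (A4.1.1 ⟨x, hx⟩ ⟨u, u1⟩))
  have ez : CS (zpowers u) = zpowers u → A = zpowers u := fun c =>
    le_antisymm (cu.trans ((H4.centralizer_zpowers u).symm.trans c).le) (zpowers_le.2 u1)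
  have cz' : Nat.card (zpowers u) = l := (Nat.card_zpowers u).trans ou
  obtain rfl | rfl | rfl : l = 2 ∨ l = 3 ∨ l = 7 := by
    have := ord h u; have := hl.two_le; have : l ≠ 4 := by rintro rfl; norm_num at hl
    omega
  · refine Or.inl ⟨A, H1.isKleinFour_of ?_ fun x hx => by rw [← sq, A5 x hx], e⟩
    obtain ⟨g, hg⟩ := isConj_iff.1 (cj2 h d.oz ou)
    have c : C1 u = H2.cj g S := by rw [← hg, ← cz h d, H2.cj_centralizer_singleton]
    have k1 : Nat.card A ∣ 8 := card_c2 h ou ▸ card_dvd_of_le cu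
    have k2 : Nat.card A ≠ 8 := fun f => by
      have := A5 _ ((eq_of_le_of_card_ge cu ((card_c2 h ou).trans f.symm).le).ge (c.ge (H2.conj_mem_cj.2 d.ha)))
      rw [← orderOf_dvd_iff_pow_eq_one, orderOf_conj, d.ord] at this
      omega
    have k3 : Nat.card A ≠ 2 := fun f => by
      have k : A = zpowers u := (eq_of_le_of_card_ge (zpowers_le.2 u1) (f.trans cz'.symm).le).symm
      have m : M ≤ C1 u := fun x hx => mem_centralizer_singleton_iff.2 (mul_inv_eq_iff_eq_mul.1
        ((H1.mem_zpowers_two ou).1 ((mem_normalizer_iff.1 (k ▸ e.le hx) _).1 (mem_zpowers u)) |>.resolve_left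
          (H1.two_ne ((orderOf_conj _ _).trans ou))))
      have := nm _ (m.trans (c.le.trans (H2.cj_mono g (le_norm d (d.sup_le' d.hb _) d.klein1))))
        ((H2.card_cj _ _).trans (CU h d.klein1).2)
      have := card_le_of_le m
      rw [card_c2 h ou] at this
      omega
    have k4 : Nat.card A ≠ 1 := fun f => A2 (Subgroup.card_eq_one.1 f)
    have := Nat.le_of_dvd (by norm_num) k1
    generalize Nat.card A = n at *
    interval_cases n <;> omega
  · exfalso
    obtain ⟨f⟩ := NU h d.klein1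
    let v : NS (zpowers (a ^ 2 ^ 1) ⊔ zpowers b) := f.symm (Equiv.swap 0 1 * Equiv.swap 1 2)
    let w : NS (zpowers (a ^ 2 ^ 1) ⊔ zpowers b) := f.symm (Equiv.swap 0 1)
    have ov : orderOf (v : G) = 3 := by
      rw [Subgroup.orderOf_coe, MulEquiv.orderOf_eq]; exact orderOf_eq_prime (by decide) (by decide)
    have ow : orderOf (w : G) = 2 := by
      rw [Subgroup.orderOf_coe, MulEquiv.orderOf_eq]; exact orderOf_eq_prime (by decide) (by decide)
    have cv : Nat.card (zpowers (v : G)) = 3 := (Nat.card_zpowers _).trans ov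
    have wv : (w : G) ∈ NS (zpowers (v : G)) := H2.cj_eq_iff.1 (by
      rw [H2.cj_zpowers, ← zpowers_inv]
      congr 1
      rw [← coe_inv, ← coe_mul, ← coe_mul, ← coe_inv, ← map_inv, ← map_mul, ← map_mul, ← map_inv]
      congr 2; decide)
    have k : NS (zpowers (v : G)) ≤ NS (zpowers (a ^ 2 ^ 1) ⊔ zpowers b) := by
      have l : zpowers (v : G) ⊔ zpowers (w : G) ≤ NS (zpowers (v : G)) := sup_le le_normalizer (zpowers_le.2 wv)
      rw [← eq_of_le_of_card_ge l ((N3 h cv).1.trans_le (Nat.le_of_dvd Nat.card_pos (Nat.Coprime.mul_dvd_of_dvd_of_dvd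
        (by norm_num : Nat.Coprime 3 2) (cv ▸ card_dvd_of_le le_sup_left)
          (ow.symm.dvd.trans (Subgroup.orderOf_dvd_natCard _ (mem_sup_right (mem_zpowers _)))))))]
      exact sup_le (zpowers_le.2 v.2) (zpowers_le.2 w.2)
    obtain ⟨R⟩ : Nonempty (Sylow 3 G) := inferInstance
    have i3 : (C1 (v : G)).index = 56 := by
      have := card_mul_index (C1 (v : G))
      rw [C1_eq_prime cv (mem_zpowers _) (H1.ne_one_of_orderOf_prime Nat.prime_three ov), c3 h cv, cv, h] at this
      rw [C1_eq_prime cv (mem_zpowers _) (H1.ne_one_of_orderOf_prime Nat.prime_three ov), c3 h cv]; omega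
    obtain ⟨g, hg⟩ := isConj_iff.1 (conj_of_card ov ou (by
      rw [H1.card_order_p R (card_sylow_of R h (k := 1) (by norm_num) (by norm_num)), (N3 h cv).2, i3]))
    rw [ez (c3 h cz')] at e
    have := nm _ (e.le.trans (by rw [← hg, ← H2.cj_zpowers]; exact (H2.cj_normalizer g _).ge.trans (H2.cj_mono g k)))
      ((H2.card_cj _ _).trans (CU h d.klein1).2)
    rw [e, (N3 h cz').1] at this
    omega
  · exact Or.inr ⟨A, by rw [ez (c7 h cz'), cz'], e⟩

end H3.O168
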