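import Cfsg.Agent.S0999
import Cfsg.Agent.H1.Simp
import Cfsg.Agent.H5.SubF
import Cfsg.Agent.H5.SL2Cl

namespace H3

variable {G : Type*} [Group G] [Finite G] [IsSimpleGroup G]

theorem ord_not_cyclic (h : ¬ (Nat.card G).Prime) : ¬ IsCyclic G := fun hc =>
  h (H1.prime_card_of_comm fun a b => by
    letI := hc.commGroup
    exact mul_comm a b)

theorem ord_psl_congr {F K : Type*} [Field F] [Fintype F] [Field K] [Fintype K]
    (h : Fintype.card F = Fintype.card K)
    (e : Nonempty (G ≃* Matrix.ProjectiveSpecialLinearGroup (Fin 2) F)) :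
    Nonempty (G ≃* Matrix.ProjectiveSpecialLinearGroup (Fin 2) K) :=
  ⟨e.some.trans (H5.pslCongr (FiniteField.ringEquivOfCardEq h))⟩

theorem ord_card_psl {F : Type*} [Field F] [Fintype F]
    (e : Nonempty (G ≃* Matrix.ProjectiveSpecialLinearGroup (Fin 2) F)) :
    Nat.gcd 2 (Fintype.card F - 1) * Nat.card G =
      Fintype.card F * (Fintype.card F - 1) * (Fintype.card F + 1) := by
  rw [Nat.card_congr e.some.toEquiv]; exact H5.card_PSL2_mul

/-- Brauer–Reynolds in numerical form. -/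
theorem ord_big (hG : ¬ (Nat.card G).Prime) (p : ℕ) (hp : p.Prime) (hd : p ∣ Nat.card G)
    (hb : Nat.card G < p ^ 3) :
    (2 * Nat.card G = p * (p - 1) * (p + 1) ∧ ∀ (F : Type*) [Field F] [Fintype F],
      Fintype.card F = p → Nonempty (G ≃* Matrix.ProjectiveSpecialLinearGroup (Fin 2) F)) ∨
    (Nat.card G = (p - 1) * (p - 2) * p ∧ ∀ (F : Type*) [Field F] [Fintype F],
      Fintype.card F = p - 1 → Nonempty (G ≃* Matrix.ProjectiveSpecialLinearGroup (Fin 2) F)) := by
  rcases Cfsg.Agent.S0999.result (ord_not_cyclic hG) p hp hd hb with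
    ⟨F, _, _, hF, h3, e⟩ | ⟨m, F, _, _, hF, hm, h3, e⟩
  · refine Or.inl ⟨?_, fun K _ _ hK => ord_psl_congr (hF.trans hK.symm) e⟩
    have h := ord_card_psl e
    rw [hF] at h
    have h2 : Nat.gcd 2 (p - 1) = 2 := by
      obtain ⟨k, hk⟩ := hp.odd_of_ne_two (by omega)
      exact Nat.gcd_eq_left ⟨k, by omega⟩
    rwa [h2] at h
  · have hF' : Fintype.card F = p - 1 := by omega
    refine Or.inr ⟨?_, fun K _ _ hK => ord_psl_congr (hF'.trans hK.symm) e⟩
    have h := ord_card_psl e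
    have hm0 : m ≠ 0 := by rintro rfl; omega
    have h2 : Nat.gcd 2 (Fintype.card F - 1) = 1 := by
      rw [hF]
      obtain ⟨k, rfl⟩ := Nat.exists_eq_succ_of_ne_zero hm0
      have : 0 < 2 ^ k := by positivity
      refine Nat.coprime_two_left.2 ⟨2 ^ k - 1, ?_⟩
      rw [pow_succ]; omega
    rw [h2, one_mul, hF'] at h
    rw [h]
    congr 2 <;> omega

end H3
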