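import Cfsg.Agent.H3.BR3
import Cfsg.Agent.H3.BT
import Cfsg.Agent.H3.Gl

/-!
H3.Ord2: further degree constraints for the principal block of a Sylow subgroup of prime order
(lemmas of Brauer and Tuan).
-/

set_option autoImplicit false
open Cfsg Subgroup Finset
open scoped Classical ComplexConjugate

namespace H3
open H4

variable {G : Type*} [Group G] [Fintype G] {p : ℕ} {P : Subgroup G} {χ : G → ℂ}

theorem det_prod (hG : commutator G = ⊤) (hχ : IsCharacter G χ) (H : Subgroup G) {ι : Type*} [Fintype ι]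
    (l : ι → H →* ℂˣ) (h : ∀ x : H, χ x = ∑ i, (l i x : ℂ)) (x : H) : ∏ i, (l i x : ℂ) = 1 := by
  obtain ⟨δ, hδ⟩ := exists_detHom hχ
  have a : δ x = 1 := eq_top_of_perfect hG (A := δ.ker) (fun a b => by
    simp only [MonoidHom.mem_ker, map_mul, map_inv]
    rw [mul_comm (δ a), mul_inv_cancel_right, mul_inv_cancel]) x
  let M : H →* Matrix ι ι ℂ :=
    { toFun := fun x => Matrix.diagonal fun i => (l i x : ℂ)
      map_one' := by simp
      map_mul' := fun a b => by simp [Matrix.diagonal_mul_diagonal] }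
  have b := detChar_matrix M x
  have c := detChar_comp H.subtype hχ x
  rw [show (fun g => (M g).trace) = fun g => χ (H.subtype g) from funext fun g => by
    simp [M, Matrix.trace_diagonal, h g], c, hδ] at b
  simpa [M, Matrix.det_diagonal, a] using b.symm

theorem det_irr (hG : commutator G = ⊤) (hχ : IsCharacter G χ) (H : Subgroup G) (hc : ∀ a b : H, a * b = b * a)
    {c : IrrCharacter H → ℕ} (h : ∀ x : H, χ x = ∑ φ, c φ * φ.1 x) (x : H) : ∏ φ : IrrCharacter H, φ.1 x ^ c φ = 1 := by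
  choose f hf using fun φ : IrrCharacter H => irr_exists_hom_of_comm φ.2 hc
  have := det_prod hG hχ H (ι := Σ φ, Fin (c φ)) (fun i => f i.1) (fun x => by
    rw [h, Fintype.sum_sigma]; exact sum_congr rfl fun φ _ => by simp [hf φ]) x
  rw [Fintype.prod_sigma] at this
  rw [← this]
  exact prod_congr rfl fun φ _ => by simp [hf φ]

variable {e t : ℕ} {B V : Finset (IrrCharacter G)} {r : IrrCharacter G → IrrCharacter G} {σ : IrrCharacter G → ℤ}
  {T : IrrCharacter G → ℕ} {v w φ : IrrCharacter G}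

namespace BD
variable [hp : Fact p.Prime] (h : BD p P e t B V r σ T)
include h

theorem dvd_mult (hφ : φ ∈ B) {Z : Subgroup G} [Fintype Z] (hZ : Z ≤ CS P) (h1 : ¬ p ∣ Nat.card Z) {μ : IrrCharacter Z}
    (hμ : μ ≠ triv Z) {k : ℕ} (hk : classInner (fun x : Z => φ.1 x) μ.1 = k) : p ∣ k := by
  letI : Fintype P := Fintype.ofFinite _
  let j : P × Z →* G := MonoidHom.noncommCoprod P.subtype Z.subtype fun a b => hZ b.2 a a.2
  obtain ⟨m, hm⟩ := inner_char_nat (char_comp (irr_char φ.2) j) (char_comp (irr_char μ.2) (MonoidHom.snd P Z))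
  have z : ∑ x : Z, conj (μ.1 x) = 0 := by
    have := irr_inner (triv Z).2 μ.2
    rw [if_neg fun e => hμ (Subtype.ext e.symm), classInner] at this
    simpa [card_ne_zero' Z] using this
  have k1 : ∑ y ∈ nz P, ∑ x : Z, φ.1 (y * x) * conj (μ.1 x) = 0 := sum_eq_zero fun y a => by
    rw [sum_congr rfl fun x _ => by
      rw [h.sec φ hφ y (mem_nz.1 a).1 (mem_nz.1 a).2 x (fun e => h1 (e.trans (Subgroup.orderOf_dvd_natCard Z x.2)))
        (hZ x.2 y (mem_nz.1 a).1)], ← mul_sum, z, mul_zero]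
  have k2 := sum_nz P fun y => ∑ x : Z, φ.1 (y * x) * conj (μ.1 x)
  rw [classInner, Fintype.sum_prod_type] at hm
  change _ * ∑ y : P, ∑ x : Z, φ.1 (y * x) * conj (μ.1 x) = _ at hm
  rw [← k2, k1] at hm
  rw [classInner] at hk
  simp only [one_mul, zero_add, Nat.card_prod, h.card, Nat.cast_mul] at hm
  have p0 : (p : ℂ) ≠ 0 := Nat.cast_ne_zero.2 hp.out.ne_zero
  have : (k : ℂ) = p * m := by
    rw [← hk, ← hm]; field_simp
  exact ⟨m, by exact_mod_cast this⟩

omit h in
theorem ker_bot [IsSimpleGroup G] (h1 : φ ≠ triv G) : charKer φ.1 = ⊥ :=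
  (charKer_normal (irr_class φ.2)).eq_bot_or_eq_top.resolve_right (charKer_ne_top φ.2 fun e => h1 (Subtype.ext e))

/-- decomposition of a member of the block on a cyclic `p'`-subgroup centralising `P` -/
theorem dec_cen (hG : commutator G = ⊤) (hφ : φ ∈ B) {z : G} (hz : z ∈ CS P) (h1 : ¬ p ∣ orderOf z) :
    ∃ c : IrrCharacter (zpowers z) → ℕ, (∀ x : zpowers z, φ.1 x = ∑ μ, c μ * μ.1 x) ∧ (∀ μ, μ ≠ triv _ → p ∣ c μ) ∧
      (∀ x : zpowers z, ∏ μ : IrrCharacter (zpowers z), μ.1 x ^ c μ = 1) ∧ ∑ μ, c μ = charDegree φ.1 ∧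
      ∀ μ : IrrCharacter (zpowers z), ∃ f : zpowers z →* ℂˣ, μ.1 = fun g => (f g : ℂ) := by
  letI : Fintype (zpowers z) := Fintype.ofFinite _
  have hc : ∀ a b : zpowers z, a * b = b * a := fun ⟨_, i, rfl⟩ ⟨_, k, rfl⟩ => Subtype.ext (zpow_mul_comm z i k)
  obtain ⟨c, a, b⟩ := char_decomp (char_restrict (irr_char φ.2) (zpowers z))
  refine ⟨c, b, fun μ m => h.dvd_mult hφ (zpowers_le.2 hz) (by rwa [Nat.card_zpowers]) m (a μ),
    det_irr hG (irr_char φ.2) _ hc b, ?_, fun μ => irr_exists_hom_of_comm μ.2 hc⟩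
  have := b 1
  simp only [OneMemClass.coe_one, ideg φ, irr_degree_one_of_comm (Subtype.property _) hc, mul_one] at this
  exact_mod_cast this.symm

/-- Brauer–Tuan: a non-trivial member of the principal block of degree `< 2p` forces `C(P) = P` -/
theorem two_p_le [IsSimpleGroup G] (hG : commutator G = ⊤) (hC : CS P ≠ P) (hφ : φ ∈ B) (h1 : φ ≠ triv G) :
    2 * p ≤ charDegree φ.1 := by
  by_contra! hd
  refine hC (le_antisymm (fun g a => h.mem_of_pelt (CS_le_NS P a) ((pq_eq_one_iff hp.out).1 ?_)) (le_CS_prime h.card))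
  have h2 := not_dvd_orderOf_pq hp.out g
  obtain ⟨c, c1, c2, c3, c4, c5⟩ := h.dec_cen hG hφ (pq_mem a) h2
  generalize pq p g = z at *
  have k : ∀ μ, μ ≠ triv _ → c μ = 0 := fun μ m => by
    by_contra n
    have k' : ∀ ν, ν ≠ triv _ → ν ≠ μ → c ν = 0 := fun ν a b => by
      by_contra n'
      have := add_le_sum (f := c) (fun _ _ => Nat.zero_le _) (mem_univ ν) (mem_univ μ) b
      have := Nat.le_of_dvd (Nat.pos_of_ne_zero n) (c2 μ m)
      have := Nat.le_of_dvd (Nat.pos_of_ne_zero n') (c2 ν a)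
      omega
    have e : c μ = p := by
      obtain ⟨u, hu⟩ := c2 μ m
      have := single_le_sum (f := c) (fun _ _ => Nat.zero_le _) (mem_univ μ)
      obtain rfl : u = 1 := by
        rcases u with _ | _ | u
        · simp [hu] at n
        · rfl
        · nlinarith
      simpa using hu
    obtain ⟨f, hf⟩ := c5 μ
    refine m (Subtype.ext (hf.trans (funext fun x => ?_)))
    have l := c3 x
    rw [prod_eq_single μ (fun ν _ b => by
      by_cases a : ν = triv _
      · simp [a]
      · simp [k' ν a b]) (by simp), e, hf] at l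
    have l2 : f x ^ orderOf z = 1 := by rw [← map_pow, ← Nat.card_zpowers, pow_card_eq_one', map_one]
    have l1 : f x ^ p = 1 := Units.ext (by simpa using l)
    have := pow_gcd_eq_one.2 ⟨l1, l2⟩
    rw [(hp.out.coprime_iff_not_dvd.2 h2).gcd_eq_one, pow_one] at this
    simp [this]
  have k2 : ∀ x : zpowers z, φ.1 x = c (triv _) := fun x => by
    rw [c1, sum_eq_single (triv _) (fun μ _ a => by simp [k μ a]) (by simp)]; simp
  exact (ker_bot h1).le ((mem_charKer (irr_char φ.2) z).2 ((k2 ⟨z, mem_zpowers z⟩).trans (k2 1).symm))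

/-- the value at an involution centralising `P` -/
theorem inv_val (hG : commutator G = ⊤) (hφ : φ ∈ B) (h2 : p ≠ 2) {j : G} (hj : j ∈ CS P) (ho : orderOf j = 2) :
    ∃ a : ℕ, φ.1 j = charDegree φ.1 - 2 * a ∧ p ∣ a ∧ Even a ∧ a ≤ charDegree φ.1 := by
  obtain ⟨c, c1, c2, c3, c4, c5⟩ := h.dec_cen hG hφ hj (by
    rw [ho]; exact fun a => h2 ((Nat.prime_dvd_prime_iff_eq hp.out Nat.prime_two).1 a))
  let x : zpowers j := ⟨j, mem_zpowers j⟩
  have s : ∀ μ : IrrCharacter (zpowers j), μ.1 x ≠ -1 → μ.1 x = 1 := fun μ a => by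
    obtain ⟨f, hf⟩ := c5 μ
    have : x * x = 1 := Subtype.ext (show j * j = 1 by rw [← sq, ← ho, pow_orderOf_eq_one])
    have : μ.1 x * μ.1 x = 1 := by rw [hf]; simp only [← Units.val_mul, ← map_mul, this, map_one, Units.val_one]
    exact (mul_self_eq_one_iff.1 this).resolve_right a
  refine ⟨∑ μ with μ.1 x = -1, c μ, ?_, dvd_sum fun μ a => c2 μ fun e => ?_, ?_, c4 ▸ sum_le_sum_of_subset (filter_subset _ _)⟩
  · rw [show φ.1 j = _ from c1 x, ← c4, sum_filter]
    push_cast
    rw [mul_sum, ← sum_sub_distrib]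
    refine sum_congr rfl fun μ _ => ?_
    split_ifs with a
    · rw [a]; ring
    · rw [s μ a]; ring
  · have := (mem_filter.1 a).2
    rw [e] at this; norm_num at this
  · have := c3 x
    refine (neg_one_pow_eq_one_iff_even (R := ℂ) (by norm_num)).1 ?_
    rw [← prod_pow_eq_pow_sum, prod_filter]
    refine (prod_congr rfl fun μ _ => ?_).trans this
    split_ifs with a
    · rw [a]
    · rw [s μ a, one_pow]

/-- no ordinary vertex of degree `p - 1` when `e` is even and `t` is odd -/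
theorem ne_pred [IsSimpleGroup G] (hG : commutator G = ⊤) (hv : v ∈ V) (h1 : v ≠ triv G) (hT : T v = 1) (he : Even e) (ht : Odd t) :
    charDegree v.1 + 1 ≠ p := fun hd => by
  have e0 := h.et_pos.1
  have p3 : 3 ≤ p := by
    have := h.et; have := Nat.mul_le_mul (he.two_dvd.elim fun f a => (by omega : 2 ≤ e)) h.et_pos.2; omega
  have s : σ v = -1 := (h.sg v hv).resolve_left fun a => by
    have := (h.mod hv).1 a
    rw [hT, one_mul, Nat.mod_eq_of_lt (by omega)] at this
    omega
  have h0 := h.sum_zero (h.sub hv) (by rwa [h.rr v hv]) (by rwa [h.rr v hv, hT, one_mul])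
  have hC := h.cen_eq (h.sub hv) h0 (ker_bot h1)
  obtain ⟨H, a, b, c, d, -⟩ := h.exists_compl hC
  obtain ⟨u, hu⟩ := b.exists_generator
  have ou : orderOf u = e := (orderOf_eq_card_of_forall_mem_zpowers hu).trans c
  have hζ := Complex.isPrimitiveRoot_exp e e0.ne'
  set ζ := Complex.exp (2 * Real.pi * Complex.I / e)
  let ζ' : ℂˣ := Units.mk0 ζ (hζ.ne_zero e0.ne')
  have oζ : orderOf ζ' = e := by rw [← orderOf_units]; exact hζ.eq_orderOf.symm
  let l := monoidHomOfForallMemZpowers hu (g' := ζ') (by rw [oζ, ou])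
  have lu : l u = ζ' := monoidHomOfForallMemZpowers_apply_gen _ _
  have := det_prod hG (irr_char v.2) H (ι := Fin t × Fin e) (fun i => l ^ (i.2 : ℕ)) (fun x => by
    simp only [Fintype.sum_prod_type, MonoidHom.pow_apply, Units.val_pow_eq_pow_val, sum_const, card_univ, Fintype.card_fin]
    by_cases x1 : x = 1
    · have : charDegree v.1 = t * e := by have := h.et; rw [mul_comm]; omega
      simp [x1, ideg v, this]
    · rw [h.zero_N hC (irr_char v.2) h0 (a x.2) fun f => x1 (Subtype.ext (d.le ⟨f, x.2⟩)), Fin.sum_univ_eq_sum_range fun i => (l x : ℂ) ^ i]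
      obtain ⟨k, rfl⟩ := hu x
      have l1 : (l (u ^ k) : ℂ) ≠ 1 := fun f => x1 (by
        have : ζ' ^ k = 1 := by rw [← lu, ← map_zpow]; exact Units.ext f
        rw [← orderOf_dvd_iff_zpow_eq_one, oζ, ← ou, orderOf_dvd_iff_zpow_eq_one] at this
        exact this)
      have l2 : (l (u ^ k) : ℂ) ^ e = 1 := by
        rw [← Units.val_pow_eq_pow_val, ← map_pow, ← c, pow_card_eq_one', map_one, Units.val_one]
      simp only at l1 ⊢
      rw [geom_sum_eq l1, l2]; simp) u
  simp only [Fintype.prod_prod_type, MonoidHom.pow_apply, Units.val_pow_eq_pow_val, lu, prod_const, card_univ, Fintype.card_fin,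
    prod_pow_eq_pow_sum, ← pow_mul] at this
  have k := (hζ.pow_eq_one_iff_dvd _).1 this
  rw [Fintype.sum_prod_type, sum_congr rfl fun _ _ => Fin.sum_univ_eq_sum_range (fun i => i) e, sum_const, card_univ,
    Fintype.card_fin, smul_eq_mul, mul_comm] at k
  have k2 := sum_range_id_mul_two e
  obtain ⟨f, rfl⟩ := he
  obtain ⟨y, hy⟩ := k
  have k3 : (f + f - 1) * t = 2 * y := by
    refine Nat.eq_of_mul_eq_mul_left e0 ?_
    rw [← mul_assoc, ← k2]; nlinarith
  have : Odd ((f + f - 1) * t) := Odd.mul ⟨f - 1, by omega⟩ ht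
  rw [k3] at this
  exact (Nat.not_odd_iff_even.2 (even_two_mul y)) this

/-- the exceptional vertex -/
theorem exists_exc : ∃ w ∈ V, w ≠ triv G ∧ T w = t := by
  by_cases t1 : t = 1
  · obtain ⟨w, a, b⟩ := h.exists_minus
    exact ⟨w, a, h.ne_triv b, by rcases h.hT w a with c | c <;> omega⟩
  by_contra! a
  have k : ∀ v ∈ V, T v = 1 := fun v b => by
    by_cases c : v = triv G
    · exact c ▸ h.triv_sign.2
    · exact (h.hT v b).resolve_right (a v b c)
  have b := h.norm
  have c := h.sum_fib (R := ℕ) fun _ => 1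
  rw [sum_congr (s₁ := V) rfl fun v b => by rw [k v b], sum_const, sum_const, h.cV] at c
  have d : (#(nz P) : ℝ) = p - 1 := by rw [← h.card, ← card_nz]; simp
  rw [sum_congr rfl (g := fun _ => (p - 1 : ℝ)) fun φ a => by
    rw [sum_congr rfl (g := fun _ => (1 : ℝ)) fun y b => by
      rw [h.val φ a (k _ (h.rV φ a)) y (mem_nz.1 b).1 (mem_nz.1 b).2]
      rcases h.sg _ (h.rV φ a) with s | s <;> simp [s], sum_const, nsmul_eq_mul, mul_one, d], sum_const, nsmul_eq_mul] at b
  simp only [smul_eq_mul, mul_one, Nat.cast_id] at c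
  rw [c] at b
  have p1 : (1 : ℝ) < p := by exact_mod_cast hp.out.one_lt
  have : (p : ℝ) ≤ (e + 1 : ℕ) := le_of_mul_le_mul_right b (by linarith)
  have : p ≤ e + 1 := by exact_mod_cast this
  have := h.et; have := h.et_pos
  have : 2 ≤ t := by omega
  nlinarith

theorem sum_sq_le : ∑ v ∈ V, T v * charDegree v.1 ^ 2 ≤ Nat.card G := by
  have := h.sum_fib fun v => charDegree v.1 ^ 2
  simp only [Nat.cast_id] at this
  rw [← this, ← sum_deg_sq, sum_congr rfl fun φ a => by rw [← h.deg a]]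
  exact sum_le_sum_of_subset (subset_univ _)

/-- the block intersection lemma of Brauer and Tuan -/
theorem bt [IsSimpleGroup G] (hG : ¬ IsMulCommutative G) {q b : ℕ} (hq : q.Prime) (hb : q ^ b ∣ Nat.card G)
    (hpq : ∀ g : G, p ∣ orderOf g → ¬ q ∣ orderOf g) : ∃ k : IrrCharacter G → ℕ, k (triv G) = 1 ∧ (∀ v ∈ V, k v ≤ T v) ∧
      (∀ v ∈ V, v ≠ triv G → (∃ i, charDegree v.1 = q ^ i) → k v = 0) ∧
      ((q ^ b : ℕ) : ℤ) ∣ ∑ v ∈ V, k v * (σ v * (t / T v : ℕ) * charDegree v.1) := by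
  rcases b with _ | b
  · exact ⟨fun v => if v = triv G then 1 else 0, by simp, fun v a => by
      dsimp only
      split_ifs
      · exact (h.T_pos a).1
      · exact Nat.zero_le _, fun v _ a _ => if_neg a, by simp⟩
  obtain ⟨M, hM⟩ := exists_isPModular hq
  have := Fact.mk hq
  let B' := B.filter (· ∈ principalBlock M G)
  let co : IrrCharacter G → ℤ := fun v => σ v * (t / T v : ℕ)
  let Θ : G → ℂ := ∑ φ ∈ B, (co (r φ) : ℂ) • φ.1
  have Θ0 : H4.reg q Θ = Θ := funext fun g => by
    by_cases a : q ∣ orderOf g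
    · have b : ¬ p ∣ orderOf g := fun b => hpq g b a
      rw [reg_of_dvd _ a, show Θ g = _ from Finset.sum_apply _ _ _, sum_congr rfl fun φ c => by rw [Pi.smul_apply, smul_eq_mul, h.reg φ c g b],
        h.sum_fib fun v => (co v : ℂ) * v.1 g, sum_congr rfl (g := fun v => t * (σ v * v.1 g)) fun v c => by
          have := Nat.mul_div_cancel' (h.T_pos c).2.2
          simp only [co]
          generalize t / T v = u at *
          rw [← this]; push_cast; ring, ← mul_sum, h.rel g b, mul_zero]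
    · exact reg_of_not_dvd _ a
  have Θ1 : blockPart (principalBlock M G) Θ = ∑ φ ∈ B', co (r φ) • φ.1 := by
    rw [blockPart_sum, sum_filter]
    refine sum_congr rfl fun φ _ => ?_
    rw [blockPart_smul]
    split_ifs with a
    · rw [blockPart_irr_of_mem a, Int.cast_smul_eq_zsmul]
    · rw [blockPart_irr_of_notMem a, smul_zero]
  have Θ2 := blockPart_reg hM isPBlock_principal Θ
  rw [Θ0, Θ1] at Θ2
  obtain ⟨K, hK⟩ := Sylow.exists_subgroup_card_pow_prime q hb
  obtain ⟨m, hm⟩ := card_dvd_of_vanish (gen_restrict (gen_sum B' (fun φ => co (r φ) • φ.1) fun φ _ =>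
    gen_zsmul (char_gen (irr_char φ.2)) _) K) fun x x1 => by
      obtain ⟨i, -, hi⟩ := (Nat.dvd_prime_pow hq).1 (hK ▸ orderOf_dvd_natCard x)
      show _ = _
      rw [Θ2]
      exact reg_of_dvd _ (by
        rw [Subgroup.orderOf_coe, hi]
        exact dvd_pow_self _ fun e => x1 (orderOf_eq_one_iff.1 (by simpa [e] using hi)))
  refine ⟨fun v => #{φ ∈ B' | r φ = v}, card_eq_one.2 ⟨triv G, Finset.ext fun φ => ?_⟩, fun v a => ?_, fun v a c ⟨i, d⟩ => ?_, m, ?_⟩
  · simp only [B', mem_filter, mem_singleton]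
    exact ⟨fun a => h.eq_triv a.1.1 a.2, fun a => a.symm ▸ ⟨⟨h.sub h.one, triv_mem_principal hM⟩, h.rr _ h.one⟩⟩
  · rw [← h.fib v a]; exact card_le_card (filter_subset_filter _ (filter_subset _ _))
  · refine card_eq_zero.2 (filter_eq_empty_iff.2 fun φ f g => ?_)
    have f' := mem_filter.1 f
    exact not_pow_deg hG hM ((dvd_pow_self q b.succ_ne_zero).trans hb) f'.2
      (fun e => c (by rw [← g, e, h.rr _ h.one])) i (by rw [h.deg f'.1, g, d])
  · rw [hK, OneMemClass.coe_one, Finset.sum_apply, ← sum_fiberwise_of_maps_to fun φ a => h.rV φ (mem_filter.1 a).1,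
      sum_congr rfl (g := fun v => ((#{φ ∈ B' | r φ = v} * (σ v * (t / T v : ℕ) * charDegree v.1) : ℤ) : ℂ)) fun v _ => by
        rw [sum_congr rfl (g := fun _ => (co v * charDegree v.1 : ℂ)) fun φ a => by
          have a' := mem_filter.1 a
          rw [Pi.smul_apply, ideg, h.deg (mem_filter.1 a'.1).1, a'.2, zsmul_eq_mul], sum_const]
        simp [co, B']] at hm
    exact_mod_cast hm

end BD

end H3
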