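import Cfsg.Agent.H3.Ord2
import Cfsg.Agent.H3.Ord

/-!
H3.Ord3: a computable test (`ochk`) for the order of a simple group with a Sylow subgroup of prime order.
-/

set_option autoImplicit false
open Cfsg Subgroup Finset
open scoped Classical

namespace H3
open H4

theorem ord_perfect {G : Type*} [Group G] [IsSimpleGroup G] (h : ¬ IsMulCommutative G) : commutator G = ⊤ :=
  (Normal.eq_bot_or_eq_top inferInstance).resolve_left fun e => h ⟨⟨fun _ _ =>
    commutatorElement_eq_one_iff_mul_comm.1 (mem_bot.1 (e ▸ commutator_mem_commutator (mem_top _) (mem_top _)))⟩⟩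

def osrch (L : List (ℤ × ℕ × ℤ)) (n : ℕ) (Q : ℤ) : ℕ → ℤ → ℕ → ℤ → Bool
  | 0, s, a, r => s == 0 && Nat.ble a n && r % Q == 0
  | j + 1, s, a, r => Nat.ble a n && L.any fun x => osrch L n Q j (s + x.1) (a + x.2.1) (r + x.2.2)

theorem osrch_of {ι : Type*} (L : List (ℤ × ℕ × ℤ)) (n : ℕ) (Q : ℤ) (f : ι → ℤ × ℕ × ℤ) (W : Finset ι) :
    ∀ (s : ℤ) (a : ℕ) (r : ℤ), (∀ v ∈ W, f v ∈ L) → s + ∑ v ∈ W, (f v).1 = 0 → a + ∑ v ∈ W, (f v).2.1 ≤ n →
      Q ∣ r + ∑ v ∈ W, (f v).2.2 → osrch L n Q #W s a r = true := by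
  induction W using Finset.induction_on with
  | empty => intro s a r _ h1 h2 h3; simp_all [osrch, Nat.ble_eq, Int.emod_eq_zero_of_dvd]
  | insert v W hv ih =>
    intro s a r h0 h1 h2 h3
    rw [sum_insert hv, ← add_assoc] at h1 h2 h3
    rw [card_insert_of_notMem hv, osrch, Bool.and_eq_true, Nat.ble_eq, List.any_eq_true]
    exact ⟨by omega, f v, h0 v (mem_insert_self _ _), ih _ _ _ (fun w a => h0 w (mem_insert_of_mem a)) h1 h2 h3⟩

def opow (q d : ℕ) : Bool := (List.range 14).any fun i => d == q ^ i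

def oopt (t T q : ℕ) (Q : ℤ) (σ : ℤ) (d : ℕ) : List (ℤ × ℕ × ℤ) :=
  (List.range (if Q == 1 || opow q d then 1 else T + 1)).map fun k : ℕ => (σ * d, T * d ^ 2, k * (σ * (t / T : ℕ) * d))

def ocand (p e t T D lo q : ℕ) (Q : ℤ) (s : ℕ) (ok : ℕ → Bool) : List (ℤ × ℕ × ℤ) :=
  (List.range s).flatMap fun d =>
    if D % d == 0 && Nat.ble lo d && ok d && !(T == 1 && e % 2 == 0 && t % 2 == 1 && d + 1 == p) then
      if T * d % p == 1 then oopt t T q Q 1 d else if (T * d + 1) % p == 0 then oopt t T q Q (-1) d else []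
    else []

def ofeas (n p m e c q b s : ℕ) (ok : ℕ → Bool) : Bool :=
  (ocand p e ((p - 1) / e) ((p - 1) / e) (e * m) (if c == 1 then 2 else 2 * p) q (if c % q == 0 then 1 else (q ^ b : ℕ)) s ok).any
    fun x => osrch (ocand p e ((p - 1) / e) 1 (e * m) (if c == 1 then 2 else 2 * p) q (if c % q == 0 then 1 else (q ^ b : ℕ)) s ok) n
      (if c % q == 0 then 1 else (q ^ b : ℕ)) (e - 1) (1 + x.1) (1 + x.2.1) (((p - 1) / e : ℕ) + x.2.2)

def ofac (p m : ℕ) : Bool :=
  (List.range (m / p + 1)).any fun u => Nat.ble 1 u && (p - 1) * m % (1 + u * p) == 0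

/-- the test: `F m e c` is run on all admissible triples -/
def ochk (n p : ℕ) (three : Bool) (F : ℕ → ℕ → ℕ → Bool) : Bool :=
  (List.range (n / p / p + 1)).any fun u => n / p % (1 + u * p) == 0 && ofac p (1 + u * p) &&
    (List.range p).any fun e => Nat.ble 2 e && (p - 1) % e == 0 && n / p / (1 + u * p) % e == 0 &&
      (n / p / (1 + u * p) / e == 1 || !three) && F (1 + u * p) e (n / p / (1 + u * p) / e)

theorem ofac_of {p m : ℕ} (hp : 1 < p) (h : Fac p m) : ofac p m = true := by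
  obtain ⟨a, b, h1, h2, h3, h4⟩ := h
  obtain ⟨u, rfl⟩ := exists_eq_one_add h2
  simp only [ofac, List.any_eq_true, List.mem_range, Bool.and_eq_true, Nat.ble_eq, beq_iff_eq]
  refine ⟨u, Nat.lt_succ_of_le ((Nat.le_div_iff_mul_le (by omega)).2 ?_), Nat.pos_of_ne_zero (by rintro rfl; simp at h3),
    by rw [h1, Nat.mul_mod_right]⟩
  have := Nat.mul_le_mul_left (1 + u * p) h4
  obtain ⟨p, rfl⟩ := Nat.exists_eq_succ_of_ne_zero (show p ≠ 0 by omega)
  rw [← h1] at this
  simp only [Nat.succ_eq_add_one, add_tsub_cancel_right] at *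
  by_contra! a
  nlinarith

variable {G : Type*} [Group G] [Fintype G] {p : ℕ} {P : Subgroup G}
variable {e t : ℕ} {B V : Finset (IrrCharacter G)} {r : IrrCharacter G → IrrCharacter G} {σ : IrrCharacter G → ℤ}
  {T : IrrCharacter G → ℕ} {v w φ : IrrCharacter G}

namespace BD
variable [hp : Fact p.Prime] (h : BD p P e t B V r σ T)
include h

theorem ord_dvd {g : G} (hg : p ∣ orderOf g) : orderOf g ∣ Nat.card (CS P) := by
  obtain ⟨x, -, a⟩ := h.syl.exists_le_cj (isPGroup_zpowers hp.out (isPElt_pp hp.out g)) le_top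
  have b := H9.mem_cj.1 (a (mem_zpowers _))
  have c : x⁻¹ * g * x ∈ CS P := (C1_eq_prime h.card b fun e => (pp_eq_one_iff hp.out).1 (H1.conj_eq_one_iff'.1 e) hg).le
    (mem_centralizer_singleton_iff.2 (by simp [mul_assoc, ← (commute_pp (p := p) g).left_comm]))
  have := Subgroup.orderOf_dvd_natCard _ c
  rwa [show x⁻¹ * g * x = x⁻¹ * g * x⁻¹⁻¹ by rw [inv_inv], orderOf_conj] at this

theorem ofeas_of [IsSimpleGroup G] (hG : ¬ IsMulCommutative G) {c q b s : ℕ} {ok : ℕ → Bool} (hc : Nat.card (CS P) = p * c)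
    (hq : q.Prime) (hpq : q ≠ p) (hb : q ^ b ∣ Nat.card G) (hs : Nat.card G < s * s)
    (hok : ∀ v ∈ V, v ≠ triv G → ok (charDegree v.1) = true) : ofeas (Nat.card G) p (NS P).index e c q b s ok = true := by
  have pf := ord_perfect hG
  have ht : (p - 1) / e = t := by rw [← h.et, add_tsub_cancel_right, Nat.mul_div_cancel_left _ h.et_pos.1]
  obtain ⟨w, w1, w2, w3⟩ := h.exists_exc
  set Q : ℤ := if c % q == 0 then 1 else (q ^ b : ℕ) with hQ
  obtain ⟨k, k1, k2, k3, k4⟩ : ∃ k : IrrCharacter G → ℕ, (∀ v ∈ V, k v ≤ T v) ∧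
      (∀ v ∈ V, v ≠ triv G → (∃ i, charDegree v.1 = q ^ i) → k v = 0) ∧ (Q = 1 → ∀ v, k v = 0) ∧
      Q ∣ t + ∑ v ∈ V.erase (triv G), k v * (σ v * (t / T v : ℕ) * charDegree v.1) := by
    by_cases a : Q = 1
    · exact ⟨0, by simp, by simp, by simp, by simp [a]⟩
    have a' : ¬ q ∣ c := fun e => a (by simp [hQ, Nat.mod_eq_zero_of_dvd e])
    obtain ⟨k, k0, k1, k2, k3⟩ := h.bt hG hq hb fun g a b => by
      have := b.trans (hc ▸ h.ord_dvd a)
      exact ((hq.dvd_mul).1 this).elim (fun e => hpq ((Nat.prime_dvd_prime_iff_eq hq hp.out).1 e)) a'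
    refine ⟨k, k1, k2, fun e => (a e).elim, ?_⟩
    rw [← add_sum_erase _ _ h.one, k0, h.triv_sign.1, h.triv_sign.2, deg_triv] at k3
    rw [hQ, if_neg (by simpa [← Nat.dvd_iff_mod_eq_zero] using a')]
    simpa using k3
  let f : IrrCharacter G → ℤ × ℕ × ℤ := fun v =>
    (σ v * charDegree v.1, T v * charDegree v.1 ^ 2, k v * (σ v * (t / T v : ℕ) * charDegree v.1))
  have sq := h.sum_sq_le
  have m : ∀ v ∈ V, v ≠ triv G → f v ∈ ocand p e t (T v) (e * (NS P).index) (if c == 1 then 2 else 2 * p) q Q s ok := fun v a b => by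
    have o : f v ∈ oopt t (T v) q Q (σ v) (charDegree v.1) := List.mem_map.2 ⟨k v, by
      rw [List.mem_range]
      split_ifs with i
      · rcases Bool.or_eq_true_iff.1 i with i | i
        · rw [k3 (beq_iff_eq.1 i)]; exact one_pos
        · obtain ⟨j, -, i⟩ := List.any_eq_true.1 i
          rw [k2 v a b ⟨j, beq_iff_eq.1 i⟩]; exact one_pos
      · exact Nat.lt_succ_of_le (k1 v a), rfl⟩
    refine List.mem_flatMap.2 ⟨charDegree v.1, List.mem_range.2 ?_, ?_⟩
    · have := (single_le_sum (f := fun v => T v * charDegree v.1 ^ 2) (fun _ _ => Nat.zero_le _) a).trans sq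
      have := (h.T_pos a).1
      by_contra! i
      nlinarith [Nat.mul_le_mul i i]
    rw [if_pos]
    · rcases h.sg v a with i | i
      · rw [if_pos (beq_iff_eq.2 ((h.mod a).1 i)), ← i]; exact o
      · have j := (h.mod a).2 i
        by_cases l : T v * charDegree v.1 % p = 1
        · have p2 : p = 2 := by
            have : p ∣ 2 := by
              have := (Nat.dvd_iff_mod_eq_zero).1 j
              rw [Nat.add_mod, l, Nat.mod_eq_of_lt hp.out.one_lt] at this
              exact Nat.dvd_of_mod_eq_zero this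
            exact (Nat.prime_dvd_prime_iff_eq hp.out Nat.prime_two).1 this
          have := h.two_le_e pf; have := h.et; have := h.et_pos.2
          nlinarith
        · rw [if_neg (by simpa using l), if_pos (beq_iff_eq.2 (Nat.mod_eq_zero_of_dvd j)), ← i]; exact o
    · have d := h.dvd v a
      rw [← relIndex_mul_index (CS_le_NS P), h.he] at d
      simp only [Bool.and_eq_true, beq_iff_eq, Nat.ble_eq, Bool.not_eq_true', Bool.and_eq_false_iff, beq_eq_false_iff_ne]
      refine ⟨⟨⟨Nat.mod_eq_zero_of_dvd d, ?_⟩, hok v a b⟩, ?_⟩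
      · split_ifs with i
        · exact lt_of_le_of_ne (deg_pos v.2) fun a => b (eq_triv_of_perfect pf a.symm)
        · exact h.two_p_le pf (fun e => i (by
            rw [e, h.card] at hc; exact (Nat.eq_of_mul_eq_mul_left hp.out.pos (hc.symm.trans (mul_one _).symm)))) (h.sub a) b
      · by_contra! i
        exact h.ne_pred pf a b i.1.1.1 (Nat.even_iff.2 i.1.1.2) (Nat.odd_iff.2 i.1.2) i.2
  have w4 : w ∈ V.erase (triv G) := mem_erase.2 ⟨w2, w1⟩
  have r1 := h.rel_one
  rw [← add_sum_erase _ _ h.one, h.triv_sign.1, deg_triv, ← add_sum_erase _ _ w4] at r1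
  rw [← add_sum_erase _ _ h.one, h.triv_sign.2, deg_triv, ← add_sum_erase _ _ w4] at sq
  rw [← add_sum_erase _ _ w4] at k4
  rw [ofeas, ht, ← hQ, List.any_eq_true]
  refine ⟨f w, w3 ▸ m w w1 w2, ?_⟩
  have := osrch_of (ocand p e t 1 (e * (NS P).index) (if c == 1 then 2 else 2 * p) q Q s ok) (Nat.card G) Q f
    ((V.erase (triv G)).erase w) (1 + (f w).1) (1 + (f w).2.1) (t + (f w).2.2) (fun v a => by
      have a1 := mem_erase.1 a
      have a2 := mem_erase.1 a1.2
      have : T v = 1 := by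
        by_contra i
        have := (h.hT v a2.2).resolve_left i
        exact a1.1 (h.uT v a2.2 w w1 i (by omega))
      exact this ▸ m v a2.2 a2.1) (by simpa [add_assoc] using r1) (by simpa [add_assoc] using sq) (by rwa [add_assoc])
  rwa [card_erase_of_mem w4, card_erase_of_mem h.one, h.cV, add_tsub_cancel_right] at this

end BD

theorem fac_of_simple [hp : Fact p.Prime] [IsSimpleGroup G] (hG : ¬ IsMulCommutative G) (P : Sylow p G) (hP : Nat.card P = p)
    (h3 : p ^ 3 ≤ Nat.card G) : Fac p (Nat.card (Sylow p G)) := by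
  by_contra a
  obtain ⟨-, b, c⟩ := brauer_reynolds (ord_perfect hG) P hP a
  have : pPrimeCore p G = ⊥ := (Subgroup.Normal.eq_bot_or_eq_top inferInstance).resolve_right fun e => by
    have := H9.pPrimeCore_cop (G := G) p
    rw [e, card_top] at this
    exact hp.out.ne_one (this.symm.eq_one_of_dvd (hP ▸ card_subgroup_dvd_card (P : Subgroup G)))
  have E := (QuotientGroup.quotientBot.symm.trans (QuotientGroup.quotientMulEquivOfEq this.symm) : G ≃* _)
  obtain ⟨p, rfl⟩ := Nat.exists_eq_add_of_lt b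
  rcases c with ⟨⟨f⟩⟩ | ⟨m, F, _, _, c, d, ⟨f⟩⟩
  · have := ord_card_psl ⟨E.trans f⟩
    rw [ZMod.card] at this
    have k := Nat.le_mul_of_pos_left (Nat.card G) (Nat.gcd_pos_of_pos_left (3 + p + 1 - 1) two_pos)
    rw [this, add_tsub_cancel_right] at k
    nlinarith
  · have := (Nat.card_congr (E.trans f).toEquiv).trans H5.card_SL2
    rw [show Fintype.card F = 3 + p by omega, show 3 + p - 1 = 2 + p by omega] at this
    nlinarith

theorem ochk_of [hp : Fact p.Prime] [IsSimpleGroup G] (hG : ¬ IsMulCommutative G) (P : Sylow p G) (hP : Nat.card P = p)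
    (h3 : p ^ 3 ≤ Nat.card G) {three : Bool} (ht : three = true → CS (P : Subgroup G) = P) {F : ℕ → ℕ → ℕ → Bool}
    (hF : ∀ e t B V r σ T c, BD p (P : Subgroup G) e t B V r σ T → Nat.card (CS (P : Subgroup G)) = p * c →
      F (NS (P : Subgroup G)).index e c = true) : ochk (Nat.card G) p three F = true := by
  obtain ⟨e, t, B, V, r, σ, T, h⟩ := exists_bd P hP
  obtain ⟨c, hc⟩ : p ∣ Nat.card (CS (P : Subgroup G)) := (dvd_of_eq hP.symm).trans (card_dvd_of_le (le_CS_prime hP))
  obtain ⟨u, hu⟩ := exists_eq_one_add (card_sylow_mod (p := p) G)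
  have a := fac_of_simple hG P hP h3
  have b := hF _ _ _ _ _ _ _ c h hc
  have e2 := h.two_le_e (ord_perfect hG)
  have n : Nat.card G = p * ((1 + u * p) * (e * c)) := by
    rw [← card_mul_index (NS (P : Subgroup G)), ← H1.card_mul_relIndex (CS_le_NS _), h.he, hc, ← card_sylow_eq, hu]; ring
  have c0 : 0 < c := Nat.pos_of_ne_zero fun e => Nat.card_pos.ne' (by rw [hc, e, mul_zero])
  rw [← card_sylow_eq, hu] at b
  rw [hu] at a
  have u0 : 0 < 1 + u * p := by omega
  have := h.et; have := h.et_pos.2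
  simp only [ochk, n, Nat.mul_div_cancel_left _ hp.out.pos, List.any_eq_true, List.mem_range, Bool.and_eq_true, beq_iff_eq,
    Nat.ble_eq, Bool.or_eq_true, Bool.not_eq_true']
  refine ⟨u, Nat.lt_succ_of_le ((Nat.le_div_iff_mul_le hp.out.pos).2 ?_), ⟨Nat.mul_mod_right _ _, ofac_of hp.out.one_lt a⟩, e,
    by nlinarith, ?_⟩
  · nlinarith [Nat.mul_pos (show 0 < e by omega) c0]
  rw [Nat.mul_div_cancel_left _ u0, Nat.mul_div_cancel_left _ (show 0 < e by omega)]
  refine ⟨⟨⟨⟨e2, ?_⟩, Nat.mul_mod_right _ _⟩, ?_⟩, b⟩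
  · rw [← h.et, add_tsub_cancel_right, Nat.mul_mod_right]
  · cases three
    · exact Or.inr rfl
    · rw [ht rfl, hP] at hc
      exact Or.inl (Nat.eq_of_mul_eq_mul_left hp.out.pos (hc.symm.trans (mul_one _).symm))

theorem card_sylow_of {G : Type*} [Group G] [Finite G] [hp : Fact p.Prime] (P : Sylow p G) {n k : ℕ} (h : Nat.card G = n)
    (h1 : p ^ k ∣ n) (h2 : ¬ p ^ (k + 1) ∣ n) : Nat.card P = p ^ k := by
  have n0 : n ≠ 0 := h ▸ Nat.card_pos.ne'
  rw [P.card_eq_multiplicity, h, le_antisymm (Nat.lt_succ_iff.1 (not_le.1 fun a => h2 ((hp.out.pow_dvd_iff_le_factorization n0).2 a)))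
    ((hp.out.pow_dvd_iff_le_factorization n0).1 h1)]

def othree (n p q : ℕ) : Bool := (List.range 14).any fun a => (List.range 9).any fun b => n == 2 ^ a * q ^ b * p

/-- the order test with the primes `p` (Sylow of order `p`), `q` (block intersection), `q'` (third prime) -/
def okill (n p q b q' s : ℕ) : Bool :=
  n % p == 0 && n % p ^ 2 != 0 && Nat.ble (p ^ 3) n && n % q ^ b == 0 && Nat.blt n (s * s) && p != 2 && p != q && p != q' &&
    !ochk n p (othree n p q') fun m e c => ofeas n p m e c q b s fun _ => true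

theorem not_okill {G : Type*} [Group G] [Finite G] [IsSimpleGroup G] (hG : ¬ (Nat.card G).Prime) {q q' : ℕ} (hp : p.Prime)
    (hq : q.Prime) (hq' : q'.Prime) (b s : ℕ) : okill (Nat.card G) p q b q' s = false := by
  by_contra! a
  have := Fact.mk hp
  have := Fintype.ofFinite G
  simp only [ne_eq, Bool.not_eq_false, okill, Bool.and_eq_true, beq_iff_eq, bne_iff_ne, Nat.ble_eq, Nat.blt_eq, Bool.not_eq_true'] at a
  obtain ⟨⟨⟨⟨⟨⟨⟨⟨a1, a2⟩, a3⟩, a4⟩, a5⟩, a6⟩, a7⟩, a8⟩, a9⟩ := a
  obtain ⟨P⟩ : Nonempty (Sylow p G) := inferInstance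
  have hP : Nat.card P = p := (card_sylow_of P rfl (k := 1) (by simpa using Nat.dvd_of_mod_eq_zero a1)
    fun e => a2 (Nat.mod_eq_zero_of_dvd e)).trans (pow_one p)
  have nc : ¬ IsMulCommutative G := fun e => hG (H1.prime_card_of_comm e.1.1)
  rw [ochk_of nc P hP a3 (fun e => ?_) fun e t B V r σ T c h hc =>
    h.ofeas_of nc hc hq (Ne.symm a7) (Nat.dvd_of_mod_eq_zero a4) a5 fun _ _ _ => rfl] at a9
  · exact absurd a9 (by simp)
  · simp only [othree, List.any_eq_true, beq_iff_eq] at e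
    obtain ⟨i, -, j, -, e⟩ := e
    exact cen_eq_of_card Nat.prime_two hq' (Ne.symm a6) (Ne.symm a8) e hP

theorem ne_of_okill {G : Type*} [Group G] [Finite G] [IsSimpleGroup G] {n : ℕ} (p q b q' s : ℕ) (hn : ¬ n.Prime) (hp : p.Prime)
    (hq : q.Prime) (hq' : q'.Prime) (h : okill n p q b q' s = true) : Nat.card G ≠ n := fun e => by
  subst e
  rw [not_okill hn hp hq hq'] at h
  exact absurd h (by simp)

end H3
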