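import Cfsg.Agent.H3.Ord3

/-!
H3.Ord5: the exceptional vertex of small degree (Brauer–Tuan).
-/

set_option autoImplicit false
open Cfsg Subgroup Finset
open scoped Classical ComplexConjugate

namespace H3
open H4

variable {G : Type*} [Group G] [Fintype G] {p : ℕ} {P : Subgroup G}
variable {e t : ℕ} {B V : Finset (IrrCharacter G)} {r : IrrCharacter G → IrrCharacter G} {σ : IrrCharacter G → ℤ}
  {T : IrrCharacter G → ℕ} {v w φ : IrrCharacter G}

theorem inner_fsum_irr (S : Finset (IrrCharacter G)) (a : IrrCharacter G → ℂ) (w : IrrCharacter G) :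
    classInner (∑ φ ∈ S, a φ • φ.1) w.1 = if w ∈ S then a w else 0 := by
  rw [inner_sum_left, ← sum_ite_eq' S w a]
  exact sum_congr rfl fun φ _ => by
    rw [H3.inner_smul_left, irr_inner φ.2 w.2]
    by_cases e : φ = w
    · simp [e]
    · rw [if_neg e, if_neg fun f => e (Subtype.ext f), mul_zero]

namespace BD
variable [hp : Fact p.Prime] (h : BD p P e t B V r σ T)
include h

theorem T_one (hw : w ∈ V) (hT : T w ≠ 1) (hv : v ∈ V) (h1 : v ≠ w) : T v = 1 :=
  by_contra fun a => h1 (h.uT v hv w hw a hT)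

theorem sum_split (hw : w ∈ V) (hT : T w ≠ 1) (f : IrrCharacter G → ℂ) {y : G} (hy : y ∈ P) (h1 : y ≠ 1) :
    ∑ φ ∈ B, f (r φ) * φ.1 y = f w * ∑ φ ∈ B with r φ = w, φ.1 y + ∑ v ∈ V.erase w, f v * σ v := by
  rw [← sum_fiberwise_of_maps_to h.rV, ← add_sum_erase _ _ hw, mul_sum]
  congr 1
  · exact sum_congr rfl fun φ a => by rw [(mem_filter.1 a).2]
  · refine sum_congr rfl fun v a => ?_
    have b := h.T_one hw hT (mem_erase.1 a).2 (mem_erase.1 a).1
    rw [sum_congr rfl (g := fun _ => f v * σ v) fun φ c => by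
      have c' := mem_filter.1 c
      rw [h.val φ c'.1 (by rw [c'.2, b]) y hy h1, c'.2], sum_const, h.fib v (mem_erase.1 a).2, b, one_smul]

theorem sum_exc (hC : CS P = P) (hw : w ∈ V) (hT : T w ≠ 1) {y : G} (hy : y ∈ P) (h1 : y ≠ 1) :
    ∑ φ ∈ B with r φ = w, φ.1 y = σ w := by
  have a := sum_degree_mul h1
  rw [← sum_subset (subset_univ B) fun φ _ b => by rw [h.vanish hC b hy h1, mul_zero],
    sum_congr rfl fun φ b => by rw [h.reg φ b 1 (not_dvd_orderOf_one hp.out)], h.sum_split hw hT (fun v => v.1 1) hy h1] at a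
  have b := h.rel 1 (not_dvd_orderOf_one hp.out)
  rw [← add_sum_erase _ _ hw, sum_congr rfl fun v _ => mul_comm _ _] at b
  exact mul_left_cancel₀ (irr_one_ne_zero w.2) (by linear_combination a - b)

theorem bound_q [IsSimpleGroup G] (hG : ¬ IsMulCommutative G) (hC : CS P = P) (hw : w ∈ V) (hT : T w ≠ 1) {q b i : ℕ} (hq : q.Prime)
    (hqp : q ≠ p) (hb : b ≠ 0) (hn : Nat.card G = p * q ^ b * charDegree w.1) (hv : v ∈ V) (v1 : v ≠ triv G) (v2 : v ≠ w)
    (hd : charDegree v.1 = q ^ i) : q ^ b ≤ p * charDegree w.1 := by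
  obtain ⟨M, hM⟩ := exists_isPModular hq
  have tw := (h.hT w hw).resolve_left hT
  have t0 := h.et_pos.2
  have z0 := deg_pos w.2
  have cj : ∀ g, p ∣ orderOf g → ∃ y ∈ P, y ≠ 1 ∧ IsConj y g := fun g a =>
    let ⟨x, b⟩ := h.conj_mem hC a
    ⟨_, b, fun e => not_dvd_orderOf_one hp.out (by rwa [H1.conj_eq_one_iff'.1 e] at a), isConj_iff.2 ⟨x, by group⟩⟩
  have hpq : ∀ g : G, p ∣ orderOf g → ¬ q ∣ orderOf g := fun g a b => by
    have := b.trans (h.ord_dvd a)
    rw [hC, h.card] at this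
    exact hqp ((Nat.prime_dvd_prime_iff_eq hq hp.out).1 this)
  have sb : ∀ φ ∈ B, r φ = w → SameBlock M φ.1 w.1 := fun φ a c => (sameBlock_iff hM φ.2 w.2).2 fun g => by
    by_cases d : p ∣ orderOf g
    · obtain ⟨y, y1, y2, y3⟩ := cj g d
      have k : (C1 g).index = q ^ b * charDegree w.1 := by
        have := card_mul_index (C1 g)
        rw [← card_C1_isConj y3, C1_eq_prime h.card y1 y2, hC, h.card, hn, mul_assoc] at this
        exact Nat.eq_of_mul_eq_mul_left hp.out.pos this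
      have l : ∀ ψ : IrrCharacter G, charDegree ψ.1 = charDegree w.1 → H4.red M (centralChar ψ.1 g) = 0 := fun ψ e => by
        rw [centralChar, k, ideg, e, show ((q ^ b * charDegree w.1 : ℕ) : ℂ) * ψ.1 g / (charDegree w.1 : ℕ) = (q ^ b : ℕ) * ψ.1 g by
          have : (charDegree w.1 : ℂ) ≠ 0 := Nat.cast_ne_zero.2 z0.ne'
          push_cast; field_simp, red_mul (natCast_mem _ _) (char_mem_O (irr_char ψ.2) g), red_natCast,
          (natCast_eq_zero_iff hM _).2 (dvd_pow_self q hb), zero_mul]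
      rw [l φ (c ▸ h.deg a), l w rfl]
    · rw [centralChar, centralChar, h.reg φ a g d, h.reg φ a 1 (not_dvd_orderOf_one hp.out), c]
  let B0 := principalBlock M G
  let co : IrrCharacter G → ℤ := fun v => σ v * (t / T v : ℕ)
  let Θ : G → ℂ := ∑ φ ∈ B, (co (r φ) : ℂ) • φ.1
  have cl : ∀ (S : Finset (IrrCharacter G)) (a : IrrCharacter G → ℂ) (y g : G), IsConj y g →
      (∑ φ ∈ S, a φ • φ.1) g = (∑ φ ∈ S, a φ • φ.1) y := fun S a y g c => by
    obtain ⟨x, rfl⟩ := isConj_iff.1 c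
    simp only [Finset.sum_apply, Pi.smul_apply, irr_class (Subtype.property _) y x]
  have Θr : ∀ g, ¬ p ∣ orderOf g → Θ g = 0 := fun g b => by
    rw [show Θ g = _ from Finset.sum_apply _ _ _, sum_congr rfl fun φ c => by rw [Pi.smul_apply, smul_eq_mul, h.reg φ c g b],
      h.sum_fib fun v => (co v : ℂ) * v.1 g, sum_congr rfl (g := fun v => t * (σ v * v.1 g)) fun v c => by
        have := Nat.mul_div_cancel' (h.T_pos c).2.2
        simp only [co]
        generalize t / T v = u at *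
        rw [← this]; push_cast; ring, ← mul_sum, h.rel g b, mul_zero]
  have cw : co w = σ w := by simp only [co, tw, Nat.div_self t0, Nat.cast_one, mul_one]
  have s2 : ∀ v ∈ V, (σ v : ℂ) * σ v = 1 := fun v a => by rcases h.sg v a with s | s <;> simp [s]
  have Θy : ∀ y ∈ P, y ≠ 1 → Θ y = p := fun y a b => by
    rw [show Θ y = _ from Finset.sum_apply _ _ _]
    simp only [Pi.smul_apply, smul_eq_mul]
    rw [h.sum_split hw hT (fun v => (co v : ℂ)) a b, h.sum_exc hC hw hT a b, cw, s2 w hw,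
      sum_congr rfl (g := fun _ => (t : ℂ)) fun v c => by
        simp only [co, h.T_one hw hT (mem_erase.1 c).2 (mem_erase.1 c).1, Nat.div_one]
        push_cast; linear_combination t * s2 v (mem_erase.1 c).2, sum_const, card_erase_of_mem hw, h.cV, ← h.et]
    simp [add_comm]
  have Θ0 : H4.reg q Θ = Θ := funext fun g => by
    by_cases a : q ∣ orderOf g
    · rw [reg_of_dvd _ a, Θr g fun b => hpq g b a]
    · exact reg_of_not_dvd _ a
  have Θ1 : blockPart B0 Θ = ∑ φ ∈ B with φ ∈ B0, (co (r φ) : ℂ) • φ.1 := by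
    rw [blockPart_sum, sum_filter]
    refine sum_congr rfl fun φ _ => ?_
    rw [blockPart_smul]
    split_ifs with a
    · rw [blockPart_irr_of_mem a]
    · rw [blockPart_irr_of_notMem a, smul_zero]
  have Θ2 := blockPart_reg hM isPBlock_principal Θ
  rw [Θ0, Θ1] at Θ2
  obtain ⟨F, F1, F2, F3, F4⟩ : ∃ F ⊆ B, F.Nonempty ∧ (∀ φ ∈ F, r φ ≠ w) ∧
      ∀ g, q ∣ orderOf g → (∑ φ ∈ F, (co (r φ) : ℂ) • φ.1) g = 0 := by
    by_cases a : w ∈ B0
    · refine ⟨B.filter (· ∉ B0), filter_subset _ _, ⟨v, mem_filter.2 ⟨h.sub hv, fun c => not_pow_deg hG hM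
        (hn ▸ ((dvd_pow_self q hb).mul_left _).mul_right _) c v1 i hd⟩⟩, fun φ c d => (mem_filter.1 c).2 ?_, fun g c => ?_⟩
      · rw [show B0 = _ from eq_blockOf hM isPBlock_principal a, eq_comm.1 (eq_blockOf hM (isPBlock_blockOf φ.2) (sb φ (mem_filter.1 c).1 d))]
        exact mem_blockOf_self hM φ
      · have := congrFun (sum_filter_add_sum_filter_not B (· ∈ B0) fun φ => (co (r φ) : ℂ) • φ.1) g
        rw [Pi.add_apply, Θ2, reg_of_dvd _ c, zero_add] at this
        exact this.trans (Θr g fun b => hpq g b c)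
    · refine ⟨B.filter (· ∈ B0), filter_subset _ _, ⟨triv G, mem_filter.2 ⟨h.sub h.one, triv_mem_principal hM⟩⟩, fun φ c d => a ?_,
        fun g c => by rw [Θ2, reg_of_dvd _ c]⟩
      rw [show B0 = _ from eq_blockOf hM isPBlock_principal (mem_filter.1 c).2]
      exact sb φ (mem_filter.1 c).1 d
  set Φ := ∑ φ ∈ F, (co (r φ) : ℂ) • φ.1 with hΦ
  have T1 : ∀ φ ∈ F, T (r φ) = 1 := fun φ a => h.T_one hw hT (h.rV φ (F1 a)) (F3 φ a)
  have Φy : ∀ y ∈ P, y ≠ 1 → Φ y = t * #F := fun y a b => by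
    rw [hΦ, Finset.sum_apply, sum_congr rfl (g := fun _ => (t : ℂ)) fun φ c => by
      simp only [Pi.smul_apply, smul_eq_mul, co, T1 φ c, Nat.div_one, h.val φ (F1 c) (T1 φ c) y a b]
      push_cast; linear_combination t * s2 _ (h.rV φ (F1 c)), sum_const, nsmul_eq_mul, mul_comm]
  have key : classInner ((p : ℂ) • Φ - (t * #F : ℂ) • Θ) w.1 = (Nat.card G : ℂ)⁻¹ * (p * Φ 1 * charDegree w.1) := by
    rw [classInner, sum_eq_single 1 (fun g _ g1 => ?_) (by simp)]
    · simp [Θr 1 (not_dvd_orderOf_one hp.out), ideg]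
    simp only [Pi.sub_apply, Pi.smul_apply, smul_eq_mul]
    by_cases a : p ∣ orderOf g
    · obtain ⟨y, y1, y2, y3⟩ := cj g a
      rw [show Φ g = Φ y from cl _ _ y g y3, show Θ g = Θ y from cl _ _ y g y3, Φy y y1 y2, Θy y y1 y2]
      ring
    rw [Θr g a]
    by_cases c : q ∣ orderOf g
    · rw [F4 g c]; simp
    obtain ⟨s, s1, s2⟩ := Nat.exists_prime_and_dvd (mt orderOf_eq_one_iff.1 g1)
    rw [eq_zero_of_nu s1 w.2 ?_ s2]; · simp
    rw [hn, Nat.factorization_mul (mul_pos hp.out.pos (pow_pos hq.pos b)).ne' z0.ne', Finsupp.add_apply,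
      Nat.factorization_eq_zero_of_not_dvd fun f => (s1.dvd_mul.1 f).elim
        (fun f => a ((Nat.prime_dvd_prime_iff_eq s1 hp.out).1 f ▸ s2))
        fun f => c ((Nat.prime_dvd_prime_iff_eq s1 hq).1 (s1.dvd_of_dvd_pow f) ▸ s2), zero_add]
  rw [H3.inner_sub_left, H3.inner_smul_left, H3.inner_smul_left, hΦ, inner_fsum_irr, show classInner Θ w.1 = _ from inner_fsum_irr _ _ _, if_neg fun a => F3 w a (h.rr w hw),
    if_pos (h.sub hw), h.rr w hw, cw, hn, Finset.sum_apply, sum_congr rfl (g := fun φ => t * ((σ (r φ) * charDegree φ.1 : ℤ) : ℂ))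
      fun φ c => by simp only [Pi.smul_apply, smul_eq_mul, co, T1 φ c, Nat.div_one, ideg]; push_cast; ring, ← mul_sum] at key
  have k2 : ((∑ φ ∈ F, σ (r φ) * charDegree φ.1 : ℤ) : ℂ) = (-(#F * σ w * q ^ b) : ℤ) := by
    have : (charDegree w.1 : ℂ) ≠ 0 := Nat.cast_ne_zero.2 z0.ne'
    have : (p : ℂ) ≠ 0 := Nat.cast_ne_zero.2 hp.out.ne_zero
    have : (q : ℂ) ≠ 0 := Nat.cast_ne_zero.2 hq.ne_zero
    have : (t : ℂ) ≠ 0 := Nat.cast_ne_zero.2 t0.ne'
    push_cast at key ⊢
    field_simp at key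
    exact mul_left_cancel₀ this (by linear_combination -key)
  have k3 := congrArg abs (Int.cast_injective k2)
  by_contra! k4
  have k5 : ∀ φ ∈ F, |σ (r φ) * charDegree φ.1| < q ^ b := fun φ a => by
    have := (single_le_sum (f := fun χ : IrrCharacter G => charDegree χ.1 ^ 2) (fun _ _ => Nat.zero_le _) (mem_univ φ)).trans_eq sum_deg_sq
    have : charDegree φ.1 < q ^ b := by
      by_contra! c
      nlinarith [Nat.mul_le_mul c c, pow_pos hq.pos b]
    rcases h.sg _ (h.rV φ (F1 a)) with s | s <;> simpa [s] using (by exact_mod_cast this : (charDegree φ.1 : ℤ) < q ^ b)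
  have k6 := (abs_sum_le_sum_abs _ _).trans_lt (sum_lt_sum_of_nonempty F2 k5)
  rw [k3, sum_const, nsmul_eq_mul] at k6
  rcases h.sg w hw with s | s <;> simp [s, abs_mul] at k6

theorem sr_le' (hC : CS P = P) {c : ℕ} (hc : ∀ v ∈ V, v ≠ triv G → σ v = 1 → c ≤ T v * charDegree v.1) (h1 : φ ≠ triv G) :
    c * sr P φ.1 ≤ (p - 1) * charDegree φ.1 := by
  have p1 : (0 : ℝ) ≤ p - 1 := sub_nonneg.2 (by exact_mod_cast hp.out.one_le)
  by_cases a : φ ∈ B
  · have b := h.sr_eq a
    have T0 : (0 : ℝ) < T (r φ) := by exact_mod_cast (h.T_pos (h.rV φ a)).1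
    refine le_of_mul_le_mul_left ?_ T0
    rw [mul_left_comm, b]
    rcases h.sg _ (h.rV φ a) with s | s
    · have : (c : ℝ) ≤ T (r φ) * charDegree φ.1 := by
        rw [h.deg a]; exact_mod_cast hc _ (h.rV φ a) (fun e => h1 (h.eq_triv a e)) s
      rw [s]; push_cast; nlinarith
    · rw [s]; push_cast
      have : (0 : ℝ) ≤ c * (p - 1) := by positivity
      have : (0 : ℝ) ≤ T (r φ) * ((p - 1) * charDegree φ.1) := by positivity
      linarith
  · rw [h.sr_out hC a, mul_zero]; positivity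

theorem le_sr' (hC : CS P = P) {c : ℕ} (hc : ∀ v ∈ V, σ v = -1 → c ≤ T v * charDegree v.1) :
    -((p - 1) * charDegree φ.1 : ℝ) ≤ c * sr P φ.1 := by
  have p1 : (0 : ℝ) ≤ p - 1 := sub_nonneg.2 (by exact_mod_cast hp.out.one_le)
  by_cases a : φ ∈ B
  · have b := h.sr_eq a
    have T0 : (0 : ℝ) < T (r φ) := by exact_mod_cast (h.T_pos (h.rV φ a)).1
    refine le_of_mul_le_mul_left ?_ T0
    rw [mul_left_comm, b]
    rcases h.sg _ (h.rV φ a) with s | s
    · rw [s]; push_cast
      have : (0 : ℝ) ≤ c * (p - 1) := by positivity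
      have : (0 : ℝ) ≤ T (r φ) * ((p - 1) * charDegree φ.1) := by positivity
      linarith
    · have : (c : ℝ) ≤ T (r φ) * charDegree φ.1 := by
        rw [h.deg a]; exact_mod_cast hc _ (h.rV φ a) s
      rw [s]; push_cast; nlinarith
  · rw [h.sr_out hC a, mul_zero, neg_nonpos]; positivity

theorem sum_sq_ge (φ : IrrCharacter G) : (charDegree φ.1 : ℝ) * (p - charDegree φ.1) ≤ ∑ y ∈ nz P, ‖φ.1 y‖ ^ 2 := by
  letI : Fintype P := Fintype.ofFinite _
  have b4 := deg_le_sum_sq (fun a b : P => Subtype.ext (le_CS_prime h.card b.2 a a.2)) (char_restrict (irr_char φ.2) P) (ideg φ)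
  rw [← sum_nz P fun y => ‖φ.1 y‖ ^ 2, ideg, h.card, Complex.norm_natCast] at b4
  linarith

theorem prod_minus (hC : CS P = P) (hw : w ≠ triv G) (hd : charDegree w.1 = e) {c : ℕ}
    (hc : ∀ v ∈ V, v ≠ triv G → σ v = 1 → c ≤ T v * charDegree v.1) :
    (c : ℝ) * (e * (p - e)) ≤ c * (p - 1) + (p - 1) * (e * e - 1) := by
  have d1 : w.1 1 = e := by rw [ideg, hd]
  obtain ⟨k, c1, c2⟩ := char_decomp (char_mul (irr_char w.2) (char_conj (irr_char w.2)))
  have ct : k (triv G) = 1 := by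
    have := c1 (triv G)
    rw [inner_mul_left, show ((triv G).1 * fun g => conj (conj (w.1 g))) = w.1 from funext fun g => by simp, irr_inner_self w.2] at this
    exact_mod_cast this.symm
  have b1 := deg_decomp c2 (d := e * e) (by simp [d1])
  have b2 := sr_decomp (P := P) c2
  rw [← add_sum_erase _ _ (mem_univ (triv G)), ct, deg_triv] at b1
  rw [← add_sum_erase _ _ (mem_univ (triv G)), ct, sr_const (χ := (triv G).1) (c := 1) fun _ _ _ => rfl, h.card] at b2
  replace b1 : (e * e : ℝ) = 1 + ∑ φ ∈ univ.erase (triv G), (k φ : ℝ) * charDegree φ.1 := by exact_mod_cast b1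
  have b3 : c * ∑ φ ∈ univ.erase (triv G), k φ * sr P φ.1 ≤ (p - 1) * ∑ φ ∈ univ.erase (triv G), (k φ : ℝ) * charDegree φ.1 := by
    rw [mul_sum, mul_sum]
    exact sum_le_sum fun φ f => by
      rw [mul_left_comm, mul_left_comm _ (k φ : ℝ)]; exact mul_le_mul_of_nonneg_left (h.sr_le' hC hc (mem_erase.1 f).1) (by positivity)
  have b4 := h.sum_sq_ge w
  rw [hd, show ∑ y ∈ nz P, ‖w.1 y‖ ^ 2 = sr P (w.1 * fun g => conj (w.1 g)) by
    simp [sr, Complex.mul_conj, Complex.normSq_eq_norm_sq, ← Complex.ofReal_pow], b2] at b4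
  rw [← sub_eq_iff_eq_add'.2 b1] at b3
  push_cast at b4
  nlinarith [mul_le_mul_of_nonneg_left b4 (Nat.cast_nonneg (α := ℝ) c)]

theorem prod_plus (hC : CS P = P) (hw : w ∈ V) (hT : T w = 2) (hs : σ w = 1) (hd : charDegree w.1 = e + 1) {c : ℕ}
    (hc : ∀ v ∈ V, σ v = -1 → c ≤ T v * charDegree v.1) : c * (e * e) ≤ (p - 1) * (e + 1) ^ 2 := by
  have t2 : t = 2 := by rcases h.hT w hw with a | a <;> omega
  have pe : (p : ℝ) = 2 * e + 1 := by rw [← h.et, t2]; push_cast; ring
  have wm : w ∈ ({φ ∈ B | r φ = w} : Finset _) := mem_filter.2 ⟨h.sub hw, h.rr w hw⟩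
  obtain ⟨w', hw'⟩ : ∃ w', ({φ ∈ B | r φ = w} : Finset _).erase w = {w'} := card_eq_one.1 (by
    rw [card_erase_of_mem wm, h.fib w hw, hT])
  have a1 := mem_filter.1 (mem_erase.1 (hw'.ge (mem_singleton_self w'))).2
  have a2 : ∀ y ∈ nz P, w'.1 y = 1 - w.1 y := fun y a => by
    have := h.sum_exc hC hw (by omega) (mem_nz.1 a).1 (mem_nz.1 a).2
    rw [← add_sum_erase _ _ wm, hw', sum_singleton, hs] at this
    push_cast at this; linear_combination this
  obtain ⟨k, -, c2⟩ := char_decomp (char_mul (irr_char w.2) (char_conj (irr_char w'.2)))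
  have b1 := deg_decomp c2 (d := (e + 1) ^ 2) (by simp [ideg, h.deg a1.1, a1.2, hd, sq])
  have b2 := sr_decomp (P := P) c2
  replace b1 : ((e + 1) ^ 2 : ℝ) = ∑ φ, (k φ : ℝ) * charDegree φ.1 := by exact_mod_cast b1
  have b3 : -((p - 1) * ∑ φ, (k φ : ℝ) * charDegree φ.1) ≤ c * ∑ φ, k φ * sr P φ.1 := by
    rw [mul_sum, mul_sum, ← sum_neg_distrib]
    exact sum_le_sum fun φ f => by
      rw [mul_left_comm, mul_left_comm _ (k φ : ℝ), ← mul_neg]; exact mul_le_mul_of_nonneg_left (h.le_sr' hC hc) (by positivity)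
  have b4 := h.sum_sq_ge w
  have b5 := h.sr_eq (h.sub hw)
  rw [h.rr w hw, hT, hs] at b5
  have b6 : sr P (w.1 * fun g => conj (w'.1 g)) = sr P w.1 - ∑ y ∈ nz P, ‖w.1 y‖ ^ 2 := by
    rw [sr, sum_congr rfl fun y a => by rw [Pi.mul_apply, a2 y a]]
    simp [sr, mul_sub, Complex.mul_conj, Complex.normSq_eq_norm_sq, ← Complex.ofReal_pow]
  rw [← b1, ← b2, b6] at b3
  rw [hd] at b4
  have : (c : ℝ) * (e * e) ≤ (p - 1) * (e + 1) ^ 2 := by
    push_cast at b4 b5
    rw [pe] at b4 b5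
    have : sr P w.1 - ∑ y ∈ nz P, ‖w.1 y‖ ^ 2 ≤ -(e * e) := by nlinarith
    nlinarith [mul_le_mul_of_nonneg_left this (Nat.cast_nonneg (α := ℝ) c)]
  rw [← Nat.cast_pred hp.out.pos] at this
  exact_mod_cast this

end BD

theorem eq_of_dvd_lt {a b : ℕ} (h : a ∣ b) (h0 : 0 < b) (h1 : b < 2 * a) : b = a := by
  obtain ⟨k, rfl⟩ := h
  rcases k with _ | _ | k
  · omega
  · omega
  · nlinarith

theorem two_pow_le_succ {p b c : ℕ} (hc : p + 1 = 2 ^ c) (h1 : 1 < p) (h : 2 ^ b % p = 1) (h2 : 2 ^ b < (p + 1) * (p + 1)) :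
    2 ^ b ≤ p + 1 := by
  by_contra! a
  obtain ⟨k, rfl⟩ := Nat.exists_eq_add_of_lt ((Nat.pow_lt_pow_iff_right one_lt_two).1 (hc ▸ a))
  rw [add_assoc, pow_add, ← hc] at h h2
  rw [add_mul, one_mul, Nat.mul_add_mod] at h
  obtain ⟨u, hu⟩ := exists_eq_one_add h
  have : 1 < 2 ^ (k + 1) := Nat.one_lt_two_pow (by omega)
  rw [hu] at h2 this
  rcases u with _ | u
  · omega
  · nlinarith [Nat.zero_le (u * p), Nat.zero_le (p * (u * p))]

theorem two_pow_le_pred {p b c : ℕ} (hc : p = 2 ^ c) (h : p + 1 ∣ 2 ^ b + 1) (h2 : 2 ^ b < p * (p + 2)) : 2 ^ b ≤ p := by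
  by_contra! a
  obtain ⟨k, rfl⟩ := Nat.exists_eq_add_of_lt ((Nat.pow_lt_pow_iff_right one_lt_two).1 (hc ▸ a))
  rw [add_assoc, pow_add, ← hc] at h h2
  obtain ⟨x, hx⟩ := Nat.exists_eq_add_of_lt (Nat.one_lt_two_pow (show k + 1 ≠ 0 by omega))
  rw [hx] at h h2
  have : p + 1 ∣ x + 1 := (Nat.dvd_add_right h).1 (by
    rw [show p * (1 + x + 1) + 1 + (x + 1) = (p + 1) * (x + 2) by ring]; exact dvd_mul_right _ _)
  have := Nat.le_of_dvd (by omega) this
  nlinarith

set_option maxHeartbeats 4000000 in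
theorem brauer_tuan [hp : Fact p.Prime] [IsSimpleGroup G] (hG : ¬ IsMulCommutative G) {q b g : ℕ} (hq : q.Prime) (hpq : q ≠ p)
    (hn : Nat.card G = p * q ^ b * g) (hg : g + 1 < p) (hqg : ¬ q ∣ g) :
    Nat.card G < p ^ 3 ∧ ∃ m, p = 2 ^ m + 1 ∨ p + 1 = 2 ^ m := by
  have pf := ord_perfect hG
  have g0 : 0 < g := Nat.pos_of_ne_zero (by rintro rfl; simp at hqg)
  obtain ⟨P⟩ : Nonempty (Sylow p G) := inferInstance
  have hP : Nat.card P = p := (card_sylow_of P hn (k := 1) (by rw [pow_one, mul_assoc]; exact dvd_mul_right _ _) fun a => by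
    rw [mul_assoc, pow_succ, pow_one, Nat.mul_dvd_mul_iff_left hp.out.pos] at a
    exact (hp.out.dvd_mul.1 a).elim (fun a => hpq ((Nat.prime_dvd_prime_iff_eq hp.out hq).1 (hp.out.dvd_of_dvd_pow a)).symm)
      fun a => absurd (Nat.le_of_dvd g0 a) (by omega)).trans (pow_one p)
  obtain ⟨e, t, B, V, r, σ, T, h⟩ := exists_bd P hP
  have iP : (P : Subgroup G).index = q ^ b * g := by
    have := card_mul_index (P : Subgroup G)
    rw [hP, hn, mul_assoc] at this
    exact Nat.eq_of_mul_eq_mul_left hp.out.pos this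
  have dv : ∀ v ∈ V, charDegree v.1 ∣ q ^ b * g := fun v a => iP ▸ (h.dvd v a).trans (index_dvd_of_le (le_CS_prime hP))
  have d2 : ∀ v : IrrCharacter G, v ≠ triv G → 2 ≤ charDegree v.1 := fun v a =>
    lt_of_le_of_ne (deg_pos v.2) fun b => a (eq_triv_of_perfect pf b.symm)
  have r1 := h.rel_one
  rw [← add_sum_erase _ _ h.one, h.triv_sign.1, deg_triv] at r1
  have sm : ∀ v ∈ V, v ≠ triv G → ¬ q ∣ charDegree v.1 → charDegree v.1 ∣ g ∧ T v ≠ 1 := fun v a c d => by
    have k : charDegree v.1 ∣ g := (((hq.coprime_iff_not_dvd).2 d).symm.pow_right b).dvd_of_dvd_mul_left (dv v a)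
    refine ⟨k, fun f => ?_⟩
    have := Nat.le_of_dvd g0 k
    have := d2 v c
    have l := h.mod a
    rw [f, one_mul, Nat.mod_eq_of_lt (by omega)] at l
    rcases h.sg v a with s | s
    · have := l.1 s; omega
    · have := Nat.le_of_dvd (by omega) (l.2 s); omega
  obtain ⟨w, w0, w3⟩ : ∃ w ∈ V.erase (triv G), ¬ q ∣ charDegree w.1 := by
    by_contra! a
    have : (q : ℤ) ∣ ∑ v ∈ V.erase (triv G), σ v * charDegree v.1 := dvd_sum fun v c => (Int.natCast_dvd_natCast.2 (a v c)).mul_left _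
    rw [show ∑ v ∈ V.erase (triv G), σ v * charDegree v.1 = -1 by push_cast at r1; linarith, dvd_neg] at this
    exact hq.not_dvd_one (by exact_mod_cast this)
  obtain ⟨w2, w1⟩ := mem_erase.1 w0
  obtain ⟨zg, hT⟩ := sm w w1 w2 w3
  have tw := (h.hT w w1).resolve_left hT
  have ot : ∀ v ∈ (V.erase (triv G)).erase w, q ∣ charDegree v.1 := fun v a => by_contra fun c =>
    (sm v (mem_erase.1 (mem_erase.1 a).2).2 (mem_erase.1 (mem_erase.1 a).2).1 c).2
      (h.T_one w1 hT (mem_erase.1 (mem_erase.1 a).2).2 (mem_erase.1 a).1)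
  rw [← add_sum_erase _ _ w0] at r1
  have qz : (q : ℤ) ∣ 1 + σ w * charDegree w.1 := by
    have : (q : ℤ) ∣ ∑ v ∈ (V.erase (triv G)).erase w, σ v * charDegree v.1 :=
      dvd_sum fun v c => (Int.natCast_dvd_natCast.2 (ot v c)).mul_left _
    rwa [show ∑ v ∈ (V.erase (triv G)).erase w, σ v * charDegree v.1 = -(1 + σ w * charDegree w.1) by push_cast at r1; linarith,
      dvd_neg] at this
  have zl := Nat.le_of_dvd g0 zg
  have z2 := d2 w w2
  have hC : CS (P : Subgroup G) = P := by_contra fun a => by have := h.two_p_le pf a (h.sub w1) w2; omega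
  have em : e * (NS (P : Subgroup G)).index = q ^ b * g := by
    have := card_mul_index (NS (P : Subgroup G))
    rw [h.card_N hC, hn, mul_assoc, mul_assoc] at this
    exact Nat.eq_of_mul_eq_mul_left hp.out.pos this
  have m1 := card_sylow_mod (p := p) G
  rw [card_sylow_eq P] at m1
  have e2 := h.two_le_e pf
  have et := h.et
  have t2 : 2 ≤ t := by have := h.et_pos.2; omega
  have e3 : 2 * e + 1 ≤ p := by nlinarith
  have ct : p.Coprime t := (Nat.coprime_of_lt_prime (by omega) (by nlinarith) hp.out)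
  have md := h.mod w1
  rw [tw] at md
  have gz : 2 * charDegree w.1 + 1 ≥ p → g = charDegree w.1 := fun a => eq_of_dvd_lt zg g0 (by omega)
  rcases h.sg w w1 with s | s
  · -- `z = p - e`
    have ze : charDegree w.1 + e = p := by
      obtain ⟨u, hu⟩ := exists_eq_one_add (md.1 s)
      exact eq_of_dvd_lt (ct.dvd_of_dvd_mul_left ⟨u + 1, by linarith⟩) (by omega) (by omega)
    obtain rfl := gz (by omega)
    set z := charDegree w.1
    have ez : e.Coprime z := by
      have := (Nat.coprime_of_lt_prime (n := e) (by omega) (by omega) hp.out)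
      rw [← ze] at this
      simpa using this.symm
    obtain ⟨j, jb, hj⟩ := (Nat.dvd_prime_pow hq).1 (ez.dvd_of_dvd_mul_right (em ▸ dvd_mul_right _ _))
    have j0 : j ≠ 0 := by rintro rfl; simp at hj; omega
    have qe : q ∣ e := hj ▸ dvd_pow_self q j0
    obtain rfl : q = 2 := by
      rw [s, one_mul] at qz
      have a : q ∣ 1 + z := by exact_mod_cast qz
      have : q ∣ 2 := (Nat.dvd_add_right (qe.mul_right t)).1 (by
        rw [show e * t + 2 = 1 + z + e by omega]; exact dvd_add a qe)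
      exact (Nat.prime_dvd_prime_iff_eq hq Nat.prime_two).1 this
    obtain ⟨v, v1, v2, i, hi, hp'⟩ : ∃ v ∈ V, σ v = -1 ∧ ∃ i, charDegree v.1 = 2 ^ i ∧ p = 2 ^ i + 1 := by
      by_cases a : e = 2
      · obtain ⟨v, hv⟩ := card_eq_one.1 (show #((V.erase (triv G)).erase w) = 1 by
          rw [card_erase_of_mem w0, card_erase_of_mem h.one, h.cV, a])
        have v1 := (mem_erase.1 (mem_erase.1 (hv.ge (mem_singleton_self v))).2).2
        rw [hv, sum_singleton, s] at r1
        have sv : σ v = -1 := (h.sg v v1).resolve_left fun c => by rw [c] at r1; omega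
        have dz : charDegree v.1 = z + 1 := by rw [sv] at r1; omega
        obtain ⟨i, -, hi⟩ := (Nat.dvd_prime_pow hq).1 ((by simp : (z + 1).Coprime z).dvd_of_dvd_mul_right (dz ▸ dv v v1))
        exact ⟨v, v1, sv, i, dz.trans hi, by omega⟩
      have e4 : 4 ∣ e := by
        rcases j with _ | _ | j
        · omega
        · omega
        · exact ⟨2 ^ j, by rw [hj]; ring⟩
      have p4 : p % 4 = 1 := by obtain ⟨k, rfl⟩ := e4; rw [← et, mul_assoc]; omega
      obtain ⟨v, v0, v4⟩ : ∃ v ∈ (V.erase (triv G)).erase w, ¬ 4 ∣ charDegree v.1 := by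
        by_contra! a
        have : (4 : ℤ) ∣ ∑ v ∈ (V.erase (triv G)).erase w, σ v * charDegree v.1 :=
          dvd_sum fun v c => (Int.natCast_dvd_natCast.2 (a v c)).mul_left _
        rw [s] at r1
        omega
      have v1 := (mem_erase.1 (mem_erase.1 v0).2).2
      obtain ⟨k, hk⟩ := ot v v0
      have kz : k ∣ z := ((Nat.coprime_two_right.2 (Nat.odd_iff.2 (by omega))).pow_right b).dvd_of_dvd_mul_left
        ((Dvd.intro_left _ hk.symm).trans (dv v v1))
      have kl := Nat.le_of_dvd (by omega) kz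
      have l := h.mod v1
      rw [h.T_one w1 hT v1 (mem_erase.1 v0).1, one_mul, hk] at l
      have kp : 2 * k = p + 1 := by
        rcases h.sg v v1 with c | c
        · obtain ⟨u, hu⟩ := exists_eq_one_add (l.1 c)
          have := eq_of_dvd_lt (a := p) (b := u * p) (dvd_mul_left _ _) (by omega) (by omega)
          omega
        · have := eq_of_dvd_lt (l.2 c) (by omega) (by omega)
          omega
      have zk : z = k := eq_of_dvd_lt kz (by omega) (by omega)
      have tt : t = 2 := Nat.eq_of_mul_eq_mul_left (show 0 < e by omega) (by omega)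
      by_contra! c
      have := h.prod_plus hC w1 (tw.trans tt) s (by omega) (c := 2 * p - 1) fun v v1 sv => by
        obtain ⟨u, hu⟩ := (h.mod v1).2 sv
        rcases u with _ | _ | u
        · omega
        · rw [h.T_one w1 hT v1 (by rintro rfl; omega)] at hu
          exact (c v v1 sv (j + 1) (by rw [pow_succ, ← hj]; omega) (by rw [pow_succ, ← hj]; omega)).elim
        · have : p * (u + 1 + 1) = p * u + 2 * p := by ring
          omega
      rw [show 2 * p - 1 = 4 * e + 1 by omega, show p - 1 = 2 * e by omega] at this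
      have := Nat.le_of_dvd (by omega) e4
      nlinarith
    have bq := h.bound_q hG hC w1 hT hq hpq (by omega) hn v1 (h.ne_triv v2) (by rintro rfl; omega) hi
    obtain ⟨u, hu⟩ := exists_eq_one_add m1
    have pd : p ∣ 2 ^ b + 1 := (Nat.coprime_of_lt_prime (n := e) (by omega) (by omega) hp.out).dvd_of_dvd_mul_left (by
      rw [hu] at em
      refine (Nat.dvd_add_right (dvd_mul_right p (e * u))).1 ⟨2 ^ b, ?_⟩
      rw [← ze] at *; nlinarith)
    have := two_pow_le_pred (b := b) rfl (hp' ▸ pd) (by change _ ≤ p * z at bq; nlinarith)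
    have k : 2 ^ b * z < p * p := Nat.mul_lt_mul'' (by omega) (by omega)
    exact ⟨by rw [hn, mul_assoc, pow_three]; exact Nat.mul_lt_mul_of_pos_left k hp.out.pos, i, Or.inl hp'⟩
  · -- `z = e`
    have ze : charDegree w.1 = e := by
      obtain ⟨u, hu⟩ := md.2 s
      have : (p : ℤ) ∣ charDegree w.1 - e := (Nat.isCoprime_iff_coprime.2 ct).dvd_of_dvd_mul_left ⟨u - 1, by zify at hu et; linarith⟩
      have := Int.eq_zero_of_abs_lt_dvd this (abs_lt.2 ⟨by omega, by omega⟩)
      omega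
    have pl : ∀ v ∈ V, v ≠ triv G → σ v = 1 → ∃ u, T v * charDegree v.1 = 1 + (u + 1) * p := fun v a c d => by
      obtain ⟨u, hu⟩ := exists_eq_one_add ((h.mod a).1 d)
      rcases u with _ | u
      · have := d2 v c; have := (h.T_pos a).1; nlinarith
      · exact ⟨u, hu⟩
    have e2' : (2 : ℝ) ≤ e := by exact_mod_cast e2
    have e3' : (2 * e + 1 : ℝ) ≤ p := by exact_mod_cast e3
    have pe : p = 2 * e + 1 := by
      have := h.prod_minus hC w2 ze (c := p + 1) fun v a c d => by obtain ⟨u, hu⟩ := pl v a c d; nlinarith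
      push_cast at this
      have : (p : ℝ) ≤ 2 * e + 1 := by
        by_contra! a
        nlinarith [mul_pos (mul_pos (sub_pos.2 a) (show (0 : ℝ) < e - 1 by linarith)) (show (0 : ℝ) < p by linarith)]
      have : p ≤ 2 * e + 1 := by exact_mod_cast this
      omega
    obtain rfl := gz (by omega)
    obtain ⟨v, v1, v2, v3, v4⟩ : ∃ v ∈ V, v ≠ triv G ∧ σ v = 1 ∧ T v * charDegree v.1 = p + 1 := by
      by_contra! c
      have := h.prod_minus hC w2 ze (c := 2 * p + 1) fun v a d f => by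
        obtain ⟨u, hu⟩ := pl v a d f
        rcases u with _ | u
        · exact (c v a d f (by omega)).elim
        · nlinarith
      push_cast at this
      rw [show (p : ℝ) = 2 * e + 1 by exact_mod_cast pe] at this
      nlinarith [mul_pos (show (0 : ℝ) < e by linarith) (show (0 : ℝ) < e - 1 by linarith)]
    have vw : v ≠ w := by rintro rfl; omega
    rw [h.T_one w1 hT v1 vw, one_mul] at v4
    have := dv v v1
    rw [v4, ze, pe] at this
    obtain ⟨i, ib, hi⟩ := (Nat.dvd_prime_pow hq).1 ((by simp : (e + 1).Coprime e).dvd_of_dvd_mul_right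
      ((Dvd.intro 2 (by ring)).trans this))
    have i0 : i ≠ 0 := by rintro rfl; simp at hi; omega
    obtain rfl : q = 2 := by
      have a : (q : ℤ) ∣ e + 1 := by exact_mod_cast hi ▸ dvd_pow_self q i0
      rw [s, ze] at qz
      have := dvd_add a qz
      rw [show (e + 1 + (1 + -1 * e) : ℤ) = (2 : ℕ) by push_cast; ring] at this
      exact (Nat.prime_dvd_prime_iff_eq hq Nat.prime_two).1 (Int.natCast_dvd_natCast.1 this)
    have pi : p + 1 = 2 ^ (i + 1) := by rw [pow_succ, ← hi]; omega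
    have bq := h.bound_q hG hC w1 hT hq hpq (by omega) hn v1 v2 vw (v4.trans pi)
    rw [ze, mul_comm (2 ^ b)] at em
    rw [Nat.eq_of_mul_eq_mul_left (by omega) em] at m1
    have := two_pow_le_succ pi hp.out.one_lt m1 (by nlinarith)
    have k : 2 ^ b * e < p * p := (Nat.mul_le_mul_right e this).trans_lt (by rw [pe]; nlinarith)
    exact ⟨by rw [hn, ze, mul_assoc, pow_three]; exact Nat.mul_lt_mul_of_pos_left k hp.out.pos, i + 1, Or.inr pi⟩

end H3
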