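import Cfsg.Agent.H3.Ord4
import Cfsg.Agent.H1.SylN

/-! H3.R17: groups with eighteen Sylow 17-subgroups. -/

open Cfsg Subgroup H1

namespace H3

theorem r17_a {X : Type*} [Group X] [Finite X] (hn : Nat.card (Sylow 17 X) = 18) (hP : ∀ P : Sylow 17 X, Nat.card P = 17)
    (hf : ∀ x : X, (∀ Q : Sylow 17 X, x ∈ normalizer ((Q : Subgroup X) : Set X)) → x = 1) :
    ∃ L : Subgroup X, L.Normal ∧ centralizer (L : Set X) = ⊥ ∧
      Nonempty (L ≃* Matrix.ProjectiveSpecialLinearGroup (Fin 2) (ZMod 17)) := by
  haveI : Fact (Nat.Prime 17) := ⟨by norm_num⟩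
  obtain ⟨P⟩ : Nonempty (Sylow 17 X) := inferInstance
  obtain ⟨L, hL⟩ : ∃ L, L = normalClosure ((P : Subgroup X) : Set X) := ⟨_, rfl⟩
  haveI : L.Normal := hL ▸ normalClosure_normal
  have h1 : (P : Subgroup X) ≤ L := hL ▸ le_normalClosure
  have h2 : ∀ Q : Sylow 17 X, (Q : Subgroup X) ≤ L := fun Q => by
    have a := sylow_inf_normal Q L
    have b := (isSylowIn_top P).of_le h1 le_top
    refine inf_eq_left.1 (eq_of_le_of_card_ge inf_le_left ?_)
    rw [a.card_eq_card b, hP, hP]
  have h3 : ∀ Q : Sylow 17 X, IsSylowIn 17 (Q : Subgroup X) L := fun Q => (isSylowIn_top Q).of_le (h2 Q) le_top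
  have h4 : Nat.card (Sylow 17 L) = 18 := by
    rw [(h3 P).card_sylow_rel, ← (h3 P).relIndex_normalizer_eq le_top le_normalizer_of_normal, relIndex_top_right,
      ← (isSylowIn_top P).card_sylow, hn]
  have h5 : ∀ Q : Sylow 17 X, Nat.card (h3 Q).toSylow = 17 := fun Q =>
    (Nat.card_congr (subgroupOfEquivOfLe (h2 Q)).toEquiv).trans (hP Q)
  have h6 : L ≤ (P : Subgroup X) ⊔ ⁅L, L⁆ := by
    have : ((P : Subgroup X) ⊔ ⁅L, L⁆).Normal := by
      rw [← normalizer_eq_top_iff, eq_top_iff, ← (h3 P).frattini_top]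
      refine sup_le ?_ (le_normalizer_sup le_rfl le_normalizer_of_normal)
      intro g hg
      refine mem_normalizer_fintype fun x hx => ?_
      have := mul_mem (mem_sup_right (S := (P : Subgroup X)) (commutator_mem_commutator hg (sup_le h1 (commutator_le_left _ _) hx))) hx
      rwa [commutatorElement_def, inv_mul_cancel_right] at this
    exact hL.le.trans (normalClosure_le_normal (show ((P : Subgroup X) : Set X) ⊆ _ from le_sup_left (a := (P : Subgroup X))))
  have h7 : ((h3 P).toSylow : Subgroup L) ⊔ commutator L = ⊤ := by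
    apply map_injective L.subtype_injective
    rw [Subgroup.map_sup, (h3 P).map_toSylow, map_subtype_commutator, ← MonoidHom.range_eq_map, range_subtype]
    exact le_antisymm (sup_le h1 (commutator_le_left _ _)) h6
  have h8 : commutator L = ⊤ := by
    by_cases c : 17 ∣ Nat.card (commutator L)
    · have a := sylow_inf_normal (h3 P).toSylow (commutator L)
      rw [← h7, eq_comm, sup_eq_right, ← inf_eq_left]
      refine eq_of_le_of_card_ge inf_le_left ?_
      rw [h5]
      have b := card_dvd_of_le (inf_le_left : ((h3 P).toSylow : Subgroup L) ⊓ commutator L ≤ _)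
      rw [h5] at b
      rcases (Nat.dvd_prime (by norm_num)).1 b with b | b
      · exact absurd c (a.eq_bot_iff.1 (card_eq_one.1 b))
      · exact b.ge
    · have := prime_part_modEq (isSylowIn_top _) h7 c Nat.prime_two
      rw [h4, show (18 : ℕ) = 2 * 9 from rfl, Nat.factorization_mul (by norm_num) (by norm_num), Finsupp.add_apply,
        Nat.prime_two.factorization_self, Nat.factorization_eq_zero_of_not_dvd (by norm_num)] at this
      exact absurd this (by decide)
  have hF : ¬ Fac 17 (Nat.card (Sylow 17 L)) := fun ⟨a, b, c1, c2, c3, c4⟩ => by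
    rw [h4] at c1
    have : a ≤ 17 := by nlinarith
    omega
  have h9 : ∀ Q : Sylow 17 X, pPrimeCore 17 L ≤ normalizer (((h3 Q).toSylow : Subgroup L) : Set L) := fun Q => by
    have a := (brauer_reynolds h8 _ (h5 Q) hF).1
    have b := (isSylowIn_top (h3 Q).toSylow).card_sylow
    rw [h4] at b
    have c : H4.NS ((h3 Q).toSylow : Subgroup L) = H4.NS ((h3 Q).toSylow : Subgroup L) ⊔ pPrimeCore 17 L := by
      by_contra c
      have := index_strictAnti (lt_of_le_of_ne le_sup_left c)
      simp only [H4.NS] at this a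
      omega
    exact le_sup_right.trans c.ge
  have h10 : pPrimeCore 17 L = ⊥ := eq_bot_iff.2 fun x hx => Subtype.ext (hf _ fun Q => by
    have := h9 Q hx
    rw [IsSylowIn.coe_toSylow, ← subgroupOf_normalizer_eq (h2 Q)] at this
    exact this)
  have E := (QuotientGroup.quotientBot.symm.trans (QuotientGroup.quotientMulEquivOfEq h10.symm) : L ≃* _)
  refine ⟨L, inferInstance, eq_bot_iff.2 fun x hx => hf _ fun Q =>
    centralizer_le_normalizer _ (centralizer_le (h2 Q) hx), ?_⟩
  rcases (brauer_reynolds h8 _ (h5 P) hF).2.2 with ⟨⟨f⟩⟩ | ⟨m, F, _, _, c, d, ⟨f⟩⟩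
  · exact ⟨E.trans f⟩
  · have := (Nat.card_congr (E.trans f).toEquiv).trans H5.card_SL2
    have n := H1.card_sylow_mul (h3 P).toSylow
    rw [show Fintype.card F = 16 by omega] at this
    rw [h4, this] at n
    omega

end H3
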