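import Cfsg.Agent.H3.R17
import Cfsg.Agent.S2602
import Cfsg.Agent.S0799

/-! H3.R18: overgroups and subgroups of PSL(2,17). -/

open Cfsg Subgroup H1

namespace H3

theorem r18_emb {X S : Type*} [Group X] [Group S] (L : Subgroup X) [L.Normal] (hC : centralizer (L : Set X) = ⊥)
    (e : L ≃* S) : ∃ f : X →* MulAut S, Function.Injective f := by
  refine ⟨(MulAut.congr e).toMonoidHom.comp MulAut.conjNormal, (MulAut.congr e).injective.comp ?_⟩
  rw [injective_iff_map_eq_one]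
  intro x hx
  refine mem_bot.1 (hC ▸ fun y hy => ?_)
  have := congrArg (fun t : MulAut L => ((t ⟨y, hy⟩ : L) : X)) hx
  simp only [MulAut.conjNormal_apply, MulAut.one_apply] at this
  rw [mul_inv_eq_iff_eq_mul] at this
  exact this.symm

variable {F : Type*} [Field F] [Fintype F]

theorem r18_cent : centralizer (H5.PS F : Set (H5.PG F)) = ⊥ := eq_bot_iff.2 fun g hg => by
  obtain ⟨a, b, c, d, h, rfl⟩ := H5.exists_pg g
  have h1 := hg (H5.pg 1 1 0 1 (by simp)) (H5.pg_mem_PS.2 (by simp))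
  have h2 := hg (H5.pg 1 0 1 1 (by simp)) (H5.pg_mem_PS.2 (by simp))
  rw [H5.pg_mul, H5.pg_mul, H5.pg_eq_iff] at h1 h2
  rw [mem_bot, H5.pg_eq_one_iff]
  obtain ⟨t, -, a1, a2, a3, a4⟩ := h1
  obtain ⟨s, -, b1, b2, b3, b4⟩ := h2
  have hc : c = 0 := by
    by_contra n
    have : t = 1 := mul_right_cancel₀ n (by linear_combination -a3)
    subst this
    exact n (by linear_combination -a1)
  have hb : b = 0 := by
    by_contra n
    have : s = 1 := mul_right_cancel₀ n (by linear_combination -b2)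
    subst this
    exact n (by linear_combination b1)
  subst hb hc
  have n : d ≠ 0 := fun n => h (by simp [n])
  have : t = 1 := mul_right_cancel₀ n (by linear_combination -a4)
  subst this
  exact ⟨rfl, rfl, by linear_combination a2⟩

theorem r18_card (hF : Fintype.card F = 17) : Nat.card (H5.PSL2 F) = 2448 := by
  have := H5.card_PSL2_mul (F := F)
  rw [hF] at this
  norm_num at this
  omega

theorem r18_pg (hF : Fintype.card F = 17) : Nat.card (H5.PG F) = 4896 := by rw [H5.card_PG, hF]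

theorem r18_aut (hF : Fintype.card F = 17) : Nat.card (MulAut (H5.PSL2 F)) ∣ 4896 := by
  haveI : Fact (Nat.Prime 17) := ⟨by norm_num⟩
  obtain ⟨φ, -, -, h⟩ := Cfsg.Agent.S2602.result (F := F) (p := 17) (f := 1) le_rfl hF (by norm_num)
  have : φ.ker = ⊤ := eq_top_iff.2 fun x _ => Subsingleton.elim _ _
  rw [this, card_top] at h
  rw [card_eq_card_quotient_mul_card_subgroup (Inn (H5.PSL2 F)), h, show 4896 = Nat.gcd 2 (17 ^ 1 - 1) * 2448 by norm_num,
    ← r18_card hF]
  exact mul_dvd_mul_left _ (card_range_dvd _)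

theorem r18_b {X : Type*} [Group X] [Finite X] (hF : Fintype.card F = 17) (L : Subgroup X) [L.Normal]
    (hC : centralizer (L : Set X) = ⊥) (e : L ≃* H5.PSL2 F) :
    Nat.card X ∣ 4896 ∧ (Nonempty (X ≃* H5.PSL2 F) ∨ Nonempty (X ≃* H5.PG F)) := by
  obtain ⟨f, hf⟩ := r18_emb L hC e
  obtain ⟨g, hg⟩ := r18_emb (H5.PS F) r18_cent (H5.psEquiv F).symm
  have h1 := card_dvd_of_injective f hf
  have h2 := card_dvd_of_injective g hg
  rw [r18_pg hF] at h2
  have h3 := Nat.dvd_antisymm (r18_aut hF) h2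
  have h4 := L.card_mul_index
  rw [Nat.card_congr e.toEquiv, r18_card hF] at h4
  rw [h3] at h1
  refine ⟨h1, ?_⟩
  have h5 : L.index ∣ 2 := Nat.dvd_of_mul_dvd_mul_left (show 0 < 2448 by norm_num) (h4 ▸ h1)
  rcases (Nat.dvd_prime Nat.prime_two).1 h5 with h | h
  · rw [index_eq_one] at h
    subst h
    exact Or.inl ⟨topEquiv.symm.trans e⟩
  · haveI : Finite (MulAut (H5.PSL2 F)) := Nat.finite_of_card_ne_zero (by omega)
    exact Or.inr ⟨(MulEquiv.ofBijective f ((Nat.bijective_iff_injective_and_card _).2 ⟨hf, by omega⟩)).trans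
      (MulEquiv.ofBijective g ((Nat.bijective_iff_injective_and_card _).2 ⟨hg, by rw [r18_pg hF, h3]⟩)).symm⟩

theorem r18_simple (hF : Fintype.card F = 17) : IsSimpleGroup (H5.PSL2 F) :=
  Matrix.ProjectiveSpecialLinearGroup.rank_two_simple (by rw [Nat.card_eq_fintype_card, hF]; norm_num)

theorem r18_ne (hF : Fintype.card F = 17) (q : ℕ) [hq : Fact q.Prime] (h : q ∣ 2448) : Nat.card (Sylow q (H5.PSL2 F)) ≠ 1 := by
  haveI := r18_simple hF
  intro c
  obtain ⟨P⟩ : Nonempty (Sylow q (H5.PSL2 F)) := inferInstance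
  rw [(isSylowIn_top P).card_sylow, index_eq_one, normalizer_eq_top_iff] at c
  rcases c.eq_bot_or_eq_top with c | c
  · exact (isSylowIn_top P).eq_bot_iff.1 c (by rwa [card_top, r18_card hF])
  · obtain ⟨n, hn⟩ := IsPGroup.iff_card.1 P.isPGroup'
    rw [c, card_top, r18_card hF] at hn
    have h2 := (Nat.prime_dvd_prime_iff_eq Nat.prime_two hq.out).1 (Nat.prime_two.dvd_of_dvd_pow (hn ▸ (by norm_num : 2 ∣ 2448)))
    have h3 := (Nat.prime_dvd_prime_iff_eq Nat.prime_three hq.out).1 (Nat.prime_three.dvd_of_dvd_pow (hn ▸ (by norm_num : 3 ∣ 2448)))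
    omega

theorem r18_sub (hF : Fintype.card F = 17) (H : Subgroup (H5.PSL2 F)) :
    Nat.card H ≤ 18 ∨ Nat.card H ∣ 136 ∨ Nat.card H = 24 ∨ Nat.card H = 60 ∨ 2448 ≤ Nat.card H := by
  haveI : Fact (Nat.Prime 17) := ⟨by norm_num⟩
  haveI : CharP F 17 := charP_of_card_eq_prime hF
  rcases Cfsg.Agent.S0799.result hF 17 H with ⟨k, h1, h2⟩ | ⟨P, K, h1, ⟨e⟩⟩ | ⟨⟨e⟩⟩ | ⟨⟨e⟩⟩ | ⟨⟨e⟩⟩ | ⟨K, _, _, m, h1, h2⟩
  · norm_num at h1
    have : k ≤ 9 := h1.elim (Nat.le_of_dvd (by norm_num)) fun h => (Nat.le_of_dvd (by norm_num) h).trans (by norm_num)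
    rcases h2 with ⟨-, h2⟩ | ⟨⟨e⟩⟩
    · exact Or.inl (h2.le.trans (by omega))
    · rw [Nat.card_congr e.toEquiv, DihedralGroup.nat_card]; omega
  · right; left
    rw [Nat.card_congr e.toEquiv]
    refine (card_dvd_of_le h1).trans ?_
    have a : Nat.card (Sylow 17 (H5.PSL2 F)) * _ = 2448 := (H1.card_sylow_mul P).trans (r18_card hF)
    have b := card_sylow_mod (p := 17) (H5.PSL2 F)
    have c := r18_ne hF 17 (by norm_num)
    have d : Nat.card (Sylow 17 (H5.PSL2 F)) ∣ 144 := Nat.Coprime.dvd_of_dvd_mul_left (m := 17)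
      ((Nat.Prime.coprime_iff_not_dvd (p := 17) (by norm_num)).2 fun z => one_ne_zero (b.symm.trans (Nat.mod_eq_zero_of_dvd z))).symm ⟨_, a.symm⟩
    have := Nat.le_of_dvd (by norm_num) d
    generalize Nat.card (Sylow 17 (H5.PSL2 F)) = n at *
    have : n = 18 := by interval_cases n <;> omega
    subst this
    exact dvd_of_eq (by omega)
  · rw [Nat.card_congr e.toEquiv, nat_card_alternatingGroup]; simp [Nat.factorial]
  · rw [Nat.card_congr e.toEquiv, Nat.card_perm]; simp [Nat.factorial]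
  · rw [Nat.card_congr e.toEquiv, nat_card_alternatingGroup]; simp [Nat.factorial]
  · have := ((Nat.Prime.pow_eq_iff (by norm_num)).1 h1).1
    rcases h2 with ⟨⟨e⟩⟩ | ⟨⟨e⟩⟩
    · rw [Nat.card_congr e.toEquiv, r18_card this]; omega
    · rw [Nat.card_congr e.toEquiv, r18_pg this]; omega

theorem r18_syl (hF : Fintype.card F = 17) (q n : ℕ) [Fact q.Prime] (h : q = 2 ∧ n = 153 ∨ q = 3 ∧ n = 136)
    (hd : Nat.card (Sylow q (H5.PSL2 F)) ∣ n) : Nat.card (Sylow q (H5.PSL2 F)) = n := by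
  obtain ⟨P⟩ : Nonempty (Sylow q (H5.PSL2 F)) := inferInstance
  have a := H1.card_sylow_mul P
  have b := card_sylow_mod (p := q) (H5.PSL2 F)
  have c := r18_ne hF q (by rcases h with ⟨rfl, -⟩ | ⟨rfl, -⟩ <;> norm_num)
  have d := r18_sub hF (normalizer ((P : Subgroup (H5.PSL2 F)) : Set (H5.PSL2 F)))
  rw [r18_card hF] at a
  generalize Nat.card (Sylow q (H5.PSL2 F)) = s at *
  generalize Nat.card (normalizer ((P : Subgroup (H5.PSL2 F)) : Set (H5.PSL2 F))) = t at *
  replace d : t ≤ 18 ∨ t = 34 ∨ t = 68 ∨ t = 136 ∨ t = 24 ∨ t = 60 ∨ 2448 ≤ t := by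
    rcases d with d | d | d
    · omega
    · have := Nat.le_of_dvd (by norm_num) d
      clear a
      interval_cases t <;> omega
    · omega
  rcases h with ⟨rfl, rfl⟩ | ⟨rfl, rfl⟩ <;> have := Nat.le_of_dvd (by norm_num) hd <;> interval_cases s <;> omega

end H3
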