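import Cfsg.Agent.H3.FeitS

/-!
H3.Tifn: exceptional characters of a TI-subgroup `K` with Frobenius normalizer `L` (`S = SI K K ⊥` coherent with extension `ν`).
-/

set_option autoImplicit false
open Cfsg Submodule
open scoped ComplexConjugate

namespace H3

variable {L G : Type*} [Group L] [Group G] [Fintype L] [Fintype G] {K Z : Subgroup L} {j : L →* G}
  {ν : (L → ℂ) →ₗ[ℂ] (G → ℂ)} {χ ξ : L → ℂ} {x y : L}

theorem sub_eq_of_orth [K.Normal] [Z.Normal] (hZ : Z ≤ K) (hX : ∀ χ ∈ SI K Z ⊥, IsIrrCharacter L χ) {ρ : L → ℂ}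
    (hρ : IsClassFunction L ρ) {c : ℂ} (o : ∀ χ ∈ SI K Z ⊥, classInner ρ χ = c * χ 1) (hx : x ∈ Z) (h1 : x ≠ 1) :
    ρ 1 - ρ x = c * Nat.card L := by
  have e1 := class_apply_eq_sum hρ
  rw [e1 1, e1 x, ← Finset.sum_sub_distrib, ← sub_zero (Nat.card L : ℂ), ← sum_degree_mul h1,
    ← sum_sq_degree, ← Finset.sum_sub_distrib, Finset.mul_sum]
  refine Finset.sum_congr rfl fun χ _ => ?_
  by_cases hk : Kr χ.1 Z
  · simp [hk x hx, sq]
  rw [o χ (SI_eq_irr hZ hX ▸ ⟨χ.2, hk⟩)]; ring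

theorem card_AI_le [K.Normal] (hj : Function.Injective j) (hti : TIH j K) :
    (AIf K).card ≤ Nat.card {C : ConjClasses G // ∃ k ∈ K, ConjClasses.mk (j k) = C} := by
  classical
  have := Fintype.ofFinite {C : ConjClasses G // ∃ k ∈ K, ConjClasses.mk (j k) = C}
  let Φ : ({C : ConjClasses G // ∃ k ∈ K, ConjClasses.mk (j k) = C} → ℂ) →ₗ[ℂ] (L → ℂ) :=
    { toFun := fun f x => if h : x ∈ K then f ⟨_, x, h, rfl⟩ else 0
      map_add' := fun f g => funext fun x => by by_cases h : x ∈ K <;> simp [h]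
      map_smul' := fun c f => funext fun x => by by_cases h : x ∈ K <;> simp [h] }
  have e : ∀ φ : AIf K, Φ (fun C => φ.1 C.2.choose) = φ := fun φ => funext fun x => by
    have a := mem_AIf.1 φ.2
    by_cases h : x ∈ K
    · have b := Exists.choose_spec (⟨x, h, rfl⟩ : ∃ k ∈ K, ConjClasses.mk (j k) = ConjClasses.mk (j x))
      obtain ⟨g, c⟩ := isConj_iff.1 (ConjClasses.mk_eq_mk_iff_isConj.1 b.2.symm)
      simp only [Φ, LinearMap.coe_mk, AddHom.coe_mk, dif_pos h]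
      by_cases d : x = 1
      · rw [hj (c.symm.trans (by simp [d]) : _ = j x)]
      · obtain ⟨t, rfl⟩ := hti g x h d _ b.1 c
        rw [← map_inv, ← map_mul, ← map_mul] at c
        rw [← hj c, AI.cls a]
    · simp [Φ, h, AI.supp a x h]
  have : LinearIndependent ℂ fun (φ : AIf K) (C : {C : ConjClasses G // ∃ k ∈ K, ConjClasses.mk (j k) = C}) =>
      φ.1 C.2.choose := LinearIndependent.of_comp Φ (Fintype.linearIndependent_iff.2 fun c h φ => by
    have := congrArg (classInner · φ.1) h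
    simp only [Function.comp, e, inner_sum_left, inner_smul_left] at this
    rw [Finset.sum_eq_single φ (fun ψ _ n => by
      rw [AI.orth (mem_AIf.1 ψ.2) (mem_AIf.1 φ.2) (Subtype.coe_ne_coe.2 n), mul_zero]) (by simp), inner_self_nsq] at this
    simpa [classInner, (AI.nsq_pos (mem_AIf.1 φ.2)).ne'] using this)
  simpa using this.fintype_card_le_finrank

theorem card_SI_lt [K.Normal] : (SIf K K ⊥).card < (AIf K).card :=
  Finset.card_lt_card ⟨fun χ a => mem_AIf.2 (mem_SIf.1 a).1, fun h =>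
    (mem_SIf.1 (h (mem_AIf.2 ⟨_, isIrr_one, rfl⟩))).2.1 ((irr_ind_one_iff isIrr_one).2 rfl)⟩

section
variable [K.Normal] (hj : Function.Injective j) (hti : TIH j K) (hf : FrobMod K ⊥) (hν : CohW (SI K K ⊥) (indH j) ν)

include hf hν in
/-- non-exceptional class functions are constant on `K^#` -/
theorem tifn_const {ψ : G → ℂ} (hψ : IsClassFunction G ψ) (o : ∀ χ ∈ SI K K ⊥, classInner ψ (ν χ) = 0) (hx : x ∈ K)
    (h1 : x ≠ 1) (hy : y ∈ K) (h2 : y ≠ 1) : ψ (j x) = ψ (j y) := by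
  obtain ⟨χ₁, c⟩ := SI_nonempty (K := K) le_rfl bot_le fun e => h1 (e hx)
  have n := AI.one_ne_zero c.1
  have := fun x a b => sub_eq_of_orth (x := x) le_rfl (fun _ a => irr_of_frobMod hf a.1 a.2.1) (class_comp hψ j)
    (c := classInner (fun x => ψ (j x)) χ₁ / χ₁ 1) (fun χ d => by
      have := hν.sub d c 1 (χ 1 / χ₁ 1) (by simp [n])
      have := congrArg (classInner ψ) this
      rw [inner_indH_right _ _ hψ] at this
      simp only [inner_sub_right, inner_smul_right, o _ d, o _ c, map_one, one_mul, mul_zero, sub_zero, sub_eq_zero,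
        map_div₀, ← conjFun_apply, conjFun_one (char_gen (AI.char d.1)), conjFun_one (char_gen (AI.char c.1))] at this
      rw [this]; ring) a b
  exact sub_right_injective ((this x hx h1).trans (this y hy h2).symm)

include hf hν in
theorem tifn_sub_const (hχ : χ ∈ SI K K ⊥) (hx : x ∈ K) (h1 : x ≠ 1) :
    ∃ c : ℂ, (∀ φ ∈ SI K K ⊥, classInner (fun x => ν χ (j x) - χ x) φ = c * φ 1) ∧
      ν χ 1 - χ 1 - (ν χ (j x) - χ x) = c * Nat.card L := by
  have n := AI.one_ne_zero hχ.1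
  have g := gen_class (hν.gen _ hχ)
  have o : ∀ φ ∈ SI K K ⊥, classInner (fun x => ν χ (j x) - χ x) φ =
      classInner (fun x => ν χ (j x) - χ x) χ / χ 1 * φ 1 := fun φ d => by
    have := congrArg (classInner (ν χ)) (hν.sub d hχ 1 (φ 1 / χ 1) (by simp [n]))
    rw [inner_indH_right _ _ g] at this
    simp only [inner_sub_right, inner_smul_right, hν.iso _ hχ _ d, hν.iso _ hχ _ hχ, map_one, one_mul,
      map_div₀, ← conjFun_apply, conjFun_one (char_gen (AI.char d.1)), conjFun_one (char_gen (AI.char hχ.1))] at this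
    have e := fun φ => inner_sub_left (fun x => ν χ (j x)) χ φ
    rw [show (fun x => ν χ (j x) - χ x) = (fun x => ν χ (j x)) - χ from rfl, e, e]
    linear_combination this
  exact ⟨_, o, by
    simpa using sub_eq_of_orth le_rfl (fun _ a => irr_of_frobMod hf a.1 a.2.1)
      (class_sub (class_comp g j) (AI.cls hχ.1)) o hx h1⟩

include hf hν in
theorem tifn_sub_eq (hχ : χ ∈ SI K K ⊥) (hx : x ∈ K) (h1 : x ≠ 1) (hy : y ∈ K) (h2 : y ≠ 1) :
    ν χ (j x) - χ x = ν χ (j y) - χ y := by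
  obtain ⟨c, a, b⟩ := tifn_sub_const hf hν hχ hx h1
  obtain ⟨d, e, f⟩ := tifn_sub_const hf hν hχ hy h2
  obtain rfl := mul_right_cancel₀ (AI.one_ne_zero hχ.1) ((a χ hχ).symm.trans (e χ hχ))
  exact sub_right_injective (b.trans f.symm)

include hj hti hf hν in
theorem tifn_restrict (h0 : K ≠ ⊤) :
    ∃ m : ℤ, ∀ χ ∈ SI K K ⊥, ∀ x ∈ K, x ≠ 1 → ν χ (j x) - χ x = m * χ 1 / K.index := by
  by_cases e : K = ⊥
  · exact ⟨0, fun _ _ x a b => absurd (e.le a) b⟩
  have := hf.nilpotent h0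
  obtain ⟨χ₁, c, d⟩ := exists_SI_lin (M := ⊥) le_rfl bot_le
    (by simpa using (H9.commutator_lt_of_solvable (N := K) inferInstance e).not_ge)
  obtain ⟨⟨z, z1⟩, z2⟩ := Subgroup.ne_bot_iff_exists_ne_one.mp e
  have z2 : z ≠ 1 := by simpa using z2
  obtain ⟨m, hm⟩ := gen_int_of_pow (gen_sub (gen_comp (hν.gen _ c) j) (char_gen (AI.char c.1))) z fun k h =>
    tifn_sub_eq hf hν c (K.pow_mem z1 k) (fun e => z2 (orderOf_eq_one_iff.mp
      (h.symm.eq_one_of_dvd (orderOf_dvd_of_pow_eq_one e)))) z1 z2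
  refine ⟨m, fun χ a x b b' => ?_⟩
  have e0 : (K.index : ℂ) ≠ 0 := by exact_mod_cast K.index_ne_zero_of_finite
  have := congrFun (hν.sub a c (χ₁ 1) (χ 1) (mul_comm _ _)) (j x)
  rw [hti.apply hj (class_sub (class_smul _ (AI.cls a.1)) (class_smul _ (AI.cls c.1)))
    (((AI.supp a.1).smul _).sub ((AI.supp c.1).smul _)) b b'] at this
  have h := (tifn_sub_eq hf hν c b b' z1 z2).trans hm
  simp only [Pi.sub_apply, Pi.smul_apply, smul_eq_mul, d] at this
  rw [eq_div_iff e0]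
  linear_combination χ 1 * h - this

include hf hν in
/-- exceptional characters are not constant on `K^#` -/
theorem tifn_not_const (hχ : χ ∈ SI K K ⊥) (hξ : ξ ∈ SI K K ⊥) (hn : ξ ≠ χ) :
    ∃ x ∈ K, ∃ y ∈ K, x ≠ 1 ∧ y ≠ 1 ∧ ν χ (j x) ≠ ν χ (j y) := by
  by_contra! h
  obtain ⟨z, z1, z2⟩ := not_kr.1 hχ.2.1
  have z2 : z ≠ 1 := fun e => z2 (by rw [e])
  have i := fun φ (a : φ ∈ SI K K ⊥) => irr_of_frobMod hf a.1 a.2.1
  have o := fun φ (a : φ ∈ SI K K ⊥) => irr_inner_ne (i φ a) isIrr_one fun e => a.2.1 (by simp [e, Kr])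
  have := inner_congr_supp (α := χ 1 • ξ - ξ 1 • χ) (β := χ) (γ := χ z • fun _ => 1) fun x a => by
    have b : x ∈ K := by_contra fun b => a (by simp [AI.supp hχ.1 x b, AI.supp hξ.1 x b])
    have c : x ≠ 1 := fun c => a (by simp [c, mul_comm])
    have := tifn_sub_eq hf hν hχ b c z1 z2
    rw [h x b z z1 c z2, sub_right_inj] at this
    simpa
  simp [inner_sub_left, inner_smul_left, inner_smul_right, o _ hχ, o _ hξ, irr_inner_self (i _ hχ),
    irr_inner_ne (i _ hξ) (i _ hχ) hn, AI.one_ne_zero hξ.1] at this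

end

theorem exists_two_SI [K.Normal] (hf : FrobMod K ⊥) (h0 : K ≠ ⊤) (h1 : K ≠ ⊥) (h : Nat.card K ≠ K.index + 1)
    (hχ : χ ∈ SI K K ⊥) : ∃ ξ ∈ SI K K ⊥, ξ ≠ χ := by
  by_contra! e
  have := hf.nilpotent h0
  obtain ⟨χ₁, c, d⟩ := exists_SI_lin (M := ⊥) le_rfl bot_le
    (by simpa using (H9.commutator_lt_of_solvable (N := K) inferInstance h1).not_ge)
  have := sum_SI_sq (K := K) (M := ⊥) le_rfl bot_le
  rw [show SIf K K ⊥ = {χ₁} from Finset.eq_singleton_iff_unique_mem.2 ⟨mem_SIf.2 c, fun φ a =>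
    (e φ (mem_SIf.1 a)).trans (e _ c).symm⟩, Finset.sum_singleton, d, SIrr.nsq (Or.inl (irr_of_frobMod hf c.1 c.2.1)),
    sup_bot_eq, Subgroup.index_bot, ← K.index_mul_card, div_one, eq_sub_iff_add_eq, Complex.natCast_re] at this
  norm_cast at this
  exact h (Nat.eq_of_mul_eq_mul_left (Nat.pos_of_ne_zero K.index_ne_zero_of_finite) (by rw [← this]; ring))

end H3
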