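import Cfsg.Agent.H3.W3
import Cfsg.Agent.H3.L3

/-!
H3.W4: involution centralizer `GL(2, 3)` in a group of order 5616.
-/

set_option autoImplicit false
open Cfsg Subgroup Finset

namespace H3
open H4
namespace WG

/-- an element of order 3 -/
def gx : Γ := ⟨!![1, 1; 0, 1], !![1, 2; 0, 1], by decide, by decide⟩

/-- a non-central involution -/
def gv : Γ := ⟨!![1, 0; 0, 2], !![1, 0; 0, 2], by decide, by decide⟩

theorem xΓ (m : Γ) (h : m * m * m = 1) (h1 : m ≠ 1) : ∃ n : Γ, n * gx = m * n := by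
  obtain ⟨n, a, b⟩ := (show ∀ m : Mx, m * m * m = 1 → m ≠ 1 → ∃ n : Mx, n 0 0 * n 1 1 - n 0 1 * n 1 0 ≠ 0 ∧ n * gx.1 = m * n by
    decide +kernel) m.1 (congrArg Units.val h) fun e => h1 (Units.ext e)
  exact ⟨Matrix.GeneralLinearGroup.mkOfDetNeZero n (Matrix.det_fin_two n ▸ a), Units.ext b⟩

variable {G : Type*} [Group G] [Finite G] {t u y : G} {f : Γ →* G}

theorem fpf {K : Subgroup G} {w : G} (hw : w ∈ NS K) (w2 : w * w = 1) (h : ∀ y ∈ K, w * y * w⁻¹ = y → y = 1) :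
    ∀ y ∈ K, w * y * w⁻¹ = y⁻¹ := fun y hy =>
  congrArg Subtype.val (congrFun (MonoidHom.FixedPointFree.coe_eq_inv_of_involutive (φ := K.normalizerMonoidHom ⟨w, hw⟩)
    (fun g e => Subtype.ext (h g g.2 (congrArg Subtype.val e))) fun g => Subtype.ext (show w * (w * g * w⁻¹) * w⁻¹ = g by
      rw [← mul_assoc, ← mul_assoc, w2, mul_assoc, ← mul_inv_rev, w2]; simp)) ⟨y, hy⟩)

omit [Finite G] in
theorem m27 {K L : Subgroup G} (h : K.relIndex L = 2) {c : G} (a : c ∈ L) (b : c ^ 27 = 1) : c ∈ K := by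
  have := pow_mem (show c ^ 2 ∈ K from (K.subgroupOf L).sq_mem_of_index_two h ⟨c, a⟩) 14
  rwa [← pow_mul, pow_succ, b, one_mul] at this

namespace V
variable (h : V f t) (cj : ∀ u, orderOf u = 2 → IsConj t u)
include h cj

theorem d48 (hu : orderOf u = 2) : Nat.card (C1 u) = 48 := (card_centralizer_isConj (cj u hu)).symm.trans h.c48

theorem cx (hu : orderOf u = 2) (c : y * u = u * y) (h3 : y ^ 27 = 1) (h1 : y ≠ 1) : ∃ g, g * t * g⁻¹ = u ∧ g * f gx * g⁻¹ = y := by
  obtain ⟨g, rfl⟩ := isConj_iff.1 (cj u hu)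
  obtain ⟨m, e⟩ := h.mem.1 (show g⁻¹ * y * g ∈ centralizer {t} from mem_centralizer_singleton_iff.2 (by
    simpa [mul_assoc] using congrArg (fun z => g⁻¹ * z * g) c))
  obtain rfl : y = g * f m * g⁻¹ := by rw [e]; group
  have o : orderOf (f m) ∣ Nat.gcd 27 48 := Nat.dvd_gcd (H1.orderOf_conj g _ ▸ orderOf_dvd_of_pow_eq_one h3)
    (h.c48 ▸ Subgroup.orderOf_dvd_natCard _ (h.mem.2 ⟨m, rfl⟩))
  obtain ⟨n, hn⟩ := xΓ m (h.inj (by rw [← pow_three', map_pow, map_one]; exact orderOf_dvd_iff_pow_eq_one.1 o)) (by rintro rfl; simp at h1)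
  refine ⟨g * f n, ?_, ?_⟩
  · rw [mul_assoc g, mem_centralizer_singleton_iff.1 (h.mem.2 ⟨n, rfl⟩)]; group
  · rw [mul_assoc g, ← map_mul, hn, map_mul]; group

theorem c6 (hu : orderOf u = 2) (c : y * u = u * y) (h3 : y ^ 27 = 1) (h1 : y ≠ 1) : Nat.card (C1 u ⊓ C1 y : Subgroup G) = 6 := by
  obtain ⟨g, rfl, rfl⟩ := h.cx cj hu c h3 h1
  rw [C1, C1, ← H9.cj_centralizer_singleton, ← H9.cj_centralizer_singleton, ← H9.cj_inf, H9.card_cj,
    show centralizer {t} ⊓ centralizer {f gx} = (centralizer {gx}).map f from ?_, card_map_of_injective h.inj, cenΓ]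
  · decide +kernel
  ext g
  refine ⟨fun ⟨a, b⟩ => ?_, fun ⟨x, a, b⟩ => ⟨h.mem.2 ⟨x, b⟩, mem_centralizer_singleton_iff.2 (by
    rw [← b, ← map_mul, mem_centralizer_singleton_iff.1 a, map_mul])⟩⟩
  obtain ⟨x, rfl⟩ := h.mem.1 a
  exact ⟨x, mem_centralizer_singleton_iff.2 (h.inj (by rw [map_mul, map_mul]; exact mem_centralizer_singleton_iff.1 b)), rfl⟩

variable (hG : Nat.card G = 5616)
include hG

theorem n39 {X : Subgroup G} (hX : Nat.card X = 13) : Nat.card (CS X) = 13 ∧ Nat.card (NS X) = 39 := by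
  haveI : Fact (Nat.Prime 13) := ⟨by norm_num⟩
  obtain ⟨P, rfl⟩ : ∃ P : Sylow 13 G, P = X := ⟨Sylow.ofCard X (by rw [hG, hX]; decide +kernel), rfl⟩
  have n0 : ¬ 2 ∣ Nat.card (CS (P : Subgroup G)) := fun a => by
    obtain ⟨⟨u, u1⟩, u2⟩ := exists_prime_orderOf_dvd_card' 2 a
    have := card_dvd_of_le (show (P : Subgroup G) ≤ C1 u from fun y b => mem_centralizer_singleton_iff.2 (u1 y b))
    rw [hX, h.d48 cj (Subgroup.orderOf_mk u u1 ▸ u2)] at this
    omega
  have n1 := H1.card_sylow_mul P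
  have n2 := card_sylow_mod (p := 13) G
  have n3 := H1.card_mul_relIndex (le_CS_prime hX)
  have n4 := H1.card_mul_relIndex (CS_le_NS (P : Subgroup G))
  have n5 := H1.relIndex_cent_dvd hX
  have n6 : (CS (P : Subgroup G)).relIndex (NS (P : Subgroup G)) = 1 → ¬ Nat.card (CS (P : Subgroup G)) = 39 := fun a b => by
    have c := (MonoidHom.ker_transferSylow_isComplement' P (relIndex_eq_one.1 a)).card_mul
    rw [hX, hG] at c
    obtain ⟨j, k, -, k1, k2, k3, k4⟩ := fix_sylow (K := (MonoidHom.transferSylow P (relIndex_eq_one.1 a)).ker) Nat.prime_two Fact.out hX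
      (fun x _ => mem_NS_of_normal _ x) (by omega)
    rw [show Nat.card (MonoidHom.transferSylow P (relIndex_eq_one.1 a)).ker = 432 by omega] at k1 k2
    obtain rfl : j = 0 := by_contra fun c => n0 ((dvd_pow_self 2 c).trans k4)
    have : k ≤ 4 := by_contra fun c => absurd ((pow_dvd_pow 2 (show 5 ≤ k by omega)).trans k1) (by norm_num)
    interval_cases k <;> omega
  have := Nat.le_of_dvd (by norm_num) n5
  simp only [CS, NS] at *
  rw [← n4, hG] at n1
  rw [← n4]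
  rw [← n3, hX] at n1 n0 n6 ⊢
  generalize (centralizer ((P : Subgroup G) : Set G)).relIndex (normalizer ((P : Subgroup G) : Set G)) = r at *
  generalize (P : Subgroup G).relIndex (centralizer ((P : Subgroup G) : Set G)) = c at *
  generalize Nat.card (Sylow 13 G) = n at *
  have a : n ∣ 432 := ⟨c * r, by nlinarith⟩
  have b : c ∣ 27 := Nat.Coprime.dvd_of_dvd_mul_left (m := 16) (Nat.Coprime.pow_right 4 (Nat.coprime_two_right.2 (Nat.odd_iff.2 (by omega))))
    ⟨n * r, by nlinarith⟩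
  have := Nat.le_of_dvd (by norm_num) b
  rcases (show ∀ n < 433, n ∣ 432 → n % 13 = 1 → n = 1 ∨ n = 27 ∨ n = 144 by decide +kernel) n
    (Nat.lt_succ_of_le (Nat.le_of_dvd (by norm_num) a)) a n2 with rfl | rfl | rfl <;> interval_cases r <;> omega

theorem h13 (x : G) (h1 : x ≠ 1) (d : 13 ∣ Nat.card (C1 x)) : Nat.card (C1 x) = 13 := by
  haveI : Fact (Nat.Prime 13) := ⟨by norm_num⟩
  obtain ⟨⟨s, t1⟩, t2⟩ := exists_prime_orderOf_dvd_card' 13 d
  rw [Subgroup.orderOf_mk] at t2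
  have c := (Nat.card_zpowers s).trans t2
  have a := (h.n39 cj hG c).1
  have b := (C1_eq_prime c (mem_zpowers s) (by rintro rfl; simp at t2)).trans (eq_of_le_of_card_ge (le_CS_prime c) (a.trans c.symm).le).symm
  rw [C1_eq_prime c (b.le (mem_centralizer_singleton_iff.2 (mem_centralizer_singleton_iff.1 t1).symm)) h1, a]

theorem idx13 : ∃ K : Subgroup G, K.index = 13 := by
  classical
  haveI : Fact (Nat.Prime 3) := ⟨Nat.prime_three⟩
  haveI : Fact (Nat.Prime 13) := ⟨by norm_num⟩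
  letI := Fintype.ofFinite G
  have m := @mem_centralizer_singleton_iff G _
  have cx := fun {u y} => h.cx (u := u) (y := y) cj
  have c6 := fun {u y} => h.c6 (u := u) (y := y) cj
  have x1 : f gx ≠ 1 := by rw [ne_eq, map_eq_one_iff f h.inj]; decide
  have x3 : orderOf (f gx) = 3 := orderOf_eq_prime (by rw [← map_pow, map_eq_one_iff f h.inj]; decide) x1
  have tC : t ∈ C1 (f gx) := m.2 (m.1 (h.mem.2 ⟨gx, rfl⟩)).symm
  have v2 : orderOf (f gv) = 2 := orderOf_eq_prime (by rw [← map_pow, map_eq_one_iff f h.inj]; decide)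
    (by rw [ne_eq, map_eq_one_iff f h.inj]; decide)
  have w2 : orderOf (t * f gv) = 2 := orderOf_eq_prime (by rw [← h.neg, ← map_mul, ← map_pow, map_eq_one_iff f h.inj]; decide)
    (by rw [← h.neg, ← map_mul, ne_eq, map_eq_one_iff f h.inj]; decide)
  have tv : f gv * t = t * f gv := m.1 (h.mem.2 ⟨gv, rfl⟩)
  have vx : f gv * f gx * (f gv)⁻¹ = (f gx)⁻¹ := by simp only [← map_inv, ← map_mul]; exact congrArg f (by decide)
  have qx : (f gx * (f (ga ^ 2) * (f gx)⁻¹ * (f (ga ^ 2))⁻¹)) ^ 27 ≠ 1 := by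
    simp only [← map_inv, ← map_mul, ← map_pow, ne_eq, map_eq_one_iff f h.inj]; decide +kernel
  generalize f gx = x at *
  generalize f gv = v at *
  have x27 : x ^ 27 = 1 := orderOf_dvd_iff_pow_eq_one.1 (by rw [x3]; norm_num)
  have cZ := (Nat.card_zpowers x).trans x3
  have n2 : 2 ∣ Nat.card (C1 x) := h.ot ▸ Subgroup.orderOf_dvd_natCard _ tC
  have n4 : ¬ 2 ^ 2 ∣ Nat.card (C1 x) := fun a => by
    obtain ⟨T, b⟩ := Sylow.exists_subgroup_card_pow_prime 2 a
    obtain ⟨u, u2⟩ := exists_prime_orderOf_dvd_card' (G := T) 2 (by rw [b]; norm_num)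
    have := card_dvd_of_le (show T.map (C1 x).subtype ≤ C1 u.1.1 ⊓ C1 x from fun _ ⟨y, c, d⟩ => d ▸ ⟨m.2
      (congrArg (·.1.1) (IsPGroup.commutative_of_card_eq_prime_sq b ⟨y, c⟩ u)), y.2⟩)
    rw [card_map_of_injective Subtype.val_injective, b, c6 (by rwa [orderOf_coe, orderOf_coe]) (m.1 u.1.2).symm x27 x1] at this
    omega
  have n13 : ¬ 13 ∣ Nat.card (C1 x) := fun a => by rw [h.h13 cj hG x x1 a] at n2; omega
  obtain ⟨O, O1, O2⟩ := H1.exists_isSylowIn_ge (p := 3) (IsPGroup.of_card (n := 1) cZ) (zpowers_le.2 (m.2 rfl) : _ ≤ C1 x)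
  obtain ⟨k, hk⟩ := IsPGroup.iff_card.1 O1.isPGroup
  have cC := H1.card_mul_relIndex O1.le
  have r2 : O.relIndex (C1 x) = 2 := by
    have a := O1.not_dvd
    have b : O.relIndex (C1 x) ∣ 16 * (3 ^ 3 * 13) := (Dvd.intro_left _ cC).trans ((card_subgroup_dvd_card _).trans hG.dvd)
    have c : 2 ∣ O.relIndex (C1 x) := Nat.Coprime.dvd_of_dvd_mul_left (Nat.Coprime.pow_right k (by norm_num)) (hk ▸ cC ▸ n2)
    have d : ¬ 2 ^ 2 ∣ O.relIndex (C1 x) := fun d => n4 (cC ▸ d.mul_left _)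
    have e := Nat.Coprime.dvd_of_dvd_mul_right (Nat.Coprime.mul_right (Nat.Coprime.pow_right 3
      ((Nat.Prime.coprime_iff_not_dvd Nat.prime_three).2 a).symm) ((Nat.Prime.coprime_iff_not_dvd Fact.out).2 fun d => n13 (cC ▸ d.mul_left _)).symm) b
    have := Nat.le_of_dvd (by norm_num) e
    generalize O.relIndex (C1 x) = r at *
    interval_cases r <;> omega
  rw [r2, hk] at cC
  obtain ⟨P, hP⟩ := O1.isPGroup.exists_le_sylow
  have cP : Nat.card P = 3 ^ 3 := card_sylow_of P hG (by norm_num) (by norm_num)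
  have o27 : ∀ c ∈ O, c ^ 27 = 1 := fun c a => orderOf_dvd_iff_pow_eq_one.1 ((Subgroup.orderOf_dvd_natCard _ (hP a)).trans cP.dvd)
  have k3 : k ≤ 3 := (Nat.pow_dvd_pow_iff_le_right (by norm_num)).1 (hk ▸ cP ▸ card_dvd_of_le hP)
  have nO : ∀ g, (∀ c ∈ O, g * c * g⁻¹ ∈ C1 x) → g ∈ NS O := fun g a => mem_normalizer_fintype fun c b =>
    m27 r2 (a c b) (by rw [conj_pow, o27 c b]; simp)
  have CN : C1 x ≤ NS O := fun g a => nO g fun c b => (C1 x).mul_mem ((C1 x).mul_mem a (O1.le b)) ((C1 x).inv_mem a)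
  have vN : v ∈ NS O := nO v fun c b => m.2 (by
    rw [← inv_inv x, ← vx, conj_inv, conj_mul, conj_mul, (Commute.inv_right (m.1 (O1.le b))).eq])
  have N4 : 4 ∣ Nat.card (NS O) := (H1.isKleinFour_sup h.ot v2 (by rintro rfl; rw [H1.two_sq v2] at w2; simp at w2) tv.symm).card_four ▸
    card_dvd_of_le (sup_le (zpowers_le.2 (CN tC)) (zpowers_le.2 vN))
  have xi : x⁻¹ ≠ x := fun e => absurd (x3 ▸ orderOf_dvd_of_pow_eq_one (show x ^ 2 = 1 by rw [sq, ← inv_eq_iff_mul_eq_one, e])) (by norm_num)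
  by_cases K : k = 3
  · subst K
    obtain ⟨w, y, w1, w3, y1, y2, y3⟩ : ∃ w y, orderOf w = 2 ∧ w * x * w⁻¹ = x⁻¹ ∧ y ∈ O ∧ w * y * w⁻¹ = y ∧ y ≠ 1 := by
      by_contra! n
      have a := fpf vN (H1.two_sq v2) fun y => n v y v2 vx
      have b := fpf (mul_mem (CN tC) vN) (H1.two_sq w2) fun y => n _ y w2 (by
        rw [mul_inv_rev, ← mul_assoc, mul_assoc t, mul_assoc t, vx, (Commute.inv_right (m.1 tC)).eq, mul_inv_cancel_right])
      have := card_dvd_of_le (show O ≤ C1 t from fun y c => m.2 (by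
        have d := b _ (inv_mem c)
        rw [mul_inv_rev, ← mul_assoc, mul_assoc t, mul_assoc t, a _ (inv_mem c), inv_inv, mul_inv_eq_iff_eq_mul] at d
        exact d.symm))
      rw [hk, h.c48] at this
      omega
    have wx : w ∉ C1 x := fun a => xi (by rw [← w3, m.1 a, mul_inv_cancel_right])
    rw [mul_inv_eq_iff_eq_mul] at y2
    have yx : y ∉ zpowers x := fun a => wx ((C1_eq_prime cZ a y3).trans (C1_eq_prime cZ (mem_zpowers x) x1).symm ▸ m.2 y2)
    obtain ⟨g, g1, g2⟩ := cx w1 y2.symm (o27 y y1) y3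
    have cy : Nat.card (C1 y) = 54 := (card_centralizer_isConj (isConj_iff.2 ⟨g, g2⟩)).symm.trans cC.symm
    have xy : x * y = y * x := (m.1 (O1.le y1)).symm
    have e2 : ¬ 2 ∣ Nat.card (C1 x ⊓ C1 y : Subgroup G) := fun a => by
      obtain ⟨⟨u, u1⟩, u2⟩ := exists_prime_orderOf_dvd_card' 2 a
      rw [Subgroup.orderOf_mk] at u2
      refine yx ((eq_of_le_of_card_ge (show zpowers x ≤ O ⊓ C1 u from le_inf O2 (zpowers_le.2 (m.2 (m.1 u1.1).symm))) ?_).ge
        ⟨y1, m.2 (m.1 u1.2).symm⟩)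
      exact cZ ▸ Nat.le_of_dvd (by norm_num) (Nat.dvd_gcd (hk ▸ card_dvd_of_le inf_le_left) (c6 u2 (m.1 u1.1).symm x27 x1 ▸
        card_dvd_of_le (le_inf inf_le_right (inf_le_left.trans O1.le))) : _ ∣ Nat.gcd (3 ^ 3) 6)
    obtain ⟨j, j1, j2⟩ := (Nat.dvd_prime_pow Nat.prime_three (m := 3)).1 (Nat.Coprime.dvd_of_dvd_mul_right
      ((Nat.Prime.coprime_iff_not_dvd Nat.prime_two).2 e2).symm (cC ▸ card_dvd_of_le inf_le_left))
    have zE : zpowers x ≤ C1 x ⊓ C1 y := zpowers_le.2 ⟨m.2 rfl, m.2 xy⟩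
    have j3 : 1 < j := by_contra fun c => yx ((eq_of_le_of_card_ge zE (by
      rw [j2, cZ]; exact Nat.pow_le_pow_right (n := 3) (j := 1) (by norm_num) (by omega))).ge ⟨O1.le y1, m.2 rfl⟩)
    by_cases j4 : j = 2
    · subst j4
      exact ⟨_, L33.index13 hG (h.h13 cj hG) cC.symm cy j2 (fun a b c d => congrArg Subtype.val
        (IsPGroup.commutative_of_card_eq_prime_sq j2 ⟨a, b⟩ ⟨c, d⟩)) xy⟩
    obtain rfl : j = 3 := by omega
    have EO : C1 x ⊓ C1 y = O := eq_of_le_of_card_ge (fun c a => m27 r2 a.1 (orderOf_dvd_iff_pow_eq_one.1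
      ((Subgroup.orderOf_dvd_natCard _ a).trans j2.dvd))) (hk.trans j2.symm).le
    have r3 := H1.card_mul_relIndex (EO.ge.trans inf_le_right)
    rw [hk, cy] at r3
    have gN : g ∈ NS O := nO g fun c a => O1.le (m27 (L := C1 y) (by omega) (m.2 (by rw [← g2, conj_mul, conj_mul, m.1 (O1.le a)]))
      (by rw [conj_pow, o27 c a]; simp))
    obtain rfl : O = P := eq_of_le_of_card_ge hP (cP.trans hk.symm).le
    have i1 := (H1.isSylowIn_top P).relIndex_normalizer_modEq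
    have i2 := card_mul_index (NS (P : Subgroup G))
    have i3 := H1.card_mul_relIndex CN
    rw [relIndex_top_right] at i1
    obtain ⟨s, i4⟩ : 4 * 27 ∣ Nat.card (NS (P : Subgroup G)) := Nat.Coprime.mul_dvd_of_dvd_of_dvd (by norm_num) N4
      (cP.ge.antisymm cP.le ▸ card_dvd_of_le le_normalizer : 3 ^ 3 ∣ _)
    have i5 : (NS (P : Subgroup G)).index ∣ 52 := ⟨s, by rw [i4, hG] at i2; nlinarith⟩
    rcases (show ∀ i < 53, i ∣ 52 → i % 3 = 1 % 3 → i = 1 ∨ i = 4 ∨ i = 13 ∨ i = 52 by decide) _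
      (Nat.lt_succ_of_le (Nat.le_of_dvd (by norm_num) i5)) i5 i1 with e | e | e | e
    · exact absurd (o27 _ (mul_mem (O2 (mem_zpowers x)) ((mem_normalizer_iff.1 ((index_eq_one.1 e).ge trivial) _).1
        (inv_mem (O2 (mem_zpowers x)))))) qx
    · obtain ⟨Q, q1⟩ := H1.exists_isSylowIn (p := 13) (NS (P : Subgroup G))
      have cN : Nat.card (NS (P : Subgroup G)) = 1404 := by rw [e, hG] at i2; omega
      have q2 := q1.relIndex_normalizer_modEq
      have q3 := H1.relIndex_mul_card_inf (NS Q) (NS (P : Subgroup G))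
      have q4 := (h.n39 cj hG (X := Q) (by rw [q1.card_eq, cN]; decide +kernel)).2 ▸ card_dvd_of_le (inf_le_right : NS (P : Subgroup G) ⊓ NS Q ≤ _)
      have := Nat.le_of_dvd (by norm_num) q4
      rw [cN] at q3
      rw [Nat.ModEq] at q2
      simp only [NS] at q2 q3 q4 this
      generalize Nat.card (normalizer ((P : Subgroup G) : Set G) ⊓ normalizer (Q : Set G) : Subgroup G) = c at *
      interval_cases c <;> omega
    · exact ⟨_, e⟩
    · rw [e, hG] at i2
      rw [← cC] at i3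
      exact (wx (g1 ▸ (normal_of_index_eq_two (show ((C1 x).subgroupOf (NS (P : Subgroup G))).index = 2 by
        rw [relIndex] at i3; omega)).conj_mem ⟨t, CN tC⟩ tC ⟨g, gN⟩)).elim
  exfalso
  haveI : Nontrivial P := Finite.one_lt_card_iff_nontrivial.1 (by rw [cP]; norm_num)
  haveI := P.isPGroup'.center_nontrivial
  obtain ⟨⟨⟨z, zP⟩, z0⟩, z1⟩ := exists_ne (1 : center P)
  replace z1 : z ≠ 1 := fun e => z1 (Subtype.ext (Subtype.ext e))
  have z2 : (P : Subgroup G) ≤ C1 z := fun y a => m.2 (congrArg Subtype.val (mem_center_iff.1 z0 ⟨y, a⟩))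
  have z27 : z ^ 27 = 1 := orderOf_dvd_iff_pow_eq_one.1 ((Subgroup.orderOf_dvd_natCard _ zP).trans cP.dvd)
  have zO : z ∈ O := m27 r2 (m.2 (m.1 (z2 (hP (O2 (mem_zpowers x))))).symm) z27
  have z3 : Nat.card (C1 z) ≠ Nat.card (C1 x) := fun e => by
    have := card_dvd_of_le z2
    rw [e, cP, ← cC] at this
    interval_cases k <;> omega
  obtain rfl : k = 2 := by_contra fun c => z3 (by
    rw [C1_eq_prime cZ ((eq_of_le_of_card_ge O2 (by
      rw [hk, cZ]; exact Nat.pow_le_pow_right (n := 3) (j := 1) (by norm_num) (by omega))).ge zO) z1, C1_eq_prime cZ (mem_zpowers x) x1])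
  have PN : (P : Subgroup G) ≤ NS O := (normal_subgroupOf_iff_le_normalizer hP).1 (normal_of_index_eq_minFac_card (by
    have := H1.card_mul_relIndex hP
    rw [hk, cP] at this
    rw [cP, show (O.subgroupOf P).index = 3 by rw [relIndex] at this; omega]; norm_num))
  have xN : x ∈ NS O := CN (m.2 rfl)
  have i1 := card_class_eq_index (⟨x, xN⟩ : NS O)
  rw [show centralizer {(⟨x, xN⟩ : NS O)} = (C1 x).subgroupOf (NS O) from Subgroup.ext fun y =>
    mem_centralizer_singleton_iff.trans (Subtype.ext_iff.trans m.symm), Nat.card_eq_fintype_card, Fintype.card_subtype] at i1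
  have i2 := H1.card_mul_relIndex CN
  obtain ⟨s, i4⟩ : 4 * 27 ∣ Nat.card (NS O) := Nat.Coprime.mul_dvd_of_dvd_of_dvd (by norm_num) N4 (cP ▸ card_dvd_of_le PN : 3 ^ 3 ∣ _)
  have s0 : s ≠ 0 := by rintro rfl; exact Nat.card_pos.ne' i4
  rw [← cC, i4, relIndex, ← i1] at i2
  have inv : ∀ w ∈ NS O, orderOf w = 2 → w * z * w⁻¹ = z⁻¹ := fun w a b => by_contra fun c => by
    have d : w * z * w⁻¹ ≠ z := fun d => by
      obtain ⟨g, -, e⟩ := cx b (mul_inv_eq_iff_eq_mul.1 d).symm z27 z1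
      exact z3 (card_centralizer_isConj (isConj_iff.2 ⟨g, e⟩)).symm
    have zi : z ≠ z⁻¹ := fun e => z1 (orderOf_eq_one_iff.1 (Nat.dvd_one.1 (Nat.dvd_gcd (orderOf_dvd_of_pow_eq_one z27)
      (orderOf_dvd_of_pow_eq_one (show z ^ 2 = 1 by rw [sq, mul_eq_one_iff_eq_inv]; exact e)) : _ ∣ Nat.gcd 27 2)))
    have := card_le_card (show (univ.filter (IsConj (⟨x, xN⟩ : NS O))).map (Function.Embedding.subtype _) ∪ {1, z, z⁻¹, w * z * w⁻¹} ⊆
      univ.filter (· ∈ O) from fun y e => mem_filter.2 ⟨mem_univ _, (mem_union.1 e).elim (fun e => by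
        obtain ⟨y', e0, rfl⟩ := Finset.mem_map.1 e
        obtain ⟨g, rfl⟩ := isConj_iff.1 (mem_filter.1 e0).2
        exact (mem_normalizer_iff.1 g.2 x).1 (O2 (mem_zpowers x))) fun e => by
          simp only [mem_insert, mem_singleton] at e
          rcases e with rfl | rfl | rfl | rfl
          exacts [one_mem _, zO, inv_mem zO, (mem_normalizer_iff.1 a z).1 zO]⟩)
    rw [card_union_of_disjoint (disjoint_left.2 fun y e e' => by
        obtain ⟨y', e0, rfl⟩ := Finset.mem_map.1 e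
        replace e := (NS O).subtype.map_isConj (mem_filter.1 e0).2
        have q := card_centralizer_isConj e
        simp only [mem_insert, mem_singleton, Function.Embedding.coe_subtype, coe_subtype] at e' e q
        rcases e' with k | k | k | k <;> rw [k] at e q
        · exact x1 (isConj_one_left.1 e)
        · exact z3 q.symm
        · exact z3 (Eq.trans (by congr 2; ext y; exact m.trans (Commute.inv_right_iff.symm.trans m.symm)) q.symm)
        · exact z3 ((card_centralizer_isConj (isConj_iff.2 ⟨w, rfl⟩)).trans q.symm)), card_map,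
      card_eq_four.2 ⟨_, _, _, _, z1.symm, by simpa using z1, by simpa [eq_comm] using z1, zi, d.symm, Ne.symm c, rfl⟩,
      ← Fintype.card_subtype (· ∈ O), ← Nat.card_eq_fintype_card (α := {y // y ∈ O}), hk] at this
    generalize #(filter (IsConj (⟨x, xN⟩ : NS O)) univ) = n at *
    omega
  have a := inv _ (mul_mem (CN tC) vN) w2
  rw [mul_inv_rev, ← mul_assoc, mul_assoc t, mul_assoc t, inv v vN v2, ← conj_inv, inv t (CN tC) h.ot, inv_inv] at a
  exact z1 (orderOf_eq_one_iff.1 (Nat.dvd_one.1 (Nat.dvd_gcd (orderOf_dvd_of_pow_eq_one z27)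
    (orderOf_dvd_of_pow_eq_one (show z ^ 2 = 1 by rw [sq, mul_eq_one_iff_eq_inv]; exact a)) : _ ∣ Nat.gcd 27 2)))

end V
end WG
end H3
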