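import Cfsg.Agent.H3.Mono
import Cfsg.Agent.H1.Basic

/-!
H3.Wr: the wreath product of an M-group with a group of prime order is an M-group.
-/

set_option autoImplicit false
open Cfsg Subgroup Finset
open scoped Classical

namespace H3
namespace Wr
universe u

theorem inner_pi {ι : Type*} [Fintype ι] {A : ι → Type*} [∀ i, Group (A i)] [∀ i, Fintype (A i)] (a b : ∀ i, A i → ℂ) :
    classInner (fun x : ∀ i, A i => ∏ i, a i (x i)) (fun x => ∏ i, b i (x i)) = ∏ i, classInner (a i) (b i) := by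
  simp only [classInner, Nat.card_pi, map_prod, prod_mul_distrib, prod_univ_sum, Fintype.piFinset_univ, Nat.cast_prod, prod_inv_distrib]

theorem irr_pi {ι M : Type*} [Fintype ι] [Group M] [Fintype M] {θ : (ι → M) → ℂ} (h : IsIrrCharacter (ι → M) θ) :
    ∃ φ : ι → M → ℂ, (∀ i, IsIrrCharacter M (φ i)) ∧ θ = fun b => ∏ i, φ i (b i) := by
  by_contra! n
  have r : regChar (ι → M) = ∑ φ : ι → IrrCharacter M, (∏ i, (φ i).1 1) • fun b : ι → M => ∏ i, (φ i).1 (b i) := by
    ext b
    have : regChar (ι → M) b = ∏ i, regChar M (b i) := by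
      by_cases e : b = 1
      · simp [e, regChar_one]
      · obtain ⟨i, a⟩ := Function.ne_iff.1 e
        rw [regChar_ne e, prod_eq_zero (mem_univ i) (regChar_ne (g := b i) a)]
    simp only [this, regChar_eq_sum (G := M), Finset.sum_apply, Pi.smul_apply, smul_eq_mul, prod_univ_sum, Fintype.piFinset_univ, prod_mul_distrib]
  refine irr_one_ne_zero h ?_
  rw [← inner_regChar_right θ, r, inner_sum_right]
  refine sum_eq_zero fun φ _ => ?_
  rw [inner_smul_right, irr_inner_ne h (isIrr_of_norm_one ?_ ?_) (n _ fun i => (φ i).2), mul_zero]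
  · convert prod_induction (s := univ) (fun i (b : ι → M) => (φ i).1 (b i)) (IsCharacter _) (fun _ _ => char_mul) char_one
      fun i _ => char_comp (irr_char (φ i).2) (Pi.evalMonoidHom (fun _ => M) i) using 1
    ext; simp
  · rw [inner_pi]; exact prod_eq_one fun i _ => irr_inner_self (φ i).2

theorem mon_of {G H : Type*} [Group G] [Fintype G] [Group H] [Fintype H] {χ : G → ℂ} (h : IsIrrCharacter G χ) (j : H →* G)
    (i : Function.Injective j) (l : H →* ℂˣ) (a : classInner (fun x => χ (j x)) (fun x => (l x : ℂ)) ≠ 0) {d : ℕ} (hd : χ 1 = d)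
    (b : Nat.card G ≤ Nat.card H * d) : ∃ (K : Subgroup G) (lam : K →* ℂˣ), χ = indFun K fun h => (lam h : ℂ) := by
  let e := MonoidHom.ofInjective i
  refine ⟨j.range, l.comp e.symm.toMonoidHom, ?_⟩
  have c := char_sub_of_inner_ne_zero (char_indFun j.range (char_hom (l.comp e.symm.toMonoidHom))) h (by
    rw [ne_eq, inner_eq_zero_symm, inner_indFun_right _ _ (irr_class h), ← inner_comp_equiv e]
    simpa [e, MonoidHom.ofInjective_apply] using a)
  have f : indFun j.range (fun h => ((l.comp e.symm.toMonoidHom) h : ℂ)) 1 = (j.range.index : ℕ) := by simp [indFun_one]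
  refine (eq_of_sub_char_of_degree c ?_).symm
  rw [← j.range.card_mul_index, ← Nat.card_congr e.toEquiv] at b
  rw [f, hd, le_antisymm (degree_le_of_sub c f hd) (Nat.le_of_mul_le_mul_left b Nat.card_pos)]

/-- the base group -/
def eB (D Q : Type*) [Group D] [Group Q] : (Q → D) ≃* (RegularWreathProduct.rightHom : D ≀ᵣ Q →* Q).ker where
  toFun f := ⟨⟨f, 1⟩, rfl⟩
  invFun x := x.1.left
  left_inv _ := rfl
  right_inv x := Subtype.ext (RegularWreathProduct.ext rfl x.2.symm)
  map_mul' _ _ := Subtype.ext (by ext <;> simp)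

theorem wreath {M Q : Type u} [Group M] [Fintype M] [Group Q] [Fintype Q] [Fintype (M ≀ᵣ Q)] (hQ : (Nat.card Q).Prime)
    (hM : ∀ χ : M → ℂ, IsIrrCharacter M χ → ∃ (H : Subgroup M) (lam : H →* ℂˣ), χ = indFun H fun h => (lam h : ℂ))
    (χ : M ≀ᵣ Q → ℂ) (h : IsIrrCharacter _ χ) : ∃ (H : Subgroup (M ≀ᵣ Q)) (lam : H →* ℂˣ), χ = indFun H fun h => (lam h : ℂ) := by
  obtain ⟨θ, t1, t2⟩ := exists_irr_under (RegularWreathProduct.rightHom : M ≀ᵣ Q →* Q).ker h
  obtain ⟨φ, p1, p2⟩ := irr_pi (irr_comp_equiv t1 (eB M Q))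
  obtain ⟨d, -, hd⟩ := irr_one_nat h
  obtain ⟨m, hm⟩ := inner_char_nat (char_restrict (irr_char h) _) (irr_char t1)
  have m0 : 0 < m := Nat.pos_of_ne_zero (by rintro rfl; exact t2 (by simpa using hm))
  have cd := clifford_degree _ h t1 t2
  have core : ∀ (H : Q → Subgroup M) (l : ∀ q, H q →* ℂˣ), (∀ q, φ q = indFun (H q) fun h => (l q h : ℂ)) →
      classInner (fun x : ∀ q, H q => χ ⟨fun q => x q, 1⟩) (fun x => ∏ q, (l q (x q) : ℂ)) ≠ 0 ∧
      ∃ n : ℕ, θ 1 = n ∧ Nat.card M ^ Nat.card Q = Nat.card (∀ q, H q) * n := fun H l e => by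
    let j : (∀ q, H q) →* _ := (eB M Q).toMonoidHom.comp (Pi.monoidHom fun q => (H q).subtype.comp (Pi.evalMonoidHom _ q))
    refine ⟨constituent_of_sub (char_comp (char_sub_of_inner_ne_zero (char_restrict (irr_char h) _) t1 t2) j) (char_comp (irr_char t1) j) ?_ ?_,
      ∏ q, (H q).index, ?_, ?_⟩
    · convert char_hom (∏ q, (l q).comp (Pi.evalMonoidHom (fun q => H q) q)) using 1
      ext; simp
    · have : (fun x => θ (j x)) = fun x : ∀ q, H q => ∏ q, φ q (x q) := funext fun x => congrFun p2 fun q => x q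
      rw [this, inner_pi (fun q (y : H q) => φ q y) fun q y => (l q y : ℂ), prod_eq_one fun q _ => by
        rw [← inner_indFun_right _ _ (irr_class (p1 q)), ← e, irr_inner_self (p1 q)]]
      exact one_ne_zero
    · rw [← map_one (eB M Q), congrFun p2 1, Nat.cast_prod]
      exact prod_congr rfl fun q _ => by simp [e q, indFun_one]
    · simp only [Nat.card_pi, ← prod_mul_distrib, card_mul_index, prod_const, card_univ, Nat.card_eq_fintype_card (α := Q)]
  by_cases k : ∀ q, φ q = φ 1
  · obtain ⟨H, l, e⟩ := hM _ (p1 1)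
    obtain ⟨c1, n, c2, c3⟩ := core (fun _ => H) (fun _ => l) fun q => (k q).trans e
    letI := Fintype.ofFinite (H ≀ᵣ Q)
    let j : H ≀ᵣ Q →* M ≀ᵣ Q := MonoidHom.mk' (fun x => ⟨fun q => x.left q, x.right⟩) fun _ _ => by ext <;> simp
    let ν : H ≀ᵣ Q →* ℂˣ := MonoidHom.mk' (fun x => ∏ q, l (x.left q)) fun a b => by
      simp only [RegularWreathProduct.mul_left, Pi.mul_apply, map_mul, prod_mul_distrib]
      rw [Fintype.prod_equiv (Equiv.mulLeft a.right⁻¹) (fun q => l (b.left (a.right⁻¹ * q))) (fun q => l (b.left q)) fun _ => rfl]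
    have cχ := char_comp (irr_char h) j
    obtain ⟨ψ, s1, s2, s3⟩ : ∃ ψ, IsIrrCharacter (H ≀ᵣ Q) ψ ∧ classInner (fun x => χ (j x)) ψ ≠ 0 ∧
        classInner (fun x => ψ (eB H Q x)) (fun x => (ν (eB H Q x) : ℂ)) ≠ 0 := by
      by_contra! z
      refine c1 ?_
      have : (fun x : Q → H => χ ⟨fun q => x q, 1⟩) = ∑ ψ : IrrCharacter (H ≀ᵣ Q), classInner (fun x => χ (j x)) ψ • fun x => ψ.1 (eB H Q x) :=
        funext fun x => (class_apply_eq_sum (char_class cχ) (eB H Q x)).trans (by simp)
      rw [this, inner_sum_left]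
      refine sum_eq_zero fun ψ _ => ?_
      rw [inner_smul_left]
      by_cases a : classInner (fun x => χ (j x)) ψ = 0
      · rw [a, zero_mul]
      · refine mul_eq_zero_of_right _ (Eq.trans ?_ (z ψ ψ.2 a))
        congr 1; ext; simp [ν, eB]
    have s4 := irr_mul_hom s1 ν⁻¹
    obtain ⟨w, -, -, s5⟩ := clifford_invariant_nat (RegularWreathProduct.rightHom : H ≀ᵣ Q →* Q).ker s4 isIrr_one (fun _ => rfl) (by
      rw [← inner_comp_equiv (eB H Q)]
      refine fun a => s3 (Eq.trans ?_ a)
      simp only [classInner, Pi.mul_apply, MonoidHom.inv_apply, map_one, mul_one, ← hom_inv_eq_conj, map_inv, Units.val_inv_eq_inv_val])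
    haveI : Fact (Nat.card Q).Prime := ⟨hQ⟩
    have s6 := (degree_one_iff_commutator_le s4).2 (commutator_le.2 fun a _ b _ => (mem_charKer (irr_char s4) _).2
      ((s5 ⟨_, by rw [MonoidHom.mem_ker, map_commutatorElement, commutatorElement_eq_one_iff_mul_comm]
                  exact (isCyclic_of_prime_card (p := Nat.card Q) rfl).isMulCommutative.1.1 _ _⟩).trans (s5 1).symm))
    obtain ⟨f, rfl⟩ := exists_hom_of_degree_one (irr_char s1) (by simpa using s6)
    refine mon_of h j (fun a b c => RegularWreathProduct.ext (funext fun q => Subtype.ext (congrFun (congrArg (·.left) c) q))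
      (congrArg (·.right) c)) f s2 hd ?_
    rw [hd, hm, c2] at cd
    rw [RegularWreathProduct.card, RegularWreathProduct.card, c3, Nat.card_fun, mul_right_comm]
    refine Nat.mul_le_mul_left _ ?_
    rw [show d = m * (inertia _ θ).index * n by exact_mod_cast cd]
    exact Nat.le_mul_of_pos_left _ (Nat.mul_pos m0 (Nat.pos_of_ne_zero FiniteIndex.index_ne_zero))
  choose H l e using fun q => hM _ (p1 q)
  obtain ⟨c1, n, c2, c3⟩ := core H l e
  have i : (inertia _ θ).index = Nat.card Q := by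
    have a := index_dvd_of_le (le_inertia _ (irr_class t1))
    rw [index_ker, MonoidHom.range_eq_top.2 fun q => ⟨_, RegularWreathProduct.fun_id q⟩, card_top] at a
    refine ((Nat.dvd_prime hQ).1 a).resolve_left fun b => k fun q => ?_
    have s : ∀ q x, θ (eB M Q (Pi.mulSingle q x)) = (∏ r ∈ univ.erase q, φ r 1) * φ q x := fun q x => by
      rw [congrFun p2 _, ← prod_erase_mul _ _ (mem_univ q), Pi.mulSingle_eq_same]
      exact congrArg (· * _) (prod_congr rfl fun r a => by rw [Pi.mulSingle_eq_of_ne (ne_of_mem_erase a)])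
    have z : ∀ q, ∏ r ∈ univ.erase q, φ r 1 ≠ 0 := fun q => prod_ne_zero_iff.2 fun r _ => irr_one_ne_zero (p1 r)
    have u : (∏ r ∈ univ.erase q, φ r 1) • φ q = (∏ r ∈ univ.erase 1, φ r 1) • φ 1 := funext fun x => by
      rw [Pi.smul_apply, Pi.smul_apply, smul_eq_mul, smul_eq_mul, ← s, ← s,
        ← (mem_inertia' _).1 ((index_eq_one.1 b).ge (mem_top (RegularWreathProduct.inl q))) (eB M Q (Pi.mulSingle 1 x))]
      congr 1
      ext r
      · simp [eB, Pi.mulSingle_apply, inv_mul_eq_one, eq_comm]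
      · simp [eB]
    refine irr_eq_of_inner_ne_zero (p1 q) (p1 1) fun a => z 1 ?_
    have := congrArg (classInner · (φ 1)) u
    simpa only [inner_smul_left, a, irr_inner_self (p1 1), mul_zero, mul_one, eq_comm] using this
  refine mon_of h ((RegularWreathProduct.rightHom : M ≀ᵣ Q →* Q).ker.subtype.comp ((eB M Q).toMonoidHom.comp
    (Pi.monoidHom fun q => (H q).subtype.comp (Pi.evalMonoidHom _ q)))) (fun a b c => funext fun q => Subtype.ext
      (congrFun (congrArg (·.left) c) q)) (∏ q, (l q).comp (Pi.evalMonoidHom (fun q => H q) q)) (by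
        refine fun a => c1 (Eq.trans ?_ a)
        congr 1; ext; simp) hd ?_
  rw [hd, hm, c2, i] at cd
  rw [RegularWreathProduct.card, c3, mul_assoc, show d = m * Nat.card Q * n by exact_mod_cast cd, mul_assoc, mul_comm n]
  exact Nat.mul_le_mul_left _ (Nat.le_mul_of_pos_left _ m0)

theorem embed (n : ℕ) : ∀ (G : Type u) [Group G] [Finite G] [Group.IsSolvable G], Nat.card G ≤ n → ∃ (M : Type u) (_ : Group M) (_ : Fintype M),
    (∀ χ : M → ℂ, IsIrrCharacter M χ → ∃ (H : Subgroup M) (lam : H →* ℂˣ), χ = indFun H fun h => (lam h : ℂ)) ∧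
      ∃ f : G →* M, Function.Injective f := by
  induction n with
  | zero => intro G _ _ _ h; exact absurd Nat.card_pos (not_lt.2 h)
  | succ n ih =>
    intro G _ _ _ h
    rcases subsingleton_or_nontrivial G with _ | _
    · letI := Fintype.ofFinite G
      exact ⟨G, _, _, fun _ => monomial_of_nilpotent, MonoidHom.id G, fun _ _ => id⟩
    obtain ⟨N, _, p⟩ := H1.exists_normal_prime_index (G := G)
    obtain ⟨M, _, _, a, f, b⟩ := ih N (by
      have := N.card_mul_index
      have := p.two_le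
      have : 0 < Nat.card N := Nat.card_pos
      nlinarith)
    letI := Fintype.ofFinite (G ⧸ N)
    letI := Fintype.ofFinite (M ≀ᵣ (G ⧸ N))
    refine ⟨M ≀ᵣ (G ⧸ N), _, _, wreath p a, MonoidHom.mk' (fun g => ⟨fun x => f ⟨x.out⁻¹ * g * ((g : G ⧸ N)⁻¹ * x).out,
      (QuotientGroup.eq_one_iff _).1 (by simp)⟩, g⟩) fun g k => ?_, (injective_iff_map_eq_one _).2 fun g e => ?_⟩
    · ext x
      · simp only [RegularWreathProduct.mul_left, Pi.mul_apply, ← map_mul]
        congr 1
        ext
        simp [mul_assoc]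
      · rfl
    · have e1 : (g : G ⧸ N) = 1 := congrArg (·.right) e
      have e2 := congrArg Subtype.val ((map_eq_one_iff f b).1 (congrFun (congrArg (·.left) e) 1))
      simpa [e1, mul_assoc, inv_mul_eq_one] using e2

end Wr
end H3
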