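import Cfsg.Agent.H3.Zass
import Cfsg.Agent.H3.Tifn

/-!
H3.Zass2: Feit's theorem on Zassenhaus groups with two-point stabilizers of odd order: `ZG.feit`, `zass_feit`.
-/

set_option autoImplicit false
open Cfsg MulAction Subgroup
open scoped ComplexConjugate

namespace H3

variable {G Ω : Type*} [Group G] [MulAction G Ω] {a b : Ω} {H : Subgroup G} {u w : G}

open Classical in
theorem inner_ind_hom [Fintype G] (N : Subgroup G) {s : Finset G} (hs : IsDblReps N N s) (μ μ' : N →* ℂˣ) :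
    classInner (indFun N (hf μ')) (indFun N (hf μ)) =
      ∑ g ∈ s, if ∀ (y : N) (e : g⁻¹ * y * g ∈ N), μ' ⟨_, e⟩ = μ y then 1 else 0 := by
  rw [inner_indFun_right _ _ (class_indFun _ _), mackey _ _ hs (char_class (char_hom μ')), inner_sum_left]
  refine Finset.sum_congr rfl fun g _ => ?_
  rw [inner_indFun_left _ _ (char_class (char_hom μ))]
  have := inner_hf (μ'.comp (((cjHom N g).comp (N.comap (cjHom N g)).subtype).codRestrict N fun x => x.2))
    (μ.comp (N.comap (cjHom N g)).subtype)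
  refine this.trans (if_congr ?_ rfl rfl)
  exact ⟨fun e y f => DFunLike.congr_fun e ⟨y, f⟩, fun e => MonoidHom.ext fun y => e y.1 y.2⟩

open Classical in
theorem sum_irr_split {L M : Type*} [Group L] [Fintype L] [AddCommMonoid M] {K Z : Subgroup L} [K.Normal] [Z.Normal]
    (hZ : Z ≤ K) (hX : ∀ χ ∈ SI K Z ⊥, IsIrrCharacter L χ) (F : (L → ℂ) → M) :
    ∑ φ : IrrCharacter L, F φ = ∑ φ : IrrCharacter L with Kr φ.1 Z, F φ + ∑ χ ∈ SIf K Z ⊥, F χ := by
  rw [← Finset.sum_filter_add_sum_filter_not Finset.univ fun φ : IrrCharacter L => Kr φ.1 Z]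
  congr 1
  refine Finset.sum_bij (fun φ _ => φ.1) (fun φ e => mem_SIf.2 (SI_eq_irr hZ hX ▸ ⟨φ.2, (Finset.mem_filter.1 e).2⟩))
    (fun _ _ _ _ => Subtype.ext) (fun χ e => ?_) fun _ _ => rfl
  exact ⟨⟨χ, hX χ (mem_SIf.1 e)⟩, Finset.mem_filter.2 ⟨by simp, (mem_SIf.1 e).2.1⟩, rfl⟩

namespace ZG
variable (h : ZG a b H)
include h

theorem tih : TIH (stabilizer G a).subtype (H.subgroupOf (stabilizer G a)) := fun g x p q y r e =>
  ⟨⟨g, h.ti p (by simpa using q) (show _ ∈ H from (show g * x * g⁻¹ = y from e) ▸ r)⟩, rfl⟩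
theorem frob : FrobMod (H.subgroupOf (stabilizer G a)) ⊥ := fun k p q x e =>
  h.cent p (by simpa using q) (by simpa [mul_inv_eq_iff_eq_mul] using congrArg Subtype.val (mem_bot.1 e))

variable [Fintype G] [Finite Ω] [Fintype (stabilizer G a)]

omit [Fintype (stabilizer G a)] in
theorem ind_apply {θ : stabilizer G a → ℂ} (c : IsClassFunction _ θ) (hu : u ∈ H) (h1 : u ≠ 1) :
    indFun (stabilizer G a) θ u = θ ⟨u, h.le hu⟩ :=
  indFun_ti_apply _ c ⟨u, h.le hu⟩ fun x e f => absurd (inv_smul_eq_iff.1 (h.fix hu h1 (conj_smul_iff.1 f))).symm e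

open Classical in
theorem inner_ind (w1 : w • a = b) (w2 : w • b = a) (μ μ' : stabilizer G a →* ℂˣ) :
    classInner (indFun (stabilizer G a) (hf μ')) (indFun (stabilizer G a) (hf μ)) = (if μ' = μ then 1 else 0) +
      if ∀ (y : stabilizer G a) (e : w⁻¹ * y * w ∈ stabilizer G a), μ' ⟨_, e⟩ = μ y then 1 else 0 := by
  have hw : w ∉ stabilizer G a := fun e => h.ne (e.symm.trans w1)
  have hs : IsDblReps (stabilizer G a) (stabilizer G a) {1, w} := fun x => by
    have k : ∀ g, (∃ p ∈ stabilizer G a, ∃ q ∈ stabilizer G a, x = p * g * q) → (x ∈ stabilizer G a ↔ g ∈ stabilizer G a) := by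
      rintro g ⟨p, p', q, q', rfl⟩
      rw [Subgroup.mul_mem_cancel_right _ q', Subgroup.mul_mem_cancel_left _ p']
    by_cases e : x ∈ stabilizer G a
    · refine ⟨1, ⟨by simp, x, e, 1, one_mem _, by simp⟩, fun g p => ?_⟩
      exact (Finset.mem_insert.1 p.1).resolve_right fun f => hw (Finset.mem_singleton.1 f ▸ (k g p.2).1 e)
    · obtain ⟨u, p, q⟩ := h.reg e
      refine ⟨w, ⟨by simp, u, h.le p, w⁻¹ * u⁻¹ * x, by simp [mul_smul, ← q, inv_smul_eq_iff, w1], by group⟩, fun g p => ?_⟩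
      exact Finset.mem_singleton.1 ((Finset.mem_insert.1 p.1).resolve_left fun f => e ((k g p.2).2 (f ▸ one_mem _)))
  rw [inner_ind_hom _ hs, Finset.sum_pair (fun e : 1 = w => hw (e ▸ one_mem _))]
  simp [MonoidHom.ext_iff]

theorem irr_St : IsIrrCharacter G (indFun (stabilizer G a) (hf 1) - fun _ => 1) := by
  obtain ⟨w, w1, w2⟩ := h.exists_swap
  have e := h.inner_ind w1 w2 1 1
  have f : classInner (indFun (stabilizer G a) (hf 1)) (fun _ => 1) = 1 := by
    rw [inner_indFun_left _ _ (class_const 1)]; exact irr_inner_self isIrr_one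
  refine isIrr_of_gen_norm_one (gen_sub (gen_indFun _ (irr_gen (isIrr_hom 1))) gen_one) ?_ (by simp [indFun_one, h.indexN])
  rw [inner_sub_left, inner_sub_right, inner_sub_right, e, f, ← inner_conj_symm, f, irr_inner_self isIrr_one]
  simp

theorem exists_two_classes (ho : Odd (Nat.card (St2 G a b))) :
    ∃ x y : G, (∀ c : Ω, x • c ≠ c) ∧ (∀ c : Ω, y • c ≠ c) ∧ ¬ IsConj x y := by
  classical
  have := h.trans
  have e1 := irr_inner_ne h.irr_St isIrr_one fun e => by
    have := congrFun e 1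
    simp only [indFun_one, h.indexN, Pi.sub_apply, hf, MonoidHom.one_apply, Units.val_one, mul_one, sub_eq_iff_eq_add] at this
    norm_cast at this
    have := h.lt; have := h.one_lt; omega
  have e2 := sum_norm_sq_irr h.irr_St
  rw [show indFun (stabilizer G a) (hf 1) = fun g => (Nat.card (fixedBy Ω g) : ℂ) from (perm_eq_indFun Ω a).symm] at e1 e2
  set F := Finset.univ.filter fun x : G => ∀ c : Ω, x • c ≠ c
  have e3 : ∑ g : G, ((Nat.card (fixedBy Ω g) : ℝ) - 1) = 0 := by
    simp only [classInner, map_one, mul_one, mul_eq_zero, inv_eq_zero, card_ne_zero' G, false_or, Pi.sub_apply] at e1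
    exact_mod_cast e1
  have e4 : ∀ g : G, ‖(Nat.card (fixedBy Ω g) : ℂ) - 1‖ ^ 2 = ((Nat.card (fixedBy Ω g) : ℝ) - 1) +
      ((if g = 1 then (Nat.card H * (Nat.card H - 1) : ℝ) else 0) + if g ∈ F then 2 else 0) := fun g => by
    rw [← Complex.ofReal_natCast, ← Complex.ofReal_one, ← Complex.ofReal_sub, Complex.norm_real, Real.norm_eq_abs,
      sq_abs]
    by_cases g1 : g = 1
    · have : (1 : G) ∉ F := by simpa [F] using ⟨a⟩
      simp [g1, this, ← h.card]; ring
    have : Nat.card (fixedBy Ω g) ≤ 2 := by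
      by_contra! e
      obtain ⟨c, d, f, p, q, r, s, t, u⟩ := (Set.two_lt_ncard_iff (Set.toFinite _)).1 e
      exact g1 (h.three g c d f s u t p q r)
    by_cases g2 : g ∈ F
    · have : IsEmpty (fixedBy Ω g) := ⟨fun c => (Finset.mem_filter.1 g2).2 c c.2⟩
      simp [g1, g2]; norm_num
    have : Nonempty (fixedBy Ω g) := by simpa [F] using g2
    have := Nat.card_pos (α := fixedBy Ω g)
    interval_cases Nat.card (fixedBy Ω g) <;> simp [g1, g2]; norm_num
  simp only [Pi.sub_apply, e4, Finset.sum_add_distrib, e3, Finset.sum_ite_eq', Finset.sum_ite_mem, Finset.mem_univ, if_true,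
    Finset.univ_inter, Finset.sum_const, zero_add, nsmul_eq_mul] at e2
  have l1 := h.lt
  have l2 : 3 ≤ Nat.card (St2 G a b) := by have := h.one_lt; obtain ⟨k, e⟩ := ho; omega
  obtain ⟨n, hn⟩ := Nat.exists_eq_add_of_lt (n := Nat.card H) Nat.card_pos
  have e5 : (n + 1) * n + F.card * 2 = Nat.card G := by
    rw [hn] at e2; push_cast at e2; rw [zero_add, add_sub_cancel_right] at e2; exact_mod_cast e2
  have e6 := h.cardG
  rw [hn, zero_add] at e6 l1
  obtain ⟨x, hx⟩ := Finset.card_pos.1 (show 0 < F.card by nlinarith)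
  by_contra! k
  have hx := (Finset.mem_filter.1 hx).2
  have e7 := card_class_mul_card_centralizer x
  rw [Nat.card_eq_fintype_card, Fintype.card_subtype, show Finset.univ.filter (IsConj x) = F from Finset.filter_congr fun y _ =>
    ⟨fun e c f => by obtain ⟨g, rfl⟩ := isConj_iff.1 e; exact hx _ (conj_smul_iff.1 f), k x y hx⟩] at e7
  have e8 := (one_lt_card_iff_ne_bot (centralizer {x})).2 fun e =>
    hx a (by rw [mem_bot.1 (e.le (mem_centralizer_singleton_iff.2 rfl)), one_smul])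
  generalize Nat.card (centralizer {x}) = c at *
  generalize Nat.card (St2 G a b) = e at *
  rcases (show c = 2 ∨ 3 ≤ c by omega) with rfl | l
  · nlinarith
  · nlinarith [Nat.mul_le_mul_left F.card l, Nat.mul_le_mul_left ((n + 1 + 1) * (n + 1)) l2]

variable (ho : Odd (Nat.card (St2 G a b))) (hp : commutator G = ⊤)
include ho hp

omit [Fintype (stabilizer G a)] in
theorem der_le : commutator (stabilizer G a) ≤ H.subgroupOf (stabilizer G a) := by
  have n := fun {X : Subgroup G} (e : X ≤ stabilizer G a) => e.trans h.norm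
  have c := fun {X : Subgroup G} (e : X ≤ stabilizer G a) => H9.commutator_le_left' (n e)
  refine map_le_iff_le_comap.1 ((map_subtype_commutator _).le.trans ?_)
  refine (commutator_mono h.sup.ge le_rfl).trans (H9.commutator_sup_le (n h.le) (n inf_le_left) (c le_rfl) ?_)
  rw [commutator_comm]
  refine (commutator_mono h.sup.ge le_rfl).trans (H9.commutator_sup_le (n h.le) (n inf_le_left) (c inf_le_left) ?_)
  exact commutator_le.2 fun x p y q => by simp [commutatorElement_eq_one_iff_mul_comm.2 (h.comm ho hp p q)]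

open Classical in
theorem inner_ind' {μ μ' : stabilizer G a →* ℂˣ} (m : ∀ x ∈ H.subgroupOf (stabilizer G a), μ x = 1)
    (m' : ∀ x ∈ H.subgroupOf (stabilizer G a), μ' x = 1) :
    classInner (indFun (stabilizer G a) (hf μ')) (indFun (stabilizer G a) (hf μ)) = (if μ' = μ then 1 else 0) +
      if μ' = μ⁻¹ then 1 else 0 := by
  obtain ⟨w, w1, w2⟩ := h.exists_swap
  have k : ∀ (y : stabilizer G a) (e : w⁻¹ * y * w ∈ stabilizer G a), (⟨_, e⟩ : stabilizer G a) = y⁻¹ := fun y e =>
    Subtype.ext (by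
      simpa using h.inverts ho hp (inv_smul_eq_iff.2 w2.symm) (inv_smul_eq_iff.2 w1.symm)
        ⟨y.2, by simpa [mul_smul, w1, inv_smul_eq_iff] using e⟩)
  rw [h.inner_ind w1 w2]
  congr 1
  refine if_congr ⟨fun e => MonoidHom.ext fun x => ?_, fun e y f => by simp [k, e]⟩ rfl rfl
  obtain ⟨u, p, y, q, r⟩ := h.decomp x.2
  have := e ⟨y, q.1⟩ (by simp [mul_smul, w1, show y • b = b from q.2, inv_smul_eq_iff])
  rw [show x = ⟨u, h.le p⟩ * ⟨y, q.1⟩ from Subtype.ext r.symm]
  rw [k, map_inv, inv_eq_iff_eq_inv] at this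
  rw [map_mul, map_mul, m' ⟨u, _⟩ p, this]
  simp [m ⟨u, _⟩ p]

theorem irr_ind {μ : stabilizer G a →* ℂˣ} (m : ∀ x ∈ H.subgroupOf (stabilizer G a), μ x = 1) (m1 : μ ≠ 1) :
    IsIrrCharacter G (indFun (stabilizer G a) (hf μ)) := by
  have := h.normal
  refine isIrr_of_norm_one (char_indFun _ (char_hom μ)) ?_
  rw [h.inner_ind' ho hp m m, if_pos rfl, if_neg fun e => m1 (MonoidHom.ext fun x => ?_), add_zero]
  have e1 : μ x ^ 2 = 1 := by rw [sq]; nth_rw 1 [e]; simp
  have e2 : μ x ^ Nat.card (St2 G a b) = 1 := by rw [← map_pow, m _ (h.indexH ▸ pow_index_mem _ x)]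
  simpa using (pow_gcd_eq_one.2 ⟨e1, e2⟩ : _).symm.trans (by rw [Nat.coprime_two_left.2 ho, pow_one]) |>.symm

theorem exists_hom {φ : stabilizer G a → ℂ} (p : IsIrrCharacter _ φ) (q : Kr φ (H.subgroupOf (stabilizer G a))) :
    ∃ μ : stabilizer G a →* ℂˣ, φ = hf μ ∧ ∀ x ∈ H.subgroupOf (stabilizer G a), μ x = 1 := by
  obtain ⟨μ, rfl⟩ := exists_hom_of_degree_one (irr_char p) ((degree_one_iff_commutator_le p).2
    ((h.der_le ho hp).trans ((kr_iff_le (irr_char p)).1 q)))
  exact ⟨μ, rfl, fun x e => by simpa using q x e⟩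

theorem over_one {ψ : G → ℂ} (i : IsIrrCharacter G ψ) {φ : stabilizer G a → ℂ} (p : IsIrrCharacter _ φ)
    (q : Kr φ (H.subgroupOf (stabilizer G a))) (r : classInner (fun x : stabilizer G a => ψ x) φ ≠ 0) :
    ψ = (indFun (stabilizer G a) (hf 1) - fun _ => 1) ∨ ∀ u ∈ H, u ≠ 1 → ψ u = 1 := by
  obtain ⟨μ, rfl, m⟩ := h.exists_hom ho hp p q
  by_cases e : μ = 1
  · rw [← inner_indFun_right _ _ (irr_class i), e, ← sub_add_cancel (indFun _ _) fun _ => 1, inner_add_right] at r
    by_cases f : ψ = fun _ => 1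
    · simp [f]
    · exact Or.inl (irr_eq_of_inner_ne_zero i h.irr_St (by rwa [irr_inner_ne i isIrr_one f, add_zero] at r))
  · exact Or.inr fun u s t => by
      rw [eq_indFun_of_irr _ i (h.irr_ind ho hp m e) r, h.ind_apply (char_class (char_hom μ)) s t]; simp [m ⟨u, _⟩ s]

theorem one_le_norm {ψ : G → ℂ} (i : IsIrrCharacter G ψ) (n : ψ ≠ indFun (stabilizer G a) (hf 1) - fun _ => 1)
    (c : ∀ u ∈ H, u ≠ 1 → ∀ v ∈ H, v ≠ 1 → ψ u = ψ v) (hu : u ∈ H) (h1 : u ≠ 1) : 1 ≤ ‖ψ u‖ ^ 2 := by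
  classical
  have := h.normal
  have := Fintype.ofFinite (H.subgroupOf (stabilizer G a))
  obtain ⟨m, hm⟩ := gen_int_of_pow (irr_gen i) u fun k e => c _ (H.pow_mem hu k) (fun f => h1 (orderOf_eq_one_iff.mp
    (e.symm.eq_one_of_dvd (orderOf_dvd_of_pow_eq_one f)))) u hu h1
  have : m ≠ 0 := fun e => by
    obtain ⟨φ, p, q, r⟩ := exists_common_irr (class_restrict (irr_class i) (stabilizer G a))
      (b := indFun (H.subgroupOf (stabilizer G a)) fun _ => 1) (by
        rw [inner_indFun_right _ _ (class_restrict (irr_class i) _), classInner, Finset.sum_eq_single 1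
          (fun x _ f => by rw [c ((x : stabilizer G a) : G) x.2 (by simpa using f) u hu h1, hm, e]; simp) (by simp)]
        simp [irr_one_ne_zero i, card_ne_zero'])
    have := (h.over_one ho hp i p (kr_of_constituent (char_indFun _ char_one) p r ((irr_ind_one_iff isIrr_one).2 rfl))
      q).resolve_left n u hu h1
    simp [hm, e] at this
  rw [hm, Complex.norm_intCast, sq_abs]
  exact_mod_cast (sq_pos_of_ne_zero this : _)

theorem sq_degree {ψ : G → ℂ} (i : IsIrrCharacter G ψ) (d : ψ 1 = Nat.card (St2 G a b))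
    (s : ∀ x : stabilizer G a, (x : G) ∉ H → ψ x = 0) (r : IsIrrCharacter _ fun x : stabilizer G a => ψ x) :
    Nat.card H ≤ 2 * Nat.card (St2 G a b) + 1 := by
  classical
  have := h.normal
  obtain ⟨c, c1, c2⟩ := char_eq_sum_nat (char_mul (irr_char i) (char_conj (irr_char i)))
  let Λ := {μ : stabilizer G a →* ℂˣ // (∀ x ∈ H.subgroupOf (stabilizer G a), μ x = 1) ∧ μ ≠ 1}
  let g : Λ → IrrCharacter G := fun μ => ⟨_, h.irr_ind ho hp μ.2.1 μ.2.2⟩
  have e1 : Fintype.card Λ + 1 = Nat.card (St2 G a b) := by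
    rw [← h.indexH, ← card_hom_trivial_on _ (h.der_le ho hp), Nat.card_eq_fintype_card, Fintype.card_subtype,
      Fintype.card_subtype, eq_comm, ← Finset.card_erase_add_one (a := 1) (by simp)]
    congr 2; ext; simp [and_comm]
  have e2 : Fintype.card Λ ≤ 2 * (Finset.univ.image g).card := Finset.card_le_mul_card_image _ 2 fun θ e => by
    obtain ⟨μ, -, rfl⟩ := Finset.mem_image.1 e
    refine (Finset.card_le_card_of_injOn (t := {μ.1, μ.1⁻¹}) (·.1) (fun μ' f => by_contra fun k => ?_)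
      Subtype.val_injective.injOn).trans Finset.card_le_two
    have := h.inner_ind' ho hp μ.2.1 μ'.2.1
    simp only [Finset.coe_insert, Finset.coe_singleton, Set.mem_insert_iff, Set.mem_singleton_iff, not_or] at k
    rw [if_neg k.1, if_neg k.2, show indFun _ (hf μ'.1) = indFun _ (hf μ.1) from congrArg Subtype.val (Finset.mem_filter.1 f).2,
      irr_inner_self (g μ).2] at this
    simp at this
  have n : (⟨_, isIrr_one⟩ : IrrCharacter G) ∉ Finset.univ.image g := fun e => by
    obtain ⟨μ, -, e⟩ := Finset.mem_image.1 e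
    have := congrFun (congrArg Subtype.val e) 1
    simp only [g, indFun_one, h.indexN, hf, map_one, Units.val_one, mul_one] at this
    norm_cast at this
    have := h.lt; omega
  choose d' _ hd using fun θ : IrrCharacter G => irr_one_nat θ.2
  have e3 : Nat.card (St2 G a b) ^ 2 = ∑ θ, c θ * d' θ := by
    have := congrFun c2 1
    simp only [Pi.mul_apply, d, map_natCast, Finset.sum_apply, Pi.smul_apply, hd, smul_eq_mul, ← sq] at this
    exact_mod_cast this
  have e4 := Finset.sum_le_sum_of_subset (f := fun θ => c θ * d' θ)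
    (Finset.subset_univ (insert ⟨_, isIrr_one⟩ (Finset.univ.image g)))
  rw [← e3, Finset.sum_insert n, Finset.sum_congr rfl (g := fun _ => Nat.card H + 1) fun θ e => ?_, Finset.sum_const,
    show c ⟨_, isIrr_one⟩ * d' ⟨_, isIrr_one⟩ = 1 from ?_, smul_eq_mul] at e4
  · have := h.one_lt
    by_contra! k
    nlinarith [Nat.mul_le_mul e2 k]
  · have := c1 ⟨_, isIrr_one⟩
    rw [inner_mul_left, show ((fun _ => 1) * fun g => conj (conj (ψ g))) = ψ by ext; simp, irr_inner_self i] at this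
    exact_mod_cast (by rw [← this, ← hd, one_mul] : (c ⟨_, isIrr_one⟩ * d' ⟨_, isIrr_one⟩ : ℂ) = 1)
  · obtain ⟨μ, -, rfl⟩ := Finset.mem_image.1 e
    have := c1 (g μ)
    rw [inner_indFun_right _ _ (char_class (char_mul (irr_char i) (char_conj (irr_char i)))),
      show (fun x : stabilizer G a => (ψ * fun g => conj (ψ g)) x) = (fun x : stabilizer G a => ψ x) * fun x : stabilizer G a => conj (ψ x) from rfl,
      inner_mul_left, show (hf μ.1 * fun g : stabilizer G a => conj (conj (ψ g))) = fun x : stabilizer G a => ψ x from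
        funext fun x => by
          by_cases e : (x : G) ∈ H
          exacts [by simp [μ.2.1 x e], by simp [s x e]], irr_inner_self r] at this
    exact_mod_cast (by rw [← this, ← hd]; simp [g, indFun_one, h.indexN] : (c (g μ) * d' (g μ) : ℂ) = Nat.card H + 1)

theorem le_of_coh (hc : Coh (SI (H.subgroupOf (stabilizer G a)) (H.subgroupOf (stabilizer G a)) ⊥)
    (indH (stabilizer G a).subtype)) : Nat.card H ≤ 2 * Nat.card (St2 G a b) + 1 := by
  classical
  have := h.normal
  by_contra! hl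
  obtain ⟨ν, hν⟩ := hc
  have ti := h.tih
  have fr := h.frob
  have ix := h.indexH
  set K := H.subgroupOf (stabilizer G a)
  have i : ∀ χ ∈ SI K K ⊥, IsIrrCharacter _ χ := fun _ a => irr_of_frobMod fr a.1 a.2.1
  have l1 := h.one_lt
  have k0 : K ≠ ⊤ := fun e => by rw [e, index_top] at ix; omega
  have kc : Nat.card K = Nat.card H := H9.card_subgroupOf h.le
  obtain ⟨m, hm⟩ := tifn_restrict (subtype_injective _) ti fr hν k0
  obtain ⟨⟨z, z1, z2⟩, z3⟩ := ne_bot_iff_exists_ne_one.1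
    (H9.inf_centralizer_ne_bot_of_nilpotent h.nil le_rfl le_normalizer h.ntH)
  have z3 : z ≠ 1 := fun e => z3 (Subtype.ext e)
  let z' : stabilizer G a := ⟨z, h.le z1⟩
  have z4 : z' ≠ 1 := by simpa [z'] using z3
  have k1 : K ≠ ⊥ := fun e => z4 (e.le (show z' ∈ K from z1))
  have : Nonempty (IrrCharacter G) := ⟨⟨_, isIrr_one⟩⟩
  choose! f hf' using fun χ (e : χ ∈ SI K K ⊥) => show ∃ ψ : IrrCharacter G, ν χ = ψ ∨ ν χ = -ψ.1 from
    (hν.sirr e (i χ e)).elim (fun p => ⟨⟨_, p⟩, Or.inl rfl⟩) fun p => ⟨⟨_, p⟩, Or.inr (neg_neg _).symm⟩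
  have inj : Set.InjOn f (SIf K K ⊥) := fun χ p ξ q e => by
    have p := mem_SIf.1 p; have q := mem_SIf.1 q
    refine AI.eq_of_inner p.1 q.1 ?_
    rw [← hν.iso _ p _ q]
    rcases hf' χ p with s | s <;> rcases hf' ξ q with t | t <;>
      simp [s, t, e, inner_neg_left, inner_neg_right, irr_inner_self (f ξ).2]
  -- the column sum in `G`
  have e1 : ∑ χ ∈ SIf K K ⊥, ‖ν χ z‖ ^ 2 + Nat.card (St2 G a b) ≤ Nat.card H := by
    have c := sum_norm_sq_char z
    rw [show centralizer {z} = H from le_antisymm (fun g e => h.cent z1 z3 (mem_centralizer_singleton_iff.1 e))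
      fun g e => mem_centralizer_singleton_iff.2 (z2 g e),
      ← Finset.sum_sdiff (Finset.subset_univ ((SIf K K ⊥).image f)), Finset.sum_image inj, add_comm] at c
    rw [← c, Finset.sum_congr rfl (g := fun χ => ‖(f χ).1 z‖ ^ 2) fun χ p => by
      rcases hf' χ (mem_SIf.1 p) with s | s <;> simp [s]]
    refine add_le_add_right (le_trans ?_ ((Finset.card_nsmul_le_sum _ _ 1 fun ψ p => h.one_le_norm ho hp ψ.2
      (fun e => (Finset.mem_erase.1 p).1 (Subtype.ext e)) (fun u s t v s' t' =>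
        tifn_const fr hν (irr_class ψ.2) (x := ⟨u, h.le s⟩) (y := ⟨v, h.le s'⟩) (fun χ q => ?_) s (by simpa using t) s'
          (by simpa using t')) z1 z3).trans (Finset.sum_le_sum_of_subset_of_nonneg (Finset.erase_subset ⟨_, h.irr_St⟩ _)
        fun _ _ _ => by positivity))) _
    · have a1 := Finset.pred_card_le_card_erase (s := Finset.univ \ (SIf K K ⊥).image f) (a := ⟨_, h.irr_St⟩)
      have a2 := card_SI_lt (K := K)
      have a3 := card_AI_le (subtype_injective _) ti
      have a4 := h.le_card_classes ho hp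
      have a5 := Nat.card_congr (Equiv.sumCompl fun C : ConjClasses G => ∀ g : G, ConjClasses.mk g = C → g ∉ H)
      rw [Nat.card_sum, ← card_irr_eq_card_conjClasses, Nat.card_congr (Equiv.subtypeEquivRight
        (p := fun C : ConjClasses G => ¬ ∀ g : G, ConjClasses.mk g = C → g ∉ H)
        (q := fun C => ∃ k ∈ K, ConjClasses.mk ((stabilizer G a).subtype k) = C) fun C => ⟨fun e => by
          push Not at e; exact let ⟨g, p, q⟩ := e; ⟨⟨g, h.le q⟩, q, p⟩, fun ⟨k, p, q⟩ e => e k q p⟩),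
        Nat.card_eq_fintype_card (α := IrrCharacter G)] at a5
      rw [Finset.card_univ_diff, Finset.card_image_of_injOn inj] at a1
      rw [nsmul_one]
      exact_mod_cast (by omega : Nat.card (St2 G a b) ≤ _)
    · have := irr_inner_ne ψ.2 (f χ).2 fun e => (Finset.mem_sdiff.1 (Finset.mem_erase.1 p).2).2
        (Finset.mem_image.2 ⟨χ, mem_SIf.2 q, Subtype.ext e.symm⟩)
      rcases hf' χ q with s | s <;> simp [s, inner_neg_right, this]
  -- the column sum in `N`
  have e2 : (Nat.card H : ℝ) = Nat.card (St2 G a b) + ∑ χ ∈ SIf K K ⊥, ‖χ z'‖ ^ 2 := by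
    have c := sum_norm_sq_char z'
    rw [show centralizer {z'} = K from le_antisymm (frobMod_bot_iff.1 fr z' z1 z4)
      fun g e => mem_centralizer_singleton_iff.2 (Subtype.ext (z2 g e)), kc,
      sum_irr_split le_rfl i fun χ => ‖χ z'‖ ^ 2] at c
    rw [← c, ← ix, add_left_inj]
    apply Complex.ofReal_injective
    rw [Complex.ofReal_natCast, Complex.ofReal_sum]
    refine (Finset.sum_congr rfl fun φ p => ?_).trans (show ∑ φ : IrrCharacter _ with Kr φ.1 K, φ.1 1 ^ 2 = _ by
      convert sum_sq_degree_ker K; rfl)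
    obtain ⟨n, -, e⟩ := irr_one_nat φ.2
    rw [(Finset.mem_filter.1 p).2 z' z1, e]; simp
  have e3 : ∑ χ ∈ SIf K K ⊥, χ 1 * χ z' = -Nat.card (St2 G a b) := by
    have := congrFun (sum_SI (K := K) (M := ⊥) le_rfl bot_le) z'
    rw [Pi.sub_apply, indFun_normal_of_not_mem _ _ (by simpa using z4), sup_bot_eq, ind_one_apply K z1, ix,
      Finset.sum_apply, zero_sub] at this
    rw [← this]
    exact Finset.sum_congr rfl fun χ p => by simp [SIrr.nsq (Or.inl (i χ (mem_SIf.1 p)))]
  have e4 := sum_SI_sq (K := K) (M := ⊥) le_rfl bot_le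
  rw [Finset.sum_congr rfl fun χ p => by rw [SIrr.nsq (Or.inl (i χ (mem_SIf.1 p))), div_one], sup_bot_eq, index_bot,
    h.cardN, ix] at e4
  have e0 : (0 : ℝ) < Nat.card (St2 G a b) := by exact_mod_cast Nat.card_pos
  obtain rfl : m = 0 := by
    have e5 : ∑ χ ∈ SIf K K ⊥, ‖ν χ z‖ ^ 2 = ∑ χ ∈ SIf K K ⊥, (‖χ z'‖ ^ 2 + 2 * (m / Nat.card (St2 G a b)) * (χ 1 * χ z').re +
        (m / Nat.card (St2 G a b)) ^ 2 * (χ 1).re ^ 2) := Finset.sum_congr rfl fun χ p => by
      obtain ⟨n, -, e⟩ := irr_one_nat (i χ (mem_SIf.1 p))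
      rw [show ν χ z = _ from eq_add_of_sub_eq (hm χ (mem_SIf.1 p) z' z1 z4), ix, e, Complex.sq_norm, Complex.sq_norm,
        show (m * n / Nat.card (St2 G a b) : ℂ) = ((m / Nat.card (St2 G a b) * n : ℝ) : ℂ) by push_cast; ring]
      simp [Complex.normSq_apply, -Complex.ofReal_mul]; ring
    rw [e5, Finset.sum_add_distrib, Finset.sum_add_distrib, ← Finset.mul_sum, ← Finset.mul_sum, ← Complex.re_sum, e3, e4] at e1
    have e6 : (m : ℝ) ^ 2 * (Nat.card H - 1) ≤ 2 * m * Nat.card (St2 G a b) := by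
      have : 2 * (m / Nat.card (St2 G a b) : ℝ) * (-Nat.card (St2 G a b)) + (m / Nat.card (St2 G a b)) ^ 2 *
        (Nat.card H * Nat.card (St2 G a b) - Nat.card (St2 G a b)) ≤ 0 := by
          simp only [Complex.neg_re, Complex.natCast_re, Nat.cast_mul] at e1; linarith
      have := mul_nonpos_of_nonneg_of_nonpos e0.le this
      field_simp at this
      linarith
    have e7 : m ^ 2 * (Nat.card H - 1) ≤ 2 * m * Nat.card (St2 G a b) := by exact_mod_cast e6
    by_contra m0
    have : (2 * Nat.card (St2 G a b) + 1 : ℤ) < Nat.card H := by exact_mod_cast hl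
    nlinarith [sq_pos_of_ne_zero m0, Int.le_self_sq m]
  have := fr.nilpotent k0
  obtain ⟨χ, c, d⟩ := exists_SI_lin (M := ⊥) le_rfl bot_le
    (by simpa using (H9.commutator_lt_of_solvable (N := K) inferInstance k1).not_ge)
  obtain ⟨ξ, p, q⟩ := exists_two_SI fr k0 k1 (by rw [kc, ix]; omega) c
  obtain ⟨x, x1, y, y1, x2, y2, xy⟩ := tifn_not_const fr hν c p q
  obtain ⟨r, r1, -⟩ := tifn_sub_const fr hν c z1 z4
  have cl : IsClassFunction _ fun x => ν χ ((stabilizer G a).subtype x) - χ x :=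
    class_sub (class_comp (gen_class (hν.gen _ c)) (stabilizer G a).subtype) (AI.cls c.1)
  have r2 : ∀ φ, IsIrrCharacter _ φ → Kr φ K → classInner (fun x => ν χ ((stabilizer G a).subtype x) - χ x) φ = 0 :=
    fun φ s t => by
      refine (inner_sub_left (fun x : stabilizer G a => ν χ x) χ φ).trans ?_
      rw [irr_inner_ne (i χ c) s (fun e => c.2.1 (e ▸ t)), sub_zero]
      have : classInner (fun x : stabilizer G a => (f χ).1 x) φ = 0 := by_contra fun e => xy (by
        have : (f χ).1 x = (f χ).1 y := by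
          rcases h.over_one ho hp (f χ).2 s t e with u | u
          · rw [u, Pi.sub_apply, Pi.sub_apply, h.ind_apply (u := (x : G)) (char_class (char_hom 1)) x1 (by simpa using x2),
              h.ind_apply (u := (y : G)) (char_class (char_hom 1)) y1 (by simpa using y2)]; rfl
          · rw [u x x1 (by simpa using x2), u y y1 (by simpa using y2)]
        rcases hf' χ c with s | s <;> simp [s, this])
      rcases hf' χ c with s | s <;> rw [s]
      exacts [this, (inner_neg_left (fun x : stabilizer G a => (f χ).1 x) φ).trans (by simp [this])]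
  obtain rfl : r = 0 := by
    have := class_apply_eq_sum cl z'
    rw [sum_irr_split le_rfl i fun φ => classInner _ φ * φ z', Finset.sum_eq_zero fun φ s => by
      rw [r2 _ φ.2 (Finset.mem_filter.1 s).2, zero_mul], Finset.sum_congr rfl fun φ s => by
      rw [r1 φ (mem_SIf.1 s), mul_assoc], ← Finset.mul_sum, e3] at this
    have := this.symm.trans (hm χ c z' z1 z4)
    rw [Int.cast_zero, zero_mul, zero_div, zero_add, mul_neg, neg_eq_zero] at this
    exact (mul_eq_zero.1 this).resolve_right (card_ne_zero' _)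
  have r3 : (fun x : stabilizer G a => ν χ x) = χ := sub_eq_zero.1 (class_eq_zero_of_inner cl fun φ s =>
    (em (Kr φ K)).elim (r2 φ s) fun t => (r1 φ (SI_eq_irr le_rfl i ▸ ⟨s, t⟩)).trans (zero_mul _))
  have r4 : ν χ 1 = Nat.card (St2 G a b) := (congrFun r3 1).trans (d.trans (by rw [ix]))
  exact (h.sq_degree ho hp (isIrr_of_gen_norm_one (hν.gen _ c) (hν.sirr c (i _ c)).inner_self (by simp [r4])) r4
    (fun x e => (congrFun r3 x).trans (AI.supp c.1 x e)) (r3.symm ▸ i χ c)).not_gt hl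

omit [Fintype (stabilizer G a)] in
/-- Feit's theorem, perfect case -/
theorem feit : Nat.card H ≤ 2 * Nat.card (St2 G a b) + 1 ∨
    IsPGroup 2 H ∧ ⁅H, H⁆ ≠ ⊥ ∧ ⁅H, H⁆.relIndex H ≤ 4 * Nat.card (St2 G a b) ^ 2 + 1 := by
  have := Fintype.ofFinite (stabilizer G a)
  have := h.normal
  have l1 := h.one_lt
  have k0 : H.subgroupOf (stabilizer G a) ≠ ⊤ := fun e => by have := h.indexH; rw [e, index_top] at this; omega
  refine or_iff_not_imp_left.2 fun hl => ?_
  have hc := mt (h.le_of_coh ho hp) hl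
  obtain ⟨p, q, r, s, t⟩ := feit_frob h.frob k0 ((h.tih.isTau (subtype_injective _)).isoOn_SI (fun _ a b => ⟨a, b⟩)
    fun _ a => a.1) hc
  have t := t.of_equiv (subgroupOfEquivOfLe h.le)
  rw [← H9.subgroupOf_commutator h.le h.le] at p q
  rw [relIndex_subgroupOf h.le, h.indexH] at q
  refine ⟨?_, fun e => p (by simp [e]), q⟩
  have := Fact.mk s
  obtain ⟨k, e⟩ := IsPGroup.iff_card.1 t
  refine (Nat.prime_dvd_prime_iff_eq Nat.prime_two s).1 (Nat.prime_two.dvd_of_dvd_pow ((even_iff_two_dvd.1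
    (Nat.not_odd_iff_even.1 fun o => hc ?_)).trans e.dvd)) ▸ t
  exact sibley_frob (subtype_injective _) (h.frob.nilpotent k0) (h.cardN ▸ o.mul ho) h.tih h.frob

end ZG

theorem ZG.exists_perfect [Finite G] [Finite Ω] (h : ZG a b H) (hZ : IsZassenhausGroup G Ω) :
    ∃ L : Subgroup G, L.Normal ∧ H ≤ L ∧ commutator L = ⊤ ∧ ZG a b (H.subgroupOf L) := by
  obtain ⟨L, ⟨n, n0⟩, m⟩ := exists_minimal_of_wellFoundedLT (fun L : Subgroup G => L.Normal ∧ L ≠ ⊥)
    ⟨⊤, inferInstance, fun e => h.ntH (le_bot_iff.1 (e ▸ le_top))⟩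
  have tr : ∀ c d : Ω, ∃ g ∈ L, g • c = d := fun c d => by
    by_cases e : c = d
    · exact ⟨1, one_mem _, by simp [e]⟩
    obtain ⟨⟨g, p⟩, q⟩ := ne_bot_iff_exists_ne_one.1 n0
    obtain ⟨f, r⟩ := h.exists_moved (x := g) (by simpa using q)
    obtain ⟨t, rfl, rfl⟩ := h.two r.symm e
    exact ⟨_, n.conj_mem g p t, by simp [mul_smul]⟩
  obtain ⟨c, hc⟩ := hZ.2.2.2.2 L n ⟨fun c d => let ⟨g, p, q⟩ := tr c d; ⟨⟨g, p⟩, q⟩⟩
  obtain ⟨⟨⟨g, p⟩, q⟩, r⟩ := ne_bot_iff_exists_ne_one.1 hc
  have q : g • c = c := q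
  have r : g ≠ 1 := by simpa using r
  obtain ⟨d, hd⟩ := h.exists_moved r
  have nE : L ⊓ St2 G a b ≠ ⊥ := fun e => by
    obtain ⟨t, t1, t2⟩ := tr c d
    obtain ⟨K, _, k1, k2, -, k3, -⟩ := H1.IsFrob.exists_kernel (H1.isFrob_iff.2 ⟨hc, fun f => hd (by
      rw [← t2, show t • c = c from f.ge (mem_top (⟨t, t1⟩ : L)), q]), fun g x x1 x2 x3 => by_contra fun f => x2 (by
        obtain ⟨s, s1, s2⟩ := h.two (c := c) (d := (g : G)⁻¹ • c) (fun k => f (eq_inv_smul_iff.1 k)) h.ne
        have x1 : (x : G) • c = c := x1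
        have x3 : (x : G) • (g : G)⁻¹ • c = (g : G)⁻¹ • c := conj_smul_iff.1 x3
        simpa using mem_bot.1 (e.le ⟨n.conj_mem _ x.2 s, by simp [mul_smul, ← s1, x1], by simp [mul_smul, ← s2, x3]⟩))⟩ :
          IsFrobeniusComplement (stabilizer L c))
    have mem : ∀ x : L, x ∈ K ↔ x = 1 ∨ ∀ f : Ω, (x : G) • f ≠ f := fun x =>
      (Set.ext_iff.1 k1 x).trans (or_congr_right ⟨fun e f k => by
        obtain ⟨s, s1, rfl⟩ := tr c f
        exact e ⟨s, s1⟩ (Subgroup.mem_pointwise_smul_iff_inv_smul_mem.2 (by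
          simpa [mul_smul, inv_smul_eq_iff, Subgroup.smul_def] using k)), fun e s k => e ((s : G) • c) (by
          simpa [mul_smul, inv_smul_eq_iff, Subgroup.smul_def] using Subgroup.mem_pointwise_smul_iff_inv_smul_mem.1 k)⟩)
    have := m (y := K.map L.subtype) ⟨⟨by
      rintro _ ⟨x, u, rfl⟩ s
      exact ⟨⟨_, n.conj_mem _ x.2 s⟩, (mem _).2 (((mem x).1 u).imp (by simp +contextual) fun e f k =>
        e _ (conj_smul_iff.1 k)), rfl⟩⟩, mt (map_eq_bot_iff_of_injective _ (subtype_injective _)).1 k3⟩ (map_subtype_le _) p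
    obtain ⟨x, u, rfl⟩ := this
    exact ((mem x).1 u).elim (fun e => r (by simp [e])) fun e => e c q
  obtain ⟨⟨y, y1, y2⟩, y3⟩ := ne_bot_iff_exists_ne_one.1 nE
  have HL : H ≤ L := H1.le_of_fpf_of_mem (h.norm y2.1) (h.fpf y y2 fun e => y3 (Subtype.ext e)) le_normalizer_of_normal y1
  refine ⟨L, n, HL, ?_, fun {c d c' d'} e e' => ?_, fun g c d f p q r s t u => Subtype.ext (h.three g c d f p q r s t u), h.ne,
    fun {u} => h.mem.trans (by simp [Subgroup.smul_def]), (H9.card_subgroupOf HL).symm ▸ h.card,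
    fun e => y3 (Subtype.ext (by simpa using mem_bot.1 (e.le (show (⟨y, y1⟩ : L) ∈ St2 L a b from y2)))),
    fun e => h.ntH (by rwa [subgroupOf_eq_bot, disjoint_iff, inf_eq_left.2 HL] at e)⟩
  · rw [eq_top_iff, ← map_le_map_iff_of_injective (subtype_injective _), map_subtype_commutator, ← MonoidHom.range_eq_map,
      range_subtype]
    refine m ⟨inferInstance, fun e => hd ?_⟩ (commutator_le_self L)
    obtain ⟨t, t1, rfl⟩ := tr c d
    rw [← mul_smul, ← commutator_eq_bot_iff_le_centralizer.1 e p t t1, mul_smul, q]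
  · have k : ∀ {c d : Ω}, c ≠ d → ∃ g ∈ L, g • a = c ∧ g • b = d := fun {c d} e => by
      obtain ⟨s, s1, rfl⟩ := tr a c
      obtain ⟨u, p, q⟩ := h.reg (c := s⁻¹ • d) fun f => e (inv_smul_eq_iff.1 f).symm
      exact ⟨s * u, mul_mem s1 (HL p), by rw [mul_smul, h.le p], by simp [mul_smul, q]⟩
    obtain ⟨s, s1, rfl, rfl⟩ := k e
    obtain ⟨t, t1, rfl, rfl⟩ := k e'
    exact ⟨⟨t * s⁻¹, mul_mem t1 (inv_mem s1)⟩, by simp [Subgroup.smul_def, mul_smul]⟩

/-- Feit's theorem on Zassenhaus groups -/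
theorem ZG.feit' [Finite G] [Finite Ω] (h : ZG a b H) (hZ : IsZassenhausGroup G Ω) (ho : Odd (Nat.card (St2 G a b))) :
    Nat.card H ≤ 2 * Nat.card (St2 G a b) + 1 ∨
      IsPGroup 2 H ∧ ⁅H, H⁆ ≠ ⊥ ∧ ⁅H, H⁆.relIndex H ≤ 4 * Nat.card (St2 G a b) ^ 2 + 1 := by
  obtain ⟨L, -, HL, p, q⟩ := h.exists_perfect hZ
  have := Fintype.ofFinite L
  have d : Nat.card (St2 L a b) ∣ Nat.card (St2 G a b) := card_comap_dvd_of_injective (St2 G a b) L.subtype (subtype_injective _)
  have l := Nat.le_of_dvd Nat.card_pos d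
  refine (q.feit (ho.of_dvd_nat d) p).imp (fun e => by rw [H9.card_subgroupOf HL] at e; omega) fun ⟨e, f, g⟩ => ?_
  rw [← H9.subgroupOf_commutator HL HL] at f g
  exact ⟨e.of_equiv (subgroupOfEquivOfLe HL), fun k => f (by simp [k]),
    (relIndex_subgroupOf HL ▸ g).trans (by gcongr)⟩

theorem zass_perfect [IsSimpleGroup G] [Finite G] [Finite Ω] (h : ZG a b H) : commutator G = ⊤ := by
  refine (IsSimpleGroup.eq_bot_or_eq_top_of_normal _ inferInstance).resolve_left fun e => ?_
  obtain ⟨⟨y, p⟩, q⟩ := ne_bot_iff_exists_ne_one.1 h.nt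
  obtain ⟨⟨u, r⟩, s⟩ := ne_bot_iff_exists_ne_one.1 h.ntH
  exact (H1.fpf_iff.1 h.fpf y p u r (commutator_eq_bot_iff_le_centralizer.1 e (mem_top u) y (mem_top y))).elim
    (fun e => q (Subtype.ext e)) fun e => s (Subtype.ext e)

end H3
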