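import Cfsg.Agent.H3.Zass2
import Cfsg.Agent.H3.ZId
import Cfsg.Agent.H4.Inv2
import Cfsg.Agent.H5.Br

/-!
H3.Zass3: Zassenhaus groups with abelian kernel; two-point stabilizers of even order; sharply triply transitive groups.
-/

set_option autoImplicit false
open Cfsg MulAction Subgroup H5

namespace H3

variable {G Ω : Type*} [Group G] [MulAction G Ω] {a b c d : Ω} {H Q D : Subgroup G} {g s u w x y z : G}

theorem irr_of_card [Finite G] (hf : H1.Fpf D Q) (h : Nat.card Q ≤ 2 * Nat.card D + 1) {W : Subgroup G} (hW : W ≤ Q)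
    (k : ∀ d ∈ D, ∀ u ∈ W, d * u * d⁻¹ ∈ W) : W = ⊥ ∨ W = Q := by
  by_contra! u
  have := card_lt_of_fpf (fun d hd u hu => H1.fpf_iff.1 hf d hd u (hW hu)) k u.1
  have := H9.relIndex_mul_card hW
  have := mt relIndex_eq_one.1 (fun e => u.2 (hW.antisymm e))
  have := (W.subgroupOf Q).index_ne_zero_of_finite
  have : 2 ≤ W.relIndex Q := by unfold relIndex at *; omega
  nlinarith

theorem exists_ZG' [Finite G] [Finite Ω] (h2 : IsMultiplyPretransitive G Ω 2)
    (h3 : ∀ (g : G) (c d f : Ω), c ≠ d → d ≠ f → c ≠ f → g • c = c → g • d = d → g • f = f → g = 1) (hab : a ≠ b) (hac : a ≠ c) (hbc : b ≠ c)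
    (nt : St2 G a b ≠ ⊥) : ∃ H : Subgroup G, ZG a b H := by
  have two := @is_two_pretransitive_iff.1 h2
  obtain ⟨⟨y, y1, y2⟩, y3⟩ := Subgroup.ne_bot_iff_exists_ne_one.1 nt
  have hc : y • c ≠ c := fun h => y3 (Subtype.ext (h3 y a b c hab hbc hac y1 y2 h))
  obtain ⟨t, t1, t2⟩ := two hab hac
  obtain ⟨K, _, k1, k2, -, k3, -⟩ := H1.IsFrob.exists_kernel (H1.isFrob_iff.2 ⟨fun e => y3 (Subtype.ext (by
      simpa using (Subgroup.eq_bot_iff_forall _).1 e ⟨y, y1⟩ ⟨y1, y2⟩)),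
    fun e => hc (by have : t • b = b := (e.ge (mem_top ⟨t, t1⟩)).2; rw [← t2, this]; exact y2),
    fun g x x1 x2 x3 => ⟨g.2, by_contra fun e => x2 (Subtype.ext (h3 x a b (g⁻¹ • b) hab
      (fun f => e (eq_inv_smul_iff.1 f)) (fun f => hab (g.2.symm.trans (eq_inv_smul_iff.1 f))) x.2 x1.2
      (conj_smul_iff.1 x3.2)))⟩⟩ : IsFrobeniusComplement ((St2 G a b).subgroupOf (stabilizer G a)))
  refine ⟨K.map (Subgroup.subtype _), two, h3, hab, fun {u} => ⟨?_, fun ⟨u1, u2⟩ => ⟨⟨u, u1⟩, ?_, rfl⟩⟩, ?_, nt,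
    mt (map_eq_bot_iff_of_injective _ (subtype_injective _)).1 k3⟩
  · rintro ⟨u, hu, rfl⟩
    refine ⟨u.2, (show u ∈ frobeniusKernel _ from k1 ▸ hu).imp (congrArg Subtype.val) fun e c f => by_contra fun k => ?_⟩
    obtain ⟨s, s1, rfl⟩ := two hab (Ne.symm k)
    exact e ⟨s, s1⟩ (Subgroup.mem_pointwise_smul_iff_inv_smul_mem.2 ⟨Subtype.prop _, by
      simpa [mul_smul, inv_smul_eq_iff] using f⟩)
  · refine k1.ge (show _ ∈ frobeniusKernel _ from u2.imp Subtype.ext fun e s f =>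
      hab (smul_left_cancel (s : G) (s.2.trans (e ((s : G) • b) ?_).symm)))
    simpa [mul_smul, inv_smul_eq_iff] using (Subgroup.mem_pointwise_smul_iff_inv_smul_mem.1 f).2
  · rw [Subgroup.card_subtype, ← k2.index_eq_card]; exact card_stab2 h2 hab

theorem ZG.of_reg [Finite G] [Finite Ω] (hZ : IsZassenhausGroup G Ω) (hab : a ≠ b) (h1 : H ≤ stabilizer G a)
    (h2 : ∀ y z : Ω, y ≠ a → z ≠ a → ∃! u : H, (u : G) • y = z) : ZG a b H := by
  obtain ⟨K, h⟩ := exists_ZG hZ hab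
  have l : H ≤ K := fun u e => h.mem.2 ⟨h1 e, or_iff_not_imp_left.2 fun k c f => by_contra fun n =>
    k (congrArg Subtype.val ((h2 c c n n).unique (y₁ := ⟨u, e⟩) (y₂ := 1) f (one_smul _ _)))⟩
  rwa [l.antisymm fun u e => ?_]
  obtain ⟨v, f, -⟩ := h2 b (u • b) hab.symm fun k => hab (smul_left_cancel u ((h.le e).trans k.symm))
  rw [← inv_mul_eq_one.1 (by_contra fun k => hab (h.fix (mul_mem (inv_mem (l v.2)) e) k (by rw [mul_smul, ← f, inv_smul_smul])).symm)]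
  exact v.2

namespace ZG
variable [Finite G] [Finite Ω] (h : ZG a b H)
include h

theorem reg' (e : c ≠ a) (f : d ≠ a) : ∃ u ∈ H, u • c = d := by
  obtain ⟨u, p, rfl⟩ := h.reg e
  obtain ⟨v, q, rfl⟩ := h.reg f
  exact ⟨v * u⁻¹, mul_mem q (inv_mem p), by simp [mul_smul]⟩

omit [Finite Ω] in
theorem elem (hl : Nat.card H ≤ 2 * Nat.card (St2 G a b) + 1) :
    (∀ x ∈ H, ∀ y ∈ H, x * y = y * x) ∧ ∃ p f : ℕ, p.Prime ∧ (∀ u ∈ H, u ^ p = 1) ∧ Nat.card H = p ^ f := by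
  have c : ∀ x ∈ H, ∀ y ∈ H, x * y = y * x := fun x p y q =>
    (((irr_of_card h.fpf hl inf_le_left fun d e u f => ⟨h.conj_mem e.1 f.1, fun v k => by
      simpa [mul_assoc] using congrArg (d * · * d⁻¹) (f.2 _ (h.conj_mem ((stabilizer G a).inv_mem e.1) k))⟩).resolve_left
        (H9.inf_centralizer_ne_bot_of_nilpotent h.nil le_rfl le_normalizer h.ntH)).ge q).2 x p
  obtain ⟨p, p1, p2⟩ := Nat.exists_prime_and_dvd (mt card_eq_one.1 h.ntH)
  have := Fact.mk p1
  obtain ⟨z, z1, z2⟩ := H9.exists_orderOf_eq_of_dvd p2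
  let W : Subgroup G := ⟨⟨⟨{u | u ∈ H ∧ u ^ p = 1}, fun e f => ⟨mul_mem e.1 f.1, by rw [Commute.mul_pow (c _ e.1 _ f.1), e.2, f.2, one_mul]⟩⟩,
    one_mem _, one_pow _⟩, fun e => ⟨inv_mem e.1, by rw [inv_pow, e.2, inv_one]⟩⟩
  have k : ∀ u ∈ H, u ^ p = 1 := fun u e => (((irr_of_card (W := W) h.fpf hl (fun _ e => e.1) fun d e u f => ⟨h.conj_mem e.1 f.1, by
    rw [conj_pow, f.2]; simp⟩).resolve_left fun e => p1.one_lt.ne' (by
      rw [← z2, mem_bot.1 (e.le ⟨z1, z2 ▸ pow_orderOf_eq_one z⟩), orderOf_one])).ge e).2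
  obtain ⟨f, e⟩ := IsPGroup.iff_card.1 (show IsPGroup p H from fun u => ⟨1, Subtype.ext (by simpa using k u u.2)⟩)
  exact ⟨c, p, f, p1, k, e⟩

theorem zi (hl : Nat.card H ≤ 2 * Nat.card (St2 G a b) + 1) (hc : ∀ x ∈ St2 G a b, ∀ y ∈ St2 G a b, x * y = y * x) : ZI a b H (St2 G a b) :=
  ⟨h.ne, (h.elem hl).1, hc, h.le, inf_le_left.trans h.norm, fun _ => h.reg, fun _ e f => by_contra fun k => h.ne (h.fix e k f).symm,
    fun _ => Iff.rfl, H1.fpf_iff.1 h.fpf, hl, h.ntH⟩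

omit [Finite Ω] in
theorem card_cases (hl : Nat.card H ≤ 2 * Nat.card (St2 G a b) + 1) :
    Nat.card H = Nat.card (St2 G a b) + 1 ∨ Nat.card H = 2 * Nat.card (St2 G a b) + 1 := by
  obtain ⟨k, e⟩ := h.dvd
  have := h.one_lt
  have := h.lt
  obtain _ | _ | _ | k := k
  any_goals omega
  nlinarith [Nat.sub_add_cancel (Nat.card_pos (α := H))]

/-- a perfect Zassenhaus group with abelian kernel and two-point stabilizer of odd order -/
theorem psl_of_comm (ho : Odd (Nat.card (St2 G a b))) (hp : commutator G = ⊤) (hc : ∀ x ∈ H, ∀ y ∈ H, x * y = y * x) :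
    ∃ (F : Type) (_ : Field F) (_ : Fintype F), Fintype.card F = Nat.card H ∧ Nonempty (G ≃* PSL2 F) := by
  have := Fintype.ofFinite G
  obtain ⟨w, w1, w2⟩ := h.exists_swap
  exact (h.zi ((h.feit ho hp).resolve_right fun e => e.2.1 (commutator_eq_bot_iff_le_centralizer.2 fun x e y f => hc y f x e))
    fun _ e _ => h.comm ho hp e).psl w1 (h.swap_sq ho hp w1 w2) (fun _ => h.inverts ho hp w1 w2)
    (Or.inl fun K e => by simp [eq_top_iff.2 (hp.ge.trans (commutator_le_of_index_two e))] at e)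

theorem perfect_of_comm (hZ : IsZassenhausGroup G Ω) (ho : Odd (Nat.card (St2 G a b))) (hc : ∀ x ∈ H, ∀ y ∈ H, x * y = y * x)
    (h2 : Nat.card H ≠ Nat.card (St2 G a b) + 1 ∨ Even (Nat.card H)) : commutator G = ⊤ := by
  obtain ⟨L, -, HL, p, q⟩ := h.exists_perfect hZ
  have := Fintype.ofFinite L
  have d : Nat.card (St2 L a b) ∣ Nat.card (St2 G a b) := card_comap_dvd_of_injective (St2 G a b) L.subtype (subtype_injective _)
  have l := q.card_cases ((q.feit (ho.of_dvd_nat d) p).resolve_right fun e => e.2.1 (commutator_eq_bot_iff_le_centralizer.2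
    fun x e y f => Subtype.ext (hc y f x e)))
  have k := q.cardG
  have l1 := Nat.le_of_dvd Nat.card_pos d
  rw [H9.card_subgroupOf HL] at l k
  have l2 := h.card_cases (by omega)
  have := eq_top_of_card_eq L (by rw [k, h.cardG, show Nat.card (St2 L a b) = Nat.card (St2 G a b) by
    rw [Nat.even_iff] at h2; rw [Nat.odd_iff] at ho; omega])
  rw [eq_top_iff, ← this, ← L.range_subtype, MonoidHom.range_eq_map, ← p, map_subtype_commutator]
  exact commutator_mono le_top le_top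

theorem reg2 (e : Nat.card H = Nat.card (St2 G a b) + 1) (c1 : c ≠ a) (c2 : c ≠ b) (d1 : d ≠ a) (d2 : d ≠ b) :
    ∃ x ∈ St2 G a b, x • c = d := by
  obtain ⟨x, f⟩ := (Function.Injective.bijective_of_nat_card_le (f := fun x : St2 G a b => (⟨(x : G) • c, fun f => f.elim
    (fun f => c1 (smul_left_cancel _ (f.trans x.2.1.symm))) fun f => c2 (smul_left_cancel _ (f.trans x.2.2.symm))⟩ : ({a, b}ᶜ : Set Ω)))
    (fun x y f => eq_of_inv_mul_eq_one (Subtype.ext (h.three _ a b c h.ne c2.symm c1.symm (x⁻¹ * y).2.1 (x⁻¹ * y).2.2 (by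
      rw [coe_mul, mul_smul, ← Subtype.mk.inj f, coe_inv, inv_smul_smul])))) (by
        rw [Nat.card_coe_set_eq, Set.ncard_compl, Set.ncard_pair h.ne, ← h.card, e]; simp)).2 ⟨d, fun f => f.elim d1 d2⟩
  exact ⟨x, x.2, Subtype.mk.inj f⟩

variable (he : Even (Nat.card (St2 G a b)))
include he

omit [Finite Ω] in
theorem exists_z : ∃ z ∈ St2 G a b, orderOf z = 2 ∧ (∀ u ∈ H, z * u * z⁻¹ = u⁻¹) ∧ ∀ x ∈ St2 G a b, x * x = 1 → x = 1 ∨ x = z := by
  have := Fact.mk Nat.prime_two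
  have k : ∀ z ∈ St2 G a b, z ≠ 1 → z * z = 1 → ∀ u ∈ H, z * u * z⁻¹ = u⁻¹ := fun z e f k u =>
    H1.conj_eq_inv_of_fpf (h.norm e.1) (h.fpf z e f) (k ▸ one_mem _)
  obtain ⟨z, z1, z2⟩ := H9.exists_orderOf_eq_of_dvd he.two_dvd
  have z3 := k z z1 (fun e => by simp [e] at z2) (H4.mul_self_of_two z2)
  obtain ⟨⟨u, p⟩, q⟩ := Subgroup.ne_bot_iff_exists_ne_one.1 h.ntH
  refine ⟨z, z1, z2, z3, fun x e f => or_iff_not_imp_left.2 fun n => (inv_mul_eq_one.1 ((H1.fpf_iff.1 h.fpf _ (mul_mem (inv_mem z1) e) u p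
    ?_).resolve_right (by simpa using q))).symm⟩
  rw [← mul_inv_eq_iff_eq_mul, show z⁻¹ * x * u * (z⁻¹ * x)⁻¹ = z⁻¹ * (x * u * x⁻¹) * z by group, k x e n f u p, ← z3 u p]
  group

theorem exists_fix (c1 : c ≠ a) (c2 : c ≠ b) : ∃ s : G, s * s = 1 ∧ s • a = b ∧ s • b = a ∧ s • c = c := by
  obtain ⟨z, z1, z2, z3, -⟩ := h.exists_z he
  obtain ⟨g, rfl⟩ := h.trans.exists_smul_eq a c
  have n : ∀ {c}, g • a ≠ c → g⁻¹ • c ≠ a := fun e f => e (inv_smul_eq_iff.1 f).symm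
  obtain ⟨u, p, q⟩ := h.reg' (n c1) (show z⁻¹ • g⁻¹ • b ≠ a from fun f => n c2 ((inv_smul_eq_iff.1 f).trans z1.1))
  have k : g * (z * u) * g⁻¹ * (g * (z * u) * g⁻¹) = 1 := by
    rw [show g * (z * u) * g⁻¹ * (g * (z * u) * g⁻¹) = g * (z * u * z⁻¹ * (z * z) * u) * g⁻¹ by group, z3 u p, H4.mul_self_of_two z2]; group
  have l : (g * (z * u) * g⁻¹) • a = b := by simp [mul_smul, q]
  exact ⟨_, k, l, by rw [← l, ← mul_smul, k, one_smul], by simp [mul_smul, show u • a = a from h.le p, show z • a = a from z1.1]⟩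

theorem card_le (w1 : w • a = b) (w2 : w • b = a) : Nat.card H ≤ 2 * {x | x ∈ St2 G a b ∧ w * x * (w * x) = 1}.ncard + 1 := by
  classical
  have := Fintype.ofFinite G
  have := Fintype.ofFinite Ω
  choose! s s1 s2 s3 s4 using fun c (e : c ∈ (Finset.univ.erase a).erase b) => h.exists_fix he
    (Finset.mem_erase.1 (Finset.mem_erase.1 e).2).1 (Finset.mem_erase.1 e).1
  have := Finset.card_le_mul_card_image_of_maps_to (f := fun c => w⁻¹ * s c) (s := (Finset.univ.erase a).erase b)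
    (t := {x | x ∈ St2 G a b ∧ w * x * (w * x) = 1}.toFinset) (fun c e => by
      simp [s1 c e, mul_smul, s2 c e, s3 c e, inv_smul_eq_iff, w1, w2]) 2 fun x _ => by
      by_contra! l
      obtain ⟨c, d, f, p, q, r, t, u, v⟩ := Finset.two_lt_card_iff.1 l
      simp only [Finset.mem_filter] at p q r
      have := s2 c p.1
      rw [h.three (s c) c d f t v u (s4 c p.1) (by rw [mul_left_cancel (p.2.trans q.2.symm), s4 d q.1])
        (by rw [mul_left_cancel (p.2.trans r.2.symm), s4 f r.1]), one_smul] at this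
      exact h.ne this
  rw [Finset.card_erase_of_mem (by simpa using h.ne.symm), Finset.card_erase_of_mem (by simp), Finset.card_univ,
    ← Nat.card_eq_fintype_card, ← h.card, ← Set.ncard_eq_toFinset_card'] at this
  omega

theorem le_of_even : Nat.card H ≤ 2 * Nat.card (St2 G a b) + 1 :=
  let ⟨_, p, q⟩ := h.exists_swap
  (h.card_le he p q).trans (by gcongr; exact Set.ncard_le_ncard fun _ e => e.1)

theorem psl_of_even (hl : Nat.card H ≠ Nat.card (St2 G a b) + 1) :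
    ∃ (F : Type) (_ : Field F) (_ : Fintype F), Fintype.card F = Nat.card H ∧ Nonempty (G ≃* PSL2 F) := by
  obtain ⟨w, p, q⟩ := h.exists_swap
  have l := (h.card_cases (h.le_of_even he)).resolve_left hl
  have k := Set.eq_of_subset_of_ncard_le (s := {x | x ∈ St2 G a b ∧ w * x * (w * x) = 1}) (t := St2 G a b) (fun _ e => e.1) (by
    have := h.card_le he p q
    rw [← Nat.card_coe_set_eq (St2 G a b : Set G)]
    change Nat.card (St2 G a b) ≤ _
    omega)
  have ww : w * w = 1 := by simpa using (k.ge (one_mem _)).2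
  have i : ∀ x ∈ St2 G a b, w * x * w⁻¹ = x⁻¹ := fun x e => by
    rw [← eq_inv_of_mul_eq_one_left ww]; exact eq_inv_of_mul_eq_one_left (by simpa [mul_assoc] using (k.ge e).2)
  refine (h.zi l.le fun _ e _ => H1.comm_of_mem (H1.isMulCommutative_of_conj_eq_inv i) e).psl p ww i (Or.inr ?_)
  have := h.one_lt
  rw [h.cardG, l, add_tsub_cancel_right]
  nlinarith [Nat.mul_pos (zero_lt_one.trans this) (zero_lt_one.trans this)]

end ZG

end H3
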