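import Cfsg.Agent.H3.Zass4
import Cfsg.Agent.H1.DI
import Cfsg.Agent.H1.Tr2

/-!
H3.Zass5: sharply triply transitive groups of even degree: the two-point stabilizer has an abelian subgroup of index two.
-/

set_option autoImplicit false
open Cfsg MulAction Subgroup H5

namespace H3

variable {G Ω : Type*} [Group G] [MulAction G Ω] {a b c d : Ω} {H Q D N R : Subgroup G} {g s u w x y z : G}

theorem cyc_or_mc [Finite G] {p : ℕ} [hp : Fact p.Prime] (hR : IsPGroup p R) (h : ∀ x y : G, x ≠ 1 → x ^ p = 1 → y ^ p = 1 → y ∈ zpowers x) :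
    IsCyclic R ∨ p = 2 ∧ ∃ n a b, H1.MC R n a b :=
  (L.normal_rank_one hR fun A _ _ hA e => by
    obtain ⟨x, hx, ho⟩ := H9.exists_orderOf_eq_of_dvd (p := p) (H := A) (e ▸ dvd_pow_self p two_ne_zero)
    exact L.not_isCyclic_of_elem_sq hA e (H1.isCyclic_of_le_zpowers (a := x) fun y hy =>
      h x y (by rintro rfl; rw [orderOf_one] at ho; exact hp.1.one_lt.ne ho) (hA.2 x hx) (hA.2 y hy))).imp_right
    fun ⟨e, n, a, b, p1, p2, p3, p4, p5, p6, p7⟩ => ⟨e, n, a, b, p1, p2, p4, p6, p5, p3, p7⟩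

theorem q8_of_od [Finite G] (h : ∀ x y : G, x ≠ 1 → x ^ 2 = 1 → y ^ 2 = 1 → y ∈ zpowers x) (hR : IsPGroup 2 R) (o : H1.Od R) : ∃ z, H1.Q8 R z := by
  obtain ⟨-, n, a, b, m⟩ := (cyc_or_mc hR h).resolve_left fun e => H1.not_od_of_isCyclic hR e o
  refine ⟨_, (m.od_cases le_rfl o).resolve_left fun k => ?_⟩
  obtain ⟨x, p, q, -⟩ := H1.klein_exists_ne k 1
  exact H1.klein_not_cyclic k (H1.isCyclic_of_le_zpowers (a := x) fun y r => h x y q (sq x ▸ H1.klein_sq k p) (sq y ▸ H1.klein_sq k r))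

theorem npc_of_three [Finite G] (h : ∀ x y : G, x ≠ 1 → x ^ 2 = 1 → y ^ 2 = 1 → y ∈ zpowers x) (h3 : ¬ 3 ∣ Nat.card G) :
    HasNormalPComplement 2 G := by
  obtain ⟨S⟩ : Nonempty (Sylow 2 G) := inferInstance
  refine H1.hasNPC_of_not_od S fun R e o => ?_
  obtain ⟨z, q⟩ := q8_of_od h (S.2.to_le e) o
  exact h3 ((q.od_iff.1 o).trans ((relIndex_dvd_card _ _).trans (card_subgroup_dvd_card _)))

theorem inv_of_fpf [Finite G] (σ : G ≃* G) (hσ : ∀ x, σ (σ x) = x) (h1 : ∀ x ∈ N, σ x ∈ N) (h2 : ∀ x ∈ N, σ x = x → x = 1) (hx : x ∈ N) :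
    σ x = x⁻¹ := by
  obtain ⟨y, e⟩ := Finite.surjective_of_injective (f := fun y : N => (⟨y * (σ y)⁻¹, mul_mem y.2 (inv_mem (h1 _ y.2))⟩ : N))
    (fun y z e => eq_of_inv_mul_eq_one (Subtype.ext (h2 _ (y⁻¹ * z).2 (by
      have e : y * (σ y)⁻¹ = z * (σ z)⁻¹ := Subtype.mk.inj e
      rw [coe_mul, coe_inv, map_mul, map_inv, eq_inv_mul_iff_mul_eq, ← mul_assoc, e]; simp)))) ⟨x, hx⟩
  simp [← Subtype.mk.inj e, hσ]

theorem sh3_core [Finite G] (σ : G ≃* G) (hσ : ∀ x, σ (σ x) = x) (oz : orderOf z = 2) (uz : ∀ x, x * x = 1 → x = 1 ∨ x = z)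
    (fx : ∀ x, σ x = x → x = 1 ∨ x = z) (h3 : ∀ x y, orderOf x = 3 → orderOf y = 3 → x = y ∨ σ x = y)
    (A : ∀ K : Subgroup G, (∀ x, x * (σ x)⁻¹ ∈ K) → K = ⊤) : (center G).index = 12 ∧ 6 ∣ Nat.card (center G) := by
  have := Fact.mk Nat.prime_three
  have cent : ∀ B : Subgroup G, B.Normal → (∀ b ∈ B, σ b = b⁻¹) → B ≤ center G := fun B n e b p => mem_center_iff.2 fun g =>
    ((A (centralizer B) fun x y q => by
      have := e _ (n.conj_mem _ (inv_mem q) x⁻¹)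
      simp only [map_mul, map_inv, e y q, inv_inv, mul_inv_rev] at this
      rw [mul_assoc x, ← mul_inv_cancel_right ((σ x)⁻¹ * y) (σ x), this]; group).ge (mem_top g) b p).symm
  have cop : ∀ X : Subgroup G, X.Characteristic → HasNormalPComplement 2 X → H2.Op 2 X ≤ center G := fun X e n =>
    cent _ (normalizer_eq_top_iff.1 (eq_top_iff.2 ((normalizer_eq_top X).ge.trans (H2.normalizer_le_normalizer_Op 2 X)))) fun _ =>
      inv_of_fpf σ hσ (H2.Op_le_iff (K := (H2.Op 2 X).comap σ.toMonoidHom).2 fun x p q => H2.mem_Op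
        ((characteristic_iff_le_comap.1 e σ) p) (by simpa using q)) fun x p q => (fx x q).resolve_right fun r =>
          (Nat.coprime_two_right.1 (H2.hasNPC_iff_Op.1 n)).not_two_dvd_nat (by
            simpa only [r, oz] using H1.orderOf_dvd_card_of_mem p)
  have i2 : ∀ K : Subgroup G, K.index ≠ 2 := fun K e => by
    have n : K ≠ ⊤ := fun f => by simp [f] at e
    let W : Subgroup G := ⟨⟨⟨{x | x ∈ K ↔ σ x ∈ K}, fun {x y} p q => by
      simp only [Set.mem_setOf_eq, map_mul, mul_mem_iff_of_index_two e] at *; tauto⟩, by simp⟩, by simp⟩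
    have := A W fun x => by simp [W, mul_mem_iff_of_index_two e, hσ, iff_comm]
    exact n (A K fun x => by simpa [W, mul_mem_iff_of_index_two e] using this.ge (mem_top x))
  have u2 : ∀ x y : G, x ≠ 1 → x ^ 2 = 1 → y ^ 2 = 1 → y ∈ zpowers x := fun x y p q r => by
    rcases uz y (sq y ▸ r) with rfl | rfl
    · exact one_mem _
    · exact (uz x (sq x ▸ q)).resolve_left p ▸ mem_zpowers _
  have zc : z ∈ center G := mem_center_iff.2 fun g => mul_inv_eq_iff_eq_mul.1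
    ((uz _ (H4.conj_mul_self (H4.mul_self_of_two oz) g)).resolve_left (by simpa using H4.ne_one_of_two oz))
  obtain ⟨T⟩ : Nonempty (Sylow 2 G) := inferInstance
  have nn : ¬ HasNormalPComplement 2 G := fun ⟨P, N, _, e⟩ =>
    (H1.exists_index_prime_of_npc e P.2 (P.ne_bot_of_dvd_card (oz ▸ orderOf_dvd_natCard z))).elim fun K f => i2 K f.2
  obtain ⟨x, ox⟩ := exists_prime_orderOf_dvd_card' 3 (by_contra fun e => nn (npc_of_three u2 e))
  have xi : ∀ x, orderOf x = 3 → σ x = x⁻¹ := fun x o => (h3 x x⁻¹ o (by simpa using o)).resolve_left fun f =>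
    absurd (o ▸ orderOf_dvd_of_pow_eq_one (show x ^ 2 = 1 by rw [sq]; nth_rw 1 [f]; simp)) (by simp)
  have u3 : ∀ x y : G, x ≠ 1 → x ^ 3 = 1 → y ^ 3 = 1 → y ∈ zpowers x := fun x y p q r => by
    by_cases e : y = 1
    · simp [e]
    rcases h3 x y (orderOf_eq_prime q p) (orderOf_eq_prime r e) with rfl | rfl
    · exact mem_zpowers _
    · exact xi x (orderOf_eq_prime q p) ▸ inv_mem (mem_zpowers _)
  have x1 : x ≠ 1 := fun e => by simp [e] at ox
  have x3 : ∀ y ∈ zpowers x, y ^ 3 = 1 := fun y p => ox ▸ orderOf_dvd_iff_pow_eq_one.1 (orderOf_dvd_of_mem_zpowers p)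
  have xc : x ∈ center G := cent (zpowers x) ⟨fun y p g => u3 x _ x1 (x3 x (mem_zpowers x)) (by rw [conj_pow, x3 y p]; simp)⟩
    (by rintro _ ⟨k, rfl⟩; simp [xi x ox]) (mem_zpowers x)
  obtain ⟨P, hP⟩ := (IsPGroup.of_card (p := 3) (n := 1) ((Nat.card_zpowers x).trans ox)).exists_le_sylow
  have : IsCyclic P := (cyc_or_mc P.2 u3).resolve_right (by simp)
  have n3 : HasNormalPComplement 3 G := P.normalizer_le_centralizer_or_le_commutator.elim
    (fun d => ⟨P, _, inferInstance, MonoidHom.ker_transferSylow_isComplement' P d⟩) fun d => absurd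
      (H1.sylow_inf_commutator_inf_center P ⟨⟨hP (mem_zpowers x), d (hP (mem_zpowers x))⟩, xc⟩)
        (by rwa [L.commutator_eq_bot_iff_comm.2 inferInstance])
  have t1 : (T : Subgroup G) ≤ pResidual 3 G := fun y p => H2.mem_pResidual_of_coprime (by
    obtain ⟨k, e⟩ := IsPGroup.iff_orderOf.1 T.2 ⟨y, p⟩
    rw [← orderOf_coe] at e
    exact e ▸ Nat.Coprime.pow_left _ (by decide))
  have t2 := H2.sylow_isSylowIn T t1
  have t3 : (T : Subgroup G).Normal := ⟨fun y p g => by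
    obtain ⟨n, q, m, r, rfl⟩ := t2.frattini (g := g) (le_normalizer_of_normal (mem_top g))
    refine H1.conj_mem_of_mem_normalizer (mul_mem ((t2.Op_sup.ge.trans (sup_le ((cop _ inferInstance (npc_of_three
      (fun x y p q r => ?_) ?_)).trans (center_le_normalizer _)) le_normalizer)) q) r) p
    · obtain ⟨k, e⟩ := u2 x y (by simpa using p) (congrArg Subtype.val q) (congrArg Subtype.val r)
      exact ⟨k, Subtype.ext (by simpa using e)⟩
    · exact Nat.prime_three.coprime_iff_not_dvd.1 (H2.hasNormalPComplement_iff_coprime.1 n3).symm⟩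
  have t4 := T.characteristic_of_normal t3
  have od : H1.Od (T : Subgroup G) := by_contra fun e => nn (H1.hasNPC_of_not_od T fun R p ⟨g, _, q, r⟩ =>
    e ⟨g, le_normalizer_of_normal (mem_top g), q, fun f => r (centralizer_le p f)⟩)
  obtain ⟨z', q⟩ := q8_of_od u2 T.2 od
  obtain rfl : z' = z := (uz _ (H4.mul_self_of_two q.oz)).resolve_left (H4.ne_one_of_two q.oz)
  have c1 := (H2.isSylowIn_top T).inf_of_le_normalizer (N := centralizer ((T : Subgroup G) : Set G)) le_top le_normalizer_of_normal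
  rw [q.center] at c1
  have c2 : centralizer ((T : Subgroup G) : Set G) = center G := le_antisymm (c1.Op_sup.ge.trans (sup_le (cop _ inferInstance
    (H1.hasNPC_two_of_isCyclic c1 inferInstance)) (zpowers_le_of_mem zc))) (center_le_centralizer _)
  have d1 := q.relIndex_dvd
  have d2 := q.od_iff.1 od
  have d3 := q.center
  rw [normalizer_eq_top, relIndex_top_right, c2] at d1 d2
  have d4 := mt (dvd_trans · (index_dvd_of_le (le_sup_left (b := center G)))) T.not_dvd_index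
  have d5 := H1.card_inf_mul_relIndex (center G) T
  rw [inf_comm, ← c2, d3, Nat.card_zpowers, oz, q.card, c2, ← relIndex_sup_right] at d5
  refine ⟨?_, Nat.Coprime.mul_dvd_of_dvd_of_dvd (m := 2) (n := 3) (by decide) (oz ▸ H1.orderOf_dvd_card_of_mem zc)
    (ox ▸ H1.orderOf_dvd_card_of_mem xc)⟩
  have := Nat.le_of_dvd (by simp) d1
  rw [← relIndex_mul_index (le_sup_right (a := (T : Subgroup G))), show (center G).relIndex _ = 4 by omega,
    show (T ⊔ center G : Subgroup G).index = 3 by omega]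

theorem half [Finite G] (σ : G ≃* G) (hσ : ∀ x, σ (σ x) = x) (fx : ∀ x, σ x = x → x = 1 ∨ x = z) (h1 : N ≠ ⊤) (h2 : ∀ x, x * (σ x)⁻¹ ∈ N) :
    N.index = 2 ∧ ∀ x ∈ N, σ x = x⁻¹ := by
  classical
  have := Fintype.ofFinite G
  have l := Finset.card_le_mul_card_image (f := fun x => x * (σ x)⁻¹) Finset.univ 2 fun y e => by
    obtain ⟨y, -, rfl⟩ := Finset.mem_image.1 e
    refine (Finset.card_le_card (t := {y, y * z}) fun x f => ?_).trans Finset.card_le_two
    simpa [inv_mul_eq_iff_eq_mul] using fx (y⁻¹ * x) (by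
      rw [map_mul, map_inv, eq_inv_mul_iff_mul_eq, ← mul_assoc, ← (Finset.mem_filter.1 f).2]; simp)
  have m : Finset.univ.image (fun x => x * (σ x)⁻¹) ⊆ Finset.univ.filter (· ∈ N) := by simpa [Finset.image_subset_iff] using h2
  have k := Finset.card_le_card m
  have i := N.index_mul_card
  have := mt index_eq_one.1 h1
  have := N.index_ne_zero_of_finite
  have := Nat.card_pos (α := N)
  rw [Nat.card_eq_fintype_card, Nat.card_eq_fintype_card, Fintype.card_subtype, ← Finset.card_univ] at *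
  have j : N.index = 2 := by nlinarith [show 2 ≤ N.index by omega]
  refine ⟨j, fun x e => ?_⟩
  obtain ⟨y, -, rfl⟩ := Finset.mem_image.1 ((Finset.eq_of_subset_of_card_le m (by rw [j] at i; omega)).ge (Finset.mem_filter.2 ⟨by simp, e⟩))
  simp [hσ]

structure Fld (Q D : Subgroup G) {F : Type*} [Field F] (f : F → G) (ψ : G → F) : Prop where
  add : ∀ x y, f (x + y) = f x * f y
  inj : Function.Injective f
  mem : ∀ u, u ∈ Q ↔ ∃ x, f x = u
  act : ∀ d ∈ D, ∀ x, d * f x * d⁻¹ = f (ψ d * x)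
  irr : ∀ W ≤ Q, (∀ d ∈ D, ∀ u ∈ W, d * u * d⁻¹ ∈ W) → W = ⊥ ∨ W = Q

theorem exists_fld [Finite G] (hQ : ∀ x ∈ Q, ∀ y ∈ Q, x * y = y * x) (hD : ∀ x ∈ D, ∀ y ∈ D, x * y = y * x)
    (hn : D ≤ normalizer (Q : Set G)) (h1 : Q ≠ ⊥) (irr : ∀ W ≤ Q, (∀ d ∈ D, ∀ u ∈ W, d * u * d⁻¹ ∈ W) → W = ⊥ ∨ W = Q) :
    ∃ (F : Type) (_ : Field F) (_ : Fintype F) (f : F → G) (ψ : G → F), Fld Q D f ψ :=
  let ⟨F, _, _, f, ψ, p, q, r, t⟩ := exists_field hQ hD hn h1 irr; ⟨F, _, ‹_›, f, ψ, p, q, r, t, irr⟩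

namespace Fld
variable {F : Type*} [Field F] {f : F → G} {ψ : G → F} (h : Fld Q D f ψ)
include h

theorem zero : f 0 = 1 := by simpa using h.add 0 0
theorem neg (x : F) : f (-x) = (f x)⁻¹ := eq_inv_of_mul_eq_one_right (by rw [← h.add, add_neg_cancel, h.zero])
theorem fm (x : F) : f x ∈ Q := (h.mem _).2 ⟨x, rfl⟩
theorem card [Fintype F] : Fintype.card F = Nat.card Q := by
  rw [← Nat.card_eq_fintype_card]
  exact Nat.card_congr (Equiv.ofBijective (fun x => ⟨f x, h.fm x⟩) ⟨fun x y e => h.inj (congrArg Subtype.val e), fun u =>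
    ((h.mem _).1 u.2).imp fun _ => Subtype.ext⟩)

theorem ind (P : AddSubgroup F) (h1 : 1 ∈ P) (h2 : ∀ d ∈ D, ∀ x ∈ P, ψ d * x ∈ P) (x : F) : x ∈ P := by
  let W : Subgroup G := ⟨⟨⟨f '' P, by rintro _ _ ⟨x, p, rfl⟩ ⟨y, q, rfl⟩; exact ⟨_, add_mem p q, h.add _ _⟩⟩, _, zero_mem _, h.zero⟩,
    by rintro _ ⟨x, p, rfl⟩; exact ⟨_, neg_mem p, h.neg _⟩⟩
  obtain ⟨y, p, e⟩ := ((h.irr W (by rintro _ ⟨x, -, rfl⟩; exact h.fm x) (by
    rintro d e _ ⟨x, p, rfl⟩; exact ⟨_, h2 d e x p, (h.act d e x).symm⟩)).resolve_left fun e =>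
      one_ne_zero (h.inj ((mem_bot.1 (e.le ⟨1, h1, rfl⟩)).trans h.zero.symm))).ge (h.fm x)
  exact h.inj e ▸ p

theorem fix (σ : F →+* F) (e : ∀ d ∈ D, σ (ψ d) = ψ d) (x : F) : σ x = x :=
  h.ind (σ.eqLocus (RingHom.id F)).toAddSubgroup (one_mem (σ.eqLocus _)) (fun d p _ q => mul_mem (s := σ.eqLocus _) (e d p) q) x

theorem semi (hy : y ∈ normalizer (Q : Set G)) (hD : ∀ d ∈ D, y * d * y⁻¹ ∈ D) : ∃ (σ : F →+* F) (c : F), c ≠ 0 ∧
    (∀ v, y * f v * y⁻¹ = f (c * σ v)) ∧ ∀ d ∈ D, σ (ψ d) = ψ (y * d * y⁻¹) := by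
  choose τ t using fun v => (h.mem _).1 (H1.conj_mem_of_mem_normalizer hy (h.fm v))
  have ta : ∀ v w, τ (v + w) = τ v + τ w := fun v w => h.inj (by rw [h.add, t, t, t, h.add]; group)
  have tm : ∀ d ∈ D, ∀ v, τ (ψ d * v) = ψ (y * d * y⁻¹) * τ v := fun d e v => h.inj (by
    rw [t, ← h.act d e, ← h.act _ (hD d e), t]; group)
  let T := AddMonoidHom.mk' τ ta
  have c0 : τ 1 ≠ 0 := fun e => one_ne_zero (h.inj (by simpa [e, h.zero] using (t 1).symm))
  have k := h.ind ⟨⟨⟨{x | ∀ v, T (x * v) * T 1 = T x * T v}, fun p q v => by simp only [add_mul, map_add, p v, q v]⟩, by simp⟩,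
    fun p v => by simp only [neg_mul, map_neg, p v]⟩ (fun v => by simp [mul_comm]) fun d e x p v => by
      have : τ (x * v) * τ 1 = τ x * τ v := p v
      simp only [T, AddMonoidHom.mk'_apply, mul_assoc, tm d e, this]
  refine ⟨⟨⟨⟨fun v => (τ 1)⁻¹ * τ v, inv_mul_cancel₀ c0⟩, fun v w => ?_⟩, mul_eq_zero_of_right _ T.map_zero, fun v w => by simp [ta, mul_add]⟩,
    τ 1, c0, fun v => by simp [c0, t], fun d e => (inv_mul_eq_iff_eq_mul₀ c0).2 (by simpa [mul_comm] using tm d e 1)⟩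
  have : τ (v * w) * τ 1 = τ v * τ w := k v w
  field_simp; linear_combination this

theorem scal (hy : y ∈ normalizer (Q : Set G)) (hD : ∀ d ∈ D, y * d * y⁻¹ = d) : ∃ c, ∀ v, y * f v * y⁻¹ = f (c * v) := by
  obtain ⟨σ, c, -, p, q⟩ := h.semi hy fun d e => (hD d e).symm ▸ e
  exact ⟨c, fun v => by rw [p, h.fix σ fun d e => by rw [q d e, hD d e]]⟩

theorem comm {E : Subgroup G} (hn : E ≤ normalizer (Q : Set G)) (hf : H1.Fpf E Q) (hs : ∀ y ∈ E, ∃ c, ∀ v, y * f v * y⁻¹ = f (c * v))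
    (hx : x ∈ E) (hy : y ∈ E) : x * y = y * x := by
  obtain ⟨c, p⟩ := hs x hx
  obtain ⟨d, q⟩ := hs y hy
  refine (inv_mul_eq_one.1 ((H1.fpf_iff.1 hf _ (mul_mem (inv_mem (mul_mem hy hx)) (mul_mem hx hy)) _ (h.fm 1) ?_).resolve_right
    fun e => one_ne_zero (h.inj (e.trans h.zero.symm)))).symm
  rw [← mul_inv_eq_iff_eq_mul, show (y * x)⁻¹ * (x * y) * f 1 * ((y * x)⁻¹ * (x * y))⁻¹ = (y * x)⁻¹ * (x * (y * f 1 * y⁻¹) * x⁻¹) * (y * x) by group,
    q, p, mul_left_comm, ← q, ← p]; group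

theorem inv (hd : g ∈ D) : ψ g * ψ g⁻¹ = 1 := h.inj (by rw [← mul_one (ψ g⁻¹), ← h.act _ hd, ← h.act _ (inv_mem hd)]; group)

end Fld

theorem ringHom_eq_id {F : Type*} [Field F] [Fintype F] {p f : ℕ} (hp : p.Prime) (h : Fintype.card F = p ^ f) (hf : Odd f) (σ : F →+* F)
    (e : ∀ x, σ (σ x) = x) (x : F) : σ x = x := by
  have := Fact.mk hp
  have := charP_of_card_eq_prime_pow h
  let _ := ZMod.algebra F p
  let τ : F ≃ₐ[ZMod p] F := AlgEquiv.ofRingEquiv (f := RingEquiv.ofRingHom σ σ (RingHom.ext e) (RingHom.ext e))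
    fun x => DFunLike.congr_fun (RingHom.ext_zmod (σ.comp (algebraMap _ _)) (algebraMap _ _)) x
  have k := orderOf_dvd_natCard τ
  rw [IsGalois.card_aut_eq_finrank, show Module.finrank (ZMod p) F = f from Nat.pow_right_injective hp.two_le (by
    simpa [h] using (Module.card_eq_pow_finrank (K := ZMod p) (V := F)).symm)] at k
  exact DFunLike.congr_fun (orderOf_eq_one_iff.1 (Nat.eq_one_of_dvd_coprimes (Nat.coprime_two_left.2 hf)
    (orderOf_dvd_of_pow_eq_one (AlgEquiv.ext e)) k)) x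

theorem swap_conj' (hx : x ∈ St2 G a b) (s1 : s • a = b) (s2 : s • b = a) : (x * s * x⁻¹) • a = b ∧ (x * s * x⁻¹) • b = a := by
  have p : x⁻¹ • a = a := (inv_mem hx).1
  have q : x⁻¹ • b = b := (inv_mem hx).2
  simp only [mul_smul, p, q, s1, s2]; exact ⟨hx.2, hx.1⟩

namespace ZG
variable [Finite G] [Finite Ω] (h : ZG a b H) (e : Nat.card H = Nat.card (St2 G a b) + 1) (he : Even (Nat.card (St2 G a b)))
  (c1 : c ≠ a) (c2 : c ≠ b) (s1 : s • a = b) (s2 : s • b = a) (s3 : s • c = c)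
include h c1 c2 s1 s2 s3

omit [Finite G] [Finite Ω] in
theorem ss : s * s = 1 := h.three _ a b c h.ne c2.symm c1.symm (by simp [mul_smul, s1, s2]) (by simp [mul_smul, s1, s2]) (by simp [mul_smul, s3])

include e he in
theorem exists_N : ∃ N ≤ St2 G a b, N.relIndex (St2 G a b) = 2 ∧ (∀ x ∈ N, s * x * s⁻¹ = x⁻¹) ∧ ∀ x ∈ St2 G a b, x * s * x⁻¹ * s⁻¹ ∈ N := by
  obtain ⟨z, z1, z2, -, z3⟩ := h.exists_z he
  have ss := h.ss c1 c2 s1 s2 s3
  let σ := (St2 G a b).normalizerMonoidHom ⟨s, h.mem_norm.2 (Or.inr ⟨s1, s2⟩)⟩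
  have hσ : ∀ x, (σ x : G) = s * x * s⁻¹ := fun _ => rfl
  have σ2 : ∀ x, σ (σ x) = x := fun x => Subtype.ext (by rw [hσ, hσ, ← mul_inv_eq_one, ← inv_mul_cancel_right (_ * _) s]; simp [← mul_assoc, ss, mul_assoc _ s⁻¹, ← mul_inv_rev])
  have one : ∀ x ∈ St2 G a b, ∀ y ∈ St2 G a b, x • c = y • c → x = y := fun x p y q r => (h.sh3 e).eq h.ne c1.symm c2.symm (p.1.trans q.1.symm)
    (p.2.trans q.2.symm) r
  have fc : ∀ x : G, s * x * s⁻¹ = x → s • x • c = x • c := fun x p => by rw [← mul_smul, mul_inv_eq_iff_eq_mul.1 p, mul_smul, s3]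
  have fx : ∀ x, σ x = x → x = 1 ∨ x = ⟨z, z1⟩ := fun x p => by
    by_contra! q
    refine h.ne ((s1.symm.trans ?_).symm)
    rw [h.three s c (z • c) ((x : G) • c) (fun r => H4.ne_one_of_two z2 (one _ z1 _ (one_mem _) (by simpa using r.symm)))
      (fun r => q.2 (Subtype.ext (one _ z1 _ x.2 r).symm)) (fun r => q.1 (Subtype.ext (one _ x.2 _ (one_mem _) (by simpa using r.symm)))) s3
      (fc z ((z3 _ (swap_conj s1 s2 z1) (H4.conj_mul_self (H4.mul_self_of_two z2) s)).resolve_left (by simpa using H4.ne_one_of_two z2)))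
      (fc x (congrArg Subtype.val p)), one_smul]
  by_cases A : ∀ K : Subgroup (St2 G a b), (∀ x, x * (σ x)⁻¹ ∈ K) → K = ⊤
  · obtain ⟨p, k, q⟩ := sh3_core σ σ2 (z := ⟨z, z1⟩) ((orderOf_coe _).symm.trans z2) (fun x p => (z3 x x.2 (congrArg Subtype.val p)).imp
      Subtype.ext Subtype.ext) fx (fun x y p q => ((h.sh3 e).three_eq h.ne c1 c2 s1 s2 s3 x.2 y.2 ((orderOf_coe _).trans p)
        ((orderOf_coe _).trans q)).imp Subtype.ext Subtype.ext) A
    have l := map_subtype_le (center (St2 G a b))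
    have n : St2 G a b ≤ _ := inf_le_left.trans h.norm
    have m : ∀ x ∈ (center (St2 G a b)).map (Subgroup.subtype _), ∀ y ∈ St2 G a b, y * x = x * y := by
      rintro _ ⟨x, r, rfl⟩ y t; exact congrArg Subtype.val (mem_center_iff.1 r ⟨y, t⟩)
    have i := (center (St2 G a b)).index_mul_card
    rw [← card_subtype] at q i
    generalize (center (St2 G a b)).map (Subgroup.subtype _) = Z at l m q i
    by_cases irr : ∀ W ≤ H, (∀ d ∈ Z, ∀ u ∈ W, d * u * d⁻¹ ∈ W) → W = ⊥ ∨ W = H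
    · obtain ⟨F, _, _, f, ψ, r⟩ := exists_fld (h.elem (by omega)).1 (fun x r y t => (m x r y (l t)).symm) (l.trans n) h.ntH irr
      rw [show center (St2 G a b) = ⊤ from eq_top_iff.2 fun x _ => mem_center_iff.2 fun y => Subtype.ext (r.comm n h.fpf
        (fun y t => r.scal (n t) fun d u => by rw [m d u y t, mul_inv_cancel_right]) y.2 x.2), index_top] at p
      omega
    push Not at irr
    obtain ⟨W, w1, w2, w3, w4⟩ := irr
    obtain ⟨i', w5⟩ := (h.fpf.mono l w1).card_dvd fun d t => H1.mem_normalizer_iff_conj_mem.2 (w2 d t)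
    have w6 := H1.card_mul_relIndex w1
    have w7 := mt relIndex_eq_one.1 fun t => w4 (w1.antisymm t)
    have w8 := (one_lt_card_iff_ne_bot W).2 w3
    have := Nat.card_pos (α := Z)
    obtain ⟨r, w9⟩ : ∃ r, W.relIndex H = r + 1 := Nat.exists_eq_succ_of_ne_zero fun t => by simp [t, e] at w6
    rw [e, ← i, p, w9, show Nat.card W = Nat.card Z * i' + 1 by omega] at w6
    obtain ⟨j, rfl⟩ : Nat.card Z ∣ r := (Nat.dvd_add_right (Dvd.intro (i' * (r + 1)) rfl)).1 ⟨12, by linear_combination w6⟩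
    have : Nat.card Z * i' * j + i' + j = 12 := Nat.eq_of_mul_eq_mul_left this (by linear_combination w6)
    have i0 : i' ≠ 0 := by rintro rfl; omega
    have j0 : j ≠ 0 := by rintro rfl; omega
    rw [q] at this
    have k0 : k ≠ 0 := by rintro rfl; omega
    have t0 := mul_ne_zero (mul_ne_zero k0 i0) j0
    have t1 : k * i' * j = 1 := by rw [mul_assoc 6, mul_assoc 6] at this; omega
    have := Nat.eq_one_of_mul_eq_one_left t1
    have := Nat.eq_one_of_mul_eq_one_left (Nat.eq_one_of_mul_eq_one_right t1)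
    rw [mul_assoc 6, mul_assoc 6] at *; omega
  push Not at A
  obtain ⟨K, k1, k2⟩ := A
  obtain ⟨k3, k4⟩ := half σ σ2 fx k2 k1
  refine ⟨K.map (Subgroup.subtype _), map_subtype_le _, by rwa [relIndex, subgroupOf, comap_map_eq_self_of_injective (subtype_injective _)],
    by rintro _ ⟨x, p, rfl⟩; exact congrArg Subtype.val (k4 x p), fun x p => ⟨_, k1 ⟨x, p⟩, by simp [hσ, mul_assoc]⟩⟩

omit c1 c2 s1 s2 s3 in
include e he in
theorem not_perfect : commutator G ≠ ⊤ := fun hp => by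
  classical
  obtain ⟨c, c1, c2, -⟩ := exists_notMem3 (Ω := Ω) (by have := h.card; have := h.one_lt; omega) a b b
  obtain ⟨s, ss, s1, s2, s3⟩ := h.exists_fix he c1 c2
  obtain ⟨N, n1, n2, n3, n4⟩ := h.exists_N e he c1 c2 s1 s2 s3
  obtain ⟨z, z1, z2, -, z3⟩ := h.exists_z he
  have cN := H1.card_mul_relIndex n1
  rw [n2] at cN
  by_cases zN : z ∈ N
  swap
  · have := Fintype.ofFinite Ω
    have o : Odd (Nat.card N) := Nat.not_even_iff_odd.1 fun d =>
      let ⟨y, p, q⟩ := H9.exists_orderOf_eq_of_dvd d.two_dvd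
      zN ((z3 y (n1 p) (H4.mul_self_of_two q)).resolve_left (H4.ne_one_of_two q) ▸ p)
    have k := Abelianization.commutator_subset_ker (Equiv.Perm.sign.comp (toPermHom G Ω)) (hp.ge (mem_top z))
    rw [MonoidHom.mem_ker, MonoidHom.comp_apply, Equiv.Perm.sign_of_pow_two_eq_one (by rw [← map_pow, ← z2, pow_orderOf_eq_one, map_one]),
      ← Nat.card_eq_fintype_card, ← Nat.card_eq_fintype_card, show Function.fixedPoints (toPermHom G Ω z) = {a, b} from Set.ext fun d => ⟨fun p => by_contra fun q => H4.ne_one_of_two z2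
        (h.three z a b d h.ne (fun r => q (Or.inr r.symm)) (fun r => q (Or.inl r.symm)) z1.1 z1.2 p), by rintro (rfl | rfl); exacts [z1.1, z1.2]⟩,
      Nat.card_coe_set_eq, Set.ncard_pair h.ne, ← h.card, e, ← cN] at k
    simp [o.neg_one_pow] at k
  have sN : s ∈ normalizer (N : Set G) := H1.mem_normalizer_iff_conj_mem.2 fun x p => (n3 x p).symm ▸ inv_mem p
  have s4 : s ^ 2 ∈ N := by rw [sq, ss]; exact one_mem _
  have sE : s ∉ St2 G a b := fun p => h.ne (p.1.symm.trans s1)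
  have KM : N ⊔ zpowers s ≤ normalizer (St2 G a b : Set G) := sup_le (n1.trans le_normalizer) (zpowers_le_of_mem (h.mem_norm.2 (Or.inr ⟨s1, s2⟩)))
  have cM := H1.card_mul_relIndex (le_normalizer (H := St2 G a b))
  have iK := H1.card_mul_relIndex KM
  rw [h.relIndex_norm] at cM
  rw [H1.card_sup_zpowers sN s4 (mt (@n1 s) sE), cN, ← cM, Nat.mul_right_inj Nat.card_pos.ne'] at iK
  have cK : ∀ x ∈ normalizer (St2 G a b : Set G), ∀ y ∈ normalizer (St2 G a b : Set G), x * y * x⁻¹ * y⁻¹ ∈ N ⊔ zpowers s := fun x p y q =>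
    commutator_le_of_index_two iK (commutator_mem_commutator (mem_top (⟨x, p⟩ : normalizer (St2 G a b : Set G))) (mem_top ⟨y, q⟩))
  obtain ⟨M, -, m1, -, -, m2⟩ := H2.exists_transfer_kernel (commutator_le.2 cK)
  obtain ⟨g, g1, g2⟩ := SetLike.not_le_iff_exists.1 (mt relIndex_eq_one.2 (n2 ▸ by simp) : ¬ St2 G a b ≤ N)
  have := (m2 g (le_normalizer g1) fun k t f => ?_).1 (m1 (hp.ge (mem_top g)))
  · obtain ⟨j, o⟩ : Odd (normalizer (St2 G a b : Set G)).index := by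
      have i := (normalizer (St2 G a b : Set G)).index_mul_card
      obtain ⟨m, d⟩ := z2 ▸ H1.orderOf_dvd_card_of_mem zN
      rw [h.cardG, ← cM, e, ← cN, d] at i
      rw [Nat.eq_of_mul_eq_mul_right (show 0 < 2 * m * 2 * 2 by have := Nat.card_pos (α := N); omega)
        (i.trans (show _ = (2 * m + 1) * (4 * m + 1) * _ by ring))]
      exact (odd_two_mul_add_one m).mul ⟨2 * m, by ring⟩
    rw [o, pow_succ, pow_mul, mul_mem_cancel_left (pow_mem (sq g ▸ mul_self_mem_of_index_two iK ⟨g, le_normalizer g1⟩) j)] at this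
    exact ((H1.mem_sup_zpowers_of_sq sN s4).1 this).elim g2 fun p => sE (by simpa using mul_mem (inv_mem (n1 p)) g1)
  have u1 := pow_mem g1 k
  generalize g ^ k = u at *
  by_cases u0 : u = 1
  · simp [u0]
  rcases h.mem_norm.1 f with p | p
  · exact cK t (h.mem_norm.2 (h.tiE u1 u0 p)) u (le_normalizer u1)
  have r : (t * u * t⁻¹) • t • a = t • a := by simp [mul_smul, show u • a = a from u1.1]
  have r1 : t • a ≠ a := fun q => h.ne (by rw [q, p.1] at r; exact r.symm)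
  have r2 : t • a ≠ b := fun q => h.ne (by rw [q, p.2] at r; exact r)
  obtain ⟨x, x1, x2⟩ := h.reg2 e c1 c2 r1 r2
  have v : t * u * t⁻¹ = x * s * x⁻¹ := (h.sh3 e).eq h.ne r1.symm r2.symm (p.1.trans (swap_conj' x1 s1 s2).1.symm)
    (p.2.trans (swap_conj' x1 s1 s2).2.symm) (by rw [r, ← x2]; simp [mul_smul, s3])
  obtain rfl := (z3 u u1 (by simpa using h.ss r1 r2 p.1 p.2 r)).resolve_left u0
  exact mul_mem ((H1.mem_sup_zpowers_of_sq sN s4).2 (Or.inr (v ▸ n4 x x1))) (inv_mem (mem_sup_left zN))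

omit c1 c2 s1 s2 s3 in
include e he in
theorem comm_of_odd {p f : ℕ} (hp : p.Prime) (hc : Nat.card H = p ^ f) (hf : Odd f) (hx : x ∈ St2 G a b) (hy : y ∈ St2 G a b) : x * y = y * x := by
  obtain ⟨c, c1, c2, -⟩ := exists_notMem3 (Ω := Ω) (by have := h.card; have := h.one_lt; omega) a b b
  obtain ⟨s, ss, s1, s2, s3⟩ := h.exists_fix he c1 c2
  obtain ⟨N, n1, n2, n3, n4⟩ := h.exists_N e he c1 c2 s1 s2 s3
  have cN := H1.card_mul_relIndex n1
  have n : St2 G a b ≤ _ := inf_le_left.trans h.norm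
  have m := fun x p y => H1.comm_of_mem (H1.isMulCommutative_of_conj_eq_inv n3) (x := x) (y := y) p
  obtain ⟨F, _, _, f, ψ, r⟩ := exists_fld (h.elem (by omega)).1 m (n1.trans n) h.ntH fun W => irr_of_card (h.fpf.mono n1 le_rfl) (by
    rw [n2] at cN; omega)
  refine r.comm n h.fpf (fun y p => ?_) hx hy
  have k : ∀ d ∈ N, y * d * y⁻¹ ∈ N := fun d q => (normal_of_index_eq_two n2).conj_mem ⟨d, n1 q⟩ q ⟨y, p⟩
  obtain ⟨σ, c, -, u, v⟩ := r.semi (n p) k
  refine ⟨c, fun w => (u w).trans (congrArg (f <| c * ·) (ringHom_eq_id hp (r.card.trans hc) hf σ (r.fix (σ.comp σ) fun d q => ?_) w))⟩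
  rw [RingHom.comp_apply, v d q, v _ (k d q), show y * (y * d * y⁻¹) * y⁻¹ = y * y * d * (y * y)⁻¹ by group,
    m (y * y) (mul_self_mem_of_index_two n2 ⟨y, p⟩) d q, mul_inv_cancel_right]

omit c1 c2 s1 s2 s3 in
include e he in
theorem pgl_of_comm (hc : ∀ x ∈ St2 G a b, ∀ y ∈ St2 G a b, x * y = y * x) :
    ∃ (F : Type) (_ : Field F) (_ : Fintype F), Fintype.card F = Nat.card H ∧ Nonempty (G ≃* PG F) := by
  obtain ⟨F, _, _, f, ψ, r⟩ := exists_fld (h.elem (by omega)).1 hc (inf_le_left.trans h.norm) h.ntH fun W => irr_of_card h.fpf (by omega)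
  obtain ⟨z, z1, z2, z4, z3⟩ := h.exists_z he
  have ua : ∀ x, f x • a = a := fun x => h.le (r.fm x)
  have ei : ∀ {x y}, f x • b = f y • b → x = y := fun {x y} p => r.inj (inv_mul_eq_one.1 (by_contra fun q => h.ne
    (h.fix (mul_mem (inv_mem (r.fm x)) (r.fm y)) q (by rw [mul_smul, ← p, inv_smul_smul])).symm))
  have na : ∀ x, f x • b ≠ a := fun x p => h.ne (smul_left_cancel _ ((ua x).trans p.symm))
  have nb : ∀ x, x ≠ 0 → f x • b ≠ b := fun x p q => p (ei (by rw [q, r.zero, one_smul]))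
  have es : ∀ c : Ω, c ≠ a → ∃ x, f x • b = c := fun c p => by
    obtain ⟨u, q, rfl⟩ := h.reg p
    obtain ⟨x, rfl⟩ := (r.mem u).1 q
    exact ⟨x, rfl⟩
  have af : ∀ x y, f x • f y • b = f (x + y) • b := fun x y => by rw [r.add, mul_smul]
  have ad : ∀ d ∈ St2 G a b, ∀ x, d • f x • b = f (ψ d * x) • b := fun d p x => by
    rw [← r.act d p, mul_smul, mul_smul, show d⁻¹ • b = b from (inv_mem p).2]
  have az : ∀ x, z • f x • b = f (-x) • b := fun x => by rw [r.neg, ← z4 _ (r.fm x), mul_smul, mul_smul, show z⁻¹ • b = b from (inv_mem z1).2]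
  obtain ⟨s, ss, s1, s2, s3⟩ := h.exists_fix he (na 1) (nb 1 one_ne_zero)
  obtain ⟨N, n1, n2, n3, -⟩ := h.exists_N e he (na 1) (nb 1 one_ne_zero) s1 s2 s3
  have s4 : ∀ c : Ω, s • s • c = c := fun c => by rw [← mul_smul, ss, one_smul]
  have sz : s * z * s⁻¹ = z := (z3 _ (swap_conj s1 s2 z1) (H4.conj_mul_self (H4.mul_self_of_two z2) s)).resolve_left
    (by simpa using H4.ne_one_of_two z2)
  have s5 : s • f (-1) • b = f (-1) • b := by rw [← az, ← mul_smul, mul_inv_eq_iff_eq_mul.1 sz, mul_smul, s3]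
  choose! τ t using fun x (p : x ≠ 0) => es (s • f x • b) fun q => nb x p (smul_left_cancel s (q.trans s2.symm))
  have t0 : ∀ x, x ≠ 0 → τ x ≠ 0 := fun x p q => na x (smul_left_cancel s (by rw [← t x p, q, r.zero, one_smul, s1]))
  have ψ0 : ∀ d ∈ St2 G a b, ψ d ≠ 0 := fun d p => left_ne_zero_of_mul_eq_one (r.inv p)
  have ψi : ∀ d ∈ St2 G a b, ψ d⁻¹ = (ψ d)⁻¹ := fun d p => eq_inv_of_mul_eq_one_right (r.inv p)
  have ψm : ∀ x ∈ St2 G a b, ∀ y ∈ St2 G a b, ψ (x * y) = ψ x * ψ y := fun x p y q => ei (by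
    rw [← mul_one (ψ (x * y)), ← ad _ (mul_mem p q), mul_smul, ad y q, ad x p, mul_one])
  have rel : s * f 1 * s = f 1 * z * s * f 1 := (h.sh3 e).eq h.ne (na (-1)).symm (nb (-1) (by simp)).symm
    (by simp only [mul_smul, s1, s3, ua, show z • b = b from z1.2]) (by simp [mul_smul, s1, s2, s3, ua, az, af, r.zero])
    (by simp [mul_smul, s2, s5, ua, af, r.zero, show z • a = a from z1.1])
  have key := fun y => zid_key (S := fun x => ∃ d ∈ St2 G a b, s * d * s⁻¹ = d⁻¹ ∧ ψ d = x) (τ := τ) (s := -1) (c := 1) (y := y)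
    (fun ⟨d, p, _, q⟩ => ψ0 d p q) ⟨1, one_mem _, by simp, ei (by rw [← mul_one (ψ 1), ← ad _ (one_mem _), one_smul])⟩
    (by rintro _ _ ⟨x, p, q, rfl⟩ ⟨y, u, v, rfl⟩; exact ⟨_, mul_mem p u, by rw [← conj_mul, q, v, hc x p y u, mul_inv_rev], ψm x p y u⟩)
    (by rintro _ ⟨x, p, q, rfl⟩; exact ⟨_, inv_mem p, by rw [← conj_inv, q], ψi x p⟩)
    (fun x y p q u v => by
      have k : ∀ x, x ≠ 0 → ∃ d ∈ St2 G a b, ψ d = x := fun x p => let ⟨d, q, r⟩ := h.reg2 e (na 1) (nb 1 one_ne_zero) (na x) (nb x p)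
        ⟨d, q, by simpa using ei ((ad d q 1).symm.trans r)⟩
      obtain ⟨x, i, rfl⟩ := k x p
      obtain ⟨y, j, rfl⟩ := k y q
      exact ⟨_, mul_mem i j, n3 _ (L.mul_mem_of_relIndex_two n2 i j (fun w => u ⟨x, i, n3 x w, rfl⟩) fun w => v ⟨y, j, n3 y w, rfl⟩), ψm x i y j⟩)
    (by
      rintro _ x ⟨d, p, q, rfl⟩ u
      exact ei (by rw [t _ (mul_ne_zero (ψ0 d p) u), ← ψi d p, ← ad _ (inv_mem p), t x u, ← ad d p, ← q]; simp [mul_smul]))
    t0 (fun x p => ei (by rw [t _ (t0 x p), t x p, s4])) (ei ((t 1 one_ne_zero).trans s3))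
    ⟨z, z1, sz.trans (H4.inv_of_two z2).symm, by simpa using ei ((ad z z1 1).symm.trans (az 1))⟩ one_ne_zero
    (by simp [ei ((t 1 one_ne_zero).trans s3)]) (ei ((t _ (by simp)).trans s5)) fun x p q => by
      have := congrArg (· • f x • b) rel
      simp only [mul_smul, af, ← t x p, add_comm (1 : F), ← t _ q, az] at this
      by_cases k : τ x + 1 = 0
      · rw [k, r.zero, one_smul, s2] at this; exact absurd this.symm (na _)
      · rw [ei ((t _ k).trans this)]; ring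
  refine (h.zi (by omega) hc).pgl s1 ss (fun d p => (h.sh3 e).eq h.ne (na 1).symm (nb 1 one_ne_zero).symm
    ((swap_conj s1 s2 p).1.trans (inv_mem p).1.symm) ((swap_conj s1 s2 p).2.trans (inv_mem p).2.symm) ?_) (by
      rw [h.cardG, e, add_tsub_cancel_right]; ring)
  rw [mul_smul, mul_smul, inv_smul_eq_iff.2 s3.symm, ad d p, ad _ (inv_mem p), mul_one, mul_one, ← t _ (ψ0 d p), key _ (ψ0 d p), ψi d p]

end ZG

end H3
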